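import Cfsg.Statements.S0046
import Mathlib
import Cfsg.Agent.Lib.Helper15.FrobThm
import Cfsg.Agent.Lib.Helper1.Basic

set_option autoImplicit false
open Cfsg

namespace Cfsg.Agent.S0046


universe u
open Pointwise

theorem isCoatom_conj {G : Type*} [Group G] {M : Subgroup G} (hM : IsCoatom M) (g : G) :
    IsCoatom (MulAut.conj g • M) := by
  have : MulAut.conj g • M = (MulEquiv.mapSubgroup (MulAut.conj g)) M := rfl
  rw [this, OrderIso.isCoatom_iff]
  exact hM

theorem lt_inf_normalizer_of_nilpotent {G : Type*} [Group G] {D M₁ : Subgroup G}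
    [Group.IsNilpotent M₁] (h : D < M₁) : D < M₁ ⊓ Subgroup.normalizer (D : Set G) := by
  have hnc := Group.normalizerCondition_of_isNilpotent (G := M₁)
  have h1 : D.subgroupOf M₁ < ⊤ := by
    rw [lt_top_iff_ne_top, Ne, Subgroup.subgroupOf_eq_top]
    exact not_le_of_gt h
  have h2 := hnc _ h1
  rw [← Subgroup.subgroupOf_normalizer_eq h.le] at h2
  obtain ⟨y, hy1, hy2⟩ := SetLike.exists_of_lt h2
  refine lt_of_le_of_ne (le_inf h.le Subgroup.le_normalizer) (fun e => hy2 ?_)
  rw [Subgroup.mem_subgroupOf] at hy1 ⊢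
  rw [e]
  exact Subgroup.mem_inf.mpr ⟨y.2, hy1⟩

theorem isCoatom_comap {G H : Type*} [Group G] [Group H] (f : G →* H) (hf : Function.Surjective f)
    {K : Subgroup H} (hK : IsCoatom K) : IsCoatom (K.comap f) := by
  constructor
  · intro e
    apply hK.1
    rw [← Subgroup.map_comap_eq_self_of_surjective hf K, e, Subgroup.map_top_of_surjective _ hf]
  · intro L hL
    have hker : f.ker ≤ L := (Subgroup.ker_le_comap f K).trans hL.le
    have h1 : K ≤ L.map f := by
      rw [← Subgroup.map_comap_eq_self_of_surjective hf K]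
      exact Subgroup.map_mono hL.le
    have h2 : K ≠ L.map f := by
      intro e
      apply hL.ne
      rw [e, Subgroup.comap_map_eq, sup_eq_left.mpr hker]
    have h3 := hK.2 _ (lt_of_le_of_ne h1 h2)
    have h4 : (L.map f).comap f = L := by rw [Subgroup.comap_map_eq, sup_eq_left.mpr hker]
    rw [← h4, h3, Subgroup.comap_top]

theorem aux : ∀ (n : ℕ) (G : Type u) [Group G] [Finite G], Nat.card G = n →
    (∀ M : Subgroup G, IsCoatom M → Group.IsNilpotent M) → Group.IsSolvable G := by
  intro n
  induction n using Nat.strong_induction_on with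
  | _ n ih =>
  intro G _ _ hn h
  classical
  by_cases hex : ∃ N : Subgroup G, N.Normal ∧ N ≠ ⊥ ∧ N ≠ ⊤
  · obtain ⟨N, hNn, hNb, hNt⟩ := hex
    obtain ⟨M, hM, hNM⟩ := (eq_top_or_exists_le_coatom N).resolve_left hNt
    have := h M hM
    have hNs : Group.IsSolvable N :=
      Group.isSolvable_of_isSolvable_injective (f := Subgroup.inclusion hNM)
        (Subgroup.inclusion_injective hNM)
    have hcard : Nat.card (G ⧸ N) < n := by
      have h1 := N.index_mul_card
      have h2 : 2 ≤ Nat.card N := by
        have h3 : Nat.card N ≠ 1 := fun e => hNb (Subgroup.card_eq_one.mp e)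
        have h4 : 0 < Nat.card N := Nat.card_pos
        omega
      have h5 : Nat.card (G ⧸ N) = N.index := rfl
      have h6 : 0 < N.index := Nat.pos_of_ne_zero Subgroup.index_ne_zero_of_finite
      rw [h5, ← hn, ← h1]
      nlinarith
    have hQ : Group.IsSolvable (G ⧸ N) := ih _ hcard (G ⧸ N) rfl (by
      intro K hK
      have hco := isCoatom_comap (QuotientGroup.mk' N) (QuotientGroup.mk'_surjective N) hK
      have := h _ hco
      exact Group.nilpotent_of_surjective ((QuotientGroup.mk' N).subgroupComap K)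
        (MonoidHom.subgroupComap_surjective_of_surjective _ _ (QuotientGroup.mk'_surjective N)))
    exact (Group.isSolvable_iff_subgroup_quotient N).mpr ⟨hNs, hQ⟩
  · push Not at hex
    by_cases hG : Subsingleton G
    · exact Group.isSolvable_of_comm (fun a b => Subsingleton.elim _ _)
    rw [not_subsingleton_iff_nontrivial] at hG
    obtain ⟨M, hM, -⟩ := (eq_top_or_exists_le_coatom (⊥ : Subgroup G)).resolve_left bot_ne_top
    by_cases hMb : M = ⊥
    · obtain ⟨x, hx⟩ := exists_ne (1 : G)
      have htop : Subgroup.zpowers x = ⊤ := hM.2 _ (by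
        rw [hMb]; exact bot_lt_iff_ne_bot.mpr (Subgroup.zpowers_ne_bot.mpr hx))
      have hcyc : IsCyclic G := ⟨x, fun y => by
        have : y ∈ Subgroup.zpowers x := htop ▸ Subgroup.mem_top y
        exact this⟩
      have := hcyc.isMulCommutative
      exact Group.isSolvable_of_comm (fun a b => mul_comm' a b)
    · exfalso
      have hle : ∀ M₁ M₂ : Subgroup G, IsCoatom M₁ → IsCoatom M₂ → M₁ ≤ M₂ → M₁ = M₂ := by
        intro M₁ M₂ h₁ h₂ h12
        by_contra hne
        exact h₂.1 (h₁.2 _ (lt_of_le_of_ne h12 hne))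
      have hTI : ∀ M₁ M₂ : Subgroup G, IsCoatom M₁ → IsCoatom M₂ → M₁ ≠ M₂ → M₁ ⊓ M₂ = ⊥ := by
        by_contra hcon
        push Not at hcon
        obtain ⟨B₁, B₂, hB₁, hB₂, hB, hBne⟩ := hcon
        have hne : Nonempty {P : Subgroup G × Subgroup G // IsCoatom P.1 ∧ IsCoatom P.2 ∧ P.1 ≠ P.2} :=
          ⟨⟨(B₁, B₂), hB₁, hB₂, hB⟩⟩
        obtain ⟨⟨⟨M₁, M₂⟩, h₁, h₂, h12⟩, hmax⟩ := Finite.exists_max
          (fun P : {P : Subgroup G × Subgroup G // IsCoatom P.1 ∧ IsCoatom P.2 ∧ P.1 ≠ P.2} =>
            Nat.card (P.1.1 ⊓ P.1.2 : Subgroup G))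
        simp only at h₁ h₂ h12 hmax
        have hDne : M₁ ⊓ M₂ ≠ ⊥ := by
          intro e
          have := hmax ⟨(B₁, B₂), hB₁, hB₂, hB⟩
          simp only [e, Subgroup.card_bot] at this
          have h0 : 0 < Nat.card (B₁ ⊓ B₂ : Subgroup G) := Nat.card_pos
          exact hBne (Subgroup.card_eq_one.mp (by omega))
        have hNt : Subgroup.normalizer ((M₁ ⊓ M₂ : Subgroup G) : Set G) ≠ ⊤ := by
          intro e
          have hn' : (M₁ ⊓ M₂).Normal := Subgroup.normalizer_eq_top_iff.mp e
          have := hex _ hn' hDne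
          exact h₁.1 (top_le_iff.mp (this ▸ inf_le_left))
        obtain ⟨M', hM', hNM'⟩ := (eq_top_or_exists_le_coatom _).resolve_left hNt
        have key : ∀ L : Subgroup G, IsCoatom L → M₁ ⊓ M₂ < L → L = M' := by
          intro L hL hDL
          by_contra hLM
          have := h L hL
          have h3 := lt_inf_normalizer_of_nilpotent hDL
          have h4 : M₁ ⊓ M₂ < L ⊓ M' := lt_of_lt_of_le h3 (inf_le_inf_left _ hNM')
          have h5 := hmax ⟨(L, M'), hL, hM', hLM⟩
          simp only at h5
          have h6 := Cfsg.Agent.Lib.Helper1.card_lt_of_lt h4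
          omega
        have hD1 : M₁ ⊓ M₂ < M₁ := lt_of_le_of_ne inf_le_left (fun e =>
          h12 (hle _ _ h₁ h₂ (inf_eq_left.mp e)))
        have hD2 : M₁ ⊓ M₂ < M₂ := lt_of_le_of_ne inf_le_right (fun e =>
          h12 (hle _ _ h₂ h₁ (inf_eq_right.mp e)).symm)
        exact h12 ((key M₁ h₁ hD1).trans (key M₂ h₂ hD2).symm)
      have hself : Subgroup.normalizer (M : Set G) = M := by
        by_contra hne
        have h1 := hM.2 _ (lt_of_le_of_ne Subgroup.le_normalizer (Ne.symm hne))
        have hn' : M.Normal := Subgroup.normalizer_eq_top_iff.mp h1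
        exact hM.1 (hex M hn' hMb)
      have hF : Cfsg.IsFrobeniusComplement M := by
        refine ⟨hMb, hM.1, fun g hg => hTI M _ hM (isCoatom_conj hM g) ?_⟩
        intro e
        apply hg
        rw [← hself, Subgroup.mem_normalizer_iff]
        intro m
        conv_rhs => rw [e, Cfsg.Agent.Lib.Helper15.mem_conj_smul_iff]
        have : g⁻¹ * (g * m * g⁻¹) * g = m := by group
        rw [this]
      obtain ⟨K, -, hKn, hKc⟩ := Cfsg.Agent.Lib.Helper15.frobenius_theorem hF
      by_cases hKb : K = ⊥
      · rw [hKb, Subgroup.isComplement'_bot_left] at hKc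
        exact hM.1 hKc
      · rw [hex K hKn hKb, Subgroup.isComplement'_top_left] at hKc
        exact hMb hKc

/-- Schmidt's Theorem on minimal non-nilpotent groups: a finite group in which every maximal subgroup is nilpotent is solvable. -/
theorem result {G : Type*} [Group G] [Finite G]
    (h : ∀ M : Subgroup G, IsCoatom M → Group.IsNilpotent M) : Group.IsSolvable G := by
  exact aux _ G rfl h

end Cfsg.Agent.S0046
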