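import Cfsg.Statements.S0165
import Cfsg.Agent.Lib.Helper7.BlockDefect

set_option autoImplicit false
open Cfsg

namespace Cfsg.Agent.S0165

/-- If p ^ n is the exact power of the prime p dividing the order of a finite group and p ^ n divides the degree of an irreducible complex representation, then its character vanishes at every element of order divisible by p. -/
theorem result {G : Type*} [Group G] [Finite G] {V : Type*} [AddCommGroup V] [Module ℂ V] [FiniteDimensional ℂ V] (ρ : Representation ℂ G V) [ρ.IsIrreducible] (p n : ℕ) (hp : p.Prime) (hn : p ^ n ∣ Nat.card G) (hn' : ¬ p ^ (n + 1) ∣ Nat.card G) (hdeg : p ^ n ∣ Module.finrank ℂ V) (x : G) (hx : p ∣ orderOf x) : ρ.character x = 0 := by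
  open Cfsg.Agent.Lib.Helper7 in
  classical
  obtain ⟨M, hM⟩ := exists_isPModular hp
  let χ : Cfsg.IrrCharacter G := ⟨ρ.character, isIrrCharacter_of_rep ρ inferInstance⟩
  have hdegχ : Cfsg.charDegree (χ : G → ℂ) = Module.finrank ℂ V := by
    simp [Cfsg.charDegree, χ]
  have hnd : ¬ p ∣ Nat.card G / Cfsg.charDegree (χ : G → ℂ) := by
    obtain ⟨t, ht⟩ := charDegree_dvd_card χ
    rw [ht, Nat.mul_div_cancel_left _ (charDegree_pos χ)]
    rintro ⟨s, rfl⟩
    apply hn'
    rw [ht, hdegχ]
    obtain ⟨r, hr⟩ := hdeg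
    rw [hr]
    exact ⟨r * s, by ring⟩
  have hblock := blockOf_eq_singleton_of_not_dvd hM χ hnd
  have hB : Cfsg.IsPBlock M ({χ} : Set (Cfsg.IrrCharacter G)) := ⟨χ, hblock.symm⟩
  have h0 := blockCoeff_eq_zero_of_singular hM hB hx
  rw [blockCoeff_singleton] at h0
  have hcard : (Nat.card G : ℂ)⁻¹ ≠ 0 := by
    apply inv_ne_zero
    exact_mod_cast Nat.card_pos.ne'
  have h1 := (mul_eq_zero.1 h0).resolve_left hcard
  have h2 := (mul_eq_zero.1 h1).resolve_left (irr_apply_one_ne_zero χ.2)
  simpa [χ] using h2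

end Cfsg.Agent.S0165
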