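import Cfsg.Statements.S0867
import Cfsg.Agent.Lib.Helper25.Gallagher2

set_option autoImplicit false
open Cfsg

namespace Cfsg.Agent.S0867

open Cfsg.Agent.Lib.Helper25

/-- Let N be a normal subgroup of the finite group G and ϑ an irreducible character of N of degree d, invariant under conjugation by G, such that the index of N is coprime to the product of d and the determinantal order of ϑ. Then there is an irreducible character χ of G restricting to ϑ whose determinantal order equals that of ϑ, and χ is the only irreducible character of G restricting to ϑ whose determinantal order is coprime to the index of N. -/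
theorem result {G : Type*} [Group G] [Finite G] (N : Subgroup G) [hN : N.Normal] (ϑ : N → ℂ) (hϑ : Cfsg.IsIrrCharacter N ϑ) (hinv : ∀ (g : G) (n : N), ϑ ⟨g * n * g⁻¹, hN.conj_mem (n : G) n.2 g⟩ = ϑ n) (d : ℕ) (hd : ϑ 1 = d) (hcop : Nat.Coprime N.index (Cfsg.detOrder ϑ * d)) : ∃ χ : G → ℂ, (Cfsg.IsIrrCharacter G χ ∧ (∀ n : N, χ n = ϑ n) ∧ Cfsg.detOrder χ = Cfsg.detOrder ϑ) ∧ ∀ χ' : G → ℂ, Cfsg.IsIrrCharacter G χ' → (∀ n : N, χ' n = ϑ n) → Nat.Coprime N.index (Cfsg.detOrder χ') → χ' = χ := by
  classical
  have hϑc := Cfsg.Agent.Lib.Helper7.isCharacter_of_irr hϑ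
  have hcop1 : Nat.Coprime N.index (Cfsg.detOrder ϑ) := Nat.Coprime.coprime_mul_right_right hcop
  have hcop2 : Nat.Coprime N.index d := Nat.Coprime.coprime_mul_left_right hcop
  obtain ⟨l, hl⟩ := exists_hom_detChar hϑc
  have hinv' : ∀ (g : G) (n : N), ϑ (MulAut.conjNormal g n) = ϑ n := fun g n => hinv g n
  have hlinv : ∀ (g : G) (n : N), l (MulAut.conjNormal g n) = l n := by
    intro g n
    apply Units.ext
    rw [← hl, ← hl]
    have h1 := detChar_comp (MulAut.conjNormal g : MulAut N).toMonoidHom hϑc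
    have h2 : ϑ ∘ (MulAut.conjNormal g : MulAut N).toMonoidHom = ϑ := funext (hinv' g)
    rw [h2] at h1
    exact (congrFun h1 n).symm
  have ho : ∀ n, l n ^ Cfsg.detOrder ϑ = 1 := by
    intro n
    have := congrFun (pow_orderOf_eq_one (Cfsg.detChar ϑ)) n
    simp only [Pi.pow_apply, Pi.one_apply, hl] at this
    exact Units.ext (by simpa [Cfsg.detOrder] using this)
  obtain ⟨F, hF, hFo⟩ := exists_coprime_linear_extension N l hlinv (Cfsg.detOrder ϑ) ho hcop1
  have hFN : ∀ n : N, ((F n : ℂˣ) : ℂ) = Cfsg.detChar ϑ n := fun n => by rw [hF, hl]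
  obtain ⟨η, hη, hηN⟩ := gallagher_extension N hϑ hinv' hd hcop2 F hFN
  obtain ⟨χ, hχ, hχN, hχdet⟩ := exists_extension_with_det N hd hcop2 hη hηN F hFN
  refine ⟨χ, ⟨hχ, hχN, ?_⟩, ?_⟩
  · unfold Cfsg.detOrder
    rw [hχdet, orderOf_eq_orderOf_iff]
    intro j
    constructor
    · intro h
      funext n
      have := congrFun h (n : G)
      simp only [Pi.pow_apply, Pi.one_apply, hFN] at this ⊢
      exact this
    · intro h
      obtain ⟨c, hc⟩ := orderOf_dvd_of_pow_eq_one h
      funext g
      simp only [Pi.pow_apply, Pi.one_apply]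
      rw [hc, pow_mul, ← Units.val_pow_eq_pow_val]
      have := hFo g
      unfold Cfsg.detOrder at this
      rw [this]
      simp
  · intro χ' hχ' hχ'N hcop'
    have hχ'c := Cfsg.Agent.Lib.Helper7.isCharacter_of_irr hχ'
    obtain ⟨F', hF'⟩ := exists_hom_detChar hχ'c
    have ho' : ∀ g, F' g ^ Cfsg.detOrder χ' = 1 := by
      intro g
      have := congrFun (pow_orderOf_eq_one (Cfsg.detChar χ')) g
      simp only [Pi.pow_apply, Pi.one_apply, hF'] at this
      exact Units.ext (by simpa [Cfsg.detOrder] using this)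
    have hF'N : ∀ n : N, F' n = F n := by
      intro n
      apply Units.ext
      rw [← hF', hFN]
      have h1 := detChar_comp N.subtype hχ'c
      have h2 : χ' ∘ N.subtype = ϑ := funext hχ'N
      rw [h2] at h1
      rw [h1]
      rfl
    have := linear_extension_unique N F F' hF'N (Cfsg.detOrder ϑ * Cfsg.detOrder χ')
      (fun g => by rw [pow_mul, hFo, one_pow]) (fun g => by rw [mul_comm, pow_mul, ho', one_pow])
      (Nat.Coprime.mul_right hcop1 hcop')
    apply extension_unique_of_det N hϑ hd hcop2 hχ hχ' hχN hχ'N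
    rw [hχdet]
    funext g
    rw [hF', this]

end Cfsg.Agent.S0867
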