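import Cfsg.Statements.S4550
import Cfsg.Agent.Lib.Helper1.RegTools
import Cfsg.Agent.Lib.Helper24.BlockSupp
import Cfsg.Agent.Lib.Helper7.BlockHeight

set_option autoImplicit false
open Cfsg

namespace Cfsg.Agent.S4550

open Cfsg.Agent.Lib.Helper1 Cfsg.Agent.Lib.Helper7 Cfsg.Agent.Lib.Helper24
open scoped ComplexConjugate

/-- Let G be a finite group of even order and M a maximal ideal of the algebraic integers containing 2. Let k be a natural number with g ^ k = g ^ 3 for every 2-element g and g ^ k = g for every element g of odd order (such k exist); an irreducible character χ is unchanged by g ↦ g ^ k exactly when it is fixed by the field automorphism that cubes the 2-power roots of unity and fixes the roots of unity of odd order. Then the number of members χ of the principal 2-block of odd degree with χ (g ^ k) = χ g for all g is even. -/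
theorem result {G : Type*} [Group G] [Finite G] (M : Ideal Cfsg.AlgInt) (hM : Cfsg.IsPModular 2 M) (hev : Even (Nat.card G)) (k : ℕ) (hk₁ : ∀ g : G, (∃ j : ℕ, orderOf g = 2 ^ j) → g ^ k = g ^ 3) (hk₂ : ∀ g : G, Odd (orderOf g) → g ^ k = g) : Even (Nat.card {χ : Cfsg.IrrCharacter G // χ ∈ Cfsg.principalBlock M G ∧ Odd (Cfsg.charDegree (χ : G → ℂ)) ∧ ∀ g : G, (χ : G → ℂ) (g ^ k) = (χ : G → ℂ) g}) := by
  classical
  haveI := hM.2.1.isPrime
  haveI := Fintype.ofFinite G
  haveI : Fintype (Cfsg.IrrCharacter G) := Fintype.ofFinite _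
  have hcop : Nat.Coprime k (Nat.card G) := by
    apply Nat.coprime_of_dvd
    intro q hq hqk hqG
    haveI := Fact.mk hq
    obtain ⟨g, hg⟩ := exists_prime_orderOf_dvd_card' q hqG
    have h1 : g ^ k = 1 := by
      obtain ⟨c, rfl⟩ := hqk
      rw [pow_mul, ← hg, pow_orderOf_eq_one, one_pow]
    have hg1 : g ≠ 1 := by
      intro h
      rw [h, orderOf_one] at hg
      exact hq.one_lt.ne hg
    rcases hq.eq_two_or_odd' with rfl | hodd
    · have h2 := hk₁ g ⟨1, by rw [hg, pow_one]⟩
      rw [h1] at h2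
      have h3 : g ^ 2 = 1 := by rw [← hg]; exact pow_orderOf_eq_one g
      apply hg1
      calc g = g ^ 3 * (g ^ 2)⁻¹ := by group
        _ = 1 := by rw [← h2, h3]; simp
    · have h2 := hk₂ g (hg ▸ hodd)
      rw [h1] at h2
      exact hg1 h2.symm
  have hord : ∀ g : G, g ^ (k ^ (2 ^ (Nat.card G))) = g := by
    intro g
    obtain ⟨s, t, ht, hst⟩ := Nat.exists_eq_two_pow_mul_odd (orderOf_pos g).ne'
    have hcopo : Nat.Coprime k (orderOf g) :=
      Nat.Coprime.coprime_dvd_right (orderOf_dvd_natCard g) hcop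
    have h2s : Nat.Coprime k (2 ^ s) :=
      Nat.Coprime.coprime_dvd_right ⟨t, hst⟩ hcopo
    have hA : k ^ (2 ^ (Nat.card G)) ≡ 1 [MOD 2 ^ s] := by
      rcases Nat.eq_zero_or_pos s with rfl | hs
      · simp [Nat.modEq_one]
      · have h1 := Nat.ModEq.pow_totient h2s
        rw [Nat.totient_prime_pow Nat.prime_two hs] at h1
        simp only [Nat.add_one_sub_one, mul_one] at h1
        have hle : s - 1 ≤ Nat.card G := by
          have h3 : s < 2 ^ s := Nat.lt_two_pow_self
          have h4 : 2 ^ s ≤ orderOf g := Nat.le_of_dvd (orderOf_pos g) ⟨t, hst⟩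
          have h5 : orderOf g ≤ Nat.card G := orderOf_le_card
          omega
        obtain ⟨c, hc⟩ := pow_dvd_pow 2 hle
        rw [hc, pow_mul]
        have := h1.pow c
        rwa [one_pow] at this
    have hB : k ^ (2 ^ (Nat.card G)) ≡ 1 [MOD t] := by
      have ho : orderOf (g ^ (2 ^ s)) = t := by
        rw [orderOf_pow_of_dvd (by positivity) ⟨t, hst⟩, hst]
        exact Nat.mul_div_cancel_left t (by positivity)
      have h1 := hk₂ (g ^ (2 ^ s)) (ho ▸ ht)
      have h2 : k ≡ 1 [MOD t] := by
        rw [← ho]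
        apply pow_eq_pow_iff_modEq.1
        rw [h1, pow_one]
      have := h2.pow (2 ^ (Nat.card G))
      rwa [one_pow] at this
    have hcop2 : Nat.Coprime (2 ^ s) t :=
      Nat.Coprime.pow_left s (Nat.coprime_two_left.2 ht)
    have hC := (Nat.modEq_and_modEq_iff_modEq_mul hcop2).1 ⟨hA, hB⟩
    rw [← hst] at hC
    have := pow_eq_pow_iff_modEq.2 hC
    rwa [pow_one] at this
  let α := {χ : Cfsg.IrrCharacter G // χ ∈ Cfsg.principalBlock M G ∧
    Odd (Cfsg.charDegree (χ : G → ℂ))}
  let f : Function.End α := fun x => ⟨powIrr hcop x.1, by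
    rw [mem_principalBlock_iff hM, rt_Om_powIrr]
    exact (mem_principalBlock_iff hM x.1).1 x.2.1, by
    have : Cfsg.charDegree (powIrr hcop x.1 : G → ℂ) = Cfsg.charDegree (x.1 : G → ℂ) := by
      unfold Cfsg.charDegree
      rw [powIrr_apply, one_pow]
    rw [this]; exact x.2.2⟩
  have hfit : ∀ (j : ℕ) (x : α), ((f ^ j) x).1 = (powIrr hcop)^[j] x.1 := by
    intro j
    induction j with
    | zero => intro x; rfl
    | succ j ih =>
      intro x
      rw [pow_succ', Function.iterate_succ_apply']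
      show powIrr hcop ((f ^ j) x).1 = _
      rw [ih]
  have hf : f ^ 2 ^ (Nat.card G) = 1 := by
    funext x
    apply Subtype.ext
    rw [hfit]
    apply Subtype.ext
    funext g
    rw [powIrr_iterate, hord]
    rfl
  have h1 := Equiv.Perm.card_fixedPoints_modEq (p := 2) (n := Nat.card G) hf
  -- the cardinality of α is even
  obtain ⟨x, hx⟩ := exists_prime_orderOf_dvd_card' 2 (even_iff_two_dvd.1 hev)
  have hB0 := Cfsg.Agent.Lib.Helper24.blockCoeff_eq_zero_of_singular hM (isPBlock_principalBlock (M := M) (G := G))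
    (g := x) (by rw [hx])
  rw [blockCoeff_eq_sum] at hB0
  have hGc : (Nat.card G : ℂ) ≠ 0 := by exact_mod_cast Nat.card_pos.ne'
  have hsum0 := (mul_eq_zero.1 hB0).resolve_left (inv_ne_zero hGc)
  have hsq : Cfsg.MemLocalIdeal M ((∑ χ ∈ Finset.univ.filter (· ∈ Cfsg.principalBlock M G),
      Cfsg.charDegree (χ : G → ℂ) ^ 2 : ℕ) : ℂ) := by
    have h2 : ((∑ χ ∈ Finset.univ.filter (· ∈ Cfsg.principalBlock M G),
        Cfsg.charDegree (χ : G → ℂ) ^ 2 : ℕ) : ℂ)
        = ∑ χ : Cfsg.IrrCharacter G, (Cfsg.principalBlock M G).indicator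
            (fun χ => (χ : G → ℂ) 1 * ((χ : G → ℂ) 1 - conj ((χ : G → ℂ) x))) χ := by
      have h3 : ∑ χ : Cfsg.IrrCharacter G, (Cfsg.principalBlock M G).indicator
            (fun χ => (χ : G → ℂ) 1 * ((χ : G → ℂ) 1 - conj ((χ : G → ℂ) x))) χ
          = ∑ χ : Cfsg.IrrCharacter G, (Cfsg.principalBlock M G).indicator
            (fun χ => (χ : G → ℂ) 1 * (χ : G → ℂ) 1) χ
            - ∑ χ : Cfsg.IrrCharacter G, (Cfsg.principalBlock M G).indicator
            (fun χ => (χ : G → ℂ) 1 * conj ((χ : G → ℂ) x)) χ := by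
        rw [← Finset.sum_sub_distrib]
        apply Finset.sum_congr rfl
        intro χ _
        by_cases hχ : χ ∈ Cfsg.principalBlock M G
        · simp only [Set.indicator_of_mem hχ]; ring
        · simp only [Set.indicator_of_notMem hχ]; ring
      rw [h3, hsum0, sub_zero, Finset.sum_filter]
      push_cast
      apply Finset.sum_congr rfl
      intro χ _
      by_cases hχ : χ ∈ Cfsg.principalBlock M G
      · rw [if_pos hχ, Set.indicator_of_mem hχ,
          charDegree_cast (Cfsg.Agent.Lib.Helper7.isCharacter_of_irr χ.2)]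
        ring
      · rw [if_neg hχ, Set.indicator_of_notMem hχ]
    rw [h2]
    apply memLocalIdeal_sum
    intro χ _
    by_cases hχ : χ ∈ Cfsg.principalBlock M G
    · rw [Set.indicator_of_mem hχ]
      have hc := Cfsg.Agent.Lib.Helper7.isCharacter_of_irr χ.2
      apply memLocalIdeal_mul_left
      · rw [← charDegree_cast hc]; exact memLocalRing_natCast _
      · rw [← char_inv_eq_conj hc]
        have h4 := char_congr_mul hM hc (x := x⁻¹) (y := 1) (Commute.one_right _)
          ⟨1, by rw [orderOf_inv, hx, pow_one]⟩ (by rw [orderOf_one]; exact Nat.Prime.not_dvd_one hM.1)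
        rw [mul_one] at h4
        exact memLocalIdeal_sub_comm h4
    · rw [Set.indicator_of_notMem hχ]; exact memLocalIdeal_zero
  rw [memLocalIdeal_natCast_iff hM] at hsq
  have h2 : Even (Fintype.card α) := by
    have hev2 := even_iff_two_dvd.2 hsq
    rw [← ZMod.natCast_eq_zero_iff_even] at hev2 ⊢
    rw [← hev2, Fintype.card_subtype, Finset.card_eq_sum_ones, Nat.cast_sum, Nat.cast_sum,
      Finset.sum_filter, Finset.sum_filter]
    apply Finset.sum_congr rfl
    intro χ _
    by_cases hχ : χ ∈ Cfsg.principalBlock M G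
    · by_cases ho : Odd (Cfsg.charDegree (χ : G → ℂ))
      · rw [if_pos ⟨hχ, ho⟩, if_pos hχ]
        have := (ZMod.natCast_eq_one_iff_odd).2 (ho.pow (n := 2))
        rw [this]; simp
      · rw [if_neg (fun h => ho h.2), if_pos hχ]
        have h3 : Even (Cfsg.charDegree (χ : G → ℂ) ^ 2) :=
          (Nat.not_odd_iff_even.1 ho).pow_of_ne_zero (by norm_num)
        rw [(ZMod.natCast_eq_zero_iff_even).2 h3]
    · rw [if_neg (fun h => hχ h.1), if_neg hχ]
  have h3 : Even (Fintype.card (Function.fixedPoints f)) := by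
    have h4 : Fintype.card α % 2 = Fintype.card (Function.fixedPoints f) % 2 := h1
    rw [Nat.even_iff] at h2 ⊢
    omega
  have hequiv : {χ : Cfsg.IrrCharacter G // χ ∈ Cfsg.principalBlock M G ∧
      Odd (Cfsg.charDegree (χ : G → ℂ)) ∧ ∀ g : G, (χ : G → ℂ) (g ^ k) = (χ : G → ℂ) g}
      ≃ Function.fixedPoints f :=
    { toFun := fun χ => ⟨⟨χ.1, χ.2.1, χ.2.2.1⟩, by
        apply Subtype.ext
        apply Subtype.ext
        funext g
        exact χ.2.2.2 g⟩
      invFun := fun y => ⟨y.1.1, y.1.2.1, y.1.2.2, fun g => by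
        have := congrArg (fun z : α => (z.1 : G → ℂ) g) y.2
        exact this⟩
      left_inv := fun χ => rfl
      right_inv := fun y => rfl }
  rw [Nat.card_congr hequiv, Nat.card_eq_fintype_card]
  exact h3

end Cfsg.Agent.S4550
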