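import Cfsg.Statements.S0807
import Cfsg.Agent.Lib.Helper12.KleinCount
import Cfsg.Agent.Lib.Helper12.PSL2Cent

set_option autoImplicit false
open Cfsg

namespace Cfsg.Agent.S0807

open Matrix Cfsg.Agent.Lib.Helper12
open scoped MatrixGroups
open Cfsg.Agent.Lib.Helper27.PSL2 (sq_eq_one sq_eq_neg_one_iff one_ne_neg_one ne_neg isConj_of_tr_zero
  isConj_of_orderOf_two tr orderOf_mk_eq_two_iff tr_zero_of_anticomm mk_eq_iff comm_mk_iff)

section
variable {F : Type*} [Field F] [Fintype F]

theorem half (hodd : Fintype.card F % 2 = 1) (u : SL(2, F)) (hu : u * u = -1) :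
    2 * Nat.card {t : SL(2, F) ⧸ Subgroup.center SL(2, F) // orderOf t = 2 ∧
      QuotientGroup.mk' (Subgroup.center SL(2, F)) u ≠ t ∧
      QuotientGroup.mk' (Subgroup.center SL(2, F)) u * t =
        t * QuotientGroup.mk' (Subgroup.center SL(2, F)) u} =
    Nat.card (Subgroup.centralizer ({QuotientGroup.mk' (Subgroup.center SL(2, F)) u} :
      Set (SL(2, F) ⧸ Subgroup.center SL(2, F)))) := by
  classical
  have h2 : (2 : F) ≠ 0 := Cfsg.Agent.Lib.Helper14.SL2.two_ne_zero_of_odd hodd
  set π := QuotientGroup.mk' (Subgroup.center SL(2, F)) with hπ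
  have htr : (u : Matrix (Fin 2) (Fin 2) F).trace = 0 := by
    rw [Matrix.trace_fin_two]; exact (sq_eq_neg_one_iff u).mp hu
  set C := Subgroup.centralizer ({π u} : Set (SL(2, F) ⧸ Subgroup.center SL(2, F))) with hC
  set T := Subgroup.centralizer ({u} : Set SL(2, F)) with hT
  set A := T.map π with hA
  have hCmap : (ctil u).map π = C := by
    unfold ctil
    exact Subgroup.map_comap_eq_self_of_surjective (QuotientGroup.mk'_surjective _) _
  have hker : π.ker = Subgroup.center SL(2, F) := QuotientGroup.ker_mk' _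
  have hZT : Subgroup.center SL(2, F) ≤ T := Subgroup.center_le_centralizer _
  have hrel : A.relIndex C = 2 := by
    rw [hA, ← hCmap, Subgroup.relIndex_map_map, hker, sup_eq_left.mpr hZT,
      sup_eq_left.mpr (hZT.trans (centralizer_le_ctil u))]
    exact relIndex_ctil hodd u htr
  have hAC : A ≤ C := by
    rw [hA, ← hCmap]
    exact Subgroup.map_mono (centralizer_le_ctil u)
  have hcard : Nat.card C = 2 * Nat.card A := by
    have h3 := Subgroup.card_mul_index (A.subgroupOf C)
    rw [Nat.card_congr (Subgroup.subgroupOfEquivOfLe hAC).toEquiv] at h3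
    have h4 : (A.subgroupOf C).index = 2 := hrel
    rw [h4] at h3
    omega
  have hset : ∀ t : SL(2, F) ⧸ Subgroup.center SL(2, F),
      (orderOf t = 2 ∧ π u ≠ t ∧ π u * t = t * π u) ↔ t ∈ ((C : Set _) \ (A : Set _)) := by
    intro t
    obtain ⟨x, rfl⟩ := QuotientGroup.mk'_surjective _ t
    constructor
    · rintro ⟨ho, hne, hc⟩
      refine ⟨Subgroup.mem_centralizer_singleton_iff.mpr hc.symm, ?_⟩
      rintro ⟨m, hm, hmx⟩
      apply hne
      rw [← hmx] at ho ⊢
      have hm' : m * u = u * m := Subgroup.mem_centralizer_singleton_iff.mp hm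
      have ho' : m * m = -1 := (orderOf_mk_eq_two_iff h2 m).1 ho
      have h1 : (m * u) * (m * u) = 1 := by
        calc (m * u) * (m * u) = m * (u * m) * u := by group
          _ = m * (m * u) * u := by rw [hm']
          _ = (m * m) * (u * u) := by group
          _ = 1 := by rw [ho', hu, neg_mul_neg, mul_one]
      have hui : u⁻¹ = -u := by
        apply inv_eq_of_mul_eq_one_right
        rw [mul_neg, hu, neg_neg]
      symm
      apply (mk_eq_iff m u).mpr
      rcases sq_eq_one h2 _ h1 with h | h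
      · right
        rw [← hui]; exact eq_inv_of_mul_eq_one_left h
      · left
        have : m = (-1) * u⁻¹ := eq_mul_inv_of_mul_eq h
        rw [this, hui, neg_mul_neg, one_mul]
    · rintro ⟨hxC, hxA⟩
      have hc : π x * π u = π u * π x := Subgroup.mem_centralizer_singleton_iff.mp hxC
      have hanti : x * u = -(u * x) := by
        rcases (comm_mk_iff x u).mp hc with h | h
        · exact absurd ⟨x, Subgroup.mem_centralizer_singleton_iff.mpr h, rfl⟩ hxA
        · exact h
      refine ⟨?_, ?_, hc.symm⟩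
      · exact (orderOf_mk_eq_two_iff h2 x).mpr
          ((sq_eq_neg_one_iff x).mpr (tr_zero_of_anticomm h2 u x hu hanti))
      · intro h
        apply hxA
        rw [← h]
        exact ⟨u, Subgroup.mem_centralizer_singleton_iff.mpr rfl, rfl⟩
  rw [Nat.card_congr (Equiv.subtypeEquivRight hset)]
  have h5 : Nat.card ↥((C : Set (SL(2, F) ⧸ Subgroup.center SL(2, F))) \ (A : Set _)) =
      ((C : Set (SL(2, F) ⧸ Subgroup.center SL(2, F))) \ (A : Set _)).ncard := rfl
  have h6 : Nat.card C = (C : Set (SL(2, F) ⧸ Subgroup.center SL(2, F))).ncard := rfl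
  have h7 : Nat.card A = (A : Set (SL(2, F) ⧸ Subgroup.center SL(2, F))).ncard := rfl
  have h8 := Set.ncard_sdiff (t := (C : Set (SL(2, F) ⧸ Subgroup.center SL(2, F))))
    (s := (A : Set (SL(2, F) ⧸ Subgroup.center SL(2, F)))) hAC
  change 2 * Nat.card ↥((C : Set (SL(2, F) ⧸ Subgroup.center SL(2, F))) \ (A : Set _)) = Nat.card C
  rw [h5, h8, ← h6, ← h7, hcard]
  omega

end

/-- For q odd, twelve times the number of Klein four-subgroups of PSL_2(q) equals the order of PSL_2(q). -/
theorem result {F : Type*} [Field F] [Fintype F] {q : ℕ} (hF : Fintype.card F = q) (hodd : Odd q) : 12 * Nat.card {V : Subgroup (Matrix.ProjectiveSpecialLinearGroup (Fin 2) F) // IsKleinFour V} = Nat.card (Matrix.ProjectiveSpecialLinearGroup (Fin 2) F) := by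
  classical
  subst hF
  have hodd' : Fintype.card F % 2 = 1 := Nat.odd_iff.mp hodd
  have h2 : (2 : F) ≠ 0 := Cfsg.Agent.Lib.Helper14.SL2.two_ne_zero_of_odd hodd'
  haveI : Finite (Matrix.ProjectiveSpecialLinearGroup (Fin 2) F) :=
    inferInstanceAs (Finite (SL(2, F) ⧸ Subgroup.center SL(2, F)))
  have hdet : (!![0, -1; 1, 0] : Matrix (Fin 2) (Fin 2) F).det = 1 := by
    rw [Matrix.det_fin_two_of]
    ring
  have hw : tr (⟨!![0, -1; 1, 0], hdet⟩ : SL(2, F)) = 0 := by
    show (!![0, -1; 1, 0] : Matrix (Fin 2) (Fin 2) F) 0 0 +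
      (!![0, -1; 1, 0] : Matrix (Fin 2) (Fin 2) F) 1 1 = 0
    simp
  have h1 := six_mul_card_klein (G := Matrix.ProjectiveSpecialLinearGroup (Fin 2) F)
  have h3 := two_mul_card_invPair (G := Matrix.ProjectiveSpecialLinearGroup (Fin 2) F)
    (QuotientGroup.mk' _ (⟨!![0, -1; 1, 0], hdet⟩ : SL(2, F)))
    ((orderOf_mk_eq_two_iff h2 _).mpr ((sq_eq_neg_one_iff _).mpr hw))
    (fun s t hs ht => isConj_of_orderOf_two hodd' s t hs ht)
    (by
      intro s hs
      obtain ⟨u, rfl⟩ := QuotientGroup.mk'_surjective _ s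
      exact half hodd' u ((orderOf_mk_eq_two_iff h2 u).mp hs))
  rw [← h3, ← h1]
  ring


end Cfsg.Agent.S0807
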