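import Cfsg.Statements.S0808
import Cfsg.Agent.Lib.Helper12.PSL2Klein
import Cfsg.Agent.S0807

set_option autoImplicit false
open Cfsg

namespace Cfsg.Agent.S0808

open Matrix Cfsg.Agent.Lib.Helper12
open scoped MatrixGroups

theorem isKleinFour_map {G : Type*} [Group G] (V : Subgroup G) (hV : IsKleinFour V) (g : G) :
    IsKleinFour (V.map (MulAut.conj g).toMonoidHom) where
  card_four := by
    rw [Subgroup.card_map_of_injective (MulAut.conj g).injective, hV.card_four]
  exponent_two := by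
    rw [← hV.exponent_two]
    exact (Monoid.exponent_eq_of_mulEquiv
      (V.equivMapOfInjective _ (MulAut.conj g).injective)).symm

theorem mem_normalizer_of_map_eq {G : Type*} [Group G] [Finite G] (V : Subgroup G) (g : G)
    (h : V = V.map (MulAut.conj g).toMonoidHom) : g ∈ Subgroup.normalizer (V : Set G) := by
  have h1 := (map_conj_eq_iff V 1 g).mp (by
    rw [← h]
    ext x
    simp)
  simpa using h1

/-- Conjugacy classes of four-groups in PSL_2(q), q odd: if q ≡ 3 or 5 (mod 8) all Klein four-subgroups are conjugate; if q ≡ 1 or 7 (mod 8) there are two Klein four-subgroups which are not conjugate, and every Klein four-subgroup is conjugate to one of them. -/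
theorem result {F : Type*} [Field F] [Fintype F] {q : ℕ} (hF : Fintype.card F = q) (hodd : Odd q) : ((q % 8 = 3 ∨ q % 8 = 5) → ∀ V W : Subgroup (Matrix.ProjectiveSpecialLinearGroup (Fin 2) F), IsKleinFour V → IsKleinFour W → ∃ g : Matrix.ProjectiveSpecialLinearGroup (Fin 2) F, W = V.map (MulAut.conj g).toMonoidHom) ∧ ((q % 8 = 1 ∨ q % 8 = 7) → ∃ V₁ V₂ : Subgroup (Matrix.ProjectiveSpecialLinearGroup (Fin 2) F), IsKleinFour V₁ ∧ IsKleinFour V₂ ∧ (¬ ∃ g : Matrix.ProjectiveSpecialLinearGroup (Fin 2) F, V₂ = V₁.map (MulAut.conj g).toMonoidHom) ∧ ∀ W : Subgroup (Matrix.ProjectiveSpecialLinearGroup (Fin 2) F), IsKleinFour W → (∃ g : Matrix.ProjectiveSpecialLinearGroup (Fin 2) F, W = V₁.map (MulAut.conj g).toMonoidHom) ∨ (∃ g : Matrix.ProjectiveSpecialLinearGroup (Fin 2) F, W = V₂.map (MulAut.conj g).toMonoidHom)) := by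
  classical
  subst hF
  have hodd' : Fintype.card F % 2 = 1 := Nat.odd_iff.mp hodd
  have h2 : (2 : F) ≠ 0 := Cfsg.Agent.Lib.Helper14.SL2.two_ne_zero_of_odd hodd'
  haveI : Finite (Matrix.ProjectiveSpecialLinearGroup (Fin 2) F) :=
    inferInstanceAs (Finite (SL(2, F) ⧸ Subgroup.center SL(2, F)))
  constructor
  · intro hq V W hV hW
    have hns : ¬ IsSquare (2 : F) := by
      rw [FiniteField.isSquare_two_iff]; omega
    obtain ⟨u, v, h, hu, hv⟩ := exists_QP h2 V hV
    obtain ⟨g, y, hy, a, b⟩ := klein_normal_form hodd' h W hW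
    have a₁ : QuotientGroup.mk' (Subgroup.center SL(2, F)) (1 * u * 1⁻¹) ∈ V := by simpa using hu
    have b₁ : QuotientGroup.mk' (Subgroup.center SL(2, F)) (1 * (1 * v) * 1⁻¹) ∈ V := by
      simpa using hv
    by_cases hsq : ∃ x ∈ Subgroup.centralizer ({u} : Set SL(2, F)), x * x = y
    · obtain ⟨x, hx, hxy⟩ := hsq
      exact klein_conj_of_sq h2 h V W hV hW 1 1 g y x (Subgroup.one_mem _) hx a₁ b₁ a b
        (by rw [mul_one, hxy])
    · have hu_ns : ¬ ∃ x ∈ Subgroup.centralizer ({u} : Set SL(2, F)), x * x = u :=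
        fun ⟨x, _, hx⟩ => hns (isSquare_two_of_sq_eq u x h.1 hx)
      obtain ⟨x, hx, hxy⟩ := sq_T h2 h y u hy (Subgroup.mem_centralizer_singleton_iff.mpr rfl)
        hsq hu_ns
      have b' : QuotientGroup.mk' (Subgroup.center SL(2, F)) (g * ((y * u) * v) * g⁻¹) ∈ W := by
        have : g * (y * u * v) * g⁻¹ = (g * u * g⁻¹) * (g * (y * v) * g⁻¹) := by
          rw [Subgroup.mem_centralizer_singleton_iff.mp hy]; group
        rw [this, map_mul]; exact W.mul_mem a b
      exact klein_conj_of_sq h2 h V W hV hW 1 1 g (y * u) x (Subgroup.one_mem _) hx a₁ b₁ a b'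
        (by rw [mul_one, hxy])
  · intro hq
    have hs : IsSquare (2 : F) := by rw [FiniteField.isSquare_two_iff]; omega
    have hcount := Cfsg.Agent.S0807.result (F := F) rfl hodd
    have hpos : 0 < Nat.card (Matrix.ProjectiveSpecialLinearGroup (Fin 2) F) := Nat.card_pos
    have hne : Nonempty {V : Subgroup (Matrix.ProjectiveSpecialLinearGroup (Fin 2) F) //
        IsKleinFour V} := by
      by_contra hemp
      rw [not_nonempty_iff] at hemp
      rw [Nat.card_of_isEmpty] at hcount
      omega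
    obtain ⟨⟨V₁, hV₁⟩⟩ := hne
    obtain ⟨u, v, h, hu, hv⟩ := exists_QP h2 V₁ hV₁
    have a₁ : QuotientGroup.mk' (Subgroup.center SL(2, F)) (1 * u * 1⁻¹) ∈ V₁ := by simpa using hu
    have b₁ : QuotientGroup.mk' (Subgroup.center SL(2, F)) (1 * (1 * v) * 1⁻¹) ∈ V₁ := by
      simpa using hv
    have hex : ∃ V₂ : Subgroup (Matrix.ProjectiveSpecialLinearGroup (Fin 2) F), IsKleinFour V₂ ∧
        ¬ ∃ g : Matrix.ProjectiveSpecialLinearGroup (Fin 2) F,
          V₂ = V₁.map (MulAut.conj g).toMonoidHom := by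
      by_contra hcon
      push Not at hcon
      have h1 := card_conj_orbit (fun W => IsKleinFour W) V₁ (fun g => isKleinFour_map V₁ hV₁ g) hcon
      obtain ⟨s, hs, hss⟩ := exists_sq_eq_of_isSquare_two h2 u h.1 hs
      have hq3 := h.ne h2
      have hsN : QuotientGroup.mk' (Subgroup.center SL(2, F)) s ∈
          Subgroup.normalizer (V₁ : Set (Matrix.ProjectiveSpecialLinearGroup (Fin 2) F)) := by
        apply mem_normalizer_of_map_eq
        apply klein_map_eq V₁ V₁ hV₁ hV₁ _ _ hu hv hq3.1 hq3.2.1 hq3.2.2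
        · rw [← map_inv, ← map_mul, ← map_mul, Subgroup.mem_centralizer_singleton_iff.mp hs,
            mul_assoc, mul_inv_cancel, mul_one]
          exact hu
        · rw [← map_inv, ← map_mul, ← map_mul, h.conjT h2 s hs, hss, map_mul]
          exact V₁.mul_mem hu hv
      have hsq : QuotientGroup.mk' (Subgroup.center SL(2, F)) s *
          QuotientGroup.mk' (Subgroup.center SL(2, F)) s =
          QuotientGroup.mk' (Subgroup.center SL(2, F)) u := by
        rw [← map_mul, hss]
      have h8 := two_mul_card_dvd_normalizer V₁ _ hsN (by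
        intro hmem
        have := klein_sq V₁ hV₁ _ hmem
        rw [hsq] at this
        exact hq3.1 this) (by rw [hsq]; exact hu)
      rw [hV₁.card_four] at h8
      have hK : 0 < Nat.card {V : Subgroup (Matrix.ProjectiveSpecialLinearGroup (Fin 2) F) //
          IsKleinFour V} := by
        rcases Nat.eq_zero_or_pos (Nat.card {V : Subgroup
          (Matrix.ProjectiveSpecialLinearGroup (Fin 2) F) // IsKleinFour V}) with h0 | h0
        · rw [h0] at hcount; omega
        · exact h0
      have h12 : Nat.card (Subgroup.normalizer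
          (V₁ : Set (Matrix.ProjectiveSpecialLinearGroup (Fin 2) F))) = 12 := by
        apply Nat.eq_of_mul_eq_mul_left hK
        rw [h1, ← hcount, mul_comm]
      rw [h12] at h8
      omega
    obtain ⟨V₂, hV₂, hnc⟩ := hex
    refine ⟨V₁, V₂, hV₁, hV₂, hnc, ?_⟩
    intro W hW
    obtain ⟨g₂, y₂, hy₂, a₂, b₂⟩ := klein_normal_form hodd' h V₂ hV₂
    obtain ⟨g, y, hy, a, b⟩ := klein_normal_form hodd' h W hW
    by_cases hsq : ∃ x ∈ Subgroup.centralizer ({u} : Set SL(2, F)), x * x = y
    · left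
      obtain ⟨x, hx, hxy⟩ := hsq
      exact klein_conj_of_sq h2 h V₁ W hV₁ hW 1 1 g y x (Subgroup.one_mem _) hx a₁ b₁ a b
        (by rw [mul_one, hxy])
    · right
      have hns2 : ¬ ∃ x ∈ Subgroup.centralizer ({u} : Set SL(2, F)), x * x = y₂⁻¹ := by
        rintro ⟨x, hx, hxy⟩
        apply hnc
        exact klein_conj_of_sq h2 h V₁ V₂ hV₁ hV₂ 1 1 g₂ y₂ x⁻¹ (Subgroup.one_mem _)
          (Subgroup.inv_mem _ hx) a₁ b₁ a₂ b₂ (by rw [mul_one, ← _root_.mul_inv_rev, hxy, inv_inv])
      obtain ⟨x, hx, hxy⟩ := sq_T h2 h y y₂⁻¹ hy (Subgroup.inv_mem _ hy₂) hsq hns2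
      exact klein_conj_of_sq h2 h V₂ W hV₂ hW g₂ y₂ g y x hy₂ hx a₂ b₂ a b (by rw [hxy]; group)


end Cfsg.Agent.S0808
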