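import Cfsg.Statements.S2431
import Cfsg.Agent.Lib.Helper12.SL2SylowTwo
import Cfsg.Agent.S0808

set_option autoImplicit false
open Cfsg

namespace Cfsg.Agent.S2431

open Matrix Cfsg.Agent.Lib.Helper12
open scoped MatrixGroups
open Cfsg.Agent.Lib.Helper27.PSL2 (sq_eq_one sq_eq_neg_one_iff one_ne_neg_one ne_neg isConj_of_tr_zero
  isConj_of_orderOf_two tr orderOf_mk_eq_two_iff tr_zero_of_anticomm mk_eq_iff comm_mk_iff card_center)

theorem isPGroup_zpowers {G : Type*} [Group G] (g : G) (k : ℕ) (h : g ^ (2 ^ k) = 1) :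
    IsPGroup 2 (Subgroup.zpowers g) := by
  rintro ⟨x, hx⟩
  obtain ⟨n, rfl⟩ := Subgroup.mem_zpowers_iff.mp hx
  refine ⟨k, Subtype.ext ?_⟩
  show (g ^ n) ^ (2 ^ k) = 1
  rw [← zpow_natCast, ← _root_.zpow_mul, mul_comm, _root_.zpow_mul, zpow_natCast, h, _root_.one_zpow]

section
variable {F : Type*} [Field F] [Fintype F]

theorem not_scal_of_sq (h2 : (2 : F) ≠ 0) (u : SL(2, F)) (hu : u * u = -1) :
    ¬ IsScal2 (u : Matrix (Fin 2) (Fin 2) F) := by
  apply not_isScal2_of_trace
  have : (u : Matrix (Fin 2) (Fin 2) F).trace = 0 := by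
    rw [Matrix.trace_fin_two]; exact (sq_eq_neg_one_iff u).mp hu
  rw [this]
  intro h4
  apply h2
  have : (2 : F) * 2 = 0 := by linear_combination -h4
  exact (mul_self_eq_zero.mp this)

theorem center_le_sylow (hodd : Odd (Fintype.card F)) (S : Sylow 2 SL(2, F)) :
    Subgroup.center SL(2, F) ≤ S := by
  obtain ⟨u, v, h, hu, hv⟩ := exists_QP_sylow hodd S
  intro x hx
  rcases (Cfsg.Agent.Lib.Helper27.PSL2.mem_center_iff x).mp hx with rfl | rfl
  · exact Subgroup.one_mem _
  · rw [← h.1]; exact Subgroup.mul_mem _ hu hu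

theorem card_le_eight (h2 : (2 : F) ≠ 0) (S : Subgroup SL(2, F))
    (hZ : Subgroup.center SL(2, F) ≤ S) (u v : SL(2, F)) (h : QP u v)
    (hS : ∀ x ∈ S, (x * u = u * x ∨ x * u = -(u * x)) ∧ (x * v = v * x ∨ x * v = -(v * x))) :
    Nat.card S ≤ 8 := by
  have hq3 := h.ne h2
  have e1 := (orderOf_two_iff _).mp ((orderOf_mk_eq_two_iff h2 u).mpr h.1)
  have e2 := (orderOf_two_iff _).mp ((orderOf_mk_eq_two_iff h2 v).mpr h.2.1)
  have e3 : QuotientGroup.mk' (Subgroup.center SL(2, F)) u *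
      QuotientGroup.mk' (Subgroup.center SL(2, F)) v =
      QuotientGroup.mk' (Subgroup.center SL(2, F)) v *
      QuotientGroup.mk' (Subgroup.center SL(2, F)) u :=
    (comm_mk_iff u v).mpr (Or.inr (by rw [h.2.2, neg_neg]))
  have hle : S.map (QuotientGroup.mk' (Subgroup.center SL(2, F))) ≤ K4 _ _ e1.1 e2.1 e3 := by
    rintro _ ⟨x, hx, rfl⟩
    exact (mem_K4 _ _ e1.1 e2.1 e3 _).mpr (h.mem_of_ctil h2 x (hS x hx).1 (hS x hx).2)
  have h4 := card_K4 _ _ e1.1 e2.1 e3 hq3.1 hq3.2.1 hq3.2.2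
  haveI : Finite (K4 _ _ e1.1 e2.1 e3) := Nat.finite_of_card_ne_zero (by rw [h4]; norm_num)
  have h5 := Subgroup.card_le_of_le hle
  have h6 := card_map_mk_mul (Subgroup.center SL(2, F)) S hZ
  rw [card_center h2] at h6
  omega

theorem exists_central_invol (hodd : Odd (Fintype.card F)) (S : Sylow 2 SL(2, F)) :
    ∃ u ∈ S, u * u = -1 ∧ ∀ x ∈ S, x * u = u * x ∨ x * u = -(u * x) := by
  have hodd' : Fintype.card F % 2 = 1 := Nat.odd_iff.mp hodd
  have h2 : (2 : F) ≠ 0 := Cfsg.Agent.Lib.Helper14.SL2.two_ne_zero_of_odd hodd'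
  obtain ⟨u₀, v₀, h₀, hu₀, hv₀⟩ := exists_QP_sylow hodd S
  set Sb := (S : Subgroup SL(2, F)).map (QuotientGroup.mk' (Subgroup.center SL(2, F))) with hSb
  have hp : IsPGroup 2 Sb := S.2.map _
  haveI : Nontrivial Sb := ⟨⟨⟨_, Subgroup.mem_map_of_mem _ hu₀⟩, 1, fun h =>
    (h₀.ne h2).1 (congrArg Subtype.val h)⟩⟩
  haveI : Finite (SL(2, F) ⧸ Subgroup.center SL(2, F)) := inferInstance
  have hc := hp.center_nontrivial
  have hpc : IsPGroup 2 (Subgroup.center Sb) := hp.to_subgroup _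
  obtain ⟨n, hn0, hn⟩ := hpc.nontrivial_iff_card.mp hc
  obtain ⟨z, hz⟩ := exists_prime_orderOf_dvd_card' (G := Subgroup.center Sb) 2
    (by rw [hn]; exact dvd_pow_self _ hn0.ne')
  obtain ⟨u, huS, huz⟩ := z.1.2
  have ho : orderOf (QuotientGroup.mk' (Subgroup.center SL(2, F)) u) = 2 := by
    rw [huz, Subgroup.orderOf_coe, Subgroup.orderOf_coe, hz]
  refine ⟨u, huS, (orderOf_mk_eq_two_iff h2 u).mp ho, ?_⟩
  intro x hx
  apply (comm_mk_iff x u).mp
  have h3 := Subgroup.mem_center_iff.mp z.2 ⟨_, Subgroup.mem_map_of_mem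
    (QuotientGroup.mk' (Subgroup.center SL(2, F))) hx⟩
  have h4 := congrArg Subtype.val h3
  rw [Subgroup.coe_mul, Subgroup.coe_mul, ← huz] at h4
  exact h4

theorem normalizer_eq (hodd : Odd (Fintype.card F)) (S : Sylow 2 SL(2, F))
    (h16 : 16 ∣ Nat.card S) :
    Subgroup.normalizer ((S : Subgroup SL(2, F)) : Set SL(2, F)) = (S : Subgroup SL(2, F)) := by
  have hodd' : Fintype.card F % 2 = 1 := Nat.odd_iff.mp hodd
  have h2 : (2 : F) ≠ 0 := Cfsg.Agent.Lib.Helper14.SL2.two_ne_zero_of_odd hodd'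
  apply le_antisymm _ Subgroup.le_normalizer
  intro g hg
  obtain ⟨u, huS, huu, hcen⟩ := exists_central_invol hodd S
  obtain ⟨u₀, v₀, h₀, hu₀, hv₀⟩ := exists_QP_sylow hodd S
  have hgu : g * u = u * g ∨ g * u = -(u * g) := by
    obtain ⟨u', hu'⟩ : ∃ u', u' = g * u * g⁻¹ := ⟨_, rfl⟩
    have hu'S : u' ∈ S := by
      rw [hu']; exact (Subgroup.mem_normalizer_iff.mp hg u).mp huS
    have hu'u' : u' * u' = -1 := by
      rw [hu']
      calc g * u * g⁻¹ * (g * u * g⁻¹) = g * (u * u) * g⁻¹ := by group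
        _ = -1 := by rw [huu, mul_neg, mul_one, neg_mul, mul_inv_cancel]
    have hcen' : ∀ x ∈ S, x * u' = u' * x ∨ x * u' = -(u' * x) := by
      intro x hx
      have hx' : g⁻¹ * x * g ∈ S := by
        apply (Subgroup.mem_normalizer_iff.mp hg (g⁻¹ * x * g)).mpr
        have : g * (g⁻¹ * x * g) * g⁻¹ = x := by group
        rw [this]; exact hx
      rcases hcen _ hx' with h | h
      · left
        rw [hu']
        calc x * (g * u * g⁻¹) = g * ((g⁻¹ * x * g) * u) * g⁻¹ := by group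
          _ = g * (u * (g⁻¹ * x * g)) * g⁻¹ := by rw [h]
          _ = g * u * g⁻¹ * x := by group
      · right
        rw [hu']
        calc x * (g * u * g⁻¹) = g * ((g⁻¹ * x * g) * u) * g⁻¹ := by group
          _ = g * (-(u * (g⁻¹ * x * g))) * g⁻¹ := by rw [h]
          _ = -(g * (u * (g⁻¹ * x * g)) * g⁻¹) := by rw [mul_neg, neg_mul]
          _ = -(g * u * g⁻¹ * x) := by congr 1; group
    have hgu' : g * u = u' * g := by rw [hu']; group
    rcases hcen u' hu'S with h | h
    · rcases eq_or_neg_of_comm h2 u u' huu hu'u' h with e | e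
      · left; rw [hgu', e]
      · right; rw [hgu', e, neg_mul]
    · exfalso
      have hq : QP u u' := ⟨huu, hu'u', h⟩
      have h8 := card_le_eight h2 S (center_le_sylow hodd S) u u' hq
        (fun x hx => ⟨hcen x hx, hcen' x hx⟩)
      have h9 := Nat.le_of_dvd Nat.card_pos h16
      omega
  have hpg : IsPGroup 2 (Subgroup.zpowers g) := by
    rcases hgu with hgu | hgu
    · have hw : ∃ w ∈ S, w * u = -(u * w) := by
        by_contra hcon
        push Not at hcon
        have hall : ∀ x ∈ S, x ∈ Subgroup.centralizer ({u} : Set SL(2, F)) := by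
          intro x hx
          rw [Subgroup.mem_centralizer_singleton_iff]
          exact (hcen x hx).resolve_right (hcon x hx)
        have h5 := comm_of_mem_centralizer u (not_scal_of_sq h2 u huu) v₀ u₀ (hall _ hv₀) (hall _ hu₀)
        rw [h₀.2.2] at h5
        exact ne_neg h2 _ h5.symm
      obtain ⟨w, hwS, hw⟩ := hw
      have hq : QP u w := ⟨huu, (sq_eq_neg_one_iff w).mpr (tr_zero_of_anticomm h2 u w huu hw), hw⟩
      have h5 := hq.conjT h2 g (Subgroup.mem_centralizer_singleton_iff.mpr hgu)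
      have h6 : g * w * g⁻¹ ∈ S := (Subgroup.mem_normalizer_iff.mp hg w).mp hwS
      have h7 : g * g ∈ S := by
        have : g * g = (g * w * g⁻¹) * w⁻¹ := by rw [h5]; group
        rw [this]
        exact Subgroup.mul_mem _ h6 (Subgroup.inv_mem _ hwS)
      obtain ⟨k, hk⟩ := S.2 ⟨g * g, h7⟩
      have hk' : (g * g) ^ (2 ^ k) = 1 := congrArg Subtype.val hk
      apply isPGroup_zpowers g (k + 1)
      rw [pow_succ, mul_comm, pow_mul, pow_two]
      exact hk'
    · have h5 : g * g = -1 := (sq_eq_neg_one_iff g).mpr (tr_zero_of_anticomm h2 u g huu hgu)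
      apply isPGroup_zpowers g 2
      have : g ^ (2 ^ 2) = (g * g) * (g * g) := by
        norm_num [pow_succ, mul_assoc]
      rw [this, h5, neg_mul_neg, mul_one]
  have h10 := hpg.inf_normalizer_sylow S
  have hmem : g ∈ Subgroup.zpowers g ⊓ Subgroup.normalizer (S : Set SL(2, F)) :=
    ⟨Subgroup.mem_zpowers g, hg⟩
  rw [h10] at hmem
  exact hmem.2

theorem card_normalizer_eq (hodd : Odd (Fintype.card F))
    (hq : Fintype.card F % 8 = 3 ∨ Fintype.card F % 8 = 5) (S : Sylow 2 SL(2, F)) :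
    Nat.card (Subgroup.normalizer ((S : Subgroup SL(2, F)) : Set SL(2, F))) = 3 * Nat.card S := by
  have hodd' : Fintype.card F % 2 = 1 := Nat.odd_iff.mp hodd
  have h2 : (2 : F) ≠ 0 := Cfsg.Agent.Lib.Helper14.SL2.two_ne_zero_of_odd hodd'
  have hG : ∃ m, m % 2 = 1 ∧ Nat.card SL(2, F) = 8 * m := by
    rw [card_SL2]
    rcases hq with hq | hq
    · obtain ⟨k, hk⟩ : ∃ k, Fintype.card F = 8 * k + 3 := ⟨Fintype.card F / 8, by omega⟩
      refine ⟨(8 * k + 3) * (8 * k ^ 2 + 6 * k + 1), ?_, ?_⟩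
      · rw [Nat.mul_mod]
        have a1 : (8 * k + 3) % 2 = 1 := by omega
        have a2 : (8 * k ^ 2 + 6 * k + 1) % 2 = 1 := by omega
        rw [a1, a2]
      · rw [hk]
        have : (8 * k + 3) ^ 2 = 8 * (8 * k ^ 2 + 6 * k + 1) + 1 := by ring
        rw [this, Nat.add_sub_cancel]
        ring
    · obtain ⟨k, hk⟩ : ∃ k, Fintype.card F = 8 * k + 5 := ⟨Fintype.card F / 8, by omega⟩
      refine ⟨(8 * k + 5) * (8 * k ^ 2 + 10 * k + 3), ?_, ?_⟩
      · rw [Nat.mul_mod]
        have a1 : (8 * k + 5) % 2 = 1 := by omega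
        have a2 : (8 * k ^ 2 + 10 * k + 3) % 2 = 1 := by omega
        rw [a1, a2]
      · rw [hk]
        have : (8 * k + 5) ^ 2 = 8 * (8 * k ^ 2 + 10 * k + 3) + 1 := by ring
        rw [this, Nat.add_sub_cancel]
        ring
  obtain ⟨m, hm, hGm⟩ := hG
  have hS8 : Nat.card S = 8 := by
    have a1 : 2 ^ 3 ∣ Nat.card S := S.pow_dvd_card_of_pow_dvd_card (by rw [hGm]; norm_num)
    obtain ⟨n, hn⟩ := IsPGroup.iff_card.mp S.2
    have a2 : Nat.card S ∣ 8 * m := by
      rw [← hGm]; exact Subgroup.card_subgroup_dvd_card _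
    have a3 : Nat.Coprime (Nat.card S) m := by
      rw [hn]
      apply Nat.Coprime.pow_left
      exact (Nat.coprime_two_left).mpr (Nat.odd_iff.mpr hm)
    have a4 : Nat.card S ∣ 8 := a3.dvd_of_dvd_mul_right a2
    exact Nat.dvd_antisymm a4 (by simpa using a1)
  haveI : Finite (Matrix.ProjectiveSpecialLinearGroup (Fin 2) F) :=
    inferInstanceAs (Finite (SL(2, F) ⧸ Subgroup.center SL(2, F)))
  have hZS := center_le_sylow hodd S
  obtain ⟨u, v, h, hu, hv⟩ := exists_QP_sylow hodd S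
  set V := (S : Subgroup SL(2, F)).map (QuotientGroup.mk' (Subgroup.center SL(2, F))) with hVdef
  have hVcard : Nat.card V = 4 := by
    have h6 := card_map_mk_mul (Subgroup.center SL(2, F)) (S : Subgroup SL(2, F)) hZS
    rw [card_center h2] at h6
    have h7 : Nat.card (S : Subgroup SL(2, F)) = 8 := hS8
    rw [h7, ← hVdef] at h6
    omega
  have hq3 := h.ne h2
  have e1 := (orderOf_two_iff _).mp ((orderOf_mk_eq_two_iff h2 u).mpr h.1)
  have e2 := (orderOf_two_iff _).mp ((orderOf_mk_eq_two_iff h2 v).mpr h.2.1)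
  have e3 : QuotientGroup.mk' (Subgroup.center SL(2, F)) u *
      QuotientGroup.mk' (Subgroup.center SL(2, F)) v =
      QuotientGroup.mk' (Subgroup.center SL(2, F)) v *
      QuotientGroup.mk' (Subgroup.center SL(2, F)) u :=
    (comm_mk_iff u v).mpr (Or.inr (by rw [h.2.2, neg_neg]))
  have huV : QuotientGroup.mk' (Subgroup.center SL(2, F)) u ∈ V := Subgroup.mem_map_of_mem _ hu
  have hvV : QuotientGroup.mk' (Subgroup.center SL(2, F)) v ∈ V := Subgroup.mem_map_of_mem _ hv
  have hK : K4 _ _ e1.1 e2.1 e3 = V := by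
    haveI : Finite V := Nat.finite_of_card_ne_zero (by rw [hVcard]; norm_num)
    apply Subgroup.eq_of_le_of_card_ge
    · intro x hx
      rcases (mem_K4 _ _ e1.1 e2.1 e3 x).mp hx with rfl | rfl | rfl | rfl
      · exact V.one_mem
      · exact huV
      · exact hvV
      · exact V.mul_mem huV hvV
    · rw [hVcard, card_K4 _ _ e1.1 e2.1 e3 hq3.1 hq3.2.1 hq3.2.2]
  have hV : IsKleinFour V := hK ▸ isKleinFour_K4 _ _ e1.1 e2.1 e3 hq3.1 hq3.2.1 hq3.2.2
  have hN12 : Nat.card (Subgroup.normalizer (V : Set (SL(2, F) ⧸ Subgroup.center SL(2, F)))) = 12 := by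
    have hcount := Cfsg.Agent.S0807.result (F := F) rfl hodd
    have hall := (Cfsg.Agent.S0808.result (F := F) rfl hodd).1 hq V
    have h1 := card_conj_orbit (G := Matrix.ProjectiveSpecialLinearGroup (Fin 2) F)
      (fun W => IsKleinFour W) V (fun g => Cfsg.Agent.S0808.isKleinFour_map V hV g)
      (fun W hW => hall W hV hW)
    have hpos : 0 < Nat.card (Matrix.ProjectiveSpecialLinearGroup (Fin 2) F) := Nat.card_pos
    have hK : 0 < Nat.card {V : Subgroup (Matrix.ProjectiveSpecialLinearGroup (Fin 2) F) //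
        IsKleinFour V} := by
      rcases Nat.eq_zero_or_pos (Nat.card {V : Subgroup
        (Matrix.ProjectiveSpecialLinearGroup (Fin 2) F) // IsKleinFour V}) with h0 | h0
      · rw [h0] at hcount; omega
      · exact h0
    apply Nat.eq_of_mul_eq_mul_left hK
    rw [h1, ← hcount, mul_comm]
  have hcomap : V.comap (QuotientGroup.mk' (Subgroup.center SL(2, F))) = S := by
    rw [hVdef, Subgroup.comap_map_eq, QuotientGroup.ker_mk', sup_eq_left.mpr hZS]
  have hNN : (Subgroup.normalizer (V : Set (SL(2, F) ⧸ Subgroup.center SL(2, F)))).comap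
      (QuotientGroup.mk' (Subgroup.center SL(2, F))) =
      Subgroup.normalizer ((S : Subgroup SL(2, F)) : Set SL(2, F)) := by
    rw [Subgroup.comap_normalizer_eq_of_surjective V (QuotientGroup.mk'_surjective _), hcomap]
  rw [← hNN]
  have h9 := card_map_mk_mul (Subgroup.center SL(2, F))
    ((Subgroup.normalizer (V : Set (SL(2, F) ⧸ Subgroup.center SL(2, F)))).comap
      (QuotientGroup.mk' (Subgroup.center SL(2, F)))) (by
      intro x hx
      rw [Subgroup.mem_comap]
      have : QuotientGroup.mk' (Subgroup.center SL(2, F)) x = 1 := by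
        rw [QuotientGroup.mk'_apply, QuotientGroup.eq_one_iff]; exact hx
      rw [this]
      exact Subgroup.one_mem _)
  rw [Subgroup.map_comap_eq_self_of_surjective (QuotientGroup.mk'_surjective _), hN12,
    card_center h2] at h9
  rw [← h9, hS8]

end

/-- Let F be a finite field with q elements, q odd, and S a Sylow 2-subgroup of SL₂ over F. The centraliser of S is the centre of SL₂ (of order 2); S is its own normaliser when q ≡ ±1 mod 8, and has index 3 in its normaliser when q ≡ ±3 mod 8. -/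
theorem result {F : Type*} [Field F] [Fintype F] (hodd : Odd (Fintype.card F)) (S : Sylow 2 (Matrix.SpecialLinearGroup (Fin 2) F)) :
    Subgroup.centralizer ((S : Subgroup (Matrix.SpecialLinearGroup (Fin 2) F)) : Set (Matrix.SpecialLinearGroup (Fin 2) F)) = Subgroup.center (Matrix.SpecialLinearGroup (Fin 2) F) ∧
    ((Fintype.card F % 8 = 1 ∨ Fintype.card F % 8 = 7) →
      Subgroup.normalizer ((S : Subgroup (Matrix.SpecialLinearGroup (Fin 2) F)) : Set (Matrix.SpecialLinearGroup (Fin 2) F)) = (S : Subgroup (Matrix.SpecialLinearGroup (Fin 2) F))) ∧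
    ((Fintype.card F % 8 = 3 ∨ Fintype.card F % 8 = 5) →
      Nat.card (Subgroup.normalizer ((S : Subgroup (Matrix.SpecialLinearGroup (Fin 2) F)) : Set (Matrix.SpecialLinearGroup (Fin 2) F))) = 3 * Nat.card S) := by
  have hodd' : Fintype.card F % 2 = 1 := Nat.odd_iff.mp hodd
  have h2 : (2 : F) ≠ 0 := Cfsg.Agent.Lib.Helper14.SL2.two_ne_zero_of_odd hodd'
  refine ⟨?_, ?_, ?_⟩
  · apply le_antisymm _ (Subgroup.center_le_centralizer _)
    intro x hx
    obtain ⟨u, v, h, hu, hv⟩ := exists_QP_sylow hodd S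
    rw [Subgroup.mem_centralizer_iff] at hx
    exact (Cfsg.Agent.Lib.Helper27.PSL2.mem_center_iff x).mpr
      (h.comm_both h2 x (hx u hu).symm (hx v hv).symm)
  · intro hq
    apply normalizer_eq hodd S
    have : 2 ^ 4 ∣ Nat.card S := by
      apply S.pow_dvd_card_of_pow_dvd_card
      rw [card_SL2]
      apply Dvd.dvd.mul_left
      rcases hq with hq | hq
      · obtain ⟨k, hk⟩ : ∃ k, Fintype.card F = 8 * k + 1 := ⟨Fintype.card F / 8, by omega⟩
        rw [hk]
        have : (8 * k + 1) ^ 2 = 2 ^ 4 * (4 * k ^ 2 + k) + 1 := by ring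
        rw [this, Nat.add_sub_cancel]
        exact Dvd.intro _ rfl
      · obtain ⟨k, hk⟩ : ∃ k, Fintype.card F = 8 * k + 7 := ⟨Fintype.card F / 8, by omega⟩
        rw [hk]
        have : (8 * k + 7) ^ 2 = 2 ^ 4 * (4 * k ^ 2 + 7 * k + 3) + 1 := by ring
        rw [this, Nat.add_sub_cancel]
        exact Dvd.intro _ rfl
    simpa using this
  · intro hq
    exact card_normalizer_eq hodd hq S


end Cfsg.Agent.S2431
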