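import Cfsg.Statements.S0120
import Mathlib
import Cfsg.Agent.S0012
import Cfsg.Agent.S0093
import Cfsg.Agent.S0121
import Cfsg.Agent.Lib.Helper14.Class2
-- import your own Cfsg.Agent.* helpers here

set_option autoImplicit false
open Cfsg

namespace Cfsg.Agent.S0120

open scoped commutatorElement

universe u

/-- restriction of an automorphism to an invariant subgroup. -/
def restr {G : Type*} [Group G] (a : MulAut G) (H : Subgroup G) (h : ∀ x, a x ∈ H ↔ x ∈ H) : MulAut H where
  toFun x := ⟨a x, (h x).mpr x.2⟩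
  invFun x := ⟨a.symm x, (h _).mp (by rw [MulEquiv.apply_symm_apply]; exact x.2)⟩
  left_inv x := Subtype.ext (by simp)
  right_inv x := Subtype.ext (by simp)
  map_mul' x y := Subtype.ext (by simp)

theorem restr_apply {G : Type*} [Group G] (a : MulAut G) (H : Subgroup G) (h : ∀ x, a x ∈ H ↔ x ∈ H)
    (x : H) : ((restr a H h x : H) : G) = a x := rfl

theorem restr_pow {G : Type*} [Group G] (a : MulAut G) (H : Subgroup G) (h : ∀ x, a x ∈ H ↔ x ∈ H)
    (n : ℕ) (x : H) : (((restr a H h) ^ n) x : G) = (a ^ n) x := by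
  induction n generalizing x with
  | zero => simp
  | succ n ih =>
    rw [pow_succ, pow_succ, MulAut.mul_apply, MulAut.mul_apply, ih, restr_apply]

theorem orderOf_restr_dvd {G : Type*} [Group G] (a : MulAut G) (H : Subgroup G)
    (h : ∀ x, a x ∈ H ↔ x ∈ H) : orderOf (restr a H h) ∣ orderOf a := by
  apply orderOf_dvd_of_pow_eq_one
  ext x
  rw [restr_pow, pow_orderOf_eq_one]
  rfl

/-- the statement, as a predicate of the order. -/
def Stm (p : ℕ) (n : ℕ) : Prop :=
  ∀ (G : Type u) [Group G] [Finite G], Nat.card G = n → IsPGroup p G → ∀ a : MulAut G,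
    Nat.Coprime (orderOf a) p → (∀ x : G, x ^ p = 1 → a x = x) → a = 1

theorem classTwoCase {p : ℕ} [Fact p.Prime] (hp : p ≠ 2) (n : ℕ) (IH : ∀ m < n, Stm.{u} p m)
    (G : Type u) [Group G] [Finite G] (hn : Nat.card G = n) (hG : IsPGroup p G)
    (hΦ : frattini G ≤ Subgroup.center G) (a : MulAut G)
    (ha : Nat.Coprime (orderOf a) p) (h : ∀ x : G, x ^ p = 1 → a x = x) : a = 1 := by
  rcases subsingleton_or_nontrivial G with hs | hnt
  · ext x; exact Subsingleton.elim _ _
  have h12 := Cfsg.Agent.S0012.result p hG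
  have hcen : ∀ x y : G, ⁅x, y⁆ ∈ Subgroup.center G := fun x y =>
    hΦ (h12.1 (Subgroup.commutator_mem_commutator (Subgroup.mem_top x) (Subgroup.mem_top y)))
  have hmul : ∀ x y : G, (x * y) ^ p = x ^ p * y ^ p := by
    intro x y
    apply Cfsg.Agent.Lib.Helper14.mul_pow_prime_class2 Fact.out hp x y (hcen y x)
    rw [← Cfsg.Agent.Lib.Helper14.comm_pow_left y x (hcen y x) p, commutatorElement_eq_one_iff_mul_comm]
    exact (Subgroup.mem_center_iff.mp (hΦ (h12.2 y)) x).symm
  let π : G →* G :=
    { toFun := fun x => x ^ p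
      map_one' := one_pow p
      map_mul' := hmul }
  have hK : ∀ x, a x ∈ π.range ↔ x ∈ π.range := by
    intro x
    constructor
    · rintro ⟨y, hy⟩
      refine ⟨a.symm y, ?_⟩
      show (a.symm y) ^ p = x
      rw [← map_pow]
      have : y ^ p = a x := hy
      rw [this, MulEquiv.symm_apply_apply]
    · rintro ⟨y, rfl⟩
      exact ⟨a y, by show (a y) ^ p = a (y ^ p); rw [map_pow]⟩
  have hKΦ : π.range ≤ frattini G := by
    rintro _ ⟨y, rfl⟩
    exact h12.2 y
  have hΦtop : frattini G ≠ ⊤ := by
    intro htop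
    have : (⊥ : Subgroup G) = ⊤ := frattini_nongenerating (by rw [htop, bot_sup_eq])
    exact bot_ne_top this
  have hKlt : Nat.card π.range < n := by
    rw [← hn]
    have hne : π.range ≠ ⊤ := fun h => hΦtop (top_le_iff.mp (h ▸ hKΦ))
    by_contra hcon
    push Not at hcon
    exact hne (Subgroup.eq_top_of_card_eq _ (le_antisymm (Subgroup.card_le_card_group _) hcon))
  have hb : restr a π.range hK = 1 := by
    apply IH _ hKlt π.range rfl (hG.to_subgroup _) _
      (Nat.Coprime.coprime_dvd_left (orderOf_restr_dvd a _ hK) ha)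
    intro x hx
    apply Subtype.ext
    rw [restr_apply]
    apply h
    have := congrArg Subtype.val hx
    simpa using this
  have hfixp : ∀ x : G, a (x ^ p) = x ^ p := by
    intro x
    have := congrArg (fun b : MulAut π.range => ((b ⟨x ^ p, ⟨x, rfl⟩⟩ : π.range) : G)) hb
    simpa [restr_apply] using this
  have hk : ∀ x : G, a (x⁻¹ * a x) = x⁻¹ * a x := by
    intro x
    apply h
    rw [hmul, ← map_pow, hfixp, inv_pow, inv_mul_cancel]
  have hpow : ∀ (n : ℕ) (x : G), (a ^ n) x = x * (x⁻¹ * a x) ^ n := by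
    intro n x
    induction n with
    | zero => simp
    | succ n ih =>
      rw [pow_succ', MulAut.mul_apply, ih, map_mul, map_pow, hk, pow_succ', ← mul_assoc, mul_inv_cancel_left]
  have hap : a ^ p = 1 := by
    ext x
    rw [hpow, hmul, ← map_pow, hfixp, inv_pow, inv_mul_cancel, mul_one]
    rfl
  have h1 : orderOf a ∣ p := orderOf_dvd_of_pow_eq_one hap
  have h2 : orderOf a = 1 := Nat.Coprime.eq_one_of_dvd ha h1
  exact orderOf_eq_one_iff.mp h2

theorem main {p : ℕ} [Fact p.Prime] (hp : p ≠ 2) (n : ℕ) : Stm.{u} p n := by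
  induction n using Nat.strong_induction_on with
  | _ n IH =>
    intro G _ _ hn hG a ha h
    obtain ⟨H, hHchar, h1, h2, h3⟩ := Cfsg.Agent.S0093.result hG
    have hH : ∀ x, a x ∈ H ↔ x ∈ H := by
      intro x
      have := Subgroup.characteristic_iff_comap_eq.mp hHchar a
      constructor
      · intro hx
        rw [← this]; exact hx
      · intro hx
        rw [← this] at hx; exact hx
    have hle : Nat.card H ≤ n := hn ▸ Subgroup.card_le_card_group H
    have hb : restr a H hH = 1 := by
      apply classTwoCase hp (Nat.card H) (fun m hm => IH m (lt_of_lt_of_le hm hle)) H rfl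
        (hG.to_subgroup H) _ _ (Nat.Coprime.coprime_dvd_left (orderOf_restr_dvd a _ hH) ha)
      · intro x hx
        apply Subtype.ext
        rw [restr_apply]
        apply h
        have := congrArg Subtype.val hx
        simpa using this
      · intro x hx
        rw [Subgroup.mem_center_iff]
        intro g
        apply Subtype.ext
        exact h1 ⟨x, hx, rfl⟩ g g.2
    apply Cfsg.Agent.S0121.result hG H hHchar h1 h2 h3 a ha
    intro x hx
    have := congrArg (fun b : MulAut H => ((b ⟨x, hx⟩ : H) : G)) hb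
    simpa [restr_apply] using this

/-- For odd p, a p'-automorphism of a p-group acting trivially on the elements of order dividing p is trivial. -/
theorem result {G : Type*} [Group G] [Finite G] {p : ℕ} [Fact p.Prime] (hp : p ≠ 2) (hG : IsPGroup p G) (a : MulAut G) (ha : Nat.Coprime (orderOf a) p) (h : ∀ x : G, x ^ p = 1 → a x = x) : a = 1 := by
  exact main hp _ G rfl hG a ha h

end Cfsg.Agent.S0120
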