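import Cfsg.Statements.S0039
import Mathlib
import Cfsg.Agent.Lib.Helper15.Frob

set_option autoImplicit false
open Cfsg

namespace Cfsg.Agent.S0039

/-- In a finite group that is a semidirect product of a normal subgroup K by a nontrivial subgroup H, H is a Frobenius complement exactly when each nonidentity element of H acts without nonidentity fixed points on K by conjugation. -/
theorem result {G : Type*} [Group G] [Finite G] (K H : Subgroup G) [K.Normal]
    (hc : Subgroup.IsComplement' K H) (hK : K ≠ ⊥) (hH : H ≠ ⊥) :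
    Cfsg.IsFrobeniusComplement H ↔ ∀ h ∈ H, h ≠ 1 → K ⊓ Subgroup.centralizer {h} = ⊥ := by
  constructor
  · intro hF h hh h1
    rw [eq_bot_iff]
    intro k hk
    obtain ⟨hkK, hkC⟩ := Subgroup.mem_inf.mp hk
    rw [Subgroup.mem_centralizer_singleton_iff] at hkC
    have h2 : k⁻¹ * h * k ∈ H := by
      have : k⁻¹ * h * k = h := by rw [mul_assoc, ← hkC]; group
      rw [this]; exact hh
    have h3 := Cfsg.Agent.Lib.Helper15.frob_mem_of_conj_mem hF hh h1 h2
    have := hc.disjoint.le_bot ⟨hkK, h3⟩
    exact this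
  · intro hfpf
    refine ⟨hH, ?_, ?_⟩
    · intro hT
      apply hK
      have := hc.disjoint
      rw [hT, disjoint_top] at this
      exact this
    · intro g hg
      rw [eq_bot_iff]
      intro x hx
      obtain ⟨hxH, hxg⟩ := Subgroup.mem_inf.mp hx
      rw [Cfsg.Agent.Lib.Helper15.mem_conj_smul_iff] at hxg
      rw [Subgroup.mem_bot]
      by_contra hx1
      obtain ⟨⟨⟨k, hk⟩, ⟨h', hh'⟩⟩, hkh⟩ := hc.2 g
      simp only at hkh
      have hk1 : k ≠ 1 := by
        intro e
        apply hg
        rw [← hkh, e, one_mul]; exact hh'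
      have h1 : k⁻¹ * x * k ∈ H := by
        have : k⁻¹ * x * k = h' * (g⁻¹ * x * g) * h'⁻¹ := by rw [← hkh]; group
        rw [this]
        exact H.mul_mem (H.mul_mem hh' hxg) (H.inv_mem hh')
      have h2 : x⁻¹ * (k⁻¹ * x * k) ∈ H := H.mul_mem (H.inv_mem hxH) h1
      have h3 : x⁻¹ * (k⁻¹ * x * k) ∈ K := by
        have : x⁻¹ * (k⁻¹ * x * k) = (x⁻¹ * k⁻¹ * x⁻¹⁻¹) * k := by group
        rw [this]
        exact K.mul_mem (‹K.Normal›.conj_mem _ (K.inv_mem hk) _) hk
      have h4 : x⁻¹ * (k⁻¹ * x * k) = 1 := hc.disjoint.le_bot ⟨h3, h2⟩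
      have h5 : k ∈ K ⊓ Subgroup.centralizer {x} := by
        refine Subgroup.mem_inf.mpr ⟨hk, ?_⟩
        rw [Subgroup.mem_centralizer_singleton_iff]
        have : k⁻¹ * x * k = x := by
          have := congrArg (fun z => x * z) h4
          simpa using this
        calc k * x = k * (k⁻¹ * x * k) := by rw [this]
          _ = x * k := by group
      rw [hfpf x hxH hx1] at h5
      exact hk1 h5

end Cfsg.Agent.S0039
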