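import Cfsg.Statements.S0666
import Mathlib
import Cfsg.Agent.Lib.Helper15.FrobAct

set_option autoImplicit false
open Cfsg

namespace Cfsg.Agent.S0666

open scoped IsMulCommutative
open Cfsg.Agent.Lib.Helper15

/-- A Frobenius group acting on a nontrivial abelian group of order prime to that of its kernel, with the kernel acting without nontrivial fixed points, has a complement with a nontrivial fixed point. -/
theorem result {G : Type*} [Group G] [Finite G] (V F : Subgroup G) (hVab : IsMulCommutative V) (hV1 : V ≠ ⊥) (hFV : F ≤ Subgroup.normalizer (V : Set G)) (H : Subgroup ↥F) (hH : Cfsg.IsFrobeniusComplement H) (hcop : (Nat.card V).Coprime (Nat.card (Cfsg.frobeniusKernel H))) (hCK : V ⊓ Subgroup.centralizer (Subtype.val '' Cfsg.frobeniusKernel H : Set G) = ⊥) : V ⊓ Subgroup.centralizer ((H.map F.subtype : Subgroup G) : Set G) ≠ ⊥ := by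
  intro hcon
  apply hV1
  have key := frob_fixed_point (conjAct F V hFV) H hH hcop ?_ ?_
  · rw [Subgroup.eq_bot_iff_forall]
    intro x hx
    exact congrArg Subtype.val (key ⟨x, hx⟩)
  · intro v hv
    have h2 : (v : G) ∈ V ⊓ Subgroup.centralizer (Subtype.val '' Cfsg.frobeniusKernel H : Set G) := by
      refine Subgroup.mem_inf.mpr ⟨v.2, ?_⟩
      rw [Subgroup.mem_centralizer_iff]
      rintro _ ⟨k, hk, rfl⟩
      have h1 : (k : G) * v * (k : G)⁻¹ = v := congrArg Subtype.val (hv k hk)
      calc (k : G) * v = ((k : G) * v * (k : G)⁻¹) * k := by group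
        _ = v * k := by rw [h1]
    rw [hCK, Subgroup.mem_bot] at h2
    exact Subtype.ext h2
  · intro v hv
    have h2 : (v : G) ∈ V ⊓ Subgroup.centralizer ((H.map F.subtype : Subgroup G) : Set G) := by
      refine Subgroup.mem_inf.mpr ⟨v.2, ?_⟩
      rw [Subgroup.mem_centralizer_iff]
      rintro _ ⟨k, hk, rfl⟩
      have h1 : (k : G) * v * (k : G)⁻¹ = v := congrArg Subtype.val (hv k hk)
      calc (k : G) * v = ((k : G) * v * (k : G)⁻¹) * k := by group
        _ = v * k := by rw [h1]
    rw [hcon, Subgroup.mem_bot] at h2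
    exact Subtype.ext h2

end Cfsg.Agent.S0666
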