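import Cfsg.Statements.S0033
import Mathlib
import Cfsg.Agent.Lib.Helper15.Thompson4

set_option autoImplicit false
open Cfsg

namespace Cfsg.Agent.S0033

open Cfsg.Agent.Lib.Helper15

/-- Thompson's Theorem on fixed-point-free automorphisms: a finite group with an automorphism of prime order fixing only the identity is nilpotent. -/
theorem result {G : Type*} [Group G] [Finite G] (φ : G ≃* G)
    (hφ : MonoidHom.FixedPointFree (φ : G →* G)) (p : ℕ) (hp : p.Prime) (hord : orderOf φ = p) :
    Group.IsNilpotent G := by
  have hfin : Finite (MulAut G) := by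
    apply Finite.of_injective (fun f : MulAut G => (f : G → G))
    intro f g h
    exact MulEquiv.ext (congrFun h)
  have hX : Finite (SemidirectProduct G (MulAut G) (MonoidHom.id _)) :=
    Finite.of_equiv _ SemidirectProduct.equivProd.symm
  have key := thompson_fpf p hp
    ((SemidirectProduct.inl : G →* SemidirectProduct G (MulAut G) (MonoidHom.id _)).range)
    (SemidirectProduct.inr φ) ?_ ?_ ?_
  · exact Group.nilpotent_of_mulEquiv
      (MonoidHom.ofInjective (SemidirectProduct.inl_injective (φ := MonoidHom.id (MulAut G)))).symm
  · rw [← map_pow, ← hord, pow_orderOf_eq_one, map_one]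
  · rw [SemidirectProduct.range_inl_eq_ker_rightHom, Subgroup.normalizer_eq_top]; trivial
  · rw [eq_bot_iff]
    intro x hx
    obtain ⟨hx1, hx2⟩ := Subgroup.mem_inf.mp hx
    obtain ⟨g, rfl⟩ := hx1
    rw [Subgroup.mem_centralizer_singleton_iff] at hx2
    have h1 : (SemidirectProduct.inl (φ g) : SemidirectProduct G (MulAut G) (MonoidHom.id _))
        = SemidirectProduct.inl g := by
      have h2 := SemidirectProduct.inl_aut (φ := MonoidHom.id (MulAut G)) φ g
      rw [MonoidHom.id_apply] at h2
      rw [h2, ← hx2, map_inv]; group
    have h3 : φ g = g := SemidirectProduct.inl_injective h1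
    rw [Subgroup.mem_bot, hφ g h3, map_one]

end Cfsg.Agent.S0033
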