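import Cfsg.Statements.S0069
import Mathlib
import Cfsg.Agent.Lib.Helper15.FrobCenter
import Cfsg.Agent.S0068

set_option autoImplicit false
open Cfsg

namespace Cfsg.Agent.S0069

open Cfsg.Agent.Lib.Helper15
open Pointwise

/-- A Frobenius complement has nontrivial centre: if H ≠ 1 complements a nontrivial normal subgroup K and every nonidentity element of H has trivial centraliser in K, then the centre of H is nontrivial. -/
theorem result {G : Type*} [Group G] [Finite G] (K H : Subgroup G) [K.Normal]
    (hc : Subgroup.IsComplement' K H) (hK : K ≠ ⊥) (hH : H ≠ ⊥) (hfpf : ∀ h ∈ H, h ≠ 1 → K ⊓ Subgroup.centralizer {h} = ⊥) :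
    Subgroup.center H ≠ ⊥ := by
  have hHK : H ≤ Subgroup.normalizer (K : Set G) := by
    rw [Subgroup.normalizer_eq_top]; exact le_top
  have hcard : Nat.card H ≠ 1 := fun h => hH (Subgroup.card_eq_one.mp h)
  obtain ⟨p, hpdef⟩ : ∃ p, (Nat.card H).minFac = p := ⟨_, rfl⟩
  have hp : p.Prime := hpdef ▸ Nat.minFac_prime hcard
  have := Fact.mk hp
  have hpd : p ∣ Nat.card H := hpdef ▸ Nat.minFac_dvd _
  by_cases hp2 : p = 2
  · subst hp2
    obtain ⟨⟨s, hs, hso, huniq, -⟩, -⟩ := Cfsg.Agent.S0068.result K H hc hK hfpf hpd
    intro e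
    have hmem : (⟨s, hs⟩ : H) ∈ Subgroup.center H := by
      rw [Subgroup.mem_center_iff]
      intro h
      have ho : orderOf ((h : G) * s * (h : G)⁻¹) = 2 := by
        have := orderOf_injective (MulAut.conj (h : G)).toMonoidHom (MulAut.conj (h : G)).injective s
        rw [← hso, ← this]; rfl
      have h1 : (h : G) * s * (h : G)⁻¹ = s :=
        huniq _ (H.mul_mem (H.mul_mem h.2 hs) (H.inv_mem h.2)) ho
      apply Subtype.ext
      show (h : G) * s = s * h
      calc (h : G) * s = ((h : G) * s * (h : G)⁻¹) * h := by group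
        _ = s * h := by rw [h1]
    rw [e, Subgroup.mem_bot] at hmem
    have : s = 1 := congrArg Subtype.val hmem
    rw [this, orderOf_one] at hso
    omega
  · obtain ⟨P⟩ : Nonempty (Sylow p H) := inferInstance
    have hPc' : IsCyclic ((P : Subgroup H).map H.subtype) :=
      isCyclic_of_fpf_pGroup H K _ hK hHK hfpf p hp2 (Subgroup.map_subtype_le _) (P.2.map _)
    have hPc : IsCyclic P :=
      ((P : Subgroup H).equivMapOfInjective H.subtype H.subtype_injective).isCyclic.mpr hPc'
    have hcompl := IsCyclic.isComplement' hpdef hPc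
    have hNp := MonoidHom.not_dvd_card_ker_transferSylow P (hPc.normalizer_le_centralizer hpdef)
    obtain ⟨N, hNdef⟩ : ∃ N : Subgroup H,
      N = (MonoidHom.transferSylow P (hPc.normalizer_le_centralizer hpdef)).ker := ⟨_, rfl⟩
    rw [← hNdef] at hcompl hNp
    have hNn : N.Normal := by rw [hNdef]; infer_instance
    obtain ⟨x, hx⟩ := exists_prime_orderOf_dvd_card' (G := P) p (P.dvd_card_of_dvd_card hpd)
    have hxo : orderOf ((x : H) : G) = p := by
      rw [Subgroup.orderOf_coe, Subgroup.orderOf_coe]; exact hx
    have hxH : ((x : H) : G) ∈ H := (x : H).2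
    have hBH : Subgroup.zpowers ((x : H) : G) ≤ H := Subgroup.zpowers_le.mpr hxH
    have hBN : Subgroup.zpowers ((x : H) : G) ≤ Subgroup.normalizer ((N.map H.subtype : Subgroup G) : Set G) := by
      apply le_normalizer_of_forall_conj_mem
      rintro b hb _ ⟨n, hn, rfl⟩
      exact ⟨⟨b, hBH hb⟩ * n * ⟨b, hBH hb⟩⁻¹, hNn.conj_mem n hn _, rfl⟩
    have hcardB : Nat.card (Subgroup.zpowers ((x : H) : G)) = p := by rw [Nat.card_zpowers, hxo]
    have hcardN : Nat.card (N.map H.subtype) = Nat.card N :=
      Subgroup.card_map_of_injective H.subtype_injective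
    have hcop : (Nat.card (Subgroup.zpowers ((x : H) : G))).Coprime (Nat.card (N.map H.subtype)) := by
      rw [hcardB, hcardN]
      exact (Nat.Prime.coprime_iff_not_dvd hp).mpr hNp
    have hBsolv : Group.IsSolvable (Subgroup.zpowers ((x : H) : G)) := by
      apply Group.isSolvable_of_comm
      intro u v
      exact (IsCyclic.isMulCommutative (α := Subgroup.zpowers ((x : H) : G))).is_comm.comm u v
    have hex : ∀ q : Nat.Primes, ∃ Q : Sylow (q : ℕ) (N.map H.subtype),
        Subgroup.zpowers ((x : H) : G) ≤ Subgroup.normalizer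
          (((Q : Subgroup (N.map H.subtype)).map (N.map H.subtype).subtype : Subgroup G) : Set G) := by
      intro q
      have := Fact.mk q.2
      exact Cfsg.Agent.S0023.result _ _ hBN hcop (Or.inl hBsolv) q
    choose Q hQ using hex
    have htop := Cfsg.Agent.Lib.Helper1.iSup_sylow_eq_top (N.map H.subtype) Q
    have h2 : ¬ 2 ∣ Nat.card H := by
      intro h
      rw [← Nat.minFac_eq_two_iff, hpdef] at h
      exact hp2 h
    have hQcent : ∀ q : Nat.Primes, Subgroup.zpowers ((x : H) : G) ≤ Subgroup.centralizer
        (((Q q : Subgroup (N.map H.subtype)).map (N.map H.subtype).subtype : Subgroup G) : Set G) := by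
      intro q
      have := Fact.mk q.2
      by_cases hbot : (Q q : Subgroup (N.map H.subtype)) = ⊥
      · rw [hbot, Subgroup.map_bot]
        intro b _
        rw [Subgroup.mem_centralizer_iff]
        intro y hy
        have : y = 1 := hy
        rw [this]; simp
      · have hqd : (q : ℕ) ∣ Nat.card (N.map H.subtype) := by
          by_contra hnd
          apply hbot
          have h1 := (Q q).card_eq_multiplicity
          rw [Nat.factorization_eq_zero_of_not_dvd hnd, pow_zero] at h1
          exact Subgroup.card_eq_one.mp h1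
        have hqH : (q : ℕ) ∣ Nat.card H := by
          rw [hcardN] at hqd
          exact hqd.trans (Subgroup.card_subgroup_dvd_card N)
        apply centralizes_of_fpf_prime H K _ hK hHK hfpf p q _ _ _ ((Q q).2.map _) _ hxH hxo (hQ q)
        · intro e; rw [e] at hqH; exact h2 hqH
        · intro e; rw [← e, hcardN] at hqd; exact hNp hqd
        · exact (Subgroup.map_subtype_le _).trans (Subgroup.map_subtype_le _)
    have hNcent : ∀ n ∈ N, n * (x : H) = (x : H) * n := by
      intro n hn
      have hle : (⊤ : Subgroup (N.map H.subtype)) ≤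
          (Subgroup.centralizer ({((x : H) : G)} : Set G)).subgroupOf (N.map H.subtype) := by
        rw [← htop]
        apply iSup_le
        intro q y hy
        rw [Subgroup.mem_subgroupOf, Subgroup.mem_centralizer_singleton_iff]
        have h1 := hQcent q (Subgroup.mem_zpowers _)
        rw [Subgroup.mem_centralizer_iff] at h1
        exact h1 (y : G) ⟨y, hy, rfl⟩
      have h3 := hle (Subgroup.mem_top (⟨(n : G), ⟨n, hn, rfl⟩⟩ : N.map H.subtype))
      rw [Subgroup.mem_subgroupOf, Subgroup.mem_centralizer_singleton_iff] at h3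
      exact Subtype.ext h3
    have hPcomm : IsMulCommutative P := IsCyclic.isMulCommutative
    intro e
    have hmem : (x : H) ∈ Subgroup.center H := by
      rw [Subgroup.mem_center_iff]
      intro h
      have h1 : h ∈ (N : Set H) * ((P : Subgroup H) : Set H) := by
        rw [hcompl.mul_eq]; trivial
      obtain ⟨n, hn, y, hy, rfl⟩ := h1
      have h4 : y * (x : H) = (x : H) * y := congrArg Subtype.val (hPcomm.is_comm.comm ⟨y, hy⟩ x)
      calc n * y * (x : H) = n * (y * (x : H)) := by group
        _ = n * ((x : H) * y) := by rw [h4]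
        _ = (n * (x : H)) * y := by group
        _ = ((x : H) * n) * y := by rw [hNcent n hn]
        _ = (x : H) * (n * y) := by group
    rw [e, Subgroup.mem_bot] at hmem
    have : ((x : H) : G) = 1 := by rw [hmem]; rfl
    rw [this, orderOf_one] at hxo
    exact hp.one_lt.ne hxo

end Cfsg.Agent.S0069
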