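import Cfsg.Statements.S0944
import Cfsg.Agent.Lib.Helper7.BlockDefect

set_option autoImplicit false
open Cfsg

namespace Cfsg.Agent.S0944



/-- Let χ be an irreducible character of the finite group G and u an involution. Then χ u is a rational integer n with n ≡ χ 1 (mod 2). -/
theorem result {G : Type*} [Group G] [Finite G] (χ : Cfsg.IrrCharacter G) (u : G) (hu : orderOf u = 2) : ∃ n : ℤ, (χ : G → ℂ) u = (n : ℂ) ∧ (2 : ℤ) ∣ (Cfsg.charDegree (χ : G → ℂ) : ℤ) - n := by
  obtain ⟨l, hl1, hl2⟩ := Cfsg.Agent.Lib.Helper7.exists_eigenvalues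
    (Cfsg.Agent.Lib.Helper7.isCharacter_of_irr χ.2) u
  have h1 := hl2 1
  have h0 := hl2 0
  simp only [zpow_one, List.map_id', zpow_zero] at h1 h0
  have hd := Cfsg.Agent.Lib.Helper7.charDegree_cast (Cfsg.Agent.Lib.Helper7.isCharacter_of_irr χ.2)
  rw [hu] at hl1
  have key : ∀ l : List ℂ, (∀ z ∈ l, z ^ 2 = 1) →
      ∃ n : ℤ, l.sum = (n : ℂ) ∧ (2 : ℤ) ∣ (l.length : ℤ) - n := by
    intro l
    induction l with
    | nil => intro _; exact ⟨0, by simp, by simp⟩
    | cons a l ih =>
      intro h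
      obtain ⟨n, hn1, hn2⟩ := ih (fun z hz => h z (List.mem_cons_of_mem _ hz))
      have ha : a ^ 2 = 1 := h a List.mem_cons_self
      rcases (sq_eq_one_iff.1 ha) with rfl | rfl
      · refine ⟨1 + n, by rw [List.sum_cons, hn1]; push_cast; ring, ?_⟩
        rw [List.length_cons]
        push_cast
        have : ((l.length : ℤ) + 1 - (1 + n)) = (l.length : ℤ) - n := by ring
        rw [this]; exact hn2
      · refine ⟨-1 + n, by rw [List.sum_cons, hn1]; push_cast; ring, ?_⟩
        rw [List.length_cons]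
        push_cast
        have : ((l.length : ℤ) + 1 - (-1 + n)) = ((l.length : ℤ) - n) + 2 := by ring
        rw [this]; exact dvd_add hn2 (dvd_refl 2)
  obtain ⟨n, hn1, hn2⟩ := key l hl1
  refine ⟨n, by rw [h1, hn1], ?_⟩
  have h3 : (Cfsg.charDegree (χ : G → ℂ) : ℂ) = (l.length : ℂ) := by
    rw [hd, h0]
    simp
  have h4 : Cfsg.charDegree (χ : G → ℂ) = l.length := by exact_mod_cast h3
  rw [h4]
  exact hn2

end Cfsg.Agent.S0944
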