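import Cfsg.Statements.S4720
import Cfsg.Agent.Lib.Helper2.BApp

set_option autoImplicit false
open Cfsg

namespace Cfsg.Agent.S4720

open Cfsg.Agent.Lib.Helper2

/-- Let p be a prime, M a maximal ideal of the algebraic integers containing p, P a p-subgroup of the finite group G, N a subgroup with P ≤ N ≤ N_G(P), and U a nonempty subset of P normalized by N such that an element of U and an element of P that are conjugate in G are already conjugate in N, and such that λ(C_G(y)) = w·#C_N(y) for every y ∈ U with one rational number w, where λ(X) denotes the sum of the squares of the degrees of the irreducible characters in the principal p-block of X. For a complex function θ on P and χ in the principal block of G put a_χ(θ) = #P⁻¹ Σ_{y ∈ P} χ(y) θ(y⁻¹). Then for generalized characters θ, η of P with θ vanishing outside U, Σ_χ a_χ(θ)·conj(a_χ(η)) = (w/#P²)·Σ_{y ∈ P} θ(y)·conj(Σ_{x ∈ N} η(x y x⁻¹)) (η extended by zero off P; the conjugates lie in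 P), the first sum over the principal p-block of G. -/
theorem result {G : Type*} [Group G] [Finite G] (p : ℕ) [Fact p.Prime] (M : Ideal Cfsg.AlgInt) (hM : Cfsg.IsPModular p M) (P : Subgroup G) (hP : IsPGroup p P) (N : Subgroup G) (hPN : P ≤ N) (hNN : N ≤ Subgroup.normalizer (P : Set G)) (U : Set G) (hUne : U.Nonempty) (hUP : U ⊆ (P : Set G)) (hUN : ∀ n ∈ N, ∀ u ∈ U, n * u * n⁻¹ ∈ U) (hfus : ∀ u ∈ U, ∀ g : G, g * u * g⁻¹ ∈ (P : Set G) → ∃ n ∈ N, n * u * n⁻¹ = g * u * g⁻¹) (w : ℚ) (hw : ∀ y ∈ U, ((∑ᶠ ψ ∈ Cfsg.principalBlock M ↥(Subgroup.centralizer ({y} : Set G)), Cfsg.charDegree (ψ : ↥(Subgroup.centralizer ({y} : Set G)) → ℂ) ^ 2) : ℚ) = w * Nat.card ↥(N ⊓ Subgroup.centralizer ({y} : Set G))) (θ η : ↥P → ℂ) (hθ : Cfsg.IsGeneralizedCharacter ↥P θ) (hη : Cfsg.IsGeneralizedCharacter ↥P η) (hθU : ∀ y : ↥P, (y : G) ∉ U → θ y = 0) : ∑ᶠ χ ∈ Cfsg.principalBlock M G, ((Nat.card ↥P : ℂ)⁻¹ * ∑ᶠ y : ↥P, (χ : G → ℂ) (y : G) * θ y⁻¹) * (starRingEnd ℂ) ((Nat.card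 ↥P : ℂ)⁻¹ * ∑ᶠ y : ↥P, (χ : G → ℂ) (y : G) * η y⁻¹) = ((w : ℂ) / ((Nat.card ↥P : ℂ) ^ 2)) * ∑ᶠ y : ↥P, θ y * (starRingEnd ℂ) (∑ᶠ x : ↥N, Cfsg.extendByZero P η ((x : G) * (y : G) * (x : G)⁻¹)) := by
  classical
  haveI := Fintype.ofFinite G
  haveI : Fintype P := Fintype.ofFinite _
  haveI : Fintype N := Fintype.ofFinite _
  rw [finsum_pb]
  simp only [finsum_eq_sum_of_fintype]
  obtain ⟨c, hc⟩ : ∃ c : ℂ, c = (Nat.card P : ℂ)⁻¹ := ⟨_, rfl⟩
  rw [← hc]
  have hcc : (starRingEnd ℂ) c = c := by rw [hc, map_inv₀, Complex.conj_natCast]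
  obtain ⟨K, hK⟩ : ∃ K : G → G → ℂ, K = fun a b =>
    ∑ χ ∈ pbF M G, (χ : G → ℂ) a * (starRingEnd ℂ) ((χ : G → ℂ) b) := ⟨_, rfl⟩
  have hpel : ∀ z ∈ P, ∃ k : ℕ, orderOf z = p ^ k := by
    intro z hz
    obtain ⟨k, hk⟩ := (IsPGroup.iff_orderOf.1 hP) ⟨z, hz⟩
    exact ⟨k, by rw [← hk, Subgroup.orderOf_mk]⟩
  have h1 : ∀ (χ : IrrCharacter G) (f : ↥P → ℂ), ∑ y : P, (χ : G → ℂ) y * f y⁻¹
      = ∑ u : P, (starRingEnd ℂ) ((χ : G → ℂ) u) * f u := by
    intro χ f
    rw [← Equiv.sum_comp (Equiv.inv P)]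
    refine Finset.sum_congr rfl fun u _ => ?_
    simp only [Equiv.inv_apply, inv_inv, Subgroup.coe_inv]
    rw [Cfsg.Agent.Lib.Helper7.char_inv_eq_conj (Cfsg.Agent.Lib.Helper7.isCharacter_of_irr χ.2)]
  have hA : ∑ χ ∈ pbF M G, (c * ∑ y : P, (χ : G → ℂ) y * θ y⁻¹)
        * (starRingEnd ℂ) (c * ∑ y : P, (χ : G → ℂ) y * η y⁻¹)
      = c * c * ∑ u : P, θ u * ∑ u' : P, (starRingEnd ℂ) (η u') * K u' u := by
    calc ∑ χ ∈ pbF M G, (c * ∑ y : P, (χ : G → ℂ) y * θ y⁻¹)
        * (starRingEnd ℂ) (c * ∑ y : P, (χ : G → ℂ) y * η y⁻¹)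
        = ∑ χ ∈ pbF M G, c * c * ∑ u : P, ∑ u' : P,
          ((starRingEnd ℂ) ((χ : G → ℂ) u) * θ u)
            * ((χ : G → ℂ) u' * (starRingEnd ℂ) (η u')) := by
          refine Finset.sum_congr rfl fun χ _ => ?_
          rw [h1, h1, map_mul, hcc, map_sum]
          simp only [map_mul, Complex.conj_conj]
          rw [mul_mul_mul_comm, Finset.sum_mul_sum]
      _ = c * c * ∑ u : P, ∑ u' : P, ∑ χ ∈ pbF M G,
          ((starRingEnd ℂ) ((χ : G → ℂ) u) * θ u)
            * ((χ : G → ℂ) u' * (starRingEnd ℂ) (η u')) := by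
          rw [← Finset.mul_sum, Finset.sum_comm]
          congr 1
          refine Finset.sum_congr rfl fun u _ => ?_
          rw [Finset.sum_comm]
      _ = _ := by
          congr 1
          refine Finset.sum_congr rfl fun u _ => ?_
          rw [Finset.mul_sum]
          refine Finset.sum_congr rfl fun u' _ => ?_
          rw [hK]
          try simp only
          rw [Finset.mul_sum, Finset.mul_sum]
          refine Finset.sum_congr rfl fun χ _ => ?_
          ring
  rw [hA]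
  have hB : ∀ u : P, θ u * ∑ u' : P, (starRingEnd ℂ) (η u') * K u' u
      = (w : ℂ) * (θ u * (starRingEnd ℂ)
        (∑ x : N, Cfsg.extendByZero P η ((x : G) * (u : G) * (x : G)⁻¹))) := by
    intro u
    by_cases hu : (u : G) ∈ U
    swap
    · rw [hθU u hu]; simp
    obtain ⟨n, hn⟩ : ∃ n : ℂ, n = (Nat.card ↥(N ⊓ Subgroup.centralizer ({(u : G)} : Set G)) : ℂ) :=
      ⟨_, rfl⟩
    have hκ : K u u = (w : ℂ) * n := by
      rw [hK]
      try simp only
      rw [pb_self hM (hpel u u.2)]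
      have h2 := hw u hu
      rw [finsum_pb] at h2
      have h3 := congrArg (fun q : ℚ => (q : ℂ)) h2

      push_cast at h3
      rw [hn, ← h3]
    obtain ⟨I, hI⟩ : ∃ I : Finset G, I = Finset.univ.image
      (fun x : N => (x : G) * (u : G) * (x : G)⁻¹) := ⟨_, rfl⟩
    have hIP : ∀ z ∈ I, z ∈ P := by
      intro z hz
      rw [hI] at hz
      obtain ⟨x, -, rfl⟩ := Finset.mem_image.1 hz
      exact hUP (hUN x x.2 u hu)
    have hKz : ∀ z ∈ P, K z u = if z ∈ I then (w : ℂ) * n else 0 := by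
      intro z hz
      by_cases hzI : z ∈ I
      · rw [if_pos hzI, ← hκ]
        rw [hI] at hzI
        obtain ⟨x, -, rfl⟩ := Finset.mem_image.1 hzI
        rw [hK]
        try simp only
        refine Finset.sum_congr rfl fun χ _ => ?_
        rw [pb_conj_left]
      · rw [if_neg hzI, hK]
        try simp only
        obtain ⟨k1, hk1⟩ := hpel z hz
        obtain ⟨k2, hk2⟩ := hpel u u.2
        apply pb_orth hM (Cfsg.Agent.Lib.Helper24.isPPart_self (Fact.out : p.Prime) hk1)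
          (Cfsg.Agent.Lib.Helper24.isPPart_self (Fact.out : p.Prime) hk2)
        intro hconj
        obtain ⟨g, hg⟩ := isConj_iff.1 hconj.symm
        obtain ⟨x, hx, hxg⟩ := hfus u hu g (by rw [hg]; exact hz)
        apply hzI
        rw [hI]
        exact Finset.mem_image.2 ⟨⟨x, hx⟩, Finset.mem_univ _, by rw [← hg, ← hxg]⟩
    have hS : ∑ u' : P, (starRingEnd ℂ) (η u') * K u' u
        = (w : ℂ) * n * ∑ z ∈ I, (starRingEnd ℂ) (Cfsg.extendByZero P η z) := by
      rw [← sum_extendByZero_mul P (fun u' => (starRingEnd ℂ) (η u')) (fun z => K z u),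
        Finset.mul_sum, ← Finset.sum_filter_add_sum_filter_not Finset.univ (· ∈ I)]
      have e1 : ∑ z ∈ Finset.univ.filter (fun z => ¬ z ∈ I),
          Cfsg.extendByZero P (fun u' => (starRingEnd ℂ) (η u')) z * K z u = 0 := by
        apply Finset.sum_eq_zero
        intro z hz
        have hzI := (Finset.mem_filter.1 hz).2
        by_cases hzP : z ∈ P
        · rw [hKz z hzP, if_neg hzI, mul_zero]
        · rw [extendByZero_of_not_mem P _ hzP, zero_mul]
      rw [e1, add_zero, Finset.filter_mem_eq_inter, Finset.univ_inter]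
      refine Finset.sum_congr rfl fun z hz => ?_
      rw [hKz z (hIP z hz), if_pos hz, extendByZero_of_mem P _ (hIP z hz),
        extendByZero_of_mem P _ (hIP z hz), mul_comm]
    rw [hS, sum_subgroup_conj N (u : G) (Cfsg.extendByZero P η), ← hI, ← hn, map_mul, map_sum]
    have hnc : (starRingEnd ℂ) n = n := by rw [hn, Complex.conj_natCast]
    rw [hnc]
    ring
  rw [Finset.sum_congr rfl (fun u _ => hB u), ← Finset.mul_sum, hc]
  field_simp

end Cfsg.Agent.S4720
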