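import Cfsg.Statements.S0198
import Cfsg.Agent.Lib.Helper11.GenChar

set_option autoImplicit false
open Cfsg

namespace Cfsg.Agent.S0198

open Cfsg.Agent.Lib.Helper7 Cfsg.Agent.Lib.Helper11

theorem build {G : Type*} [Group G] (n : ℕ) (i₀ : Fin n) (σ : Fin n → (G → ℂ)) (h0 : σ i₀ = 0)
    (a b : Fin n → (G → ℂ)) (ha : ∀ i, i ≠ i₀ → IsIrrCharacter G (a i))
    (hb : ∀ i, i ≠ i₀ → IsIrrCharacter G (b i)) (hab : ∀ i, i ≠ i₀ → a i ≠ b i)
    (hσ : ∀ i, i ≠ i₀ → σ i = a i - b i) (hball : ∀ i j, i ≠ i₀ → j ≠ i₀ → b i = b j)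
    (hainj : ∀ i j, i ≠ i₀ → j ≠ i₀ → i ≠ j → a i ≠ a j) :
    ∃ μ : Fin n → (G → ℂ), (∀ i, IsIrrCharacter G (μ i)) ∧ Function.Injective μ ∧
      ∀ i, σ i = μ i - μ i₀ := by
  classical
  by_cases hI : ∃ i1, i1 ≠ i₀
  · obtain ⟨i1, hi1⟩ := hI
    refine ⟨fun i => if i = i₀ then b i1 else a i, ?_, ?_, ?_⟩
    · intro i
      by_cases h : i = i₀
      · simp only [h, if_true]; exact hb i1 hi1
      · simp only [h, if_false]; exact ha i h
    · intro i j hij
      by_cases h : i = i₀ <;> by_cases h' : j = i₀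
      · rw [h, h']
      · simp only [h, h', if_true, if_false] at hij
        exact absurd (hij.symm.trans (hball i1 j hi1 h')) (hab j h')
      · simp only [h, h', if_true, if_false] at hij
        exact absurd (hij.trans (hball i1 i hi1 h)) (hab i h)
      · simp only [h, h', if_false] at hij
        by_contra hne
        exact hainj i j h h' hne hij
    · intro i
      by_cases h : i = i₀
      · simp [h, h0]
      · simp only [h, if_false, if_true]
        rw [hσ i h, hball i i1 h hi1]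
  · push_neg at hI
    refine ⟨fun _ => fun _ => 1, fun _ => isIrrCharacter_one, ?_, ?_⟩
    · intro i j _
      rw [hI i, hI j]
    · intro i
      rw [hI i, h0]; simp

/-- The isometry lemma behind exceptional characters. Let τ be a family of generalized characters of a finite group G indexed by Fin n, with τ i₀ = 0, every τ i vanishing at the identity, and inner products ⟨τ i, τ j⟩ = 2 if i = j and 1 otherwise for i, j ≠ i₀. Then there are a sign ε and pairwise distinct irreducible characters μ i with τ i = ε (μ i − μ i₀) for all i. -/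
theorem result {G : Type*} [Group G] [Fintype G] (n : ℕ) (i₀ : Fin n) (τ : Fin n → (G → ℂ)) (h0 : τ i₀ = 0) (hgen : ∀ i, Cfsg.IsGeneralizedCharacter G (τ i)) (hone : ∀ i, τ i 1 = 0) (hgram : ∀ i j, i ≠ i₀ → j ≠ i₀ → Cfsg.classInner (τ i) (τ j) = if i = j then 2 else 1) : ∃ ε : ℂ, (ε = 1 ∨ ε = -1) ∧ ∃ μ : Fin n → (G → ℂ), (∀ i, Cfsg.IsIrrCharacter G (μ i)) ∧ Function.Injective μ ∧ ∀ i, τ i = ε • (μ i - μ i₀) := by
  classical
  have hdec : ∀ i, ∃ χ ψ : G → ℂ, i ≠ i₀ → (IsIrrCharacter G χ ∧ IsIrrCharacter G ψ ∧ χ ≠ ψ ∧ τ i = χ - ψ) := by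
    intro i
    by_cases h : i = i₀
    · exact ⟨0, 0, fun h' => absurd h h'⟩
    · obtain ⟨χ, ψ, h1, h2, h3, h4⟩ := genChar_norm_two_vanish (hgen i)
        (by rw [hgram i i h h, if_pos rfl]) (hone i)
      exact ⟨χ, ψ, fun _ => ⟨h1, h2, h3, h4⟩⟩
  choose χ ψ hχψ using hdec
  have hχ : ∀ i, i ≠ i₀ → IsIrrCharacter G (χ i) := fun i h => (hχψ i h).1
  have hψ : ∀ i, i ≠ i₀ → IsIrrCharacter G (ψ i) := fun i h => (hχψ i h).2.1
  have hne : ∀ i, i ≠ i₀ → χ i ≠ ψ i := fun i h => (hχψ i h).2.2.1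
  have hτ : ∀ i, i ≠ i₀ → τ i = χ i - ψ i := fun i h => (hχψ i h).2.2.2
  -- Claim A
  have hA : ∀ i j, i ≠ i₀ → j ≠ i₀ → i ≠ j →
      (χ i = χ j ∧ ψ i ≠ ψ j) ∨ (χ i ≠ χ j ∧ ψ i = ψ j) := by
    intro i j hi hj hij
    have h := hgram i j hi hj
    rw [if_neg hij, hτ i hi, hτ j hj, classInner_sub_left, classInner_sub_right, classInner_sub_right,
      classInner_irr (hχ i hi) (hχ j hj), classInner_irr (hχ i hi) (hψ j hj),
      classInner_irr (hψ i hi) (hχ j hj), classInner_irr (hψ i hi) (hψ j hj)] at h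
    by_cases a : χ i = χ j <;> by_cases b : ψ i = ψ j <;> by_cases c : χ i = ψ j <;>
      by_cases d : ψ i = χ j
    all_goals first
      | exact Or.inl ⟨a, b⟩
      | exact Or.inr ⟨a, b⟩
      | (exfalso; exact hne i hi (c.trans b.symm))
      | (exfalso; exact hne i hi (a.trans d.symm))
      | (exfalso; exact hne j hj (a.symm.trans c))
      | (exfalso; exact hne j hj (d.symm.trans b))
      | (exfalso
         first | rw [if_pos a] at h | rw [if_neg a] at h
         first | rw [if_pos b] at h | rw [if_neg b] at h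
         first | rw [if_pos c] at h | rw [if_neg c] at h
         first | rw [if_pos d] at h | rw [if_neg d] at h
         norm_num at h
         done)
  -- Lemma C
  have hC : ∀ i j k, i ≠ i₀ → j ≠ i₀ → k ≠ i₀ → i ≠ j → i ≠ k → j ≠ k → χ i = χ j → ψ i = ψ k → False := by
    intro i j k hi hj hk hij hik hjk h1 h2
    rcases hA j k hj hk hjk with ⟨h3, _⟩ | ⟨_, h3⟩
    · rcases hA i k hi hk hik with ⟨_, h4⟩ | ⟨h4, _⟩
      · exact h4 h2
      · exact h4 (h1.trans h3)
    · rcases hA i j hi hj hij with ⟨_, h4⟩ | ⟨h4, _⟩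
      · exact h4 (h2.trans h3.symm)
      · exact h4 h1
  -- Claim B
  have hB : (∀ i j, i ≠ i₀ → j ≠ i₀ → χ i = χ j) ∨ (∀ i j, i ≠ i₀ → j ≠ i₀ → ψ i = ψ j) := by
    by_contra hcon
    push_neg at hcon
    obtain ⟨⟨i, j, hi, hj, hij⟩, ⟨k, l, hk, hl, hkl⟩⟩ := hcon
    have hij' : i ≠ j := fun e => hij (by rw [e])
    have hkl' : k ≠ l := fun e => hkl (by rw [e])
    have e1 : ψ i = ψ j := by
      rcases hA i j hi hj hij' with ⟨h, _⟩ | ⟨_, h⟩
      · exact absurd h hij
      · exact h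
    have e2 : χ k = χ l := by
      rcases hA k l hk hl hkl' with ⟨h, _⟩ | ⟨_, h⟩
      · exact h
      · exact absurd h hkl
    by_cases hik : i = k
    · subst hik
      by_cases hjl : j = l
      · subst hjl; exact hij e2
      · exact hC i l j hi hl hj hkl' hij' (Ne.symm hjl) e2 e1
    · rcases hA i k hi hk hik with ⟨h, _⟩ | ⟨_, h⟩
      · by_cases hkj : k = j
        · subst hkj; exact hij h
        · exact hC i k j hi hk hj hik hij' hkj h e1
      · by_cases hli : l = i
        · subst hli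
          rcases hA k l hk hl hkl' with ⟨_, h'⟩ | ⟨h', _⟩
          · exact h' h.symm
          · exact h' e2
        · exact hC k l i hk hl hi hkl' (Ne.symm hik) hli e2 h.symm
  rcases hB with hB | hB
  · -- all χ equal: ε = -1
    obtain ⟨μ, h1, h2, h3⟩ := build n i₀ (fun i => -τ i) (by simp [h0]) ψ χ hψ hχ
      (fun i h => (hne i h).symm) (fun i h => by simp [hτ i h]) hB (by
        intro i j hi hj hij
        rcases hA i j hi hj hij with ⟨_, h⟩ | ⟨h, _⟩
        · exact h
        · exact absurd (hB i j hi hj) h)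
    refine ⟨-1, Or.inr rfl, μ, h1, h2, fun i => ?_⟩
    have := h3 i
    rw [← this]; simp
  · obtain ⟨μ, h1, h2, h3⟩ := build n i₀ τ h0 χ ψ hχ hψ hne hτ hB (by
        intro i j hi hj hij
        rcases hA i j hi hj hij with ⟨_, h⟩ | ⟨h, _⟩
        · exact absurd (hB i j hi hj) h
        · exact h)
    exact ⟨1, Or.inl rfl, μ, h1, h2, fun i => by rw [one_smul]; exact h3 i⟩

end Cfsg.Agent.S0198
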