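import Cfsg.Statements.S2325
import Cfsg.Agent.Lib.Helper14.SL2Odd

set_option autoImplicit false
open Cfsg

namespace Cfsg.Agent.S2325

open Matrix Cfsg.Agent.Lib.Helper14.GL2 Cfsg.Agent.Lib.Helper14.SL2

variable {F : Type*} [Field F]

def sgn (b : Bool) : F := if b then 1 else -1

theorem sgn_sq (b : Bool) : (sgn b : F) ^ 2 = 1 := by
  cases b <;> simp [sgn]

theorem sgn_ne_zero (b : Bool) : (sgn b : F) ≠ 0 := by
  cases b <;> simp [sgn]

theorem sgn_inj (h2 : (2 : F) ≠ 0) {b b' : Bool} (h : (sgn b : F) = sgn b') : b = b' := by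
  cases b <;> cases b' <;> simp [sgn] at h ⊢
  · exact h2 (by linear_combination (-1 : F) * h)
  · exact h2 (by linear_combination h)

def eps (ε : F) (b : Bool) : F := if b then 1 else ε

/-- representatives of the conjugacy classes -/
def rep (ε : F) : Bool ⊕ ({t : F // t ^ 2 ≠ 4} ⊕ (Bool × Bool)) → Matrix.SpecialLinearGroup (Fin 2) F
  | Sum.inl s => upp (sgn s) 0 (sgn_sq s)
  | Sum.inr (Sum.inl t) => compSL t.1
  | Sum.inr (Sum.inr se) => upp (sgn se.1) (eps ε se.2) (sgn_sq se.1)

theorem isScal_upp_zero (s : F) (hs : s ^ 2 = 1) :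
    IsScal ((upp s 0 hs : Matrix.SpecialLinearGroup (Fin 2) F) : Matrix (Fin 2) (Fin 2) F) := by
  simp [IsScal, upp]

theorem eps_ne_zero {ε : F} (hε : ¬ IsSquare ε) (b : Bool) : eps ε b ≠ 0 := by
  cases b
  · simp only [eps]
    rintro h
    apply hε
    simp at h
    rw [h]; exact IsSquare.zero
  · simp [eps]

theorem not_isScal_rep_inr {ε : F} (hε : ¬ IsSquare ε) (r : {t : F // t ^ 2 ≠ 4} ⊕ (Bool × Bool)) :
    ¬ IsScal ((rep ε (Sum.inr r) : Matrix.SpecialLinearGroup (Fin 2) F) : Matrix (Fin 2) (Fin 2) F) := by
  rcases r with t | ⟨s, e⟩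
  · exact not_isScal_compSL _
  · exact not_isScal_upp _ _ (sgn_sq s) (eps_ne_zero hε e)

theorem rep_bij [Fintype F] (hodd : Fintype.card F % 2 = 1) {ε : F} (hε : ¬ IsSquare ε) :
    Function.Bijective (fun r => ConjClasses.mk (rep ε r)) := by
  have h2 : (2 : F) ≠ 0 := two_ne_zero_of_odd hodd
  constructor
  · intro r r' hrr
    have hc : IsConj (rep ε r) (rep ε r') := ConjClasses.mk_eq_mk_iff_isConj.mp hrr
    rcases r with s | r <;> rcases r' with s' | r'
    · have h1 := eq_of_isConj_of_isScal (isScal_upp_zero (sgn s) (sgn_sq s)) hc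
      have h3 := congrArg (fun g : Matrix.SpecialLinearGroup (Fin 2) F => (g : Matrix (Fin 2) (Fin 2) F) 0 0) h1
      simp [rep, upp] at h3
      rw [sgn_inj h2 h3]
    · exfalso
      have h1 := eq_of_isConj_of_isScal (isScal_upp_zero (sgn s) (sgn_sq s)) hc
      exact not_isScal_rep_inr hε r' (h1 ▸ isScal_upp_zero (sgn s) (sgn_sq s))
    · exfalso
      have h1 := eq_of_isConj_of_isScal (isScal_upp_zero (sgn s') (sgn_sq s')) hc.symm
      exact not_isScal_rep_inr hε r (h1 ▸ isScal_upp_zero (sgn s') (sgn_sq s'))
    · have htr := trace_conj hc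
      rcases r with t | ⟨s, e⟩ <;> rcases r' with t' | ⟨s', e'⟩
      · simp only [rep, trace_compSL] at htr
        rw [Subtype.ext htr]
      · exfalso
        simp only [rep, trace_compSL, trace_upp] at htr
        apply t.2
        rw [htr]
        linear_combination 4 * sgn_sq (F := F) s'
      · exfalso
        simp only [rep, trace_compSL, trace_upp] at htr
        apply t'.2
        rw [← htr]
        linear_combination 4 * sgn_sq (F := F) s
      · simp only [rep, trace_upp] at htr
        have hs : s = s' := sgn_inj h2 (mul_left_cancel₀ h2 htr)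
        subst hs
        obtain ⟨x', y', hq⟩ := Qf_of_isConj hc 0 1
        simp only [rep, Qf_upp] at hq
        have hq' : eps ε e' * y' ^ 2 = eps ε e := by
          have h3 : sgn s * (eps ε e' * y' ^ 2) = sgn s * eps ε e := by linear_combination (-1 : F) * hq
          exact mul_left_cancel₀ (sgn_ne_zero s) h3
        have he : e = e' := by
          cases e <;> cases e' <;> simp [eps] at hq' ⊢
          · exact hε ⟨y', by rw [← hq']; ring⟩
          · have hy : y' ≠ 0 := by
              rintro rfl
              simp at hq'
            exact hε ⟨y'⁻¹, by field_simp; linear_combination hq'⟩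
        rw [he]
  · intro C
    obtain ⟨g, rfl⟩ := ConjClasses.exists_rep C
    by_cases hs : IsScal (g : Matrix (Fin 2) (Fin 2) F)
    · obtain ⟨a, ha⟩ := (isScal_iff _).mp hs
      have hdet := g.2
      rw [ha] at hdet
      simp at hdet
      rcases hdet with h | h
      · refine ⟨Sum.inl true, ?_⟩
        change ConjClasses.mk _ = ConjClasses.mk g
        congr 1
        apply Subtype.ext
        rw [ha, h]
        ext i j
        fin_cases i <;> fin_cases j <;> simp [rep, upp, sgn]
      · refine ⟨Sum.inl false, ?_⟩
        change ConjClasses.mk _ = ConjClasses.mk g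
        congr 1
        apply Subtype.ext
        rw [ha, h]
        ext i j
        fin_cases i <;> fin_cases j <;> simp [rep, upp, sgn]
    · set M := (g : Matrix (Fin 2) (Fin 2) F) with hM
      have hdet : M 0 0 * M 1 1 - M 0 1 * M 1 0 = 1 := by
        have := g.2
        rwa [det_fin_two] at this
      have htr : M.trace = M 0 0 + M 1 1 := trace_fin_two M
      by_cases ht : M.trace ^ 2 = 4
      · -- trace = ± 2
        have hfac : (M.trace - 2) * (M.trace + 2) = 0 := by linear_combination ht
        obtain ⟨s, hs2⟩ : ∃ s : Bool, M.trace = 2 * sgn s := by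
          rcases mul_eq_zero.mp hfac with h | h
          · exact ⟨true, by simp [sgn]; linear_combination h⟩
          · exact ⟨false, by simp [sgn]; linear_combination h⟩
        obtain ⟨x, y, hxy⟩ := exists_Qf_ne_zero hs
        set δ := Qf M x y with hδ
        have key : ∃ (e : Bool) (w : F), -(sgn s * eps ε e) * w ^ 2 = δ := by
          by_cases hsq : IsSquare (-(sgn s) * δ)
          · obtain ⟨w, hw⟩ := hsq
            refine ⟨true, w, ?_⟩
            simp only [eps, if_true]
            have := sgn_sq (F := F) s
            linear_combination (sgn s : F) * hw + δ * this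
          · obtain ⟨w, hw⟩ := isSquare_mul_of_not_isSquare hodd hsq hε
            have hε0 : ε ≠ 0 := eps_ne_zero hε false
            refine ⟨false, w / ε, ?_⟩
            simp only [eps, Bool.false_eq_true, if_false]
            have := sgn_sq (F := F) s
            field_simp
            linear_combination (sgn s : F) * hw + δ * ε * this
        obtain ⟨e, w, hw⟩ := key
        refine ⟨Sum.inr (Sum.inr (s, e)), ?_⟩
        change ConjClasses.mk _ = ConjClasses.mk g
        rw [ConjClasses.mk_eq_mk_iff_isConj]
        apply IsConj.symm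
        apply isConj_SL_of_trace_Qf g _ _ x y 0 w hxy
        · simp only [rep, Qf_upp]
          exact hw
        · simp only [rep, trace_upp]
          exact hs2
      · have hD : (M 1 1 - M 0 0) ^ 2 + 4 * M 0 1 * M 1 0 ≠ 0 := by
          intro h
          apply ht
          rw [htr]
          linear_combination h + 4 * hdet
        obtain ⟨x, y, hxy⟩ := exists_Qf_eq_one hodd M hD
        refine ⟨Sum.inr (Sum.inl ⟨M.trace, ht⟩), ?_⟩
        change ConjClasses.mk _ = ConjClasses.mk g
        rw [ConjClasses.mk_eq_mk_iff_isConj]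
        apply IsConj.symm
        apply isConj_SL_of_trace_Qf g _ _ x y 1 0 (by rw [← hM, hxy]; exact one_ne_zero)
        · simp only [rep, Qf_compSL]
          rw [← hM, hxy]; ring
        · simp only [rep, trace_compSL]
          rfl

theorem card_ne [Fintype F] [DecidableEq F] (hodd : Fintype.card F % 2 = 1) :
    Fintype.card {t : F // t ^ 2 ≠ 4} = Fintype.card F - 2 := by
  have h2 : (2 : F) ≠ 0 := two_ne_zero_of_odd hodd
  rw [Fintype.card_subtype_compl]
  congr 1
  rw [Fintype.card_subtype]
  have : (Finset.univ.filter fun t : F => t ^ 2 = 4) = {2, -2} := by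
    ext t
    simp only [Finset.mem_filter, Finset.mem_univ, true_and, Finset.mem_insert, Finset.mem_singleton]
    constructor
    · intro h
      have hfac : (t - 2) * (t + 2) = 0 := by linear_combination h
      rcases mul_eq_zero.mp hfac with h | h
      · left; linear_combination h
      · right; linear_combination h
    · rintro (h | h) <;> rw [h] <;> ring
  rw [this, Finset.card_pair]
  intro h
  apply h2
  have h4 : (2 : F) * 2 = 0 := by linear_combination h
  exact (mul_self_eq_zero.mp h4)

/-- Over a finite field with q elements, q odd, the special linear group SL₂ has exactly q + 4 conjugacy classes. -/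
theorem result {F : Type*} [Field F] [Fintype F] (hodd : Odd (Fintype.card F)) :
    Nat.card (ConjClasses (Matrix.SpecialLinearGroup (Fin 2) F)) = Fintype.card F + 4 := by
  classical
  have hodd' : Fintype.card F % 2 = 1 := Nat.odd_iff.mp hodd
  obtain ⟨ε, hε⟩ := FiniteField.exists_nonsquare (ringChar_ne_two_of_odd hodd')
  rw [← Nat.card_congr (Equiv.ofBijective _ (rep_bij hodd' hε))]
  rw [Nat.card_eq_fintype_card, Fintype.card_sum, Fintype.card_sum, Fintype.card_prod, card_ne hodd']
  have hq : 2 ≤ Fintype.card F := Fintype.one_lt_card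
  simp
  omega

end Cfsg.Agent.S2325
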