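import Cfsg.Statements.S3733
-- import your own Cfsg.Agent.* helpers here

set_option autoImplicit false
open Cfsg

namespace Cfsg.Agent.S3733

open Subgroup
open scoped IsMulCommutative

/-- conjugation by a normalizing element as an endomorphism of `V` -/
def conjAct {G : Type*} [Group G] (V : Subgroup G) (a : G) (ha : a ∈ normalizer (V : Set G)) :
    V →* V where
  toFun v := ⟨a * v * a⁻¹, (mem_normalizer_iff.1 ha v).1 v.2⟩
  map_one' := by ext; simp
  map_mul' := by intro x y; ext; simp

/-- Let A and V be subgroups of a finite group with V abelian and nontrivial and A normalizing V. Suppose a nonempty finite family of proper subgroups of A partitions A: every non-identity element of A lies in exactly one member. If the number of members minus one is coprime to the order of V, then some member B of the family has a non-identity fixed point on V, that is V ∩ C(B) ≠ 1. -/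
theorem result {G : Type*} [Group G] [Finite G] (A V : Subgroup G) (hVab : IsMulCommutative V) (hV : V ≠ ⊥) (hAV : A ≤ Subgroup.normalizer (V : Set G)) (𝒜 : Finset (Subgroup G)) (hne : 𝒜.Nonempty) (hprop : ∀ B ∈ 𝒜, B < A) (hpart : ∀ a ∈ A, a ≠ 1 → ∃! B, B ∈ 𝒜 ∧ a ∈ B) (hk : (𝒜.card - 1).Coprime (Nat.card V)) : ∃ B ∈ 𝒜, V ⊓ Subgroup.centralizer (B : Set G) ≠ ⊥ := by
  classical
  by_contra hcon
  push Not at hcon
  have : Fintype A := Fintype.ofFinite A
  let φ : A → (V →* V) := fun a => conjAct V a (hAV a.2)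
  have hφmul : ∀ (a b : A) (v : V), φ (b * a) v = φ b (φ a v) := by
    intro a b v
    apply Subtype.ext
    show ((b * a : A) : G) * v * ((b * a : A) : G)⁻¹ = b * (a * v * (a : G)⁻¹) * (b : G)⁻¹
    push_cast
    group
  have hφone : ∀ v : V, φ 1 v = v := by
    intro v
    apply Subtype.ext
    show ((1 : A) : G) * v * ((1 : A) : G)⁻¹ = v
    simp
  let Nm : Subgroup G → V → V := fun B v =>
    ∏ a ∈ Finset.univ.filter (fun a : A => (a : G) ∈ B), φ a v
  have hfix : ∀ (B : Subgroup G) (v : V) (b : A), (b : G) ∈ B → φ b (Nm B v) = Nm B v := by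
    intro B v b hb
    show φ b (∏ a ∈ Finset.univ.filter (fun a : A => (a : G) ∈ B), φ a v) = _
    rw [map_prod]
    apply Finset.prod_bij (fun a _ => b * a)
    · intro a ha
      rw [Finset.mem_filter] at ha ⊢
      exact ⟨Finset.mem_univ _, B.mul_mem hb ha.2⟩
    · intro a _ a' _ h
      exact mul_left_cancel h
    · intro a ha
      rw [Finset.mem_filter] at ha
      refine ⟨b⁻¹ * a, ?_, by simp⟩
      rw [Finset.mem_filter]
      exact ⟨Finset.mem_univ _, B.mul_mem (B.inv_mem hb) ha.2⟩
    · intro a _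
      exact (hφmul a b v).symm
  have hNm1 : ∀ (B B' : Subgroup G), B' ∈ 𝒜 → B' ≤ B → ∀ v : V, Nm B v = 1 := by
    intro B B' hB' hle v
    have h1 : ((Nm B v : V) : G) ∈ V ⊓ centralizer (B' : Set G) := by
      refine mem_inf.2 ⟨(Nm B v).2, ?_⟩
      rw [mem_centralizer_iff]
      intro b hb
      have hbA : b ∈ A := (hprop B' hB').le hb
      have h2 := congrArg Subtype.val (hfix B v ⟨b, hbA⟩ (hle hb))
      have h3 : b * ((Nm B v : V) : G) * b⁻¹ = ((Nm B v : V) : G) := h2
      calc b * ((Nm B v : V) : G) = b * ((Nm B v : V) : G) * b⁻¹ * b := by group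
        _ = ((Nm B v : V) : G) * b := by rw [h3]
    rw [hcon B' hB', mem_bot] at h1
    exact Subtype.ext h1
  obtain ⟨B0, hB0⟩ := hne
  have hcount : ∀ a : A, (𝒜.filter (fun B => (a : G) ∈ B)).card
      = 1 + (if a = 1 then 𝒜.card - 1 else 0) := by
    intro a
    by_cases ha : a = 1
    · have : 𝒜.filter (fun B => ((a : A) : G) ∈ B) = 𝒜 := by
        apply Finset.filter_true_of_mem
        intro B _
        rw [ha]; exact B.one_mem
      rw [this, if_pos ha]
      have : 0 < 𝒜.card := Finset.card_pos.2 ⟨B0, hB0⟩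
      omega
    · rw [if_neg ha, add_zero, Finset.card_eq_one]
      have ha' : (a : G) ≠ 1 := fun h => ha (Subtype.ext h)
      obtain ⟨B, hB, huniq⟩ := hpart a a.2 ha'
      refine ⟨B, ?_⟩
      ext B'
      rw [Finset.mem_filter, Finset.mem_singleton]
      exact ⟨fun h => huniq B' h, fun h => h ▸ hB⟩
  have hall : ∀ v : V, v ^ (𝒜.card - 1) = 1 := by
    intro v
    have h1 : ∏ B ∈ 𝒜, Nm B v = 1 :=
      Finset.prod_eq_one (fun B hB => hNm1 B B hB le_rfl v)
    have h2 : ∏ B ∈ 𝒜, Nm B v = ∏ a : A, (φ a v) ^ (𝒜.filter (fun B => (a : G) ∈ B)).card := by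
      show ∏ B ∈ 𝒜, ∏ a ∈ Finset.univ.filter (fun a : A => (a : G) ∈ B), φ a v = _
      simp_rw [Finset.prod_filter]
      rw [Finset.prod_comm]
      apply Finset.prod_congr rfl
      intro a _
      rw [← Finset.prod_filter, Finset.prod_const]
    have h3 : ∏ a : A, (φ a v) ^ (𝒜.filter (fun B => (a : G) ∈ B)).card
        = (∏ a : A, φ a v) * v ^ (𝒜.card - 1) := by
      simp_rw [hcount, pow_add, pow_one]
      rw [Finset.prod_mul_distrib]
      congr 1
      rw [Finset.prod_eq_single (1 : A)]
      · rw [if_pos rfl, hφone]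
      · intro b _ hb
        rw [if_neg hb, pow_zero]
      · intro h
        exact absurd (Finset.mem_univ _) h
    have h4 : ∏ a : A, φ a v = 1 := by
      have := hNm1 A B0 hB0 (hprop B0 hB0).le v
      have h5 : Nm A v = ∏ a : A, φ a v := by
        show ∏ a ∈ Finset.univ.filter (fun a : A => (a : G) ∈ A), φ a v = _
        rw [Finset.filter_true_of_mem (fun a _ => a.2)]
      rw [← h5, this]
    rw [h2, h3, h4, one_mul] at h1
    exact h1
  apply hV
  rw [eq_bot_iff]
  intro x hx
  rw [mem_bot]
  have h1 := hall ⟨x, hx⟩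
  have h2 := orderOf_dvd_of_pow_eq_one h1
  have h3 := orderOf_dvd_natCard (⟨x, hx⟩ : V)
  have h4 := Nat.dvd_gcd h2 h3
  rw [hk.gcd_eq_one, Nat.dvd_one, orderOf_eq_one_iff] at h4
  exact congrArg Subtype.val h4

end Cfsg.Agent.S3733
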