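import Cfsg.Statements.S3335
import Mathlib
import Cfsg.Agent.Lib.Helper21.CoxA

set_option autoImplicit false
open Cfsg

namespace Cfsg.Agent.S3335

open Cfsg.Agent.Lib.Helper21.CoxA in
lemma inv_mul_pow {X : Type*} [Group X] (a b : X) (m : ℕ) (hb : b ^ 2 = 1)
    (h : (a * b) ^ m = 1) : (a⁻¹ * b) ^ m = 1 := by
  have hbi : b⁻¹ = b := by
    rw [pow_two] at hb
    exact (eq_inv_of_mul_eq_one_right hb).symm
  have e : a⁻¹ * b = (b * a)⁻¹ := by rw [mul_inv_rev, hbi]
  rw [e, inv_pow, pow_swap b a m h, inv_one]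

lemma comm_of_sq {X : Type*} [Group X] (a b : X) (ha : a * a = 1) (hb : b * b = 1)
    (h : (a * b) ^ 2 = 1) : a * b = b * a := by
  have hai : a⁻¹ = a := (eq_inv_of_mul_eq_one_right ha).symm
  have hbi : b⁻¹ = b := (eq_inv_of_mul_eq_one_right hb).symm
  rw [pow_two] at h
  have h3 : a * b = (a * b)⁻¹ := eq_inv_of_mul_eq_one_left h
  rw [h3, mul_inv_rev, hai, hbi]

/-- The relations. -/
def rels (k : ℕ) : Set (FreeGroup (Fin k)) :=
      ({g : FreeGroup (Fin k) | ∃ i : Fin k, i.val = 0 ∧ g = FreeGroup.of i ^ 3} ∪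
       {g | ∃ i : Fin k, 1 ≤ i.val ∧ g = FreeGroup.of i ^ 2} ∪
       {g | ∃ i j : Fin k, j.val = i.val + 1 ∧ g = (FreeGroup.of i * FreeGroup.of j) ^ 3} ∪
       {g | ∃ i j : Fin k, i.val + 1 < j.val ∧ g = (FreeGroup.of i * FreeGroup.of j) ^ 2})

abbrev P (k : ℕ) := PresentedGroup (rels k)

structure Sat {X : Type*} [Group X] (k : ℕ) (f : Fin k → X) : Prop where
  h3 : ∀ i : Fin k, i.val = 0 → f i ^ 3 = 1
  h2 : ∀ i : Fin k, 1 ≤ i.val → f i ^ 2 = 1
  hb : ∀ i j : Fin k, j.val = i.val + 1 → (f i * f j) ^ 3 = 1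
  hc : ∀ i j : Fin k, i.val + 1 < j.val → (f i * f j) ^ 2 = 1

lemma Sat.lift {X : Type*} [Group X] {k : ℕ} {f : Fin k → X} (h : Sat k f) :
    ∀ r ∈ rels k, FreeGroup.lift f r = 1 := by
  rintro r (((⟨i, hi, rfl⟩ | ⟨i, hi, rfl⟩) | ⟨i, j, hij, rfl⟩) | ⟨i, j, hij, rfl⟩)
  · simpa using h.h3 i hi
  · simpa using h.h2 i hi
  · simpa using h.hb i j hij
  · simpa using h.hc i j hij

lemma sat_of (k : ℕ) : Sat k (fun i => (PresentedGroup.of i : P k)) where
  h3 i hi := by
    have := PresentedGroup.one_of_mem (rels := rels k) (x := FreeGroup.of i ^ 3)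
      (Or.inl (Or.inl (Or.inl ⟨i, hi, rfl⟩)))
    rw [map_pow] at this
    exact this
  h2 i hi := by
    have := PresentedGroup.one_of_mem (rels := rels k) (x := FreeGroup.of i ^ 2)
      (Or.inl (Or.inl (Or.inr ⟨i, hi, rfl⟩)))
    rw [map_pow] at this
    exact this
  hb i j hij := by
    have := PresentedGroup.one_of_mem (rels := rels k)
      (x := (FreeGroup.of i * FreeGroup.of j) ^ 3)
      (Or.inl (Or.inr ⟨i, j, hij, rfl⟩))
    rw [map_pow, map_mul] at this
    exact this
  hc i j hij := by
    have := PresentedGroup.one_of_mem (rels := rels k)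
      (x := (FreeGroup.of i * FreeGroup.of j) ^ 2)
      (Or.inr ⟨i, j, hij, rfl⟩)
    rw [map_pow, map_mul] at this
    exact this

/-- invert the first generator -/
def twist {X : Type*} [Group X] {k : ℕ} (f : Fin k → X) : Fin k → X :=
  fun i => if i.val = 0 then (f i)⁻¹ else f i

lemma twist_zero {X : Type*} [Group X] {k : ℕ} (f : Fin k → X) (i : Fin k) (hi : i.val = 0) :
    twist f i = (f i)⁻¹ := if_pos hi

lemma twist_pos {X : Type*} [Group X] {k : ℕ} (f : Fin k → X) (i : Fin k) (hi : 1 ≤ i.val) :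
    twist f i = f i := if_neg (by omega)

lemma Sat.twist {X : Type*} [Group X] {k : ℕ} {f : Fin k → X} (h : Sat k f) :
    Sat k (twist f) where
  h3 i hi := by rw [twist_zero f i hi, inv_pow, h.h3 i hi, inv_one]
  h2 i hi := by rw [twist_pos f i hi, h.h2 i hi]
  hb i j hij := by
    rw [twist_pos f j (by omega)]
    by_cases hi : i.val = 0
    · rw [twist_zero f i hi]
      exact inv_mul_pow _ _ _ (h.h2 j (by omega)) (h.hb i j hij)
    · rw [twist_pos f i (by omega)]
      exact h.hb i j hij
  hc i j hij := by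
    rw [twist_pos f j (by omega)]
    by_cases hi : i.val = 0
    · rw [twist_zero f i hi]
      exact inv_mul_pow _ _ _ (h.h2 j (by omega)) (h.hc i j hij)
    · rw [twist_pos f i (by omega)]
      exact h.hc i j hij

lemma twist_mul_self {X : Type*} [Group X] {k : ℕ} {f : Fin k → X} (h : Sat k f) (i : Fin k) :
    twist f i * f i = 1 := by
  by_cases hi : i.val = 0
  · rw [twist_zero f i hi, inv_mul_cancel]
  · rw [twist_pos f i (by omega), ← pow_two, h.h2 i (by omega)]

noncomputable def tauHom (k : ℕ) : P k →* P k :=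
  PresentedGroup.toGroup (sat_of k).twist.lift

lemma tauHom_of (k : ℕ) (i : Fin k) :
    tauHom k (PresentedGroup.of i) = twist (fun i => (PresentedGroup.of i : P k)) i :=
  PresentedGroup.toGroup.of _

lemma tauHom_comp (k : ℕ) : (tauHom k).comp (tauHom k) = MonoidHom.id _ := by
  apply PresentedGroup.ext
  intro i
  rw [MonoidHom.comp_apply, tauHom_of, MonoidHom.id_apply]
  by_cases hi : i.val = 0
  · rw [twist_zero _ i hi, map_inv, tauHom_of, twist_zero _ i hi, inv_inv]
  · rw [twist_pos _ i (by omega), tauHom_of, twist_pos _ i (by omega)]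

noncomputable def tau (k : ℕ) : MulAut (P k) :=
  MonoidHom.toMulEquiv (tauHom k) (tauHom k) (tauHom_comp k) (tauHom_comp k)

lemma tau_apply (k : ℕ) (x : P k) : tau k x = tauHom k x := rfl

lemma tau_sq (k : ℕ) : tau k * tau k = 1 := by
  ext x
  rw [MulAut.mul_apply, tau_apply, tau_apply, MulAut.one_apply]
  exact DFunLike.congr_fun (tauHom_comp k) x

/-- hom from the group of order two -/
def c2hom {H : Type*} [Group H] (t : H) (ht : t * t = 1) : ℤˣ →* H where
  toFun u := if u = 1 then 1 else t
  map_one' := by simp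
  map_mul' u v := by
    have h : (-1 : ℤˣ) ≠ 1 := by decide
    rcases Int.units_eq_one_or u with rfl | rfl <;>
      rcases Int.units_eq_one_or v with rfl | rfl <;> simp [ht, h]

lemma c2hom_neg {H : Type*} [Group H] (t : H) (ht : t * t = 1) : c2hom t ht (-1) = t := by
  have h : (-1 : ℤˣ) ≠ 1 := by decide
  show (if (-1 : ℤˣ) = 1 then (1 : H) else t) = t
  exact if_neg h

abbrev E (k : ℕ) := P k ⋊[c2hom (tau k) (tau_sq k)] ℤˣ

open Cfsg.Agent.Lib.Helper21.CoxA in
lemma liftable {X : Type*} [Group X] {k : ℕ} {f : Fin k → X} (h : Sat k f) (t : X)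
    (ht : t * t = 1) (hc : ∀ i, t * f i * t = twist f i) :
    (CoxeterMatrix.A (k + 1)).IsLiftable (Fin.cons t (fun i => t * f i) : Fin (k + 1) → X) := by
  have key : ∀ a b : Fin (k + 1), a ≤ b →
      ((Fin.cons t (fun i => t * f i) : Fin (k + 1) → X) a *
        (Fin.cons t (fun i => t * f i) : Fin (k + 1) → X) b) ^ (CoxeterMatrix.A (k + 1) a b)
        = 1 := by
    intro a b hab
    rcases hab.eq_or_lt with rfl | hab
    · rw [(CoxeterMatrix.A (k + 1)).diagonal, pow_one]
      induction a using Fin.cases with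
      | zero => simpa using ht
      | succ i =>
        rw [Fin.cons_succ]
        calc t * f i * (t * f i) = (t * f i * t) * f i := by group
          _ = 1 := by rw [hc, twist_mul_self h]
    · induction b using Fin.cases with
      | zero => exact absurd hab (by simp)
      | succ j =>
        induction a using Fin.cases with
        | zero =>
          rw [Fin.cons_zero, Fin.cons_succ, ← mul_assoc, ht, one_mul]
          by_cases hj : j.val = 0
          · rw [A_three _ _ _ (by simp [hj])]
            exact h.h3 j hj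
          · rw [A_two _ _ _ (by simp; omega)]
            exact h.h2 j (by omega)
        | succ i =>
          rw [Fin.cons_succ, Fin.cons_succ]
          have hij : i.val < j.val := Fin.succ_lt_succ_iff.mp hab
          have e : t * f i * (t * f j) = twist f i * twist f j := by
            rw [twist_pos f j (by omega), ← hc]
            group
          rw [e]
          by_cases hj : j.val = i.val + 1
          · rw [A_three _ _ _ (by simp only [Fin.val_succ]; omega)]
            exact h.twist.hb i j hj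
          · rw [A_two _ _ _ (by simp only [Fin.val_succ]; omega)]
            exact h.twist.hc i j (by omega)
  intro a b
  rcases le_total a b with hab | hab
  · exact key a b hab
  · rw [(CoxeterMatrix.A (k + 1)).symmetric]
    exact pow_swap _ _ _ (key b a hab)

open Cfsg.Agent.Lib.Helper21.CoxA in
lemma sat_cox {X : Type*} [Group X] {k : ℕ} (s : Fin (k + 1) → X)
    (hs : (CoxeterMatrix.A (k + 1)).IsLiftable s) :
    Sat k (fun i => s 0 * s i.succ) ∧
      ∀ i, twist (fun i => s 0 * s i.succ) i = s 0 * (s 0 * s i.succ) * (s 0)⁻¹ := by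
  have hsq : ∀ a, s a * s a = 1 := by
    intro a
    have := hs a a
    rwa [(CoxeterMatrix.A (k + 1)).diagonal, pow_one] at this
  have hinv : ∀ a, (s a)⁻¹ = s a := fun a => (eq_inv_of_mul_eq_one_right (hsq a)).symm
  have h2 : ∀ i : Fin k, 1 ≤ i.val → (s 0 * s i.succ) ^ 2 = 1 := by
    intro i hi
    have := hs 0 i.succ
    rwa [A_two _ _ _ (by simp; omega)] at this
  have hcomm : ∀ i : Fin k, 1 ≤ i.val → s 0 * s i.succ = s i.succ * s 0 := by
    intro i hi
    exact comm_of_sq _ _ (hsq _) (hsq _) (h2 i hi)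
  have hconj : ∀ i j : Fin k, 1 ≤ j.val →
      s 0 * s i.succ * (s 0 * s j.succ) = s 0 * (s i.succ * s j.succ) * (s 0)⁻¹ := by
    intro i j hj
    rw [hcomm j hj, hinv]
    group
  refine ⟨⟨?_, h2, ?_, ?_⟩, ?_⟩
  · intro i hi
    have := hs 0 i.succ
    rwa [A_three _ _ _ (by simp [hi])] at this
  · intro i j hij
    rw [hconj i j (by omega), conj_pow]
    have := hs i.succ j.succ
    rw [A_three _ _ _ (by simp [hij])] at this
    rw [this]
    group
  · intro i j hij
    rw [hconj i j (by omega), conj_pow]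
    have := hs i.succ j.succ
    rw [A_two _ _ _ (by simp; omega)] at this
    rw [this]
    group
  · intro i
    by_cases hi : i.val = 0
    · rw [twist_zero _ i hi, mul_inv_rev, ← mul_assoc, hsq, one_mul, hinv, hinv]
    · rw [twist_pos _ i (by omega), ← mul_assoc, hsq, one_mul, hinv, hcomm i (by omega)]

open Cfsg.Agent.Lib.Helper21.CoxA in
lemma perm_liftable (k : ℕ) :
    (CoxeterMatrix.A (k + 1)).IsLiftable (permSystem (k + 1)).simple :=
  fun a b => (permSystem (k + 1)).simple_mul_simple_pow a b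

open Cfsg.Agent.Lib.Helper21.CoxA in
noncomputable def f1 (k : ℕ) : P k →* Equiv.Perm (Fin (k + 2)) :=
  PresentedGroup.toGroup (sat_cox _ (perm_liftable k)).1.lift

open Cfsg.Agent.Lib.Helper21.CoxA in
lemma f1_of (k : ℕ) (i : Fin k) : f1 k (PresentedGroup.of i) =
    (permSystem (k + 1)).simple 0 * (permSystem (k + 1)).simple i.succ :=
  PresentedGroup.toGroup.of _

open Cfsg.Agent.Lib.Helper21.CoxA in
noncomputable def f2 (k : ℕ) : ℤˣ →* Equiv.Perm (Fin (k + 2)) :=
  c2hom ((permSystem (k + 1)).simple 0) ((permSystem (k + 1)).simple_mul_simple_self 0)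

open Cfsg.Agent.Lib.Helper21.CoxA in
lemma compat (k : ℕ) (u : ℤˣ) :
    (f1 k).comp (c2hom (tau k) (tau_sq k) u).toMonoidHom =
      (MulAut.conj (f2 k u)).toMonoidHom.comp (f1 k) := by
  rcases Int.units_eq_one_or u with rfl | rfl
  · rw [map_one, map_one, map_one]
    rfl
  · apply PresentedGroup.ext
    intro i
    rw [c2hom_neg, f2, c2hom_neg]
    show f1 k (tauHom k (PresentedGroup.of i)) = _ * f1 k (PresentedGroup.of i) * _⁻¹
    rw [tauHom_of, f1_of, ← (sat_cox _ (perm_liftable k)).2 i]
    by_cases hi : i.val = 0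
    · rw [twist_zero _ i hi, twist_zero _ i hi, map_inv, f1_of]
    · rw [twist_pos _ i (by omega), twist_pos _ i (by omega), f1_of]

noncomputable def Psi (k : ℕ) : E k →* Equiv.Perm (Fin (k + 2)) :=
  SemidirectProduct.lift (f1 k) (f2 k) (compat k)

lemma E_liftable (k : ℕ) : (CoxeterMatrix.A (k + 1)).IsLiftable
    (Fin.cons (SemidirectProduct.inr (-1) : E k)
      (fun i => (SemidirectProduct.inr (-1) : E k) *
        SemidirectProduct.inl (PresentedGroup.of i : P k)) : Fin (k + 1) → E k) := by
  have hsat : Sat k (fun i => (SemidirectProduct.inl (PresentedGroup.of i : P k) : E k)) := by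
    have h := sat_of k
    refine ⟨?_, ?_, ?_, ?_⟩
    · intro i hi
      rw [← map_pow, h.h3 i hi, map_one]
    · intro i hi
      rw [← map_pow, h.h2 i hi, map_one]
    · intro i j hij
      rw [← map_mul, ← map_pow, h.hb i j hij, map_one]
    · intro i j hij
      rw [← map_mul, ← map_pow, h.hc i j hij, map_one]
  apply liftable hsat
  · rw [← map_mul]
    simp
  · intro i
    have h1 := SemidirectProduct.inl_aut (φ := c2hom (tau k) (tau_sq k)) (-1)
      (PresentedGroup.of i : P k)
    rw [inv_neg, inv_one] at h1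
    rw [← h1, c2hom_neg, tau_apply, tauHom_of]
    by_cases hi : i.val = 0
    · rw [twist_zero _ i hi, twist_zero _ i hi, map_inv]
    · rw [twist_pos _ i (by omega), twist_pos _ i (by omega)]

open Cfsg.Agent.Lib.Helper21.CoxA in
noncomputable def Phi (k : ℕ) : Equiv.Perm (Fin (k + 2)) →* E k :=
  (permSystem (k + 1)).lift ⟨_, E_liftable k⟩

open Cfsg.Agent.Lib.Helper21.CoxA in
lemma Phi_zero (k : ℕ) : Phi k ((permSystem (k + 1)).simple 0) = SemidirectProduct.inr (-1) := by
  rw [Phi, (permSystem (k + 1)).lift_apply_simple, Fin.cons_zero]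

open Cfsg.Agent.Lib.Helper21.CoxA in
lemma Phi_succ (k : ℕ) (i : Fin k) : Phi k ((permSystem (k + 1)).simple i.succ) =
    SemidirectProduct.inr (-1) * SemidirectProduct.inl (PresentedGroup.of i : P k) := by
  rw [Phi, (permSystem (k + 1)).lift_apply_simple, Fin.cons_succ]

lemma inr_sq (k : ℕ) : (SemidirectProduct.inr (-1) : E k) * SemidirectProduct.inr (-1) = 1 := by
  rw [← map_mul]
  simp

open Cfsg.Agent.Lib.Helper21.CoxA in
lemma Psi_Phi (k : ℕ) : (Psi k).comp (Phi k) = MonoidHom.id _ := by
  apply (permSystem (k + 1)).ext_simple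
  intro a
  rw [MonoidHom.comp_apply, MonoidHom.id_apply]
  induction a using Fin.cases with
  | zero =>
    rw [Phi_zero, Psi, SemidirectProduct.lift_inr, f2, c2hom_neg]
  | succ i =>
    rw [Phi_succ, map_mul, Psi, SemidirectProduct.lift_inr, SemidirectProduct.lift_inl, f2,
      c2hom_neg, f1_of, ← mul_assoc, (permSystem (k + 1)).simple_mul_simple_self, one_mul]

open Cfsg.Agent.Lib.Helper21.CoxA in
lemma Phi_Psi (k : ℕ) : (Phi k).comp (Psi k) = MonoidHom.id _ := by
  apply SemidirectProduct.hom_ext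
  · apply PresentedGroup.ext
    intro i
    show Phi k (Psi k (SemidirectProduct.inl (PresentedGroup.of i))) =
      SemidirectProduct.inl (PresentedGroup.of i)
    rw [Psi, SemidirectProduct.lift_inl, f1_of, map_mul, Phi_zero, Phi_succ, ← mul_assoc,
      inr_sq, one_mul]
  · ext1 u
    show Phi k (Psi k (SemidirectProduct.inr u)) = SemidirectProduct.inr u
    rcases Int.units_eq_one_or u with rfl | rfl
    · rw [map_one, map_one, map_one]
    · rw [Psi, SemidirectProduct.lift_inr, f2, c2hom_neg, Phi_zero]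

open Cfsg.Agent.Lib.Helper21.CoxA in
lemma sign_simple (k : ℕ) (a : Fin (k + 1)) :
    Equiv.Perm.sign ((permSystem (k + 1)).simple a) = -1 := by
  rw [permSystem_simple]
  exact Equiv.Perm.sign_swap (Fin.castSucc_lt_succ).ne

lemma sign_f1 (k : ℕ) (x : P k) : Equiv.Perm.sign (f1 k x) = 1 := by
  have h : (Equiv.Perm.sign).comp (f1 k) = 1 := by
    apply PresentedGroup.ext
    intro i
    rw [MonoidHom.comp_apply, f1_of, map_mul, sign_simple, sign_simple]
    simp
  exact DFunLike.congr_fun h x

theorem main (k : ℕ) : Nonempty (P k ≃* alternatingGroup (Fin (k + 2))) := by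
  have hmem : ∀ x, f1 k x ∈ alternatingGroup (Fin (k + 2)) := fun x =>
    Equiv.Perm.mem_alternatingGroup.mpr (sign_f1 k x)
  refine ⟨MulEquiv.ofBijective ((f1 k).codRestrict _ hmem) ⟨?_, ?_⟩⟩
  · intro x y hxy
    have h1 : f1 k x = f1 k y := congrArg Subtype.val hxy
    have h2 : Psi k (SemidirectProduct.inl x) = Psi k (SemidirectProduct.inl y) := by
      rw [Psi, SemidirectProduct.lift_inl, SemidirectProduct.lift_inl, h1]
    have h3 := congrArg (Phi k) h2
    have h4 : ∀ e, Phi k (Psi k e) = e := fun e => DFunLike.congr_fun (Phi_Psi k) e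
    rw [h4, h4] at h3
    exact SemidirectProduct.inl_injective h3
  · rintro ⟨g, hg⟩
    have h4 : Psi k (Phi k g) = g := DFunLike.congr_fun (Psi_Phi k) g
    have h5 : Psi k (Phi k g) = f1 k (Phi k g).left * f2 k (Phi k g).right := rfl
    rcases Int.units_eq_one_or (Phi k g).right with h6 | h6
    · refine ⟨(Phi k g).left, Subtype.ext ?_⟩
      show f1 k (Phi k g).left = g
      rw [h5, h6, map_one, mul_one] at h4
      exact h4
    · exfalso
      have h7 : Equiv.Perm.sign g = 1 := Equiv.Perm.mem_alternatingGroup.mp hg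
      rw [h5, h6] at h4
      rw [← h4, map_mul, sign_f1, f2, c2hom_neg, sign_simple] at h7
      exact absurd h7 (by decide)


/-- A presentation of the alternating group of degree n ≥ 3 on generators x_1, …, x_{n−2} (indexed here by 0, …, n−3): the first generator cubes to 1, every other generator squares to 1, the product of two consecutive generators has order dividing 3, and the product of two generators at distance at least 2 has order dividing 2. The group so presented is isomorphic to the alternating group of degree n. -/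
theorem result (n : ℕ) (hn : 3 ≤ n) :
    Nonempty (PresentedGroup
      ({g : FreeGroup (Fin (n - 2)) | ∃ i : Fin (n - 2), i.val = 0 ∧ g = FreeGroup.of i ^ 3} ∪
       {g | ∃ i : Fin (n - 2), 1 ≤ i.val ∧ g = FreeGroup.of i ^ 2} ∪
       {g | ∃ i j : Fin (n - 2), j.val = i.val + 1 ∧ g = (FreeGroup.of i * FreeGroup.of j) ^ 3} ∪
       {g | ∃ i j : Fin (n - 2), i.val + 1 < j.val ∧ g = (FreeGroup.of i * FreeGroup.of j) ^ 2})
      ≃* alternatingGroup (Fin n)) := by
  obtain ⟨k, rfl⟩ : ∃ k, n = k + 2 := ⟨n - 2, by omega⟩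
  exact main k

end Cfsg.Agent.S3335
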