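import Cfsg.Statements.S0042
import Mathlib
import Cfsg.Agent.Lib.Helper15.Thompson4
import Cfsg.Agent.Lib.Helper15.Frob3

set_option autoImplicit false
open Cfsg

namespace Cfsg.Agent.S0042

open Cfsg.Agent.Lib.Helper15

/-- In a finite Frobenius group, the Frobenius kernel is (the carrier of) a normal subgroup which is nilpotent. -/
theorem result {G : Type*} [Group G] [Finite G] (H : Subgroup G) (hH : Cfsg.IsFrobeniusComplement H) :
    ∃ N : Subgroup G, (N : Set G) = Cfsg.frobeniusKernel H ∧ N.Normal ∧ Group.IsNilpotent N := by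
  obtain ⟨K, hKset, hKn, hKc, hKne, hKf⟩ := frob_exists_kernel hH
  refine ⟨K, hKset, hKn, ?_⟩
  have hcard : Nat.card H ≠ 1 := fun h => hH.1 (Subgroup.card_eq_one.mp h)
  have hp : (Nat.card H).minFac.Prime := Nat.minFac_prime hcard
  have := Fact.mk hp
  obtain ⟨x, hx⟩ := exists_prime_orderOf_dvd_card' (G := H) _ (Nat.minFac_dvd _)
  have hx1 : (x : G) ≠ 1 := by
    intro e
    have : x = 1 := Subtype.ext e
    rw [this, orderOf_one] at hx
    exact hp.one_lt.ne hx
  apply thompson_fpf _ hp K (x : G)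
  · rw [← Subgroup.coe_pow, ← hx, pow_orderOf_eq_one]; rfl
  · rw [Subgroup.normalizer_eq_top]; trivial
  · exact hKf x x.2 hx1

end Cfsg.Agent.S0042
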