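import Cfsg.Statements.S4341
import Cfsg.Agent.Lib.Helper23.SylNum

set_option autoImplicit false
open Cfsg

namespace Cfsg.Agent.S4341

/-- Let K be a normal subgroup of a finite group G, p a prime and P a Sylow p-subgroup of G; let N be the normalizer of P ∩ K inside the subgroup PK. Then the number of Sylow p-subgroups of G equals the product of the numbers of Sylow p-subgroups of G/K, of K, and of N/(P ∩ K). (The normality of P ∩ K in N, which always holds, is assumed as a hypothesis so that the quotient can be formed.) -/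
theorem result {G : Type*} [Group G] [Finite G]
    (p : ℕ) [Fact p.Prime] (K : Subgroup G) [K.Normal] (P : Sylow p G) (N : Subgroup G)
    (hN : N = ((P : Subgroup G) ⊔ K) ⊓ Subgroup.normalizer (((P : Subgroup G) ⊓ K : Subgroup G) : Set G))
    [hn : (((P : Subgroup G) ⊓ K).subgroupOf N).Normal] :
    Nat.card (Sylow p G) =
      Nat.card (Sylow p (G ⧸ K)) * Nat.card (Sylow p K) * Nat.card (Sylow p (N ⧸ ((P : Subgroup G) ⊓ K).subgroupOf N)) := by
  open Cfsg.Agent.Lib.Helper17 Cfsg.Agent.Lib.Helper23 in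
  have hKn : ∀ X : Subgroup G, X ≤ Subgroup.normalizer (K : Set G) := by
    intro X
    rw [Subgroup.normalizer_eq_top_iff.2 inferInstance]; exact le_top
  open Cfsg.Agent.Lib.Helper17 Cfsg.Agent.Lib.Helper23 in
  have hPN : (P : Subgroup G) ≤ N := by
    rw [hN]
    exact le_inf le_sup_left (le_normalizer_inf Subgroup.le_normalizer (hKn _))
  open Cfsg.Agent.Lib.Helper17 Cfsg.Agent.Lib.Helper23 in
  have hsylN : IsSyl p (P : Subgroup G) N := (isSyl_top P).of_le hPN le_top
  open Cfsg.Agent.Lib.Helper17 Cfsg.Agent.Lib.Helper23 in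
  have hsylK : IsSyl p ((P : Subgroup G) ⊓ K) K := (isSyl_top P).inf_normal le_top (hKn _)
  open Cfsg.Agent.Lib.Helper17 Cfsg.Agent.Lib.Helper23 in
  have h3 : Nat.card (Sylow p (N ⧸ ((P : Subgroup G) ⊓ K).subgroupOf N)) =
      (Subgroup.normalizer ((P : Subgroup G) : Set G)).relIndex N := by
    obtain ⟨S, hS⟩ := hsylN
    rw [card_sylow_quotient_of_le _ S, card_sylow_eq_relIndex ⟨S, hS⟩]
    intro x hx
    rw [Subgroup.mem_subgroupOf] at hx
    have hx1 : (x : G) ∈ (P : Subgroup G) := hx.1
    rw [← hS] at hx1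
    obtain ⟨y, hy, hyx⟩ := hx1
    have : y = x := Subtype.ext hyx
    rwa [← this]
  rw [h3, Cfsg.Agent.Lib.Helper23.card_sylow_eq_relIndex hsylK,
    Cfsg.Agent.Lib.Helper23.card_sylow_quotient K P, Cfsg.Agent.Lib.Helper23.card_sylow_eq_index P,
    hN]
  exact Cfsg.Agent.Lib.Helper23.sylow_number_formula K P

end Cfsg.Agent.S4341
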