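import Cfsg.Statements.S4303
import Cfsg.Agent.Lib.Helper23.SylNum3
import Cfsg.Agent.S4341

set_option autoImplicit false
universe u
open Cfsg

namespace Cfsg.Agent.S4303

def Good (p m : ℕ) : Prop :=
  (IsPrimePow m ∧ m % p = 1) ∨
    ∃ (S : Type u) (_ : Group S) (_ : Finite S), IsSimpleGroup S ∧ m = Nat.card (Sylow p S)

theorem key (p : ℕ) [hp : Fact p.Prime] : ∀ (n : ℕ) (G : Type u) [Group G] [Finite G],
    Nat.card G = n → ∃ l : List ℕ, l.prod = Nat.card (Sylow p G) ∧ ∀ m ∈ l, Good.{u} p m := by
  intro n
  induction n using Nat.strong_induction_on with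
  | _ n ih =>
    intro G _ _ hn
    by_cases hnt : Nontrivial G
    · by_cases hs : IsSimpleGroup G
      · exact ⟨[Nat.card (Sylow p G)], by simp, fun m hm => by
          rw [List.mem_singleton] at hm
          exact Or.inr ⟨G, inferInstance, inferInstance, hs, hm⟩⟩
      · obtain ⟨K, hKn, hKbot, hKtop⟩ : ∃ K : Subgroup G, K.Normal ∧ K ≠ ⊥ ∧ K ≠ ⊤ := by
          by_contra hcon
          push Not at hcon
          apply hs
          refine ⟨fun H hH => ?_⟩
          by_cases h : H = ⊥
          · exact Or.inl h
          · exact Or.inr (hcon H hH h)
        obtain ⟨P⟩ : Nonempty (Sylow p G) := inferInstance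
        by_cases hcase : (P : Subgroup G) ⊔ K = ⊤ ∧ (P : Subgroup G) ⊓ K = ⊥
        · obtain ⟨htop, hbot⟩ := hcase
          have hsylK : Cfsg.Agent.Lib.Helper17.IsSyl p ((P : Subgroup G) ⊓ K) K :=
            (Cfsg.Agent.Lib.Helper17.isSyl_top P).inf_normal le_top
              (Cfsg.Agent.Lib.Helper23.le_normalizer_of_normal' K _)
          have hpK : ¬ p ∣ Nat.card K := fun h => hsylK.ne_bot h hbot
          have h1 : Subgroup.normalizer ((P : Subgroup G) : Set G) ⊔ K = ⊤ := by
            rw [eq_top_iff, ← htop]
            exact sup_le_sup_right Subgroup.le_normalizer K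
          have h2 := Cfsg.Agent.Lib.Helper23.card_sylow_eq_relIndex_of_sup_eq_top K P h1
          set t := Nat.card (Sylow p G) with ht
          have ht0 : t ≠ 0 := Nat.card_pos.ne'
          refine ⟨t.primeFactors.toList.map (fun q => q ^ t.factorization q), ?_, ?_⟩
          · rw [Finset.prod_map_toList]
            exact Nat.prod_factorization_pow_eq_self ht0
          · intro m hm
            rw [List.mem_map] at hm
            obtain ⟨q, hq, rfl⟩ := hm
            rw [Finset.mem_toList] at hq
            have hqp : q.Prime := Nat.prime_of_mem_primeFactors hq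
            have hqf : Fact q.Prime := ⟨hqp⟩
            left
            constructor
            · apply hqp.isPrimePow.pow
              have := (hqp.factorization_pos_of_dvd ht0 (Nat.dvd_of_mem_primeFactors hq))
              omega
            · have h3 := Cfsg.Agent.Lib.Helper23.part_relIndex_modEq_one P K hpK q
              rw [← h2] at h3
              have h4 : q ^ t.factorization q % p = 1 % p := h3
              rw [h4]
              exact Nat.mod_eq_of_lt hp.out.one_lt
        · set N := ((P : Subgroup G) ⊔ K) ⊓
            Subgroup.normalizer (((P : Subgroup G) ⊓ K : Subgroup G) : Set G) with hN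
          have hPN : (P : Subgroup G) ⊓ K ≤ N :=
            le_inf (inf_le_left.trans le_sup_left) Subgroup.le_normalizer
          have hnorm : (((P : Subgroup G) ⊓ K).subgroupOf N).Normal :=
            (Subgroup.normal_subgroupOf_iff_le_normalizer hPN).2 inf_le_right
          have hform := Cfsg.Agent.S4341.result p K P N hN
          have hlt : ∀ X : Subgroup G, X ≠ ⊤ → Nat.card X < n := by
            intro X hX
            rw [← hn]
            refine lt_of_le_of_ne (Subgroup.card_le_card_group _) ?_
            intro h
            exact hX (Subgroup.eq_top_of_card_eq _ h)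
          obtain ⟨la, ha1, ha2⟩ := ih (Nat.card (G ⧸ K)) (by
            rw [← hn, ← Subgroup.card_mul_index K]
            have h1 : 1 < Nat.card K := by
              rw [Subgroup.one_lt_card_iff_ne_bot]; exact hKbot
            have h2 : 0 < K.index := Nat.pos_of_ne_zero Subgroup.index_ne_zero_of_finite
            show K.index < _
            nlinarith) (G ⧸ K) rfl
          obtain ⟨lb, hb1, hb2⟩ := ih (Nat.card K) (hlt K hKtop) K rfl
          obtain ⟨lc, hc1, hc2⟩ := ih (Nat.card (N ⧸ ((P : Subgroup G) ⊓ K).subgroupOf N)) (by
            by_cases h1 : (P : Subgroup G) ⊔ K = ⊤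
            · have h2 : (P : Subgroup G) ⊓ K ≠ ⊥ := fun h => hcase ⟨h1, h⟩
              have h3 := Subgroup.card_mul_index (((P : Subgroup G) ⊓ K).subgroupOf N)
              have h4 : 1 < Nat.card (((P : Subgroup G) ⊓ K).subgroupOf N) := by
                rw [Subgroup.one_lt_card_iff_ne_bot]
                intro h5
                rw [Subgroup.subgroupOf_eq_bot, disjoint_iff, inf_eq_left.2 hPN] at h5
                exact h2 h5
              have h5 : 0 < (((P : Subgroup G) ⊓ K).subgroupOf N).index :=
                Nat.pos_of_ne_zero Subgroup.index_ne_zero_of_finite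
              have h6 : Nat.card N ≤ n := by rw [← hn]; exact Subgroup.card_le_card_group _
              show (((P : Subgroup G) ⊓ K).subgroupOf N).index < n
              nlinarith
            · have h2 : N ≠ ⊤ := by
                intro h
                apply h1
                rw [eq_top_iff, ← h]
                exact inf_le_left
              refine lt_of_le_of_lt ?_ (hlt N h2)
              exact Nat.card_le_card_of_surjective _ (QuotientGroup.mk'_surjective _))
            (N ⧸ ((P : Subgroup G) ⊓ K).subgroupOf N) rfl
          refine ⟨la ++ lb ++ lc, ?_, ?_⟩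
          · rw [List.prod_append, List.prod_append, ha1, hb1, hc1, hform]
          · intro m hm
            rw [List.mem_append, List.mem_append] at hm
            rcases hm with (hm | hm) | hm
            · exact ha2 m hm
            · exact hb2 m hm
            · exact hc2 m hm
    · rw [not_nontrivial_iff_subsingleton] at hnt
      have : Nat.card (Sylow p G) = 1 := by
        rw [Nat.card_eq_one_iff_unique]
        refine ⟨⟨fun A B => ?_⟩, inferInstance⟩
        apply Sylow.ext
        ext x
        rw [Subsingleton.elim x 1]
        simp
      exact ⟨[], by simp [this], by simp⟩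

/-- For a finite group `G` and a prime `p`, the number of Sylow `p`-subgroups of `G` is a product of natural numbers each of which is either a prime power congruent to 1 modulo `p` or the number of Sylow `p`-subgroups of some finite simple group. -/
theorem result {G : Type u} [Group G] [Finite G]
    (p : ℕ) [Fact p.Prime] :
    ∃ l : List ℕ, l.prod = Nat.card (Sylow p G) ∧
      ∀ m ∈ l, (IsPrimePow m ∧ m % p = 1) ∨
        ∃ (S : Type u) (_ : Group S) (_ : Finite S), IsSimpleGroup S ∧ m = Nat.card (Sylow p S) := by
  exact key p _ G rfl

end Cfsg.Agent.S4303
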