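import Cfsg.Statements.S4343
import Cfsg.Agent.Lib.Helper23.SylowExtra
import Cfsg.Agent.Lib.Helper13.Tame

set_option autoImplicit false
open Cfsg

namespace Cfsg.Agent.S4343

/-- Let S be a finite non-abelian simple group and p a prime dividing its order. If S has fewer than p² Sylow p-subgroups, then its Sylow p-subgroups have order p. -/
theorem result {S : Type*} [Group S] [Finite S]
    [IsSimpleGroup S] (hS : ¬ IsMulCommutative S) (p : ℕ) [Fact p.Prime] (hp : p ∣ Nat.card S)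
    (hn : Nat.card (Sylow p S) < p ^ 2) (P : Sylow p S) : Nat.card P = p := by
  classical
  have hpp : p.Prime := Fact.out
  -- Step A
  have stepA : ∀ P Q : Sylow p S, P ≠ Q → (Q : Subgroup S).relIndex (P : Subgroup S) = p := by
    intro P Q hPQ
    have h1 := Cfsg.Agent.Lib.Helper23.relIndex_sylow_eq_ncard_orbit P Q
    have h2 : (MulAction.orbit (P : Subgroup S) Q).ncard ≤ Nat.card (Sylow p S) := Set.ncard_le_card _
    obtain ⟨n, hn⟩ := IsPGroup.iff_card.mp P.2
    have h3 : (Q : Subgroup S).relIndex (P : Subgroup S) ∣ p ^ n := hn ▸ Subgroup.relIndex_dvd_card _ _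
    obtain ⟨m, hm, hm'⟩ := (Nat.dvd_prime_pow hpp).mp h3
    rcases m with _ | _ | m
    · exfalso
      rw [pow_zero, Subgroup.relIndex_eq_one] at hm'
      exact hPQ (Sylow.ext (P.3 Q.2 hm')).symm
    · simpa using hm'
    · exfalso
      have h4 : p ^ 2 ≤ p ^ (m + 1 + 1) := Nat.pow_le_pow_right hpp.pos (by omega)
      omega
  -- Step B
  have stepB : ∀ P Q : Sylow p S, P ≠ Q →
      (P : Subgroup S) ≤ Subgroup.normalizer (((P : Subgroup S) ⊓ Q : Subgroup S) : Set S) := by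
    intro P Q hPQ
    rw [← Subgroup.normal_subgroupOf_iff_le_normalizer inf_le_left]
    apply Subgroup.normal_of_index_eq_minFac_card
    have h1 : (((P : Subgroup S) ⊓ Q).subgroupOf (P : Subgroup S)).index = p := by
      show ((P : Subgroup S) ⊓ Q).relIndex (P : Subgroup S) = p
      rw [Subgroup.inf_relIndex_left]
      exact stepA P Q hPQ
    rw [h1]
    obtain ⟨n, hn⟩ := IsPGroup.iff_card.mp P.2
    rw [hn]
    have hn0 : n ≠ 0 := by
      rintro rfl
      have h2 := Subgroup.relIndex_dvd_card (Q : Subgroup S) (P : Subgroup S)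
      rw [stepA P Q hPQ, hn, pow_zero] at h2
      exact hpp.one_lt.ne' (Nat.dvd_one.mp h2)
    exact (hpp.pow_minFac hn0).symm
  -- there are two distinct Sylow subgroups
  have hex : ∃ Q : Sylow p S, Q ≠ P := by
    by_contra hcon
    push Not at hcon
    have hPn : (P : Subgroup S).Normal := by
      rw [← Subgroup.normalizer_eq_top_iff, eq_top_iff]
      intro g _
      rw [P.coe_coe, ← Sylow.smul_eq_iff_mem_normalizer]
      exact hcon _
    have := Cfsg.Agent.Lib.Helper23.normal_pgroup_eq_bot_of_simple hS _ hPn P.2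
    exact P.ne_bot_of_dvd_card hp this
  obtain ⟨Q0, hQ0⟩ := hex
  -- minimal intersection
  have hne : ∃ n, ∃ S1 T1 : Sylow p S, S1 ≠ T1 ∧ Nat.card ((S1 : Subgroup S) ⊓ T1 : Subgroup S) = n :=
    ⟨_, Q0, P, hQ0, rfl⟩
  obtain ⟨S1, T1, hST, hcard⟩ := Nat.find_spec hne
  have hmin : ∀ S2 T2 : Sylow p S, S2 ≠ T2 →
      Nat.card ((S1 : Subgroup S) ⊓ T1 : Subgroup S) ≤ Nat.card ((S2 : Subgroup S) ⊓ T2 : Subgroup S) := by
    intro S2 T2 h
    rw [hcard]
    exact Nat.find_min' hne ⟨S2, T2, h, rfl⟩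
  set D : Subgroup S := (S1 : Subgroup S) ⊓ T1 with hD
  set N : Subgroup S := Subgroup.normalizer (D : Set S) with hN
  have hS1N : (S1 : Subgroup S) ≤ N := stepB S1 T1 hST
  have hT1N : (T1 : Subgroup S) ≤ N := by
    have := stepB T1 S1 hST.symm
    rwa [inf_comm] at this
  -- Step D
  have stepD : ∀ R : Sylow p S, D ≤ R := by
    intro R
    have hidx : ¬ p ∣ (S1 : Subgroup S).relIndex N := by
      intro h
      exact S1.not_dvd_index (h.trans (Subgroup.relIndex_dvd_index_of_le hS1N))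
    obtain ⟨x, hxN, hx⟩ := Cfsg.Agent.Lib.Helper13.exists_cj_le_of_sylow (H := N) (T := S1)
      (R := (R : Subgroup S) ⊓ N) S1.2 hidx inf_le_right (R.2.to_le inf_le_left)
    -- R' = x⁻¹ • R
    have hR' : ((x⁻¹ • R : Sylow p S) : Subgroup S) = Cfsg.Agent.Lib.Helper13.cj (R : Subgroup S) x := by
      rw [Cfsg.Agent.Lib.Helper13.coe_smul_sylow_eq_cj, inv_inv]
    have hNx : Cfsg.Agent.Lib.Helper13.cj N x = N := by
      rw [hN, Cfsg.Agent.Lib.Helper13.cj_normalizer,
        Cfsg.Agent.Lib.Helper13.mem_normalizer_iff_cj.mp hxN]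
    have hDx : Cfsg.Agent.Lib.Helper13.cj D x = D := Cfsg.Agent.Lib.Helper13.mem_normalizer_iff_cj.mp hxN
    have hle : ((x⁻¹ • R : Sylow p S) : Subgroup S) ⊓ T1 ≤ D := by
      intro y hy
      rw [Subgroup.mem_inf] at hy
      refine Subgroup.mem_inf.mpr ⟨hx ?_, hy.2⟩
      rw [Cfsg.Agent.Lib.Helper13.cj_inf, hNx, ← hR']
      exact Subgroup.mem_inf.mpr ⟨hy.1, hT1N hy.2⟩
    have hDR' : D ≤ ((x⁻¹ • R : Sylow p S) : Subgroup S) := by
      by_cases heq : (x⁻¹ • R : Sylow p S) = T1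
      · rw [heq]; exact inf_le_right
      · have h1 := hmin _ _ heq
        have h2 := Subgroup.eq_of_le_of_card_ge hle h1
        rw [← h2]; exact inf_le_left
    rw [hR'] at hDR'
    have := Cfsg.Agent.Lib.Helper13.cj_mono hDR' x⁻¹
    rw [Cfsg.Agent.Lib.Helper13.cj_inv_cj] at this
    have hDx' : Cfsg.Agent.Lib.Helper13.cj D x⁻¹ = D :=
      Cfsg.Agent.Lib.Helper13.mem_normalizer_iff_cj.mp (inv_mem hxN)
    rwa [hDx'] at this
  have hK : (⨅ R : Sylow p S, (R : Subgroup S)) = ⊥ :=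
    Cfsg.Agent.Lib.Helper23.normal_pgroup_eq_bot_of_simple hS _
      (Cfsg.Agent.Lib.Helper23.iInf_sylow_normal p) (P.2.to_le (iInf_le _ P))
  have hDbot : D = ⊥ := by
    rw [eq_bot_iff, ← hK]
    exact le_iInf stepD
  have h1 := stepA S1 T1 hST
  rw [← Subgroup.inf_relIndex_left, ← hD, hDbot, Subgroup.relIndex_bot_left] at h1
  exact (Cfsg.Agent.Lib.Helper23.sylow_card_eq P S1).trans h1

end Cfsg.Agent.S4343
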