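import Cfsg.Statements.S0040
import Mathlib
import Cfsg.Agent.Lib.Helper17.Syl
import Cfsg.Agent.Lib.Helper14.PGroupRel
import Cfsg.Agent.S0016
import Cfsg.Agent.S0058
-- import your own Cfsg.Agent.* helpers here

set_option autoImplicit false
open Cfsg

namespace Cfsg.Agent.S0040

open Cfsg.Agent.Lib.Helper17 Cfsg.Agent.Lib.Helper14

/-- `p` does not divide `|K|` when an element of order `p` acts fixed-point-freely -/
theorem not_dvd_card {G : Type*} [Group G] [Finite G] (K : Subgroup G) [K.Normal]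
    (p : ℕ) [Fact p.Prime] (z : G) (hzp : z ^ p = 1)
    (hfz : K ⊓ Subgroup.centralizer {z} = ⊥) : ¬ p ∣ Nat.card K := by
  intro hpK
  have hzP : IsPGroup p (Subgroup.zpowers z) := by
    have h1 : orderOf z ∣ p := orderOf_dvd_of_pow_eq_one hzp
    rcases (Nat.dvd_prime Fact.out).mp h1 with h | h
    · exact IsPGroup.of_card (n := 0) (by rw [Nat.card_zpowers, h, pow_zero])
    · exact IsPGroup.of_card (n := 1) (by rw [Nat.card_zpowers, h, pow_one])
  obtain ⟨R, hR⟩ := hzP.exists_le_sylow
  have hzR : z ∈ (R : Subgroup G) := hR (Subgroup.mem_zpowers z)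
  have hs : IsSyl p ((R : Subgroup G) ⊓ K) K :=
    (isSyl_top R).inf_normal le_top (by rw [Subgroup.normalizer_eq_top])
  have hne := hs.ne_bot hpK
  have hn : (((R : Subgroup G) ⊓ K).subgroupOf R).Normal := by
    rw [Subgroup.inf_subgroupOf_left]
    infer_instance
  have hne' : ((R : Subgroup G) ⊓ K).subgroupOf R ≠ ⊥ := by
    intro h
    apply hne
    rw [Subgroup.subgroupOf_eq_bot, disjoint_iff, inf_assoc, inf_comm K, ← inf_assoc, inf_idem] at h
    exact h
  obtain ⟨k, hk, hk1, hkc, -⟩ := exists_central_order_p p R.2 _ hne'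
  have hkK : (k : G) ∈ K := (Subgroup.mem_subgroupOf.mp hk).2
  have hcomm : (k : G) * z = z * k := by
    have := Subgroup.mem_center_iff.mp hkc ⟨z, hzR⟩
    exact (congrArg Subtype.val this).symm
  have : (k : G) ∈ K ⊓ Subgroup.centralizer {z} := by
    refine ⟨hkK, ?_⟩
    change (k : G) ∈ Subgroup.centralizer {z}
    rw [Subgroup.mem_centralizer_iff]
    intro y hy
    rw [Set.mem_singleton_iff.mp hy]
    exact hcomm.symm
  rw [hfz, Subgroup.mem_bot] at this
  exact hk1 (Subtype.ext this)

theorem no_rank_two {G : Type*} [Group G] [Finite G] (K H : Subgroup G) [K.Normal] (hK : K ≠ ⊥)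
    (hfpf : ∀ h ∈ H, h ≠ 1 → K ⊓ Subgroup.centralizer {h} = ⊥) (p : ℕ) [Fact p.Prime] (d z : G)
    (hd : d ∈ H) (hz : z ∈ H) (hdp : d ^ p = 1) (hzp : z ^ p = 1) (hz1 : z ≠ 1)
    (hcomm : d * z = z * d) : d ∈ Subgroup.zpowers z := by
  have hp : p.Prime := Fact.out
  by_contra hdz
  obtain ⟨E, hE⟩ : ∃ E, E = Subgroup.closure ({d, z} : Set G) := ⟨_, rfl⟩
  have hEc : IsMulCommutative E := by
    rw [hE]
    apply Subgroup.isMulCommutative_closure
    rintro a (rfl | ha) b (rfl | hb)
    · rfl
    · rw [Set.mem_singleton_iff.mp hb]; exact hcomm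
    · rw [Set.mem_singleton_iff.mp ha]; exact hcomm.symm
    · rw [Set.mem_singleton_iff.mp ha, Set.mem_singleton_iff.mp hb]
  have hEH : E ≤ H := by
    rw [hE, Subgroup.closure_le]
    rintro a (rfl | ha)
    · exact hd
    · rw [Set.mem_singleton_iff.mp ha]; exact hz
  have hdE : d ∈ E := by rw [hE]; exact Subgroup.subset_closure (by simp)
  have hzE : z ∈ E := by rw [hE]; exact Subgroup.subset_closure (by simp)
  have hEcomm : ∀ a ∈ E, ∀ b ∈ E, a * b = b * a := fun a ha b hb =>
    congrArg Subtype.val (hEc.is_comm.comm ⟨a, ha⟩ ⟨b, hb⟩)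
  have hexp : ∀ x ∈ E, x ^ p = 1 := by
    have hle : E ≤ (E ⊓ E) := le_inf le_rfl le_rfl
    intro x hx
    have hx' := hx
    rw [hE] at hx'
    induction hx' using Subgroup.closure_induction with
    | mem a ha =>
      rcases ha with rfl | ha
      · exact hdp
      · rw [Set.mem_singleton_iff.mp ha]; exact hzp
    | one => exact one_pow p
    | mul a b ha hb iha ihb =>
      rw [← hE] at ha hb
      rw [(show Commute a b from hEcomm a ha b hb).mul_pow, iha ha, ihb hb, one_mul]
    | inv a ha iha =>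
      rw [← hE] at ha
      rw [inv_pow, iha ha, inv_one]
  have hEp : IsPGroup p E := by
    intro x
    exact ⟨1, by rw [pow_one]; exact Subtype.ext (hexp x x.2)⟩
  have hncyc : ¬ IsCyclic E := by
    intro hcyc
    obtain ⟨g, hg⟩ := hcyc.exists_generator
    have h1 : orderOf g ∣ p := orderOf_dvd_of_pow_eq_one (Subtype.ext (hexp g g.2))
    have h2 : Nat.card E = orderOf g := (orderOf_eq_card_of_forall_mem_zpowers hg).symm
    have h3 : Nat.card E ≤ p := by rw [h2]; exact Nat.le_of_dvd hp.pos h1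
    have h4 : Subgroup.zpowers z = E := by
      apply Subgroup.eq_of_le_of_card_ge (by rwa [Subgroup.zpowers_le])
      rw [Nat.card_zpowers, orderOf_eq_prime hzp hz1]
      exact h3
    apply hdz
    rw [h4]; exact hdE
  have hcop : (Nat.card E).Coprime (Nat.card K) := by
    obtain ⟨k, hk⟩ := hEp.exists_card_eq
    rw [hk]
    exact Nat.Coprime.pow_left k ((Nat.Prime.coprime_iff_not_dvd hp).mpr
      (not_dvd_card K p z hzp (hfpf z hz hz1)))
  have h58 := Cfsg.Agent.S0058.result E K hncyc (by rw [Subgroup.normalizer_eq_top]; exact le_top) hcop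
  apply hK
  rw [← h58, eq_bot_iff]
  apply iSup₂_le
  rintro a ⟨haE, ha1⟩
  rw [hfpf a (hEH haE) ha1]

/-- Sylow subgroups of Frobenius complements: if H complements a nontrivial normal subgroup K and every nonidentity element of H has trivial centraliser in K, then each Sylow subgroup of H is cyclic or isomorphic to a generalized quaternion group. -/
theorem result {G : Type*} [Group G] [Finite G] (K H : Subgroup G) [K.Normal]
    (hc : Subgroup.IsComplement' K H) (hK : K ≠ ⊥) (hfpf : ∀ h ∈ H, h ≠ 1 → K ⊓ Subgroup.centralizer {h} = ⊥)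
    (p : ℕ) [Fact p.Prime] (P : Sylow p H) :
    IsCyclic P ∨ ∃ n : ℕ, Nonempty (P ≃* QuaternionGroup (2 ^ n)) := by
  have hp : p.Prime := Fact.out
  have key : ∀ (z : P), z ∈ Subgroup.center P → z ≠ 1 → z ^ p = 1 → ∀ D : Subgroup P, Nat.card D = p →
      D = Subgroup.zpowers z := by
    intro z hzc hz1 hzp D hD
    have hDne : D ≠ ⊥ := by
      intro h
      rw [h, Subgroup.card_bot] at hD
      exact hp.one_lt.ne hD
    obtain ⟨⟨d, hdD⟩, hd1'⟩ := Subgroup.ne_bot_iff_exists_ne_one.mp hDne
    have hd1 : d ≠ 1 := fun h => hd1' (Subtype.ext h)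
    have hdp : d ^ p = 1 := by
      have := pow_card_eq_one' (G := D) (x := ⟨d, hdD⟩)
      rw [hD] at this
      exact congrArg Subtype.val this
    have hzd : Subgroup.zpowers d = D := by
      apply Subgroup.eq_of_le_of_card_ge (by rwa [Subgroup.zpowers_le])
      rw [Nat.card_zpowers, orderOf_eq_prime hdp hd1, hD]
    have h1 : ((d : H) : G) ∈ Subgroup.zpowers ((z : H) : G) := by
      apply no_rank_two K H hK hfpf p _ _ (d : H).2 (z : H).2
      · exact_mod_cast congrArg (fun x : P => ((x : H) : G)) hdp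
      · exact_mod_cast congrArg (fun x : P => ((x : H) : G)) hzp
      · intro h
        exact hz1 (Subtype.ext (Subtype.ext h))
      · have := Subgroup.mem_center_iff.mp hzc d
        exact congrArg (fun x : P => ((x : H) : G)) this
    obtain ⟨i, hi⟩ := h1
    have h2 : d = z ^ i := by
      apply Subtype.ext; apply Subtype.ext
      rw [← hi]; simp
    rw [← hzd]
    apply Subgroup.eq_of_le_of_card_ge
    · rw [Subgroup.zpowers_le, h2]; exact Subgroup.zpow_mem _ (Subgroup.mem_zpowers z) i
    · rw [Nat.card_zpowers, Nat.card_zpowers, orderOf_eq_prime hdp hd1, orderOf_eq_prime hzp hz1]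
  have huniq : ∀ A B : Subgroup P, Nat.card A = p → Nat.card B = p → A = B := by
    intro A B hA hB
    have htop : (⊤ : Subgroup P) ≠ ⊥ := by
      intro h
      have h1 : A ≤ ⊥ := h ▸ le_top
      rw [le_bot_iff] at h1
      rw [h1, Subgroup.card_bot] at hA
      exact hp.one_lt.ne hA
    obtain ⟨z, -, hz1, hzc, hzp⟩ := exists_central_order_p p P.2 (⊤ : Subgroup P) htop
    rw [key z hzc hz1 hzp A hA, key z hzc hz1 hzp B hB]
  rcases Cfsg.Agent.S0016.result p P.2 huniq with h | ⟨_, n, hn⟩
  · left; exact h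
  · right; exact ⟨n, hn⟩

end Cfsg.Agent.S0040
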