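import Cfsg.Statements.S0154
import Cfsg.Agent.Lib.Helper2.CharMore

set_option autoImplicit false
open Cfsg

namespace Cfsg.Agent.S0154

/-- A finite group has exactly as many irreducible complex characters of degree 1 as the index of its commutator subgroup. -/
theorem result {G : Type*} [Group G] [Finite G] : Nat.card {χ : Cfsg.IrrCharacter G // (χ : G → ℂ) 1 = 1} = (commutator G).index := by
  classical
  have hfin := Cfsg.Agent.Lib.Helper2.finite_irrCharacter (G := G)
  have hA : Nat.card (Cfsg.IrrCharacter (Abelianization G)) = (commutator G).index := by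
    rw [Cfsg.Agent.Lib.Helper2.card_irrCharacter,
      ← Nat.card_congr (ConjClasses.mkEquiv (α := Abelianization G))]
    rfl
  rw [← hA]
  symm
  have hdeg1 : ∀ ψ : Cfsg.IrrCharacter (Abelianization G), (ψ : Abelianization G → ℂ) 1 = 1 := by
    intro ψ
    obtain ⟨n, σ, hσ, h⟩ := ψ.2
    rw [← h, Representation.char_one,
      Representation.IsIrreducible.finrank_eq_one_of_isMulCommutative σ]
    simp
  refine Nat.card_congr (Equiv.ofBijective (fun ψ => ⟨⟨(ψ : Abelianization G → ℂ) ∘ Abelianization.of,
    Cfsg.Agent.Lib.Helper2.IsIrrCharacter.comp_surjective Abelianization.of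
      (QuotientGroup.mk'_surjective _) ψ.2⟩, by
        simp only [Function.comp_apply, map_one]; exact hdeg1 ψ⟩) ⟨?_, ?_⟩)
  · intro ψ φ h
    have h1 := congrArg (fun z => (z.1.1 : G → ℂ)) h
    simp only at h1
    apply Subtype.ext
    funext x
    obtain ⟨g, rfl⟩ := QuotientGroup.mk'_surjective _ x
    exact congrFun h1 g
  · rintro ⟨χ, hχ1⟩
    obtain ⟨lam, hlam⟩ := Cfsg.Agent.Lib.Helper2.IsCharacter.exists_hom_of_apply_one
      (Cfsg.Agent.Lib.Helper2.IsIrrCharacter.isCharacter χ.2) hχ1
    refine ⟨⟨fun x => ((Abelianization.lift lam x : ℂˣ) : ℂ),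
      Cfsg.Agent.Lib.Helper2.isIrrCharacter_of_hom (Abelianization.lift lam)⟩, ?_⟩
    apply Subtype.ext
    apply Subtype.ext
    funext g
    simp only [Function.comp_apply, Abelianization.lift_apply_of]
    exact (hlam g).symm

end Cfsg.Agent.S0154
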