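import Cfsg.Statements.S5124
import Cfsg.Agent.Lib.Helper26.Transport

set_option autoImplicit false
open Cfsg

namespace Cfsg.Agent.S5124

open Cfsg.Agent.Lib.Helper26 in
theorem hyp_le {Ω : Type*} [Group Ω] {S : Subgroup Ω} (F : Cfsg.FusionSystem S) (p : ℕ) :
    F.hyperfocalSubgroup p ≤ S := by
  apply (Subgroup.closure_le _).mpr
  rintro _ ⟨P, α, x, hP, -, rfl⟩
  exact S.mul_mem (S.inv_mem (hP x.2)) (hP ((α : MulAut P) x).2)

open Cfsg.Agent.Lib.Helper26 in
theorem hyp_conj {Ω : Type*} [Group Ω] {S : Subgroup Ω} (F : Cfsg.FusionSystem S) (p : ℕ)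
    {a : Ω} (ha : a ∈ S) {y : Ω} (hy : y ∈ F.hyperfocalSubgroup p) :
    a * y * a⁻¹ ∈ F.hyperfocalSubgroup p := by
  change y ∈ Subgroup.closure _ at hy
  induction hy using Subgroup.closure_induction with
  | mem y hy =>
    obtain ⟨P, α, x, hP, hα, rfl⟩ := hy
    have hm : IsMap F P (fun x => a * x * a⁻¹) := isMap_conj F hP ha
    obtain ⟨e, he, hef⟩ := hm.exists_iso rfl
    apply Subgroup.subset_closure
    refine ⟨_, autTr he α, e x, hm.img_le, map_mem_pResidual _ (autTr_injective he) hα, ?_⟩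
    rw [autTr_apply, hef, hef]
    group
  | one => simp
  | mul b c _ _ hb hc =>
    have : a * (b * c) * a⁻¹ = (a * b * a⁻¹) * (a * c * a⁻¹) := by group
    rw [this]; exact Subgroup.mul_mem _ hb hc
  | inv b _ hb =>
    have : a * b⁻¹ * a⁻¹ = (a * b * a⁻¹)⁻¹ := by group
    rw [this]; exact Subgroup.inv_mem _ hb


/-- In a saturated fusion system over a finite p-group S the hyperfocal subgroup is strongly closed in the system. -/
theorem result {Ω : Type*} [Group Ω] {S : Subgroup Ω} [Finite S] (p : ℕ) [Fact p.Prime] (hS : IsPGroup p S) (F : Cfsg.FusionSystem S) (hF : F.IsSaturated p) : F.StronglyClosed (F.hyperfocalSubgroup p) := by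
  open Cfsg.Agent.Lib.Helper26 in
  set H := F.hyperfocalSubgroup p with hH
  have hC : SubPred F S (fun P f => ∀ x ∈ P, (x ∈ H ↔ f x ∈ H)) :=
    { congr := fun h hc x hx => by rw [← h x hx]; exact hc x hx
      conj := fun {P a} hP ha x hx => by
        constructor
        · exact fun h => hyp_conj F p ha h
        · intro h
          have := hyp_conj F p (S.inv_mem ha) h
          have e : a⁻¹ * (a * x * a⁻¹) * a⁻¹⁻¹ = x := by group
          rwa [e] at this
      comp := fun {P Q f g} hf hg _ _ h _ hcf hcg x hx => (hcf x hx).trans (hcg _ (h x hx))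
      inv := fun {P f g} hf _ _ hg hgf hcf y hy => by
        obtain ⟨x, hx, rfl⟩ := hf.mem_img.mp hy
        rw [hgf x hx]
        exact (hcf x hx).symm }
  have hle : F ≤ mkSub F le_rfl hC := by
    apply le_of_pResidual_le hS hF
    intro P hP
    have hPS := (fullyNormalized_of_eq_or_essential hP).1
    rintro _ ⟨β, hβ, rfl⟩
    rw [mem_autGroup_iff hPS, isMap_mkSub]
    refine ⟨(mem_autGroup_iff hPS).mp β.2, hPS, fun x hx => hPS (autFun_mem _ hx), fun x hx => ?_⟩
    have h1 : x⁻¹ * autFun ((F.autGroup P).subtype β) x ∈ H := by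
      apply Subgroup.subset_closure
      refine ⟨P, β, ⟨x, hx⟩, hPS, hβ, ?_⟩
      rw [autFun_of_mem _ hx]
      rfl
    constructor
    · intro h
      have := H.mul_mem h h1
      rwa [mul_inv_cancel_left] at this
    · intro h
      have := H.mul_mem h (H.inv_mem h1)
      rwa [mul_inv_rev, inv_inv, mul_inv_cancel_left] at this
  refine ⟨hyp_le F p, fun R hR φ hφ x => ?_⟩
  have := (le_iff_isMap.mp hle) R _ (isMap_toFun hφ)
  rw [isMap_mkSub] at this
  have h2 := (this.2.2.2 x x.2).mp (hR x.2)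
  rwa [toFun_apply] at h2

end Cfsg.Agent.S5124
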