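import Cfsg.Statements.S0094
import Mathlib
import Cfsg.Agent.S0012
import Cfsg.Agent.Lib.Helper14.Class2
-- import your own Cfsg.Agent.* helpers here

set_option autoImplicit false
open Cfsg

namespace Cfsg.Agent.S0094

open scoped commutatorElement

/-- In a special p-group every central element has order dividing p. -/
theorem result {P : Type*} [Group P] [Finite P] {p : ℕ} [Fact p.Prime] (h : Cfsg.IsSpecial p P) (z : P) (hz : z ∈ Subgroup.center P) : z ^ p = 1 := by
  obtain ⟨hP, hΦ, hC⟩ := h
  have hcen : ∀ a b : P, ⁅a, b⁆ ∈ Subgroup.center P := by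
    intro a b
    rw [← hC]
    exact Subgroup.commutator_mem_commutator (Subgroup.mem_top a) (Subgroup.mem_top b)
  have key : ∀ x ∈ commutator P, x ∈ Subgroup.center P ∧ x ^ p = 1 := by
    intro x hx
    rw [commutator_eq_closure] at hx
    induction hx using Subgroup.closure_induction with
    | mem x hx =>
      obtain ⟨a, b, rfl⟩ := hx
      refine ⟨hcen a b, ?_⟩
      rw [← Cfsg.Agent.Lib.Helper14.comm_pow_left a b (hcen a b) p]
      have hap : a ^ p ∈ Subgroup.center P := by
        rw [← hΦ]; exact (Cfsg.Agent.S0012.result p hP).2 a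
      rw [commutatorElement_eq_one_iff_mul_comm]
      exact (Subgroup.mem_center_iff.mp hap b).symm
    | one => exact ⟨Subgroup.one_mem _, one_pow _⟩
    | mul x y _ _ hx hy =>
      refine ⟨Subgroup.mul_mem _ hx.1 hy.1, ?_⟩
      have : Commute x y := (Subgroup.mem_center_iff.mp hx.1 y).symm
      rw [this.mul_pow, hx.2, hy.2, one_mul]
    | inv x _ hx => exact ⟨Subgroup.inv_mem _ hx.1, by rw [inv_pow, hx.2, inv_one]⟩
  exact (key z (hC ▸ hz)).2

end Cfsg.Agent.S0094
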