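import Cfsg.Statements.S0097
import Mathlib
import Cfsg.Agent.S0012
import Cfsg.Agent.S0094
import Cfsg.Agent.Lib.Helper14.Class2
-- import your own Cfsg.Agent.* helpers here

set_option autoImplicit false
open Cfsg

namespace Cfsg.Agent.S0097

open scoped commutatorElement

/-- For odd p and E extraspecial, the subgroup generated by the elements of order dividing p has exponent dividing p and index at most p. -/
theorem result {E : Type*} [Group E] [Finite E] {p : ℕ} [Fact p.Prime] (hp : p ≠ 2) (h : Cfsg.IsExtraspecial p E) : (Subgroup.closure {x : E | x ^ p = 1}).index ≤ p ∧ ∀ g ∈ Subgroup.closure {x : E | x ^ p = 1}, g ^ p = 1 := by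
  obtain ⟨hs, hcard⟩ := h
  have hs' := hs
  obtain ⟨hP, hΦ, hC⟩ := hs
  have hcen : ∀ a b : E, ⁅a, b⁆ ∈ Subgroup.center E := by
    intro a b
    rw [← hC]
    exact Subgroup.commutator_mem_commutator (Subgroup.mem_top a) (Subgroup.mem_top b)
  have hpow : ∀ a : E, a ^ p ∈ Subgroup.center E := by
    intro a
    rw [← hΦ]; exact (Cfsg.Agent.S0012.result p hP).2 a
  have hmul : ∀ x y : E, (x * y) ^ p = x ^ p * y ^ p := fun x y =>
    Cfsg.Agent.Lib.Helper14.mul_pow_prime_class2 Fact.out hp x y (hcen y x)
      (Cfsg.Agent.S0094.result hs' _ (hcen y x))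
  let f : E →* Subgroup.center E :=
    { toFun := fun x => ⟨x ^ p, hpow x⟩
      map_one' := Subtype.ext (one_pow p)
      map_mul' := fun x y => Subtype.ext (hmul x y) }
  have hker : Subgroup.closure {x : E | x ^ p = 1} = f.ker := by
    apply le_antisymm
    · rw [Subgroup.closure_le]
      intro x hx
      exact Subtype.ext hx
    · intro x hx
      apply Subgroup.subset_closure
      exact congrArg Subtype.val (MonoidHom.mem_ker.mp hx)
  rw [hker]
  constructor
  · rw [Subgroup.index_ker, ← hcard]
    exact Subgroup.card_le_card_group _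
  · intro g hg
    exact congrArg Subtype.val (MonoidHom.mem_ker.mp hg)

end Cfsg.Agent.S0097
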