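import Cfsg.Statements.S0319
-- import your own Cfsg.Agent.* helpers here
import Cfsg.Agent.Lib.Helper29.BN

set_option autoImplicit false
open Cfsg

namespace Cfsg.Agent.S0319

open Cfsg.Agent.Lib.Helper29 in
/-- Let `H` be normal, `M = B ⊔ H`. Generators inside `M` commute (in `W`) with those outside. -/
theorem commute_of_normal {G : Type*} [Group G] (P : Cfsg.BNPair G) (H : Subgroup G) [H.Normal]
    {s₁ s₂ : G} (h1 : s₁ ∈ P.S) (h2 : s₂ ∈ P.S) (h1M : s₁ ∈ P.B ⊔ H) (h2M : s₂ ∉ P.B ⊔ H) :
    s₁ * s₂ * s₁⁻¹ * s₂⁻¹ ∈ P.B := by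
  obtain ⟨W, _, π, h⟩ := exists_weyl P
  set a : W := π ⟨s₁, P.subset h1⟩ with ha
  set c : W := π ⟨s₂, P.subset h2⟩ with hc
  have haS : a ∈ gensOf P π P.S := ⟨_, h1, rfl⟩
  have hcS : c ∈ gensOf P π P.S := ⟨_, h2, rfl⟩
  have hBM : P.B ≤ P.B ⊔ H := le_sup_left
  have hac : a ≠ c := by
    intro he
    have := P.inj s₁ h1 s₂ h2 ((h.eq_iff _ _).1 he)
    rw [this] at h1M
    exact h2M h1M
  -- an element of `C a ∩ H`
  have h1M' : s₁ ∈ ((P.B ⊔ H : Subgroup G) : Set G) := h1M
  rw [Subgroup.mul_normal] at h1M'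
  obtain ⟨b, hb, x, hx, hbx⟩ := h1M'
  simp only at hbx
  have hxa : x ∈ cell P π a := by
    have h3 : x = b⁻¹ * s₁ := by rw [← hbx]; group
    rw [h3]
    exact BI_left P (h.BI_cell _) (P.B.inv_mem hb) (h.mem_cell_apply ⟨s₁, P.subset h1⟩)
  have hla : wlen (gensOf P π P.S) a = 1 := h.invGen.wlen_gen haS (h.gens_ne_one haS)
  have hlc : wlen (gensOf P π P.S) c = 1 := h.invGen.wlen_gen hcS (h.gens_ne_one hcS)
  have hlac : wlen (gensOf P π P.S) (a * c) = 2 := by
    have h3 := h.wlen_ne haS c
    have h4 := h.invGen.wlen_mul_left_le haS c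
    have h5 : wlen (gensOf P π P.S) (a * c) ≠ 0 := by
      intro h0
      have h6 := h.invGen.eq_one_of_wlen h0
      apply hac
      rw [← h.inv_gens hcS]
      exact eq_inv_of_mul_eq_one_left h6
    omega
  have hlca : wlen (gensOf P π P.S) (c * a) = 2 := by
    have h3 := h.wlen_ne hcS a
    have h4 := h.invGen.wlen_mul_left_le hcS a
    have h5 : wlen (gensOf P π P.S) (c * a) ≠ 0 := by
      intro h0
      have h6 := h.invGen.eq_one_of_wlen h0
      apply hac
      rw [← h.inv_gens hcS]
      exact (inv_eq_of_mul_eq_one_right h6).symm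
    omega
  have hcomm : c * a = a * c := by
    rcases lt_or_gt_of_ne (h.wlen_ne hcS (a * c)) with hlt | hgt
    · exact h.fold.fold c hcS c hcS a (by omega) (by rw [mul_assoc]; exact hlt)
    · exfalso
      have h3 := h.invGen.wlen_mul_left_le hcS (a * c)
      have hs2 : s₂ ∈ cell P π c := h.mem_cell_apply ⟨s₂, P.subset h2⟩
      have hs2' : s₂⁻¹ ∈ cell P π c := by
        have := h.inv_mem_cell hs2
        rwa [h.inv_gens hcS] at this
      have h4 : x * s₂⁻¹ ∈ cell P π (a * c) := h.lemA_a haS c (by omega) ⟨x, hxa, _, hs2', rfl⟩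
      have h5 : s₂ * (x * s₂⁻¹) ∈ cell P π (c * (a * c)) :=
        h.lemA_a hcS (a * c) hgt.le ⟨_, hs2, _, h4, rfl⟩
      have h6 : s₂ * (x * s₂⁻¹) ∈ P.B ⊔ H := by
        apply (le_sup_right : H ≤ P.B ⊔ H)
        have := (inferInstance : H.Normal).conj_mem x hx s₂
        rwa [mul_assoc] at this
      have h7 := h.lemB' [c, a, c] (by
        intro y hy
        simp only [List.mem_cons, List.not_mem_nil, or_false] at hy
        rcases hy with rfl | rfl | rfl
        · exact hcS
        · exact haS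
        · exact hcS) (by simp; omega) hBM (by simpa using h5) h6 c (by simp)
      exact h2M (h7 hs2)
  have hfin : π (⟨s₁, P.subset h1⟩ * ⟨s₂, P.subset h2⟩ * ⟨s₁, P.subset h1⟩⁻¹ * ⟨s₂, P.subset h2⟩⁻¹) = 1 := by
    simp only [map_mul, map_inv]
    rw [← ha, ← hc, ← hcomm]
    group
  exact (h.ker _).1 hfin


/-- Simplicity criterion for groups with a (B,N)-pair: if the distinguished generators admit no
splitting into two non-empty mutually commuting parts, `B` is solvable, `G` is perfect and the intersection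
of all conjugates of `B` is trivial, then `G` is simple. -/
theorem result {G : Type*} [Group G] [Nontrivial G]
    (P : Cfsg.BNPair G) (hirr : P.Irreducible) (hsolv : Group.IsSolvable P.B) (hperf : commutator G = ⊤)
    (hcore : P.B.normalCore = ⊥) : IsSimpleGroup G := by
  refine ⟨fun H hH => ?_⟩
  have hpar := Cfsg.Agent.Lib.Helper29.BN.eq_parabolic P (le_sup_left : P.B ≤ P.B ⊔ H)
  rcases Set.eq_empty_or_nonempty (P.S ∩ ((P.B ⊔ H : Subgroup G) : Set G)) with he | hne
  · left
    rw [he, Cfsg.Agent.Lib.Helper29.BN.parabolic_empty] at hpar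
    have hHB : H ≤ P.B := by
      rw [← hpar]; exact le_sup_right
    have := Subgroup.normal_le_normalCore.2 hHB
    rw [hcore] at this
    exact le_bot_iff.1 this
  · right
    have htop : P.B ⊔ H = ⊤ := by
      rcases Set.eq_empty_or_nonempty (P.S \ (P.S ∩ ((P.B ⊔ H : Subgroup G) : Set G))) with he' | hne'
      · have hS : P.S ∩ ((P.B ⊔ H : Subgroup G) : Set G) = P.S := by
          apply Set.Subset.antisymm Set.inter_subset_left
          exact Set.sdiff_eq_empty.1 he'
        rw [hS, Cfsg.Agent.Lib.Helper29.BN.parabolic_S] at hpar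
        exact hpar
      · exfalso
        obtain ⟨s, hs, s', hs', hns⟩ := hirr _ Set.inter_subset_left hne hne'
        apply hns
        apply commute_of_normal P H hs.1 hs'.1 hs.2
        intro hmem
        exact hs'.2 ⟨hs'.1, hmem⟩
    -- `G ⧸ H` is solvable and perfect
    have hsurj : Function.Surjective ((QuotientGroup.mk' H).comp P.B.subtype) := by
      intro q
      obtain ⟨g, rfl⟩ := QuotientGroup.mk'_surjective H q
      have hg : g ∈ ((P.B ⊔ H : Subgroup G) : Set G) := by rw [htop]; trivial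
      rw [Subgroup.mul_normal] at hg
      obtain ⟨b, hb, x, hx, rfl⟩ := hg
      refine ⟨⟨b, hb⟩, ?_⟩
      simp only [MonoidHom.comp_apply, Subgroup.subtype_apply, QuotientGroup.mk'_apply]
      rw [QuotientGroup.eq]
      simpa using hx
    have hsq : Group.IsSolvable (G ⧸ H) := Group.isSolvable_of_surjective hsurj
    have hpq : commutator (G ⧸ H) = ⊤ := by
      have h1 := Subgroup.map_commutator (⊤ : Subgroup G) ⊤ (QuotientGroup.mk' H)
      have h2 : (⊤ : Subgroup G).map (QuotientGroup.mk' H) = ⊤ :=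
        Subgroup.map_top_of_surjective _ (QuotientGroup.mk'_surjective H)
      rw [h2] at h1
      have h3 : ⁅(⊤ : Subgroup G), ⊤⁆ = ⊤ := hperf
      rw [h3, h2] at h1
      exact h1.symm
    apply QuotientGroup.subgroup_eq_top_of_subsingleton
    by_contra hns
    rw [not_subsingleton_iff_nontrivial] at hns
    exact (Group.IsSolvable.commutator_lt_top_of_nontrivial (G ⧸ H)).ne hpq

end Cfsg.Agent.S0319
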