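import Cfsg.Statements.S0323
-- import your own Cfsg.Agent.* helpers here

set_option autoImplicit false
open scoped Pointwise
open Cfsg

namespace Cfsg.Agent.S0323

/-- A doubly transitive action on a set with at least three points yields a (B,N)-pair of rank one:
`B` is the stabiliser of a point `x`, `N` the setwise stabiliser of a pair `{x, y}`. -/
theorem result {G Ω : Type*} [Group G] [MulAction G Ω]
    (h2 : MulAction.IsMultiplyPretransitive G Ω 2) {x y z : Ω} (hxy : x ≠ y) (hyz : y ≠ z) (hxz : x ≠ z) :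
    ∃ P : Cfsg.BNPair G, P.B = MulAction.stabilizer G x ∧
      P.N = MulAction.stabilizer G ({x, y} : Set Ω) ∧ P.rank = 1 := by
  have h2' : ∀ {a b c d : Ω}, a ≠ b → c ≠ d → ∃ g : G, g • a = c ∧ g • b = d :=
    MulAction.is_two_pretransitive_iff.1 h2
  obtain ⟨s, hsx, hsy⟩ := h2' hxy hxy.symm
  have hN : ∀ n : G, n ∈ MulAction.stabilizer G ({x, y} : Set Ω) ↔
      (n • x = x ∧ n • y = y) ∨ (n • x = y ∧ n • y = x) := by
    intro n
    rw [MulAction.mem_stabilizer_iff, Set.smul_set_insert, Set.smul_set_singleton,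
      Set.pair_eq_pair_iff]
  have hB : ∀ g : G, g ∈ MulAction.stabilizer G x ↔ g • x = x := fun g => MulAction.mem_stabilizer_iff
  have hsN : s ∈ MulAction.stabilizer G ({x, y} : Set Ω) := (hN s).2 (Or.inr ⟨hsx, hsy⟩)
  have hD : ∀ g g' : G, g • x ≠ x → g' • x ≠ x →
      g' ∈ DoubleCoset.doubleCoset g (MulAction.stabilizer G x : Set G) (MulAction.stabilizer G x) := by
    intro g g' hg hg'
    obtain ⟨b, hb1, hb2⟩ := h2' (Ne.symm hg) (Ne.symm hg')
    refine DoubleCoset.mem_doubleCoset.2 ⟨b, (hB b).2 hb1, (b * g)⁻¹ * g', ?_, by group⟩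
    apply (hB _).2
    rw [mul_smul, ← hb2, ← mul_smul b g, inv_smul_smul]
  refine ⟨{ B := MulAction.stabilizer G x, N := MulAction.stabilizer G ({x, y} : Set Ω), S := {s},
            sup_eq_top := ?_, conj_mem := ?_, subset := ?_, sq_mem := ?_, inj := ?_,
            closure_sup := ?_, mul_mem_union := ?_, conj_ne := ?_ }, rfl, rfl, ?_⟩
  · rw [eq_top_iff]
    intro g _
    by_cases hg : g • x = x
    · exact (le_sup_left : MulAction.stabilizer G x ≤ _) ((hB g).2 hg)
    · obtain ⟨b, hb1, hb2⟩ := h2' (Ne.symm hg) hxy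
      have h3 : (s * b * g) • x = x := by rw [mul_smul, mul_smul, hb2, hsy]
      have h4 : g = b⁻¹ * s⁻¹ * (s * b * g) := by group
      rw [h4]
      refine mul_mem (mul_mem ?_ ?_) ?_
      · exact (le_sup_left : MulAction.stabilizer G x ≤ _) (inv_mem ((hB b).2 hb1))
      · exact (le_sup_right : MulAction.stabilizer G ({x, y} : Set Ω) ≤ _) (inv_mem hsN)
      · exact (le_sup_left : MulAction.stabilizer G x ≤ _) ((hB _).2 h3)
  · intro n hn t ht
    have htx : t • x = x := (hB t).1 ht.1
    have hty : t • y = y := by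
      rcases (hN t).1 ht.2 with h | h
      · exact h.2
      · exact absurd (htx.symm.trans h.1) hxy
    apply (hB _).2
    rcases (hN n).1 hn with h | h
    · have : n⁻¹ • x = x := by rw [inv_smul_eq_iff, h.1]
      rw [mul_smul, mul_smul, this, htx, h.1]
    · have : n⁻¹ • x = y := by rw [inv_smul_eq_iff, h.2]
      rw [mul_smul, mul_smul, this, hty, h.2]
  · intro a ha
    rw [Set.mem_singleton_iff.1 ha]; exact hsN
  · intro a ha
    rw [Set.mem_singleton_iff.1 ha]
    apply (hB _).2
    rw [mul_smul, hsx, hsy]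
  · intro a ha a' ha' _
    rw [Set.mem_singleton_iff.1 ha, Set.mem_singleton_iff.1 ha']
  · apply le_antisymm
    · exact sup_le ((Subgroup.closure_le _).2 (Set.singleton_subset_iff.2 hsN)) inf_le_right
    · intro n hn
      rcases (hN n).1 hn with h | h
      · exact (le_sup_right : MulAction.stabilizer G x ⊓ MulAction.stabilizer G ({x, y} : Set Ω) ≤ _)
          ⟨(hB n).2 h.1, hn⟩
      · have h4 : n = s⁻¹ * (s * n) := by group
        rw [h4]
        refine mul_mem ?_ ?_
        · exact (le_sup_left : Subgroup.closure {s} ≤ _) (inv_mem (Subgroup.subset_closure rfl))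
        · refine (le_sup_right :
            MulAction.stabilizer G x ⊓ MulAction.stabilizer G ({x, y} : Set Ω) ≤ _) ⟨?_, ?_⟩
          · apply (hB _).2
            rw [mul_smul, h.1, hsy]
          · exact mul_mem hsN hn
  · intro a ha n hn b hb
    rw [Set.mem_singleton_iff.1 ha]
    have hbx : b • x = x := (hB b).1 hb
    rcases (hN n).1 hn with h | h
    · left
      apply hD
      · rw [mul_smul, h.1, hsx]; exact hxy.symm
      · rw [mul_smul, mul_smul, h.1, hbx, hsx]; exact hxy.symm
    · by_cases hc : (s * b * n) • x = x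
      · left
        have hsn : (s * n) • x = x := by rw [mul_smul, h.1, hsy]
        exact DoubleCoset.mem_doubleCoset.2
          ⟨s * b * n, (hB _).2 hc, (s * n)⁻¹, inv_mem ((hB _).2 hsn), by group⟩
      · right
        apply hD _ _ _ hc
        rw [h.1]; exact hxy.symm
  · intro a ha heq
    rw [Set.mem_singleton_iff.1 ha] at heq
    obtain ⟨b, hb1, hb2⟩ := h2' hxy hxz
    have h3 : s * b * s ∈ (MulAction.stabilizer G x : Set G) := by
      rw [← heq]
      exact ⟨b, (hB b).2 hb1, rfl⟩
    have h4 : (s * b * s) • x = x := (hB _).1 h3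
    rw [mul_smul, mul_smul, hsx, hb2, ← hsy] at h4
    exact hyz (smul_left_cancel s h4).symm
  · simp [Cfsg.BNPair.rank]

end Cfsg.Agent.S0323
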