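import Mathlib
import Cfsg.Statements.S0376
import Cfsg.Agent.Lib.Helper3.M24Trans

set_option autoImplicit false
open Cfsg

namespace Cfsg.Agent.S0376

/-- A point stabiliser in the group of the length-24 code has order 10200960 = 2^7·3^2·5·7·11·23. -/
theorem result (p : Cfsg.GolayPt) : Nat.card (MulAction.stabilizer Cfsg.M24 p) = 10200960 := by
  have h1 := (MulAction.stabilizer Cfsg.M24 p).card_mul_index
  have : MulAction.IsPretransitive Cfsg.M24 Cfsg.GolayPt := by
    rw [← MulAction.is_one_pretransitive_iff]
    exact Cfsg.Agent.Lib.Helper3.M24_trans_le (by norm_num)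
  rw [MulAction.index_stabilizer_of_transitive, Cfsg.Agent.Lib.Helper3.card_GolayPt,
    Cfsg.Agent.Lib.Helper3.card_M24] at h1
  omega

end Cfsg.Agent.S0376
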