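import Mathlib
import Cfsg.Statements.S0378
import Cfsg.Agent.Lib.Helper3.M24Trans

set_option autoImplicit false
open Cfsg

namespace Cfsg.Agent.S0378

/-- A two-point stabiliser in the group of the length-24 code has order 443520 = 2^7·3^2·5·7·11. -/
theorem result (p q : Cfsg.GolayPt) (hpq : p ≠ q) : Nat.card ↥(MulAction.stabilizer Cfsg.M24 p ⊓ MulAction.stabilizer Cfsg.M24 q) = 443520 := by
  have h1 := (MulAction.stabilizer Cfsg.M24 p).card_mul_index
  have : MulAction.IsPretransitive Cfsg.M24 Cfsg.GolayPt := by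
    rw [← MulAction.is_one_pretransitive_iff]
    exact Cfsg.Agent.Lib.Helper3.M24_trans_le (by norm_num)
  rw [MulAction.index_stabilizer_of_transitive, Cfsg.Agent.Lib.Helper3.card_GolayPt,
    Cfsg.Agent.Lib.Helper3.card_M24] at h1
  have h2 := Cfsg.Agent.Lib.Helper3.card_eq_orbit_mul (MulAction.stabilizer Cfsg.M24 p) q
  have h3 : MulAction.orbit (MulAction.stabilizer Cfsg.M24 p) q = ({p}ᶜ : Set Cfsg.GolayPt) := by
    ext r
    constructor
    · rintro ⟨⟨g, hg⟩, rfl⟩
      intro hr
      apply hpq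
      have h4 : g • q = p := hr
      have h5 : g • p = p := hg
      exact (MulAction.injective g (h4.trans h5.symm)).symm
    · intro hr
      have hr' : p ≠ r := fun h => hr h.symm
      obtain ⟨g, hg1, hg2⟩ := (MulAction.is_two_pretransitive_iff (G := Cfsg.M24) (α := Cfsg.GolayPt)).1
        (Cfsg.Agent.Lib.Helper3.M24_trans_le (by norm_num)) hpq hr'
      exact ⟨⟨g, hg1⟩, hg2⟩
  rw [h3, Set.ncard_compl, Set.ncard_singleton, Cfsg.Agent.Lib.Helper3.card_GolayPt] at h2
  omega

end Cfsg.Agent.S0378
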