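import Cfsg.Statements.S0096
import Mathlib
import Cfsg.Agent.Lib.Helper14.Class2
-- import your own Cfsg.Agent.* helpers here

set_option autoImplicit false
open Cfsg

namespace Cfsg.Agent.S0096

open scoped commutatorElement

/-- For odd p, in a p-group of class at most two the elements of order dividing p generate a subgroup of exponent dividing p. -/
theorem result {P : Type*} [Group P] [Finite P] {p : ℕ} [Fact p.Prime] (hp : p ≠ 2) (hP : IsPGroup p P) (h2 : ⁅commutator P, (⊤ : Subgroup P)⁆ = ⊥) (g : P) (hg : g ∈ Subgroup.closure {x : P | x ^ p = 1}) : g ^ p = 1 := by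
  have hcen := Cfsg.Agent.Lib.Helper14.comm_mem_center_of_class2 h2
  induction hg using Subgroup.closure_induction with
  | mem x hx => exact hx
  | one => exact one_pow _
  | mul x y _ _ hx hy =>
    rw [Cfsg.Agent.Lib.Helper14.mul_pow_prime_class2 Fact.out hp x y (hcen y x), hx, hy, one_mul]
    rw [← Cfsg.Agent.Lib.Helper14.comm_pow_left y x (hcen y x) p, hy]
    simp [commutatorElement_def]
  | inv x _ hx => rw [inv_pow, hx, inv_one]

end Cfsg.Agent.S0096
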