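import Cfsg.Statements.S3836
import Cfsg.Agent.Lib.Helper23.SylNum
import Mathlib

set_option autoImplicit false
open Cfsg

namespace Cfsg.Agent.S3836

open Cfsg.Agent.Lib.Helper17 Cfsg.Agent.Lib.Helper23

/-- Let G be a finite group that is p-stable in the normalizer form: for every p-subgroup Q and every x ∈ N_G(Q) with [Q, x, x] = 1, the image of x in N_G(Q)/C_G(Q) lies in O_p(N_G(Q)/C_G(Q)). Then every subgroup of G is p-stable in the same sense. -/
theorem result {G : Type*} [Group G] [Finite G] {p : ℕ} [Fact p.Prime] (hst : Cfsg.IsNormalizerPStable p G) (H : Subgroup G) : Cfsg.IsNormalizerPStable p ↥H := by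
  intro P hP g hg hquad
  set P' : Subgroup G := P.map H.subtype with hP'def
  have hP' : IsPGroup p P' := hP.map _
  have hN : ∀ x : H, x ∈ Subgroup.normalizer (P : Set H) → (x : G) ∈ Subgroup.normalizer (P' : Set G) := by
    intro x hx
    rw [normalizer_eq_subgroupOf] at hx
    exact hx
  have hg' : (g : G) ∈ Subgroup.normalizer (P' : Set G) := hN g hg
  have hquad' : ⁅⁅P', Subgroup.zpowers (g : G)⁆, Subgroup.zpowers (g : G)⁆ = ⊥ := by
    have : Subgroup.zpowers (g : G) = (Subgroup.zpowers g).map H.subtype := by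
      rw [MonoidHom.map_zpowers]; rfl
    rw [this, ← Subgroup.map_commutator, ← Subgroup.map_commutator, hquad, Subgroup.map_bot]
  have h := hst P' hP' g hg' hquad'
  let f : ↥(Subgroup.normalizer (P : Set H)) →* ↥(Subgroup.normalizer (P' : Set G)) :=
    { toFun := fun x => ⟨((x : H) : G), hN x x.2⟩
      map_one' := rfl
      map_mul' := fun _ _ => rfl }
  have hle : (Subgroup.centralizer (P : Set H)).subgroupOf (Subgroup.normalizer (P : Set H)) ≤
      ((Subgroup.centralizer (P' : Set G)).subgroupOf (Subgroup.normalizer (P' : Set G))).comap f := by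
    intro x hx
    rw [Subgroup.mem_comap, Subgroup.mem_subgroupOf, Subgroup.mem_centralizer_iff]
    rw [Subgroup.mem_subgroupOf, Subgroup.mem_centralizer_iff] at hx
    rintro _ ⟨y, hy, rfl⟩
    exact congrArg Subtype.val (hx y hy)
  let ι := QuotientGroup.map _ _ f hle
  have hinj : Function.Injective ι := by
    rw [injective_iff_map_eq_one]
    intro x hx
    obtain ⟨x, rfl⟩ := QuotientGroup.mk_surjective x
    have hx' : (QuotientGroup.mk (f x) : ↥(Subgroup.normalizer (P' : Set G)) ⧸
      (Subgroup.centralizer (P' : Set G)).subgroupOf (Subgroup.normalizer (P' : Set G))) = 1 := hx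
    rw [QuotientGroup.eq_one_iff, Subgroup.mem_subgroupOf, Subgroup.mem_centralizer_iff] at hx'
    rw [QuotientGroup.eq_one_iff, Subgroup.mem_subgroupOf, Subgroup.mem_centralizer_iff]
    intro y hy
    apply Subtype.ext
    exact hx' y ⟨y, hy, rfl⟩
  have hmem : (QuotientGroup.mk (s := (Subgroup.centralizer (P : Set H)).subgroupOf (Subgroup.normalizer (P : Set H)))
      (⟨g, hg⟩ : ↥(Subgroup.normalizer (P : Set H)))) ∈ (pCore p _).comap ι := h
  refine le_pCore ?_ ?_ hmem
  · have : (pCore p (↥(Subgroup.normalizer (P' : Set G)) ⧸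
      (Subgroup.centralizer (P' : Set G)).subgroupOf (Subgroup.normalizer (P' : Set G)))).Normal :=
      inferInstance
    exact this.comap ι
  · exact pCore_isPGroup.comap_of_injective ι hinj

end Cfsg.Agent.S3836
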