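import Cfsg.Statements.S0540
import Mathlib
import Cfsg.Agent.Lib.Helper4.Subnormal2

set_option autoImplicit false
open Pointwise
open Cfsg

namespace Cfsg.Agent.S0540

/-- A uniqueness lemma of zipper type. Let A be a subgroup of a finite group G and U a nonempty family of subgroups. For V in U write S(V) for the set of conjugates of A that lie in V and are subnormal in V. Assume: A belongs to S(V) for every V in U; a member of some S(W) that lies in V belongs to S(V); and for all V, W in U the normalizer of the join of S(V) ∩ S(W) lies in some member of U. Then U has a greatest element. -/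
theorem result {G : Type*} [Group G] [Finite G] (A : Subgroup G) (U : Set (Subgroup G)) (hU : U.Nonempty) (S : Subgroup G → Set (Subgroup G)) (hS : ∀ V B : Subgroup G, B ∈ S V ↔ (∃ g : G, B = MulAut.conj g • A) ∧ B ≤ V ∧ (B.subgroupOf V).IsSubnormal) (h1 : ∀ V ∈ U, A ∈ S V) (h2 : ∀ V ∈ U, ∀ W ∈ U, ∀ B ∈ S W, B ≤ V → B ∈ S V) (h3 : ∀ V ∈ U, ∀ W ∈ U, ∃ X ∈ U, Subgroup.normalizer ((sSup (S V ∩ S W) : Subgroup G) : Set G) ≤ X) : ∃ M ∈ U, ∀ V ∈ U, V ≤ M := by
  classical
  have hfinU : U.Finite := Set.toFinite U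
  -- S V is closed under conjugation by V
  have hclosed : ∀ V : Subgroup G, ∀ B ∈ S V, ∀ v ∈ V, MulAut.conj v • B ∈ S V := by
    intro V B hB v hv
    obtain ⟨⟨g, rfl⟩, hBV, hBsn⟩ := (hS V B).mp hB
    refine (hS V _).mpr ⟨⟨v * g, by rw [map_mul, mul_smul]⟩, Subgroup.conj_smul_le_of_le hBV ⟨v, hv⟩, ?_⟩
    rw [← Subgroup.conj_smul_subgroupOf hBV ⟨v, hv⟩]
    exact hBsn.smul _
  -- any two maximal members coincide
  have key : ∀ V W : Subgroup G, Maximal (· ∈ U) V → Maximal (· ∈ U) W → V = W := by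
    by_contra hcon
    push Not at hcon
    obtain ⟨V₀, W₀, hV₀, hW₀, hne₀⟩ := hcon
    let P : Set (Subgroup G × Subgroup G) :=
      {x | Maximal (· ∈ U) x.1 ∧ Maximal (· ∈ U) x.2 ∧ x.1 ≠ x.2}
    obtain ⟨⟨V, W⟩, ⟨hV, hW, hne⟩, hmax⟩ := Set.exists_max_image P (fun x => (S x.1 ∩ S x.2).ncard)
      (Set.toFinite P) ⟨(V₀, W₀), hV₀, hW₀, hne₀⟩
    obtain ⟨X, hXU, hX⟩ := h3 V hV.prop W hW.prop
    obtain ⟨X', hXX', hX'⟩ := hfinU.exists_le_maximal hXU
    have hNX' : Subgroup.normalizer ((sSup (S V ∩ S W) : Subgroup G) : Set G) ≤ X' := hX.trans hXX'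
    have hsub : S V ∩ S W ⊆ S X' := by
      intro C hC
      apply h2 X' hX'.prop V hV.prop C hC.1
      exact (le_sSup hC).trans (Subgroup.le_normalizer.trans hNX')
    -- general step
    have step : ∀ V₁ W₁ : Subgroup G, Maximal (· ∈ U) V₁ → S V ∩ S W ⊆ S V₁ →
        (∀ Y : Subgroup G, Maximal (· ∈ U) Y → V₁ ≠ Y → (S V₁ ∩ S Y).ncard ≤ (S V ∩ S W).ncard) →
        V₁ = X' := by
      intro V₁ _ hV₁ hsub₁ hmax₁
      by_cases heq : S V ∩ S W = S V₁
      · -- V₁ normalizes the join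
        apply le_antisymm _ (hV₁.le_of_ge hX'.prop _) <;>
        · refine le_trans ?_ hNX'
          rw [heq]
          apply Lib.Helper4.le_normalizer_of_conj_mem
          intro c hc
          have hle : sSup (S V₁) ≤ (sSup (S V₁) : Subgroup G).comap (MulAut.conj c).toMonoidHom := by
            apply sSup_le
            intro B hB x hx
            exact le_sSup (hclosed V₁ B hB c hc) (Subgroup.smul_mem_pointwise_smul x (MulAut.conj c) B hx)
          intro x hx
          exact hle hx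
      · have hss : S V ∩ S W ⊂ S V₁ := lt_of_le_of_ne hsub₁ heq
        obtain ⟨B, hB, hBn, hBN⟩ := Lib.Helper4.rel_family V₁ (S V₁) (S V ∩ S W)
          (fun B hB => ((hS V₁ B).mp hB).2) (hclosed V₁) hss
        by_contra hne'
        have h4 := hmax₁ X' hX' hne'
        have hBX' : B ∈ S X' := h2 X' hX'.prop V₁ hV₁.prop B hB (hBN.trans hNX')
        have h5 : S V ∩ S W ⊂ S V₁ ∩ S X' := by
          refine ⟨fun C hC => ⟨hsub₁ hC, hsub hC⟩, fun h => hBn (h ⟨hB, hBX'⟩)⟩
        have h6 := Set.ncard_lt_ncard h5 (Set.toFinite _)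
        omega
    have e1 : V = X' := step V W hV Set.inter_subset_left
      (fun Y hY hne' => hmax (V, Y) ⟨hV, hY, hne'⟩)
    have e2 : W = X' := step W V hW Set.inter_subset_right
      (fun Y hY hne' => hmax (W, Y) ⟨hW, hY, hne'⟩)
    exact hne (e1.trans e2.symm)
  obtain ⟨V₀, hV₀⟩ := hU
  obtain ⟨M, -, hM⟩ := hfinU.exists_le_maximal hV₀
  refine ⟨M, hM.prop, fun V hV => ?_⟩
  obtain ⟨M', hVM', hM'⟩ := hfinU.exists_le_maximal hV
  rw [key M M' hM hM']
  exact hVM'

end Cfsg.Agent.S0540
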