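import Cfsg.Statements.S0066
import Mathlib
import Cfsg.Agent.S0540
import Cfsg.Agent.Lib.Helper15.Frob
import Cfsg.Agent.Lib.Helper1.Basic

set_option autoImplicit false
open Pointwise
open Cfsg

namespace Cfsg.Agent.S0066


universe u

theorem subn_conj {G : Type*} [Group G] {A L : Subgroup G} (g : G)
    (h : (A.subgroupOf L).IsSubnormal) :
    ((MulAut.conj g • A).subgroupOf (MulAut.conj g • L)).IsSubnormal := by
  let f : ↥(MulAut.conj g • L) →* ↥L :=
    { toFun := fun x => ⟨g⁻¹ * x * g, Cfsg.Agent.Lib.Helper15.mem_conj_smul_iff.mp x.2⟩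
      map_one' := by ext; simp
      map_mul' := by intro x y; ext; simp only [Subgroup.coe_mul]; group }
  have : (MulAut.conj g • A).subgroupOf (MulAut.conj g • L) = (A.subgroupOf L).comap f := by
    ext x
    rw [Subgroup.mem_subgroupOf, Subgroup.mem_comap, Subgroup.mem_subgroupOf,
      Cfsg.Agent.Lib.Helper15.mem_conj_smul_iff]
    rfl
  rw [this]; exact h.comap f

theorem subn_restrict {G : Type*} [Group G] {A T V : Subgroup G} (hTV : T ≤ V)
    (h : (A.subgroupOf V).IsSubnormal) : (A.subgroupOf T).IsSubnormal := by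
  have : A.subgroupOf T = (A.subgroupOf V).comap (Subgroup.inclusion hTV) := by
    ext x; rfl
  rw [this]; exact h.comap _

theorem subn_sub {G : Type*} [Group G] {B L V : Subgroup G} (hLV : L ≤ V)
    (h : (B.subgroupOf L).IsSubnormal) :
    ((B.subgroupOf V).subgroupOf (L.subgroupOf V)).IsSubnormal := by
  have : (B.subgroupOf V).subgroupOf (L.subgroupOf V)
      = (B.subgroupOf L).comap (Subgroup.subgroupOfEquivOfLe hLV).toMonoidHom := by
    ext x; rfl
  rw [this]; exact h.comap _

theorem aux : ∀ (n : ℕ) (G : Type u) [Group G] [Finite G], Nat.card G = n → ∀ A : Subgroup G,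
    (∀ g : G, (A.subgroupOf (A ⊔ MulAut.conj g • A)).IsSubnormal) → A.IsSubnormal := by
  intro n
  induction n using Nat.strong_induction_on with
  | _ n ih =>
  intro G _ _ hn A h
  by_contra hA
  have hconj : ∀ g x : G, ((MulAut.conj g • A).subgroupOf
      (MulAut.conj g • A ⊔ MulAut.conj x • MulAut.conj g • A)).IsSubnormal := by
    intro g x
    have h1 := subn_conj g (h (g⁻¹ * x * g))
    have h2 : MulAut.conj g • (A ⊔ MulAut.conj (g⁻¹ * x * g) • A)
        = MulAut.conj g • A ⊔ MulAut.conj x • MulAut.conj g • A := by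
      rw [Subgroup.smul_sup, smul_smul, smul_smul, ← map_mul, ← map_mul]
      congr 3
      group
    rwa [h2] at h1
  have KF : ∀ V : Subgroup G, V ≠ ⊤ → ∀ g : G, MulAut.conj g • A ≤ V →
      ((MulAut.conj g • A).subgroupOf V).IsSubnormal := by
    intro V hV g hgV
    have hcard : Nat.card V < n := by
      rw [← hn, ← Subgroup.card_top (G := G)]
      exact Cfsg.Agent.Lib.Helper1.card_lt_of_lt (lt_top_iff_ne_top.mpr hV)
    apply ih _ hcard V rfl
    intro v
    have h1 := hconj g (v : G)
    have hvB : MulAut.conj (v : G) • MulAut.conj g • A ≤ V := Subgroup.conj_smul_le_of_le hgV v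
    have h2 := subn_sub (sup_le hgV hvB) h1
    rw [Subgroup.subgroupOf_sup hgV hvB, ← Subgroup.conj_smul_subgroupOf hgV v] at h2
    exact h2
  let 𝒰 : Set (Subgroup G) := {U | A ≤ U ∧ U ≠ ⊤}
  let S : Subgroup G → Set (Subgroup G) := fun V =>
    {B | (∃ g : G, B = MulAut.conj g • A) ∧ B ≤ V ∧ (B.subgroupOf V).IsSubnormal}
  have hAtop : A ≠ ⊤ := fun e => hA (e ▸ Subgroup.IsSubnormal.top)
  have hmemS : ∀ V ∈ 𝒰, ∀ g : G, MulAut.conj g • A ≤ V → MulAut.conj g • A ∈ S V :=
    fun V hV g hg => ⟨⟨g, rfl⟩, hg, KF V hV.2 g hg⟩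
  have hAS : ∀ V ∈ 𝒰, A ∈ S V := by
    intro V hV
    have := hmemS V hV 1 (by simpa using hV.1)
    simpa using this
  obtain ⟨M, hM, hMmax⟩ := Cfsg.Agent.S0540.result A 𝒰 ⟨A, le_rfl, hAtop⟩ S (fun V B => Iff.rfl) hAS
    (by
      intro V hV W hW B hB hBV
      obtain ⟨⟨g, rfl⟩, -, -⟩ := hB
      exact hmemS V hV g hBV)
    (by
      intro V hV W hW
      have hAT : A ≤ sSup (S V ∩ S W) := le_sSup ⟨hAS V hV, hAS W hW⟩
      refine ⟨Subgroup.normalizer ((sSup (S V ∩ S W) : Subgroup G) : Set G), ⟨?_, ?_⟩, le_rfl⟩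
      · exact hAT.trans Subgroup.le_normalizer
      · intro htop
        apply hA
        have hTn : (sSup (S V ∩ S W)).Normal := Subgroup.normalizer_eq_top_iff.mp htop
        have hTV : sSup (S V ∩ S W) ≤ V := sSup_le (fun B hB => hB.1.2.1)
        exact Subgroup.IsSubnormal.trans hAT (subn_restrict hTV (hAS V hV).2.2) hTn.isSubnormal)
  by_cases hex : ∃ g : G, A ⊔ MulAut.conj g • A = ⊤
  · obtain ⟨g, hg⟩ := hex
    have := h g
    rw [hg] at this
    exact hA (Subgroup.IsSubnormal.trans le_top this Subgroup.IsSubnormal.top)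
  · push Not at hex
    have hall : ∀ g : G, MulAut.conj g • A ≤ M :=
      fun g => le_sup_right.trans (hMmax _ ⟨le_sup_left, hex g⟩)
    have hAN : A ≤ M.normalCore := by
      intro a ha b
      apply hall b
      rw [Cfsg.Agent.Lib.Helper15.mem_conj_smul_iff]
      convert ha using 1
      group
    have hNtop : M.normalCore ≠ ⊤ := fun e => hM.2 (top_le_iff.mp (e ▸ M.normalCore_le))
    have := KF M.normalCore hNtop 1 (by simpa using hAN)
    rw [map_one, one_smul] at this
    exact hA (Subgroup.IsSubnormal.trans hAN this (M.normalCore_normal).isSubnormal)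

/-- Wielandt's subnormality criterion: a subgroup that is subnormal in its join with each of its conjugates is subnormal in the whole finite group. -/
theorem result {G : Type*} [Group G] [Finite G] (A : Subgroup G)
    (h : ∀ g : G, (A.subgroupOf (A ⊔ MulAut.conj g • A)).IsSubnormal) : A.IsSubnormal := by
  exact aux _ G rfl A h

end Cfsg.Agent.S0066
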