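import Cfsg.Statements.S0073
import Mathlib
import Cfsg.Agent.Lib.Lead.PRes
import Cfsg.Agent.Lib.Lead.NC

set_option autoImplicit false
open Cfsg

namespace Cfsg.Agent.S0073

/-- For a finite non-abelian simple group, either the cube of the least prime divisor of the order divides the order, or 12 does. -/
theorem result {G : Type*} [Group G] [Finite G] [IsSimpleGroup G] (hG : ∃ x y : G, x * y ≠ y * x) : (Nat.card G).minFac ^ 3 ∣ Nat.card G ∨ 12 ∣ Nat.card G := by
  by_contra hcon
  push Not at hcon
  obtain ⟨hc3, hc12⟩ := hcon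
  have hne1 : Nat.card G ≠ 1 := by
    have := Finite.one_lt_card (α := G)
    omega
  obtain ⟨p, hp⟩ : ∃ p, p = (Nat.card G).minFac := ⟨_, rfl⟩
  rw [← hp] at hc3
  have hpp : p.Prime := hp ▸ Nat.minFac_prime hne1
  have : Fact p.Prime := ⟨hpp⟩
  have hpG : p ∣ Nat.card G := hp ▸ Nat.minFac_dvd _
  let P : Sylow p G := default
  obtain ⟨k, hk⟩ : ∃ k, k = (Nat.card G).factorization p := ⟨_, rfl⟩
  have hcardP : Nat.card P = p ^ k := hk ▸ P.card_eq_multiplicity
  have hk1 : 1 ≤ k := hk ▸ (hpp.factorization_pos_of_dvd Nat.card_pos.ne' hpG)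
  have hkdvd : p ^ k ∣ Nat.card G := hk ▸ Nat.ordProj_dvd _ _
  have hk2 : k ≤ 2 := by
    by_contra h
    push Not at h
    exact hc3 ((pow_dvd_pow p h).trans hkdvd)
  have hcomm : IsMulCommutative P := by
    have : k = 1 ∨ k = 2 := by omega
    rcases this with rfl | rfl
    · have hcyc : IsCyclic P := isCyclic_of_prime_card (p := p) (by simpa using hcardP)
      obtain ⟨g, hg⟩ := hcyc.exists_generator
      refine ⟨⟨fun a b => ?_⟩⟩
      obtain ⟨m, rfl⟩ := Subgroup.mem_zpowers_iff.mp (hg a)
      obtain ⟨n, rfl⟩ := Subgroup.mem_zpowers_iff.mp (hg b)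
      rw [← zpow_add, ← zpow_add, add_comm]
    · exact IsPGroup.isMulCommutative_of_card_eq_prime_sq hcardP
  have hNC : Subgroup.normalizer (P : Set G) ≤ Subgroup.centralizer (P : Set G) := by
    apply Cfsg.Agent.Lib.Lead.normalizer_le_centralizer_of_card P hcomm
    intro q hq hqG hqp D hD hdvd
    have hpq : p < q := by
      have : p ≤ q := hp ▸ Nat.minFac_le_of_dvd hq.two_le hqG
      omega
    have h1 : Nat.card D ∣ p ^ k := hcardP ▸ Subgroup.card_subgroup_dvd_card D
    obtain ⟨j, hj, hDj⟩ := (Nat.dvd_prime_pow hpp).mp h1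
    have hjk : j ≠ k := by
      rintro rfl
      exact hD (Subgroup.eq_top_of_card_eq D (hDj.trans hcardP.symm))
    rw [hcardP, hDj] at hdvd
    have hp2 := hpp.two_le
    have hnot1 : ¬ q ∣ p - 1 := by
      intro h
      have := Nat.le_of_dvd (by omega) h
      omega
    have hnotp : ¬ q ∣ p := by
      intro h
      exact hqp ((Nat.prime_dvd_prime_iff_eq hq hpp).mp h)
    have hcases : (k = 1 ∧ j = 0) ∨ (k = 2 ∧ j = 0) ∨ (k = 2 ∧ j = 1) := by omega
    rcases hcases with ⟨rfl, rfl⟩ | ⟨rfl, rfl⟩ | ⟨rfl, rfl⟩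
    · apply hnot1; simpa using hdvd
    · have e : p ^ 2 - p ^ 0 = (p - 1) * (p + 1) := by
        obtain ⟨r, rfl⟩ : ∃ r, p = r + 1 := ⟨p - 1, by omega⟩
        simp only [pow_zero, Nat.add_sub_cancel]
        have : (r + 1) ^ 2 = r * (r + 1 + 1) + 1 := by ring
        omega
      rw [e] at hdvd
      rcases (Nat.Prime.dvd_mul hq).mp hdvd with h | h
      · exact hnot1 h
      · have hle := Nat.le_of_dvd (by omega) h
        have hq' : q = p + 1 := by omega
        have hp2' : p = 2 := by
          rcases hpp.eq_two_or_odd' with h2 | hodd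
          · exact h2
          · exfalso
            have heven : Even q := by rw [hq']; exact hodd.add_one
            have := (Nat.Prime.even_iff hq).mp heven
            omega
        subst hp2'
        apply hc12
        have h3 : 3 ∣ Nat.card G := by rw [hq'] at hqG; exact hqG
        have h4 : 4 ∣ Nat.card G := by simpa using hkdvd
        exact Nat.Coprime.mul_dvd_of_dvd_of_dvd (by norm_num : Nat.Coprime 4 3) h4 h3
    · have e : p ^ 2 - p ^ 1 = p * (p - 1) := by
        rw [Nat.mul_sub, mul_one, pow_one, sq]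
      rw [e] at hdvd
      rcases (Nat.Prime.dvd_mul hq).mp hdvd with h | h
      · exact hnotp h
      · exact hnot1 h
  have hc := MonoidHom.ker_transferSylow_isComplement' P hNC
  have hmul := hc.card_mul_card
  have hn : (MonoidHom.transferSylow P hNC).ker.Normal := inferInstance
  rcases hn.eq_bot_or_eq_top with h | h
  · rw [h, Subgroup.card_bot, one_mul] at hmul
    have htop : (P : Subgroup G) = ⊤ := Subgroup.eq_top_of_card_eq _ hmul
    obtain ⟨x, y, hxy⟩ := hG
    apply hxy
    have hx : x ∈ (P : Subgroup G) := htop ▸ Subgroup.mem_top x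
    have hy : y ∈ (P : Subgroup G) := htop ▸ Subgroup.mem_top y
    exact congrArg Subtype.val (hcomm.is_comm.comm ⟨x, hx⟩ ⟨y, hy⟩)
  · rw [h, Subgroup.card_top] at hmul
    have h1 : Nat.card (P : Subgroup G) = 1 := by
      have hpos : 0 < Nat.card G := Nat.card_pos
      exact Nat.eq_of_mul_eq_mul_left hpos (by rw [hmul, mul_one])
    have h2 : Nat.card (P : Subgroup G) = p ^ k := hcardP
    rw [h2] at h1
    have := Nat.one_lt_pow (by omega : k ≠ 0) hpp.one_lt
    omega

end Cfsg.Agent.S0073
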