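import Cfsg.Statements.S0081
-- import your own Cfsg.Agent.* helpers here
import Cfsg.Agent.Lib.Helper13.Tate

set_option autoImplicit false
open Cfsg

namespace Cfsg.Agent.S0081

open Cfsg.Agent.Lib.Helper13 Cfsg.Agent.Lib.Helper17

/-- If a normal subgroup meets a Sylow p-subgroup P inside the Frattini subgroup of P, then it has a normal p-complement. -/
theorem result {G : Type*} [Group G] [Finite G] {p : ℕ} [Fact p.Prime] (P : Sylow p G) (N : Subgroup G) [N.Normal] (h : N ⊓ (P : Subgroup G) ≤ (frattini P).map (P : Subgroup G).subtype) : Cfsg.HasNormalPComplement p N := by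
  have hp : p.Prime := Fact.out
  set M : Subgroup G := (Cfsg.pResidual p N).map N.subtype with hMdef
  have hMn : M.Normal := inferInstance
  have hMN : M ≤ N := Subgroup.map_subtype_le _
  have hM : M ≤ Subgroup.closure {g : G | g ∈ M ∧ (orderOf g).Coprime p} := by
    conv_lhs => rw [hMdef, pResidual_map_subtype]
    refine (Subgroup.closure_le _).mpr fun g hg => Subgroup.subset_closure ⟨?_, hg.2⟩
    rw [hMdef, pResidual_map_subtype]
    exact Subgroup.subset_closure hg
  have hPres : Cfsg.pResidual p (P : Subgroup G) = ⊥ := by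
    rw [eq_bot_iff, pResidual_le_iff]
    intro g hg
    obtain ⟨k, hk⟩ := (isPGroup_iff_pow_pow_eq_one.mp P.2) g
    have h2 : orderOf g ∣ Nat.gcd (orderOf g) (p ^ k) :=
      Nat.dvd_gcd dvd_rfl (orderOf_dvd_of_pow_eq_one hk)
    rw [Nat.Coprime.pow_right k hg] at h2
    exact Subgroup.mem_bot.mpr (orderOf_eq_one_iff.mp (Nat.dvd_one.mp h2))
  have main : M.subgroupOf (P : Subgroup G) ≤ Cfsg.pResidual p (P : Subgroup G) := by
    apply tate_index_p M hM (P : Subgroup G) P.not_dvd_index (by rw [hPres]; exact bot_le)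
    intro Y hYn hYi
    have hco : IsCoatom Y := by
      refine ⟨fun h => ?_, fun Z hZ => ?_⟩
      · rw [h, Subgroup.index_top] at hYi
        exact hp.one_lt.ne hYi
      · have h1 := Subgroup.relIndex_mul_index hZ.le
        rw [hYi] at h1
        have h2 : Z.index ∣ p := ⟨_, by rw [mul_comm]; exact h1.symm⟩
        rcases (Nat.dvd_prime hp).mp h2 with h3 | h3
        · exact Subgroup.index_eq_one.mp h3
        · exfalso
          rw [h3] at h1
          have h4 : Y.relIndex Z = 1 := by
            have := Nat.eq_of_mul_eq_mul_right hp.pos (by rw [one_mul]; exact h1 : Y.relIndex Z * p = 1 * p)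
            exact this
          exact absurd (Subgroup.relIndex_eq_one.mp h4) (not_le_of_gt hZ)
    intro x hx
    apply frattini_le_coatom hco
    have h1 := h (Subgroup.mem_inf.mpr ⟨hMN (Subgroup.mem_subgroupOf.mp hx), x.2⟩)
    obtain ⟨y, hy, e⟩ := h1
    have : y = x := Subtype.ext e
    rwa [this] at hy
  rw [hPres] at main
  have hMP : ∀ x ∈ M, x ∈ (P : Subgroup G) → x = 1 := by
    intro x hx hxP
    have := main (Subgroup.mem_subgroupOf.mpr hx : (⟨x, hxP⟩ : (P : Subgroup G)) ∈ _)
    exact congrArg Subtype.val (Subgroup.mem_bot.mp this)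
  obtain ⟨Q⟩ : Nonempty (Sylow p N) := inferInstance
  refine ⟨Q, Cfsg.pResidual p N, inferInstance, ?_⟩
  apply Subgroup.isComplement'_of_disjoint_and_mul_eq_univ
  · rw [disjoint_iff, eq_bot_iff]
    rintro x ⟨hx1, hx2⟩
    have hxM : (x : G) ∈ M := ⟨x, hx1, rfl⟩
    have hQp : IsPGroup p ((Q : Subgroup N).map N.subtype) := Q.2.map _
    obtain ⟨P', hP'⟩ := hQp.exists_le_sylow
    obtain ⟨g, hg⟩ := MulAction.exists_smul_eq G P' P
    have h1 : g * (x : G) * g⁻¹ ∈ (P : Subgroup G) := by
      rw [← hg, Sylow.coe_subgroup_smul]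
      exact ⟨x, hP' ⟨x, hx2, rfl⟩, rfl⟩
    have h2 := hMP _ (hMn.conj_mem _ hxM g) h1
    have h3 : (x : G) = 1 := by
      have : (x : G) = g⁻¹ * (g * (x : G) * g⁻¹) * g := by group
      rw [this, h2]; group
    exact Subgroup.mem_bot.mpr (Subtype.ext h3)
  · rw [← Subgroup.normal_mul, pResidual_sup_sylow]
    rfl

end Cfsg.Agent.S0081
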