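import Cfsg.Statements.S0095
import Mathlib
import Cfsg.Agent.Lib.Helper14.Pairing
import Cfsg.Agent.Lib.Helper14.MaxAbelian
-- import your own Cfsg.Agent.* helpers here

set_option autoImplicit false
open Cfsg

namespace Cfsg.Agent.S0095

open scoped commutatorElement

/-- The order of an extraspecial p-group is an odd power p^(2n+1) of p with n ≥ 1. -/
theorem result {P : Type*} [Group P] [Finite P] {p : ℕ} [Fact p.Prime] (h : Cfsg.IsExtraspecial p P) : ∃ n : ℕ, 1 ≤ n ∧ Nat.card P = p ^ (2 * n + 1) := by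
  obtain ⟨⟨hP, hΦ, hC⟩, hcard⟩ := h
  have hp : p.Prime := Fact.out
  obtain ⟨A, hZA, hAcomm, hAc⟩ := Cfsg.Agent.Lib.Helper14.exists_maximal_abelian (Subgroup.center P)
    inferInstance
  have hpair := Cfsg.Agent.Lib.Helper14.comm_pairing (Subgroup.center P) ⊤ A le_rfl hcard (by
    intro x _ y _
    rw [← hC]
    exact Subgroup.commutator_mem_commutator (Subgroup.mem_top x) (Subgroup.mem_top y))
  rw [hAc, Subgroup.relIndex_top_right, Subgroup.coe_top, Subgroup.centralizer_univ] at hpair
  have h1 : Nat.card A = p * A.index := by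
    rw [← Subgroup.relIndex_bot_left, ← Subgroup.relIndex_mul_relIndex ⊥ (Subgroup.center P) A bot_le hZA,
      Subgroup.relIndex_bot_left, hcard, hpair]
  have h2 : Nat.card P = p * A.index * A.index := by
    rw [← Subgroup.card_mul_index A, h1]
  obtain ⟨m, hm⟩ := IsPGroup.iff_card.mp hP
  have h3 : A.index ∣ p ^ m := by
    rw [← hm]; exact Subgroup.index_dvd_card A
  obtain ⟨n, -, hn⟩ := (Nat.dvd_prime_pow hp).mp h3
  refine ⟨n, ?_, ?_⟩
  · by_contra hcon
    have hn0 : n = 0 := by omega
    rw [hn0, pow_zero, Subgroup.index_eq_one] at hn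
    have hcommP : IsMulCommutative P := by
      refine ⟨⟨fun x y => ?_⟩⟩
      have := hAcomm.is_comm.comm ⟨x, hn ▸ Subgroup.mem_top x⟩ ⟨y, hn ▸ Subgroup.mem_top y⟩
      exact congrArg Subtype.val this
    rw [(commutator_eq_bot_iff P).mpr hcommP] at hC
    rw [← hC, Subgroup.card_bot] at hcard
    exact hp.one_lt.ne hcard
  · rw [h2, hn]; ring

end Cfsg.Agent.S0095
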