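import Cfsg.Statements.S0218
import Mathlib
import Cfsg.Agent.Lib.Helper21.DihQuat
-- import your own Cfsg.Agent.* helpers here

set_option autoImplicit false
open Cfsg

namespace Cfsg.Agent.S0218

open QuaternionGroup in
theorem invol_unique (N : ℕ) [NeZero N] (x : QuaternionGroup N) (hx : orderOf x = 2) :
    x = a (N : ZMod (2 * N)) := by
  cases x with
  | a i =>
    have h2 : (a i : QuaternionGroup N) * a i = 1 := by
      have := pow_orderOf_eq_one (a i : QuaternionGroup N)
      rwa [hx, pow_two] at this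
    have h1 : (a i : QuaternionGroup N) ≠ 1 := by
      intro h1
      rw [h1, orderOf_one] at hx
      omega
    rw [a_mul_a, one_def, a.injEq] at h2
    rw [one_def, Ne, a.injEq] at h1
    rcases Cfsg.Agent.Lib.Helper21.zmod_add_self_eq_zero i h2 with h | h
    · exact absurd h h1
    · rw [h]
      congr 2
      omega
  | xa i =>
    rw [orderOf_xa] at hx
    omega

open QuaternionGroup in
theorem orderOf_aN (N : ℕ) [NeZero N] : orderOf (a (N : ZMod (2 * N)) : QuaternionGroup N) = 2 := by
  apply orderOf_eq_prime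
  · rw [pow_two, a_mul_a, one_def]
    congr 1
    have : ((N : ZMod (2 * N)) + N) = ((2 * N : ℕ) : ZMod (2 * N)) := by push_cast; ring
    rw [this, ZMod.natCast_self]
  · rw [one_def, Ne, a.injEq, ZMod.natCast_eq_zero_iff]
    intro h
    have := Nat.le_of_dvd (Nat.pos_of_ne_zero (NeZero.ne N)) h
    have : 0 < N := Nat.pos_of_ne_zero (NeZero.ne N)
    omega

/-- The generalized quaternion group of order 2^(n+3) contains exactly one element of order 2. -/
theorem result (n : ℕ) : Nat.card {x : QuaternionGroup (2 ^ (n + 1)) // orderOf x = 2} = 1 := by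
  have : NeZero (2 ^ (n + 1)) := ⟨by positivity⟩
  rw [Nat.card_eq_one_iff_unique]
  refine ⟨⟨fun x y => ?_⟩, ⟨⟨_, orderOf_aN (2 ^ (n + 1))⟩⟩⟩
  apply Subtype.ext
  rw [invol_unique _ x.1 x.2, invol_unique _ y.1 y.2]

end Cfsg.Agent.S0218
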