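import Cfsg.Statements.S0106
import Mathlib
import Cfsg.Agent.Lib.Helper14.SL23Sec
import Cfsg.Agent.Lib.Helper14.MaxClassSub
import Cfsg.Agent.S0218
-- import your own Cfsg.Agent.* helpers here

set_option autoImplicit false
open Cfsg

namespace Cfsg.Agent.S0106

/-- A finite group with generalized quaternion Sylow 2-subgroups either has a normal 2-complement or has a section isomorphic to SL(2,3). -/
theorem result {G : Type*} [Group G] [Finite G] (T : Sylow 2 G) (n : ℕ) (hn : 1 ≤ n) (hT : Nonempty ((T : Subgroup G) ≃* QuaternionGroup (2 ^ n))) : Cfsg.HasNormalPComplement 2 G ∨ ∃ (H K : Subgroup G) (hK : (K.subgroupOf H).Normal), Nonempty ((H ⧸ K.subgroupOf H) ≃* Matrix.SpecialLinearGroup (Fin 2) (ZMod 3)) := by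
  classical
  have : Fact (Nat.Prime 2) := ⟨Nat.prime_two⟩
  by_cases hno : ∃ N : Subgroup G, N.Normal ∧ N.IsComplement' (T : Subgroup G)
  · left
    obtain ⟨N, h1, h2⟩ := hno
    exact ⟨T, N, h1, h2⟩
  right
  obtain ⟨e⟩ := hT
  have hsc : Cfsg.Agent.Lib.Helper14.SelfCent (T : Subgroup G) :=
    Cfsg.Agent.Lib.Helper14.SelfCent.of_injective e.toMonoidHom e.injective
      (Cfsg.Agent.Lib.Helper14.selfCent_quaternion n)
  obtain ⟨Q, hQT, hQ, g, hgN, hgo, hgC⟩ := hsc.exists_odd_action T hno
  rcases hQ with hK | ⟨⟨ψ⟩⟩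
  · exfalso
    have hne : NeZero (2 ^ n) := ⟨by positivity⟩
    let h : Q → QuaternionGroup (2 ^ n) := fun x => e (Subgroup.inclusion hQT x)
    have hinj : Function.Injective h := e.injective.comp (Subgroup.inclusion_injective hQT)
    have hval : ∀ x : Q, x ≠ 1 → h x = QuaternionGroup.a ((2 ^ n : ℕ) : ZMod (2 * 2 ^ n)) := by
      intro x hx
      apply Cfsg.Agent.S0218.invol_unique
      have h2 : x ^ 2 = 1 := by
        have := Monoid.pow_exponent_eq_one x
        rwa [hK.exponent_two] at this
      have h3 : orderOf x = 2 := orderOf_eq_prime h2 hx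
      have h4 : orderOf (h x) = orderOf x :=
        orderOf_injective (e.toMonoidHom.comp (Subgroup.inclusion hQT)) hinj x
      rw [h4, h3]
    let F : Q → Bool := fun x => decide (x = 1)
    have hF : Function.Injective F := by
      intro x y hxy
      by_cases hx : x = 1
      · have : F y = true := by rw [← hxy]; simp [F, hx]
        have hy : y = 1 := by simpa [F] using this
        rw [hx, hy]
      · have : F y = false := by rw [← hxy]; simp [F, hx]
        have hy : y ≠ 1 := by simpa [F] using this
        exact hinj ((hval x hx).trans (hval y hy).symm)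
    have := Nat.card_le_card_of_injective F hF
    rw [hK.card_four] at this
    simp at this
  · exact Cfsg.Agent.Lib.Helper14.SL23.section_sl23 Q ψ g hgN hgo hgC

end Cfsg.Agent.S0106
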