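import Cfsg.Statements.S0109
import Cfsg.Agent.Lib.Helper5.DK13
import Cfsg.Agent.Lib.Helper5.QP5
import Cfsg.Agent.Lib.Helper1.Fitting
import Cfsg.Agent.S0600
import Cfsg.Agent.S0601
import Cfsg.Agent.S0607
import Cfsg.Agent.S0608

set_option autoImplicit false
open Cfsg

namespace Cfsg.Agent.S0109

open Cfsg.Agent.Lib.Helper5

local notation "SL2" => Matrix.SpecialLinearGroup (Fin 2)

/-- every 2-subgroup is commutative -/
def AS (X : Type*) [Group X] : Prop :=
  ∀ P : Subgroup X, IsPGroup 2 P → ∀ a ∈ P, ∀ b ∈ P, a * b = b * a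

lemma AS_of_sylow {X : Type*} [Group X] [Finite X] (h : ∀ T : Sylow 2 X, IsMulCommutative T) :
    AS X := by
  intro P hP a ha b hb
  obtain ⟨T, hT⟩ := hP.exists_le_sylow
  have := (h T).is_comm.comm ⟨a, hT ha⟩ ⟨b, hT hb⟩
  exact congrArg Subtype.val this

lemma AS.subgroup {X : Type*} [Group X] (h : AS X) (K : Subgroup X) : AS K := by
  intro P hP a ha b hb
  have := h (P.map K.subtype) (hP.map _) a ⟨a, ha, rfl⟩ b ⟨b, hb, rfl⟩
  exact Subtype.ext this

lemma AS.quot {X Y : Type*} [Group X] [Finite X] [Group Y] (h : AS X) (f : X →* Y)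
    (hf : Function.Surjective f) : AS Y := by
  haveI : Finite Y := Finite.of_surjective f hf
  intro P hP a ha b hb
  obtain ⟨T, hT⟩ := hP.exists_le_sylow
  obtain ⟨T₀, rfl⟩ := Sylow.mapSurjective_surjective hf 2 T
  rw [Sylow.coe_mapSurjective] at hT
  obtain ⟨a', ha', rfl⟩ := hT ha
  obtain ⟨b', hb', rfl⟩ := hT hb
  rw [← map_mul, ← map_mul, h T₀ T₀.2 a' ha' b' hb']

def qi : SL2 (ZMod 3) := ⟨!![0, -1; 1, 0], by decide⟩
def qj : SL2 (ZMod 3) := ⟨!![1, 1; 1, -1], by decide⟩

lemma not_AS_sl23 : ¬ AS (SL2 (ZMod 3)) := by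
  intro h
  have h1 : qi ^ 4 = 1 := by decide
  have h2 : qj ^ 4 = 1 := by decide
  have h3 : qi * qj * qi⁻¹ = qj⁻¹ := by decide
  have h4 : qi * qj ≠ qj * qi := by decide
  have pz : ∀ x : SL2 (ZMod 3), x ^ 4 = 1 → IsPGroup 2 (Subgroup.zpowers x) := by
    intro x hx g
    refine ⟨2, Subtype.ext ?_⟩
    obtain ⟨k, hk⟩ := Subgroup.mem_zpowers_iff.mp g.2
    change (g : SL2 (ZMod 3)) ^ 2 ^ 2 = 1
    rw [← hk, ← zpow_natCast, ← zpow_mul, mul_comm, zpow_mul, zpow_natCast]
    norm_num [hx]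
  have p1 := pz qi h1
  have p2 := pz qj h2
  have hn : Subgroup.zpowers qi ≤ Subgroup.normalizer (Subgroup.zpowers qj : Set (SL2 (ZMod 3))) := by
    rw [Subgroup.zpowers_le]
    apply mem_normalizer_of_conj_le
    intro y hy
    obtain ⟨k, rfl⟩ := Subgroup.mem_zpowers_iff.mp hy
    rw [← conj_zpow, h3]
    exact Subgroup.zpow_mem _ (Subgroup.inv_mem _ (Subgroup.mem_zpowers _)) _
  have p3 := IsPGroup.to_sup_of_normal_right' p1 p2 hn
  exact h4 (h _ p3 qi (Subgroup.mem_sup_left (Subgroup.mem_zpowers _)) qj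
    (Subgroup.mem_sup_right (Subgroup.mem_zpowers _)))


lemma not_solvable_sl2 {p : ℕ} [Fact p.Prime] (hp : 5 ≤ p) : ¬ Group.IsSolvable (SL2 (ZMod p)) := by
  intro h
  have hp2 : p ≠ 2 := by omega
  haveI : IsSimpleGroup (Matrix.ProjectiveSpecialLinearGroup (Fin 2) (ZMod p)) :=
    Matrix.ProjectiveSpecialLinearGroup.rank_two_simple (by rw [Nat.card_zmod]; omega)
  have hs : Function.Surjective (QuotientGroup.mk' (Subgroup.center (SL2 (ZMod p)))) :=
    QuotientGroup.mk'_surjective _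
  have h1 : Group.IsSolvable (Matrix.ProjectiveSpecialLinearGroup (Fin 2) (ZMod p)) :=
    Group.isSolvable_of_surjective hs
  have hnc : ∀ z ∈ Subgroup.center (SL2 (ZMod p)), IsSc z.1 := by
    intro z hz
    have e1 := comm_tU_entries z 1 one_ne_zero ((Subgroup.mem_center_iff.mp hz (tU 1)).symm)
    have e2 := comm_sL_entries z 1 one_ne_zero ((Subgroup.mem_center_iff.mp hz (sL 1)).symm)
    exact ⟨e2, e1.1, e1.2⟩
  have hcomm : QuotientGroup.mk' (Subgroup.center (SL2 (ZMod p))) (tU 1) *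
      QuotientGroup.mk' (Subgroup.center (SL2 (ZMod p))) (sL 1) =
      QuotientGroup.mk' (Subgroup.center (SL2 (ZMod p))) (sL 1) *
      QuotientGroup.mk' (Subgroup.center (SL2 (ZMod p))) (tU 1) :=
    IsSimpleGroup.comm_iff_isSolvable.mpr h1 _ _
  rw [← map_mul, ← map_mul, QuotientGroup.mk'_apply, QuotientGroup.mk'_apply,
    QuotientGroup.eq] at hcomm
  have hsc := hnc _ hcomm
  have e : ((tU 1 * sL 1 : SL2 (ZMod p))⁻¹ * (sL 1 * tU 1)) =
      sL (-1) * tU (-1) * (sL 1 * tU 1) := by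
    rw [mul_inv_rev, tU_inv, sL_inv]
  rw [e] at hsc
  have h01 := hsc.1
  rw [Matrix.SpecialLinearGroup.coe_mul, Matrix.SpecialLinearGroup.coe_mul,
    Matrix.SpecialLinearGroup.coe_mul] at h01
  simp [tU, sL, Matrix.mul_apply, Fin.sum_univ_two] at h01

lemma no_section {G : Type*} [Group G] [Finite G] {p : ℕ} [Fact p.Prime] (hp : p ≠ 2)
    (hs : Group.IsSolvable G) (h3 : p = 3 → ∀ T : Sylow 2 G, IsMulCommutative T) :
    ¬ ∃ (K L : Subgroup G) (_ : (L.subgroupOf K).Normal),
      Nonempty (K ⧸ L.subgroupOf K ≃* SL2 (ZMod p)) := by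
  rintro ⟨K, L, hL, ⟨e⟩⟩
  have hp2 : 2 ≤ p := (Fact.out : p.Prime).two_le
  by_cases h5 : 5 ≤ p
  · apply not_solvable_sl2 h5
    exact Group.isSolvable_of_surjective (f := e.toMonoidHom.comp (QuotientGroup.mk' _))
      (e.surjective.comp (QuotientGroup.mk'_surjective _))
  · have hp3 : p = 3 := by
      have h4 : p ≠ 4 := by
        intro h
        have := (Fact.out : p.Prime)
        rw [h] at this
        exact absurd this (by decide)
      omega
    subst hp3
    apply not_AS_sl23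
    exact ((AS_of_sylow (h3 rfl)).subgroup K).quot (e.toMonoidHom.comp (QuotientGroup.mk' _))
      (e.surjective.comp (QuotientGroup.mk'_surjective _))

/-- The Thompson factorization Theorem for solvable groups states that, with p odd (and abelian Sylow 2-subgroups when p = 3) and no nontrivial normal subgroup of order prime to p, every element of G is a product of an element normalizing J(P) and an element centralizing the elements of order dividing p in the centre of P. -/
theorem result {G : Type*} [Group G] [Finite G] {p : ℕ} [Fact p.Prime] (hp : p ≠ 2) (hs : Group.IsSolvable G) (h3 : p = 3 → ∀ T : Sylow 2 G, IsMulCommutative T) (hF : ∀ N : Subgroup G, N.Normal → Nat.Coprime (Nat.card N) p → N = ⊥) (P : Sylow p G) (g : G) : ∃ a ∈ Subgroup.normalizer (Cfsg.thompsonSubgroupOf p (P : Subgroup G) : Set G), ∃ c ∈ Subgroup.centralizer {x : G | x ∈ (P : Subgroup G) ∧ (∀ y ∈ (P : Subgroup G), x * y = y * x) ∧ x ^ p = 1}, g = a * c := by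
  classical
  have hpp : p.Prime := Fact.out
  haveI := hs
  have hQ : QFree p G := qFree_of_sl2_free hp (no_section hp hs h3)
  have hO : Cfsg.pPrimeCore p G = ⊥ :=
    hF _ inferInstance pPrimeCore_coprime
  have hc : Subgroup.centralizer (Cfsg.pCore p G : Set G) ≤ Cfsg.pCore p G := by
    have hFit : Cfsg.fittingSubgroup G ≤ Cfsg.pCore p G := by
      rw [Cfsg.Agent.Lib.Helper1.fitting_eq_iSup_pCore]
      apply iSup_le
      intro q
      by_cases hq : (q : ℕ) = p
      · rw [hq]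
      · exact ((Cfsg.Agent.Lib.Helper1.pCore_le_pPrimeCore hpp q.2 hq).trans hO.le).trans bot_le
    exact (Subgroup.centralizer_le (SetLike.coe_subset_coe.mpr hFit)).trans
      (Cfsg.Agent.Lib.Helper1.centralizer_fitting_le.trans hFit)
  obtain ⟨V, hVdef⟩ : ∃ V : Subgroup G, V = ⨆ S : Sylow p G, Cfsg.omegaOne p (((S : Subgroup G)) ⊓
    Subgroup.centralizer ((S : Subgroup G) : Set G)) := ⟨_, rfl⟩
  obtain ⟨hVn, hVe, -⟩ := Cfsg.Agent.S0601.result hc
  rw [← hVdef] at hVn hVe
  haveI := hVn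
  have hgen : V = ⨆ S : Sylow p G, V ⊓ Subgroup.centralizer ((S : Subgroup G) : Set G) := by
    apply le_antisymm
    · conv_lhs => rw [hVdef]
      apply iSup_le
      intro S
      refine le_trans ?_ (le_iSup (fun S : Sylow p G => V ⊓ Subgroup.centralizer ((S : Subgroup G) : Set G)) S)
      apply le_inf
      · rw [hVdef]
        exact le_iSup (fun S : Sylow p G => Cfsg.omegaOne p (((S : Subgroup G)) ⊓
          Subgroup.centralizer ((S : Subgroup G) : Set G))) S
      · unfold Cfsg.omegaOne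
        rw [Subgroup.closure_le]
        intro x hx
        exact hx.1.2
    · exact iSup_le fun S => inf_le_left
  have hcore := Cfsg.Agent.S0600.result V hVe hgen
  have hJ : Cfsg.thompsonSubgroup p G ≤ Subgroup.centralizer (V : Set G) := by
    unfold Cfsg.thompsonSubgroup
    apply sSup_le
    intro A hA
    by_contra hcon
    have hne : ⁅V, A⁆ ≠ ⊥ := by
      intro h
      apply hcon
      rw [Subgroup.commutator_eq_bot_iff_le_centralizer] at h
      exact Subgroup.le_centralizer_iff.mp h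
    obtain ⟨-, hq, hnt⟩ := Cfsg.Agent.S0607.result V hVe A hA
    apply hnt hne
    rw [Subgroup.commutator_eq_bot_iff_le_centralizer, Subgroup.le_centralizer_iff]
    intro a ha
    have hq' : ⁅⁅V, Subgroup.zpowers a⁆, Subgroup.zpowers a⁆ = ⊥ := by
      rw [eq_bot_iff, ← hq]
      have := Subgroup.zpowers_le.mpr ha
      exact Subgroup.commutator_mono (Subgroup.commutator_mono le_rfl this) this
    have hVp : IsPGroup p V := fun v => ⟨1, Subtype.ext (by simpa using hVe.2 v v.2)⟩
    have h1 := hQ.stable V hVp a hq'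
    rw [hcore, Subgroup.mem_bot] at h1
    exact (QuotientGroup.eq_one_iff a).mp h1
  have hTF : Cfsg.IsThompsonFactorizable p G := by
    rw [Cfsg.Agent.S0608.result hO, ← hVdef]
    exact hJ
  obtain ⟨x, hx, c, hc', n, hn, hg⟩ := hTF P g⁻¹
  rw [hO, Subgroup.mem_bot] at hx
  refine ⟨n⁻¹, inv_mem hn, c⁻¹, ?_, ?_⟩
  · apply inv_mem
    rw [Subgroup.mem_centralizer_iff] at hc' ⊢
    intro y hy
    apply hc'
    apply Subgroup.subset_closure
    refine ⟨⟨hy.1, ?_⟩, hy.2.2⟩
    change y ∈ Subgroup.centralizer ((P : Subgroup G) : Set G)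
    rw [Subgroup.mem_centralizer_iff]
    intro z hz
    exact (hy.2.1 z hz).symm
  · rw [← mul_inv_rev, ← inv_inj, inv_inv, hg, hx, one_mul]

end Cfsg.Agent.S0109
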