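import Cfsg.Statements.S0117
import Cfsg.Agent.Lib.Helper5.ZJE
import Cfsg.Agent.Lib.Helper5.NPCApp
import Cfsg.Agent.Lib.Helper5.SerClass

set_option autoImplicit false
open Cfsg

namespace Cfsg.Agent.S0117

/-- The Glauberman–Thompson Theorem states that for odd p, a single p-local subgroup, the normalizer of the centre of the Thompson subgroup of a Sylow p-subgroup, decides whether G has a normal p-complement. -/
theorem result {G : Type*} [Group G] [Finite G] {p : ℕ} [Fact p.Prime] (hp : p ≠ 2) (P : Sylow p G) : Cfsg.HasNormalPComplement p G ↔ Cfsg.HasNormalPComplement p (Subgroup.normalizer (Cfsg.centerThompsonOf p (P : Subgroup G) : Set G)) := by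
  open Cfsg.Agent.Lib.Helper5 in
  rw [npc_iff, npc_iff]
  constructor
  · intro h
    exact h.subgroup _
  · intro h
    rw [← iF_zjF] at h
    refine npc_functor zjF_char True (fun _ _ => True) (fun _ _ _ _ => trivial)
      (fun _ _ _ _ _ => trivial) ?_ G trivial P (P : Subgroup G)
      ⟨le_rfl, fun _ _ _ h => h⟩ (fun _ => rfl) h
    intro X _ _ _ T D hD hfull hc hq hco
    rw [iF_zjF, hfull trivial]
    exact zje_normal hp hc T (fun V _ hV a _ hq' => stableOn_of_normalizerPStable
      ((serClass_of_final hq T hco).normalizerPStable hp) V hV a hq')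

end Cfsg.Agent.S0117
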