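import Cfsg.Statements.S3807
-- import your own Cfsg.Agent.* helpers here

set_option autoImplicit false
open Cfsg

namespace Cfsg.Agent.S3807

theorem gen_top {S : Type*} [Group S] {p : ℕ} (hp : p.Prime) (A : Subgroup S) (hAi : A.index = p)
    (D : Subgroup S) (hAD : A ≤ D) {t : S} (htD : t ∈ D) (htA : t ∉ A) : D = ⊤ := by
  have h := Subgroup.relIndex_mul_index hAD
  rw [hAi] at h
  have hd : D.index ∣ p := Dvd.intro_left _ h
  rcases (Nat.dvd_prime hp).1 hd with h1 | h1
  · exact Subgroup.index_eq_one.mp h1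
  · exfalso
    rw [h1] at h
    have : A.relIndex D = 1 := Nat.eq_of_mul_eq_mul_right hp.pos (by rw [h, one_mul])
    exact htA (Subgroup.relIndex_eq_one.mp this htD)

theorem mem_center_of_comm {S : Type*} [Group S] {p : ℕ} (hp : p.Prime) (A : Subgroup S)
    (hA : IsMulCommutative ↥A) (hAi : A.index = p) {t : S} (htA : t ∉ A) {a : S} (ha : a ∈ A)
    (hat : a * t = t * a) : a ∈ Subgroup.center S := by
  have h1 : Subgroup.centralizer ({a} : Set S) = ⊤ := by
    refine gen_top hp A hAi _ ?_ (t := t) ?_ htA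
    · intro b hb
      rw [Subgroup.mem_centralizer_singleton_iff]
      exact (Subgroup.le_centralizer_iff_isMulCommutative.mpr hA) ha b hb
    · rw [Subgroup.mem_centralizer_singleton_iff]
      exact hat.symm
  rw [Subgroup.mem_center_iff]
  intro g
  have : g ∈ Subgroup.centralizer ({a} : Set S) := h1 ▸ Subgroup.mem_top g
  rw [Subgroup.mem_centralizer_singleton_iff] at this
  exact this

theorem center_le {S : Type*} [Group S] {p : ℕ} (hp : p.Prime) (hna : ¬ IsMulCommutative S)
    (A : Subgroup S) (hA : IsMulCommutative ↥A) (hAi : A.index = p) : Subgroup.center S ≤ A := by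
  intro z hz
  by_contra hzA
  have h2 : Subgroup.center S = ⊤ := by
    refine gen_top hp A hAi _ ?_ hz hzA
    intro a ha
    exact mem_center_of_comm hp A hA hAi hzA ha ((Subgroup.mem_center_iff.mp hz a))
  exact hna (Subgroup.center_eq_top_iff.mp h2)

/-- the commutator map `a ↦ [a,s]` on the abelian normal subgroup `A`. -/
def phi {S : Type*} [Group S] (A : Subgroup S) (hAn : A.Normal) (hA : IsMulCommutative ↥A) (s : S) :
    A →* A where
  toFun a := ⟨(a:S) * (s * (a:S)⁻¹ * s⁻¹), A.mul_mem a.2 (hAn.conj_mem _ (A.inv_mem a.2) s)⟩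
  map_one' := by ext; simp
  map_mul' a b := by
    ext
    have hc := Subgroup.le_centralizer_iff_isMulCommutative.mpr hA
    have h1 : (b:S) * (s * (a:S)⁻¹ * s⁻¹) = (s * (a:S)⁻¹ * s⁻¹) * (b:S) :=
      hc (hAn.conj_mem _ (A.inv_mem a.2) s) b b.2
    have h2 : (s * (b:S)⁻¹ * s⁻¹) * (s * (a:S)⁻¹ * s⁻¹) = (s * (a:S)⁻¹ * s⁻¹) * (s * (b:S)⁻¹ * s⁻¹) :=
      hc (hAn.conj_mem _ (A.inv_mem a.2) s) _ (hAn.conj_mem _ (A.inv_mem b.2) s)
    show (a:S) * (b:S) * (s * ((a:S) * (b:S))⁻¹ * s⁻¹) =
      (a:S) * (s * (a:S)⁻¹ * s⁻¹) * ((b:S) * (s * (b:S)⁻¹ * s⁻¹))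
    calc (a:S) * (b:S) * (s * ((a:S) * (b:S))⁻¹ * s⁻¹)
        = (a:S) * (b:S) * ((s * (b:S)⁻¹ * s⁻¹) * (s * (a:S)⁻¹ * s⁻¹)) := by group
      _ = (a:S) * (b:S) * ((s * (a:S)⁻¹ * s⁻¹) * (s * (b:S)⁻¹ * s⁻¹)) := by rw [h2]
      _ = (a:S) * ((b:S) * (s * (a:S)⁻¹ * s⁻¹)) * (s * (b:S)⁻¹ * s⁻¹) := by group
      _ = (a:S) * ((s * (a:S)⁻¹ * s⁻¹) * (b:S)) * (s * (b:S)⁻¹ * s⁻¹) := by rw [h1]
      _ = (a:S) * (s * (a:S)⁻¹ * s⁻¹) * ((b:S) * (s * (b:S)⁻¹ * s⁻¹)) := by group

theorem phi_ker {S : Type*} [Group S] {p : ℕ} (hp : p.Prime) (hna : ¬ IsMulCommutative S)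
    (A : Subgroup S) (hAn : A.Normal) (hA : IsMulCommutative ↥A) (hAi : A.index = p)
    {s : S} (hs : s ∉ A) : (phi A hAn hA s).ker = (Subgroup.center S).subgroupOf A := by
  ext a
  rw [MonoidHom.mem_ker, Subgroup.mem_subgroupOf]
  constructor
  · intro h
    have h1 : (a:S) * (s * (a:S)⁻¹ * s⁻¹) = 1 := congrArg Subtype.val h
    apply mem_center_of_comm hp A hA hAi hs a.2
    have : (a:S) * s = ((a:S) * (s * (a:S)⁻¹ * s⁻¹)) * (s * (a:S)) := by group
    rw [this, h1, one_mul]
  · intro h
    ext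
    show (a:S) * (s * (a:S)⁻¹ * s⁻¹) = 1
    have h1 : s * (a:S)⁻¹ = (a:S)⁻¹ * s := (Subgroup.mem_center_iff.mp ((Subgroup.center S).inv_mem h) s)
    rw [h1]; group

theorem phi_range {S : Type*} [Group S] {p : ℕ} (hp : p.Prime)
    (A : Subgroup S) (hAn : A.Normal) (hA : IsMulCommutative ↥A) (hAi : A.index = p)
    {s : S} (hs : s ∉ A) : (phi A hAn hA s).range.map A.subtype = commutator S := by
  set N := (phi A hAn hA s).range.map A.subtype with hN
  have hc := Subgroup.le_centralizer_iff_isMulCommutative.mpr hA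
  have hmem : ∀ a ∈ A, a * (s * a⁻¹ * s⁻¹) ∈ N :=
    fun a ha => ⟨phi A hAn hA s ⟨a, ha⟩, ⟨⟨a, ha⟩, rfl⟩, rfl⟩
  have hNA : N ≤ A := Subgroup.map_subtype_le _
  have hform : ∀ n ∈ N, ∃ a ∈ A, n = a * (s * a⁻¹ * s⁻¹) := by
    rintro n ⟨_, ⟨a, rfl⟩, rfl⟩
    exact ⟨a, a.2, rfl⟩
  have hconj : ∀ g : S, g * s = s * g → ∀ n ∈ N, g * n * g⁻¹ ∈ N := by
    intro g hg n hn
    obtain ⟨a, ha, rfl⟩ := hform n hn
    have := hmem (g * a * g⁻¹) (hAn.conj_mem a ha g)
    convert this using 1
    have hg' : g⁻¹ * s⁻¹ = s⁻¹ * g⁻¹ := by rw [← mul_inv_rev, ← mul_inv_rev, hg]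
    calc g * (a * (s * a⁻¹ * s⁻¹)) * g⁻¹ = g * a * s * a⁻¹ * (s⁻¹ * g⁻¹) := by group
      _ = g * a * s * a⁻¹ * (g⁻¹ * s⁻¹) := by rw [hg']
      _ = g * a * (g⁻¹ * (g * s)) * a⁻¹ * g⁻¹ * s⁻¹ := by group
      _ = g * a * (g⁻¹ * (s * g)) * a⁻¹ * g⁻¹ * s⁻¹ := by rw [hg]
      _ = g * a * g⁻¹ * (s * (g * a * g⁻¹)⁻¹ * s⁻¹) := by group
  have hnorm : ∀ g : S, (∀ n ∈ N, g * n * g⁻¹ ∈ N) → (∀ n ∈ N, g⁻¹ * n * g⁻¹⁻¹ ∈ N) →
      g ∈ Subgroup.normalizer (N : Set S) := by
    intro g h1 h2
    rw [Subgroup.mem_normalizer_iff]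
    intro n
    constructor
    · exact h1 n
    · intro hn
      have := h2 _ hn
      simpa [mul_assoc] using this
  have hNn : N.Normal := by
    rw [← Subgroup.normalizer_eq_top_iff]
    refine gen_top hp A hAi _ ?_ (t := s) ?_ hs
    · have hb : ∀ b ∈ A, ∀ n ∈ N, b * n * b⁻¹ ∈ N := by
        intro b hb n hn
        have h1 : n * b = b * n := hc hb n (hNA hn)
        have : b * n * b⁻¹ = n := by rw [← h1]; group
        rw [this]; exact hn
      intro b hb'
      exact hnorm b (hb b hb') (hb b⁻¹ (A.inv_mem hb'))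
    · exact hnorm s (hconj s rfl) (hconj s⁻¹ (by group))
  apply le_antisymm
  · intro n hn
    obtain ⟨a, ha, rfl⟩ := hform n hn
    have := Subgroup.commutator_mem_commutator (Subgroup.mem_top a) (Subgroup.mem_top s)
    rw [commutatorElement_def] at this
    rw [commutator_def]
    convert this using 1
    group
  · have hs_c : ∀ y : S, (y : S ⧸ N) * (s : S ⧸ N) = (s : S ⧸ N) * (y : S ⧸ N) := by
      have htop : (Subgroup.centralizer ({(s : S ⧸ N)} : Set (S ⧸ N))).comap (QuotientGroup.mk' N) = ⊤ := by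
        refine gen_top hp A hAi _ ?_ (t := s) ?_ hs
        · intro a ha
          rw [Subgroup.mem_comap, Subgroup.mem_centralizer_singleton_iff]
          show (a : S ⧸ N) * (s : S ⧸ N) = (s : S ⧸ N) * (a : S ⧸ N)
          rw [← QuotientGroup.mk_mul, ← QuotientGroup.mk_mul, QuotientGroup.eq_iff_div_mem]
          have := hmem a ha
          convert this using 1
          rw [div_eq_mul_inv]
          group
        · rw [Subgroup.mem_comap, Subgroup.mem_centralizer_singleton_iff]
          rfl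
      intro y
      have hy : y ∈ (Subgroup.centralizer ({(s : S ⧸ N)} : Set (S ⧸ N))).comap (QuotientGroup.mk' N) :=
        htop ▸ Subgroup.mem_top y
      rw [Subgroup.mem_comap, Subgroup.mem_centralizer_singleton_iff] at hy
      exact hy
    have ha_c : ∀ a ∈ A, ∀ y : S, (y : S ⧸ N) * (a : S ⧸ N) = (a : S ⧸ N) * (y : S ⧸ N) := by
      intro a ha
      have htop : (Subgroup.centralizer ({(a : S ⧸ N)} : Set (S ⧸ N))).comap (QuotientGroup.mk' N) = ⊤ := by
        refine gen_top hp A hAi _ ?_ (t := s) ?_ hs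
        · intro b hb
          rw [Subgroup.mem_comap, Subgroup.mem_centralizer_singleton_iff]
          show (b : S ⧸ N) * (a : S ⧸ N) = (a : S ⧸ N) * (b : S ⧸ N)
          rw [← QuotientGroup.mk_mul, ← QuotientGroup.mk_mul, hc ha b hb]
        · rw [Subgroup.mem_comap, Subgroup.mem_centralizer_singleton_iff]
          exact (hs_c a).symm
      intro y
      have hy : y ∈ (Subgroup.centralizer ({(a : S ⧸ N)} : Set (S ⧸ N))).comap (QuotientGroup.mk' N) :=
        htop ▸ Subgroup.mem_top y
      rw [Subgroup.mem_comap, Subgroup.mem_centralizer_singleton_iff] at hy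
      exact hy
    have hall : ∀ x y : S, (y : S ⧸ N) * (x : S ⧸ N) = (x : S ⧸ N) * (y : S ⧸ N) := by
      have htop : (Subgroup.center (S ⧸ N)).comap (QuotientGroup.mk' N) = ⊤ := by
        refine gen_top hp A hAi _ ?_ (t := s) ?_ hs
        · intro a ha
          rw [Subgroup.mem_comap, Subgroup.mem_center_iff]
          intro q
          obtain ⟨y, rfl⟩ := QuotientGroup.mk_surjective q
          exact ha_c a ha y
        · rw [Subgroup.mem_comap, Subgroup.mem_center_iff]
          intro q
          obtain ⟨y, rfl⟩ := QuotientGroup.mk_surjective q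
          exact hs_c y
      intro x y
      have hx : x ∈ (Subgroup.center (S ⧸ N)).comap (QuotientGroup.mk' N) := htop ▸ Subgroup.mem_top x
      rw [Subgroup.mem_comap, Subgroup.mem_center_iff] at hx
      exact hx y
    rw [commutator_def, Subgroup.commutator_le]
    intro x _ y _
    rw [← QuotientGroup.eq_one_iff, commutatorElement_def]
    simp only [QuotientGroup.mk_mul, QuotientGroup.mk_inv]
    rw [hall y x]
    group

theorem index_formula {S : Type*} [Group S] [Finite S] {p : ℕ} (hp : p.Prime) (hna : ¬ IsMulCommutative S)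
    (A : Subgroup S) (hAn : A.Normal) (hA : IsMulCommutative ↥A) (hAi : A.index = p) :
    (Subgroup.center S).index = p * Nat.card (commutator S) := by
  have hex : ∃ s : S, s ∉ A := by
    by_contra hcon
    push_neg at hcon
    have : A = ⊤ := eq_top_iff.mpr (fun x _ => hcon x)
    rw [this, Subgroup.index_top] at hAi
    exact hp.one_lt.ne hAi
  obtain ⟨s, hs⟩ := hex
  have h1 := Subgroup.index_ker (phi A hAn hA s)
  rw [phi_ker hp hna A hAn hA hAi hs] at h1
  have h2 : Nat.card (phi A hAn hA s).range = Nat.card (commutator S) := by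
    rw [← phi_range hp A hAn hA hAi hs]
    exact Nat.card_congr (Subgroup.equivMapOfInjective _ A.subtype A.subtype_injective).toEquiv
  have h3 : (Subgroup.center S).relIndex A * A.index = (Subgroup.center S).index :=
    Subgroup.relIndex_mul_index (center_le hp hna A hA hAi)
  rw [← h3, hAi, Subgroup.relIndex, h1, h2, mul_comm]

theorem card_filter_mem {S : Type*} [Group S] [Fintype S] (H : Subgroup S) [DecidablePred (· ∈ H)] :
    (Finset.univ.filter (· ∈ H)).card = Nat.card H := by
  rw [Nat.card_eq_fintype_card, ← Fintype.card_subtype]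

theorem count_ab {S : Type*} [Group S] [Finite S] {p : ℕ} (hp : p.Prime) (hna : ¬ IsMulCommutative S)
    (hZ : (Subgroup.center S).index = p ^ 2) :
    Nat.card {B : Subgroup S // IsMulCommutative ↥B ∧ B.index = p} = p + 1 := by
  classical
  haveI := Fintype.ofFinite S
  haveI : Fintype (Subgroup S) := Fintype.ofFinite _
  set Z := Subgroup.center S with hZdef
  have hxC : ∀ x : S, x ∈ Subgroup.centralizer ({x} : Set S) := fun x =>
    Subgroup.mem_centralizer_singleton_iff.mpr rfl
  have hZC : ∀ x : S, Z ≤ Subgroup.centralizer ({x} : Set S) := fun x =>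
    Subgroup.center_le_centralizer _
  have hCidx : ∀ x ∉ Z, (Subgroup.centralizer ({x} : Set S)).index = p := by
    intro x hx
    have h := Subgroup.relIndex_mul_index (hZC x)
    rw [hZ] at h
    have hd : (Subgroup.centralizer ({x} : Set S)).index ∣ p ^ 2 := Dvd.intro_left _ h
    obtain ⟨j, hj, hjc⟩ := (Nat.dvd_prime_pow hp).1 hd
    have hj0 : j ≠ 0 := by
      intro h0
      rw [h0, pow_zero, Subgroup.index_eq_one] at hjc
      apply hx
      rw [hZdef, Subgroup.mem_center_iff]
      intro g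
      have : g ∈ Subgroup.centralizer ({x} : Set S) := hjc ▸ Subgroup.mem_top g
      exact Subgroup.mem_centralizer_singleton_iff.mp this
    have hj2 : j ≠ 2 := by
      intro h2
      rw [hjc, h2] at h
      have : Z.relIndex (Subgroup.centralizer ({x} : Set S)) = 1 :=
        Nat.eq_of_mul_eq_mul_right (pow_pos hp.pos 2) (by rw [h, one_mul])
      exact hx (Subgroup.relIndex_eq_one.mp this (hxC x))
    have : j = 1 := by omega
    rw [hjc, this, pow_one]
  have hgenC : ∀ x ∉ Z, ∀ D : Subgroup S, Z ≤ D → x ∈ D → Subgroup.centralizer ({x} : Set S) ≤ D := by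
    intro x hx D hZD hxD
    set C := Subgroup.centralizer ({x} : Set S) with hC
    have h := Subgroup.relIndex_mul_index (hZC x)
    rw [hZ, hCidx x hx] at h
    have hrel : Z.relIndex C = p := Nat.eq_of_mul_eq_mul_right hp.pos (by rw [h, sq])
    have h2 := Subgroup.relIndex_mul_relIndex (H := Z) (K := D ⊓ C) (L := C) (le_inf hZD (hZC x)) inf_le_right
    rw [hrel] at h2
    have hd : (D ⊓ C).relIndex C ∣ p := Dvd.intro_left _ h2
    rcases (Nat.dvd_prime hp).1 hd with h1 | h1
    · exact (Subgroup.relIndex_eq_one.mp h1).trans inf_le_left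
    · exfalso
      rw [h1] at h2
      have : Z.relIndex (D ⊓ C) = 1 := Nat.eq_of_mul_eq_mul_right hp.pos (by rw [h2, one_mul])
      exact hx (Subgroup.relIndex_eq_one.mp this ⟨hxD, hxC x⟩)
  have hCab : ∀ x ∉ Z, IsMulCommutative ↥(Subgroup.centralizer ({x} : Set S)) := by
    intro x hx
    rw [← Subgroup.le_centralizer_iff_isMulCommutative]
    apply hgenC x hx _ (Subgroup.center_le_centralizer _)
    rw [Subgroup.mem_centralizer_iff]
    intro y hy
    exact Subgroup.mem_centralizer_singleton_iff.mp hy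
  have huniq : ∀ B : Subgroup S, IsMulCommutative ↥B → B.index = p → ∀ x ∈ B, x ∉ Z →
      Subgroup.centralizer ({x} : Set S) = B := by
    intro B hB hBi x hxB hx
    have hle : B ≤ Subgroup.centralizer ({x} : Set S) := by
      intro b hb
      rw [Subgroup.mem_centralizer_singleton_iff]
      exact (Subgroup.le_centralizer_iff_isMulCommutative.mpr hB) hxB b hb
    have h := Subgroup.relIndex_mul_index hle
    rw [hBi, hCidx x hx] at h
    have : B.relIndex (Subgroup.centralizer ({x} : Set S)) = 1 :=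
      Nat.eq_of_mul_eq_mul_right hp.pos (by rw [h, one_mul])
    exact le_antisymm (Subgroup.relIndex_eq_one.mp this) hle
  have hZB : ∀ B : Subgroup S, IsMulCommutative ↥B → B.index = p → Z ≤ B :=
    fun B hB hBi => center_le hp hna B hB hBi
  set s : Finset S := Finset.univ.filter (· ∉ Z) with hs
  set t : Finset (Subgroup S) := Finset.univ.filter (fun B => IsMulCommutative ↥B ∧ B.index = p) with ht
  have h1 : s.card = ∑ B ∈ t, (s.filter (fun a => Subgroup.centralizer ({a} : Set S) = B)).card := by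
    apply Finset.card_eq_sum_card_fiberwise
    intro x hx
    have hx' : x ∉ Z := by simpa [hs] using hx
    simp only [ht, Finset.coe_filter, Finset.mem_univ, true_and, Set.mem_setOf_eq]
    exact ⟨hCab x hx', hCidx x hx'⟩
  have hcS : Nat.card S = Nat.card Z * p ^ 2 := by rw [← hZ]; exact (Subgroup.card_mul_index Z).symm
  have hzpos : 0 < Nat.card Z := Nat.card_pos
  have h2 : ∀ B ∈ t, (s.filter (fun a => Subgroup.centralizer ({a} : Set S) = B)).card + Nat.card Z
      = p * Nat.card Z := by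
    intro B hB
    have hB' : IsMulCommutative ↥B ∧ B.index = p := by simpa [ht] using hB
    have hcB : Nat.card B = p * Nat.card Z := by
      have := Subgroup.card_mul_index B
      rw [hB'.2, hcS] at this
      have h3 : Nat.card B * p = (p * Nat.card Z) * p := by rw [this]; ring
      exact Nat.eq_of_mul_eq_mul_right hp.pos h3
    have he : s.filter (fun a => Subgroup.centralizer ({a} : Set S) = B)
        = (Finset.univ.filter (· ∈ B)).filter (fun a => ¬ a ∈ Z) := by
      ext a
      simp only [hs, Finset.mem_filter, Finset.mem_univ, true_and]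
      constructor
      · rintro ⟨h3, h4⟩
        exact ⟨h4 ▸ hxC a, h3⟩
      · rintro ⟨h3, h4⟩
        exact ⟨h4, huniq B hB'.1 hB'.2 a h3 h4⟩
    have he2 : (Finset.univ.filter (· ∈ B)).filter (fun a => a ∈ Z) = Finset.univ.filter (· ∈ Z) := by
      ext a
      simp only [Finset.mem_filter, Finset.mem_univ, true_and]
      exact ⟨fun h => h.2, fun h => ⟨hZB B hB'.1 hB'.2 h, h⟩⟩
    have h5 := Finset.card_filter_add_card_filter_not (s := Finset.univ.filter (· ∈ B)) (fun a => a ∈ Z)
    rw [he2, card_filter_mem, card_filter_mem, hcB] at h5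
    rw [he]
    omega
  have h3 : s.card + Nat.card Z = p ^ 2 * Nat.card Z := by
    have h5 := Finset.card_filter_add_card_filter_not (s := (Finset.univ : Finset S)) (fun a => a ∈ Z)
    rw [card_filter_mem, Finset.card_univ, ← Nat.card_eq_fintype_card, hcS] at h5
    rw [hs]
    linarith
  have h4 : Nat.card {B : Subgroup S // IsMulCommutative ↥B ∧ B.index = p} = t.card := by
    rw [Nat.card_eq_fintype_card, Fintype.card_subtype]
  rw [h4]
  obtain ⟨f, hf⟩ : ∃ f : ℕ, f + Nat.card Z = p * Nat.card Z :=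
    ⟨p * Nat.card Z - Nat.card Z, Nat.sub_add_cancel (Nat.le_mul_of_pos_left _ hp.pos)⟩
  have h6 : ∀ B ∈ t, (s.filter (fun a => Subgroup.centralizer ({a} : Set S) = B)).card = f := by
    intro B hB
    have := h2 B hB
    omega
  rw [Finset.sum_congr rfl h6, Finset.sum_const, smul_eq_mul] at h1
  have hfpos : 0 < f := by
    have : 2 * Nat.card Z ≤ p * Nat.card Z := Nat.mul_le_mul_right _ hp.two_le
    omega
  have h7 : t.card * f = (p + 1) * f := by
    have h8 : (p + 1) * f + (p + 1) * Nat.card Z = (p + 1) * (p * Nat.card Z) := by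
      rw [← mul_add, hf]
    rw [h1] at h3
    nlinarith
  exact Nat.eq_of_mul_eq_mul_right hfpos h7

/-- Let S be a non-abelian finite p-group with an abelian subgroup A of index p. Then [S : Z(S)] = p·#[S,S], and either [S,S] has order p, S/Z(S) is elementary abelian of order p², and S has exactly p + 1 abelian subgroups of index p; or [S,S] has order at least p² and A is the only abelian subgroup of index p in S. -/
theorem result {S : Type*} [Group S] [Finite S] (p : ℕ) [Fact p.Prime] (hS : IsPGroup p S) (hna : ¬ IsMulCommutative S)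
    (A : Subgroup S) (hA : IsMulCommutative ↥A) (hAi : A.index = p) :
    (Subgroup.center S).index = p * Nat.card (commutator S) ∧
      ((Nat.card (commutator S) = p ∧ Cfsg.IsElementaryAbelian p (⊤ : Subgroup (S ⧸ Subgroup.center S)) ∧
          Nat.card (S ⧸ Subgroup.center S) = p ^ 2 ∧
          Nat.card {B : Subgroup S // IsMulCommutative ↥B ∧ B.index = p} = p + 1) ∨
        (p ^ 2 ≤ Nat.card (commutator S) ∧ ∀ B : Subgroup S, IsMulCommutative ↥B → B.index = p → B = A)) := by
  have hp : p.Prime := Fact.out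
  obtain ⟨n, hn⟩ := IsPGroup.iff_card.mp hS
  have hn0 : n ≠ 0 := by
    intro h0
    rw [h0, pow_zero] at hn
    have := Subgroup.index_dvd_card A
    rw [hAi, hn] at this
    exact hp.one_lt.ne' (Nat.dvd_one.mp this)
  have hAn : A.Normal := by
    apply Subgroup.normal_of_index_eq_minFac_card
    rw [hAi, hn, Nat.pow_minFac hn0, hp.minFac_eq]
  have hidx := index_formula hp hna A hAn hA hAi
  refine ⟨hidx, ?_⟩
  obtain ⟨k, hk⟩ := IsPGroup.iff_card.mp (hS.to_subgroup (commutator S))
  have hk0 : k ≠ 0 := by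
    intro h0
    rw [h0, pow_zero, Subgroup.card_eq_one, commutator_eq_bot_iff_center_eq_top] at hk
    exact hna (Subgroup.center_eq_top_iff.mp hk)
  by_cases hk1 : k = 1
  · left
    rw [hk1, pow_one] at hk
    have hZ : (Subgroup.center S).index = p ^ 2 := by rw [hidx, hk, sq]
    have hcq : Nat.card (S ⧸ Subgroup.center S) = p ^ 2 := hZ
    refine ⟨hk, ⟨?_, ?_⟩, hcq, count_ab hp hna hZ⟩
    · have hcomm := IsPGroup.commutative_of_card_eq_prime_sq hcq
      exact ⟨⟨fun a b => Subtype.ext (hcomm a.1 b.1)⟩⟩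
    · intro q _
      have hd : orderOf q ∣ p ^ 2 := hcq ▸ orderOf_dvd_natCard q
      obtain ⟨j, hj, hjc⟩ := (Nat.dvd_prime_pow hp).1 hd
      have hj2 : j ≠ 2 := by
        intro h2
        rw [h2, ← hcq] at hjc
        haveI : IsCyclic (S ⧸ Subgroup.center S) := isCyclic_of_orderOf_eq_card q hjc
        apply hna
        exact IsMulCommutative.of_comm (commutative_of_cyclic_center_quotient
          (QuotientGroup.mk' (Subgroup.center S)) (by rw [QuotientGroup.ker_mk']))
      rw [← orderOf_dvd_iff_pow_eq_one, hjc]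
      have : j ≤ 1 := by omega
      calc p ^ j ∣ p ^ 1 := pow_dvd_pow p this
        _ = p := pow_one p
  · right
    have hk2 : 2 ≤ k := by omega
    refine ⟨by rw [hk]; exact Nat.pow_le_pow_right hp.pos hk2, ?_⟩
    intro B hB hBi
    by_contra hne
    have hBA : ¬ B ≤ A := by
      intro hle
      have h1 := Subgroup.relIndex_mul_index hle
      rw [hAi, hBi] at h1
      have h2 : B.relIndex A = 1 := Nat.eq_of_mul_eq_mul_right hp.pos (by rw [h1, one_mul])
      exact hne (le_antisymm hle (Subgroup.relIndex_eq_one.mp h2))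
    obtain ⟨t, htB, htA⟩ := SetLike.not_le_iff_exists.mp hBA
    have hle : A ⊓ B ≤ Subgroup.center S := by
      intro x hx
      apply mem_center_of_comm hp A hA hAi htA hx.1
      exact (Subgroup.le_centralizer_iff_isMulCommutative.mpr hB) htB x hx.2
    have h1 : (Subgroup.center S).index ∣ (A ⊓ B).index := Subgroup.index_dvd_of_le hle
    have h2 : (A ⊓ B).index ≤ p * p := by
      have := Subgroup.index_inf_le (H := A) (K := B)
      rwa [hAi, hBi] at this
    have h3 : (A ⊓ B).index ≠ 0 := Subgroup.index_ne_zero_of_finite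
    have h4 := Nat.le_of_dvd (Nat.pos_of_ne_zero h3) h1
    rw [hidx, hk] at h4
    have h5 : p ^ 2 ≤ p ^ k := Nat.pow_le_pow_right hp.pos hk2
    have h6 : p ^ k ≤ p := Nat.le_of_mul_le_mul_left (h4.trans h2) hp.pos
    have h7 : p * p ≤ p * 1 := by rw [mul_one, ← sq]; exact h5.trans h6
    have := Nat.le_of_mul_le_mul_left h7 hp.pos
    exact absurd hp.one_lt (by omega)

end Cfsg.Agent.S3807
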