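import Cfsg.Statements.S0662
import Cfsg.Agent.S0063
import Cfsg.Agent.S0129
import Cfsg.Agent.S3807

set_option autoImplicit false
open Cfsg

namespace Cfsg.Agent.S0662

theorem count_gen {S : Type*} [Group S] [Finite S] {p : ℕ} (hp : p.Prime) (Z : Subgroup S)
    (hZ : Z.index = p ^ 2) (P : Subgroup S → Prop) (F : S → Subgroup S)
    (ha : ∀ x ∉ Z, P (F x) ∧ x ∈ F x)
    (hb : ∀ B, P B → B.index = p ∧ Z ≤ B)
    (hc : ∀ B, P B → ∀ x ∈ B, x ∉ Z → F x = B) :
    Nat.card {B : Subgroup S // P B} = p + 1 := by
  classical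
  haveI := Fintype.ofFinite S
  haveI : Fintype (Subgroup S) := Fintype.ofFinite _
  set s : Finset S := Finset.univ.filter (· ∉ Z) with hs
  set t : Finset (Subgroup S) := Finset.univ.filter (fun B => P B) with ht
  have h1 : s.card = ∑ B ∈ t, (s.filter (fun a => F a = B)).card := by
    apply Finset.card_eq_sum_card_fiberwise
    intro x hx
    have hx' : x ∉ Z := by simpa [hs] using hx
    simp only [ht, Finset.coe_filter, Finset.mem_univ, true_and, Set.mem_setOf_eq]
    exact (ha x hx').1
  have hcS : Nat.card S = Nat.card Z * p ^ 2 := by rw [← hZ]; exact (Subgroup.card_mul_index Z).symm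
  have hzpos : 0 < Nat.card Z := Nat.card_pos
  have h2 : ∀ B ∈ t, (s.filter (fun a => F a = B)).card + Nat.card Z = p * Nat.card Z := by
    intro B hB
    have hB' : P B := by simpa [ht] using hB
    have hcB : Nat.card B = p * Nat.card Z := by
      have := Subgroup.card_mul_index B
      rw [(hb B hB').1, hcS] at this
      have h3 : Nat.card B * p = (p * Nat.card Z) * p := by rw [this]; ring
      exact Nat.eq_of_mul_eq_mul_right hp.pos h3
    have he : s.filter (fun a => F a = B)
        = (Finset.univ.filter (· ∈ B)).filter (fun a => ¬ a ∈ Z) := by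
      ext a
      simp only [hs, Finset.mem_filter, Finset.mem_univ, true_and]
      constructor
      · rintro ⟨h3, h4⟩
        exact ⟨h4 ▸ (ha a h3).2, h3⟩
      · rintro ⟨h3, h4⟩
        exact ⟨h4, hc B hB' a h3 h4⟩
    have he2 : (Finset.univ.filter (· ∈ B)).filter (fun a => a ∈ Z) = Finset.univ.filter (· ∈ Z) := by
      ext a
      simp only [Finset.mem_filter, Finset.mem_univ, true_and]
      exact ⟨fun h => h.2, fun h => ⟨(hb B hB').2 h, h⟩⟩
    have h5 := Finset.card_filter_add_card_filter_not (s := Finset.univ.filter (· ∈ B)) (fun a => a ∈ Z)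
    rw [he2, Cfsg.Agent.S3807.card_filter_mem, Cfsg.Agent.S3807.card_filter_mem, hcB] at h5
    rw [he]
    omega
  have h3 : s.card + Nat.card Z = p ^ 2 * Nat.card Z := by
    have h5 := Finset.card_filter_add_card_filter_not (s := (Finset.univ : Finset S)) (fun a => a ∈ Z)
    rw [Cfsg.Agent.S3807.card_filter_mem, Finset.card_univ, ← Nat.card_eq_fintype_card, hcS] at h5
    rw [hs]
    linarith
  have h4 : Nat.card {B : Subgroup S // P B} = t.card := by
    rw [Nat.card_eq_fintype_card, Fintype.card_subtype]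
  rw [h4]
  obtain ⟨f, hf⟩ : ∃ f : ℕ, f + Nat.card Z = p * Nat.card Z :=
    ⟨p * Nat.card Z - Nat.card Z, Nat.sub_add_cancel (Nat.le_mul_of_pos_left _ hp.pos)⟩
  have h6 : ∀ B ∈ t, (s.filter (fun a => F a = B)).card = f := by
    intro B hB
    have := h2 B hB
    omega
  rw [Finset.sum_congr rfl h6, Finset.sum_const, smul_eq_mul] at h1
  have hfpos : 0 < f := by
    have : 2 * Nat.card Z ≤ p * Nat.card Z := Nat.mul_le_mul_right _ hp.two_le
    omega
  have h7 : t.card * f = (p + 1) * f := by
    have h8 : (p + 1) * f + (p + 1) * Nat.card Z = (p + 1) * (p * Nat.card Z) := by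
      rw [← mul_add, hf]
    rw [h1] at h3
    nlinarith
  exact Nat.eq_of_mul_eq_mul_right hfpos h7

theorem not_gen {G : Type*} [Group G] [Group.IsNilpotent G] (x : G)
    (hx : ∀ E : Subgroup G, commutator G ≤ E → x ∈ E → E = ⊤) : commutator G = ⊥ := by
  set D := commutator G with hD
  set T : Subgroup G := ⁅D, (⊤ : Subgroup G)⁆ with hT
  haveI hTn : T.Normal := Subgroup.commutator_normal D ⊤
  have hd_c : ∀ d ∈ D, ∀ y : G, (y : G ⧸ T) * (d : G ⧸ T) = (d : G ⧸ T) * (y : G ⧸ T) := by
    intro d hd y
    rw [← QuotientGroup.mk_mul, ← QuotientGroup.mk_mul, QuotientGroup.eq_iff_div_mem]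
    have := Subgroup.commutator_mem_commutator (Subgroup.mem_top y) hd
    rw [Subgroup.commutator_comm, commutatorElement_def] at this
    convert this using 1
    rw [div_eq_mul_inv]
    group
  have hx_c : ∀ y : G, (y : G ⧸ T) * (x : G ⧸ T) = (x : G ⧸ T) * (y : G ⧸ T) := by
    have htop : (Subgroup.centralizer ({(x : G ⧸ T)} : Set (G ⧸ T))).comap (QuotientGroup.mk' T) = ⊤ := by
      apply hx
      · intro d hd
        rw [Subgroup.mem_comap, Subgroup.mem_centralizer_singleton_iff]
        exact (hd_c d hd x).symm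
      · rw [Subgroup.mem_comap, Subgroup.mem_centralizer_singleton_iff]
        rfl
    intro y
    have hy : y ∈ (Subgroup.centralizer ({(x : G ⧸ T)} : Set (G ⧸ T))).comap (QuotientGroup.mk' T) :=
      htop ▸ Subgroup.mem_top y
    rw [Subgroup.mem_comap, Subgroup.mem_centralizer_singleton_iff] at hy
    exact hy
  have hall : ∀ u y : G, (y : G ⧸ T) * (u : G ⧸ T) = (u : G ⧸ T) * (y : G ⧸ T) := by
    have htop : (Subgroup.center (G ⧸ T)).comap (QuotientGroup.mk' T) = ⊤ := by
      apply hx
      · intro a ha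
        rw [Subgroup.mem_comap, Subgroup.mem_center_iff]
        intro q
        obtain ⟨y, rfl⟩ := QuotientGroup.mk_surjective q
        exact hd_c a ha y
      · rw [Subgroup.mem_comap, Subgroup.mem_center_iff]
        intro q
        obtain ⟨y, rfl⟩ := QuotientGroup.mk_surjective q
        exact hx_c y
    intro u y
    have hu : u ∈ (Subgroup.center (G ⧸ T)).comap (QuotientGroup.mk' T) := htop ▸ Subgroup.mem_top u
    rw [Subgroup.mem_comap, Subgroup.mem_center_iff] at hu
    exact hu y
  have hle : D ≤ T := by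
    rw [hD, commutator_def, Subgroup.commutator_le]
    intro u _ y _
    rw [← QuotientGroup.eq_one_iff, commutatorElement_def]
    simp only [QuotientGroup.mk_mul, QuotientGroup.mk_inv]
    rw [hall y u]
    group
  by_contra hne
  exact Cfsg.Agent.S0129.comm_top_ne D hne (le_antisymm (Subgroup.commutator_le_left D ⊤) hle)

/-- In a p-group of maximal class of order at least p³ the normal subgroups of index at least p² are exactly the terms of the lower central series, and there are exactly p + 1 normal subgroups of index p. -/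
theorem result {G : Type*} [Group G] [Finite G] {p : ℕ} [Fact p.Prime] (n : ℕ) (hG : Nat.card G = p ^ n) (hcl : Group.nilpotencyClass G = n - 1) (hn : 3 ≤ n) : (∀ (N : Subgroup G) [N.Normal] (r : ℕ), 2 ≤ r → N.index = p ^ r → N = (⊤ : Subgroup G).lowerCentralSeries (r - 1)) ∧ Nat.card {N : Subgroup G // N.Normal ∧ N.index = p} = p + 1 := by
  have hp : p.Prime := Fact.out
  have hPG : IsPGroup p G := IsPGroup.of_card hG
  haveI : Group.IsNilpotent G := hPG.isNilpotent
  set L := (⊤ : Subgroup G).lowerCentralSeries with hL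
  have hLn : ∀ i, (L i).Normal := fun i => inferInstance
  have hLne : ∀ j, j ≤ n - 2 → L j ≠ ⊥ := by
    intro j hj h
    rw [hL, Subgroup.lowerCentralSeries_eq_bot_iff_nilpotencyClass_le, hcl] at h
    omega
  have hcard : ∀ k, k ≤ n - 1 → p ^ k ≤ Nat.card (L (n - 1 - k)) := by
    intro k
    induction k with
    | zero =>
      intro _
      rw [pow_zero]
      exact Nat.card_pos
    | succ k ih =>
      intro hk
      have ih' := ih (by omega)
      set j := n - 1 - (k+1) with hj
      have hj1 : n - 1 - k = j + 1 := by omega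
      rw [hj1] at ih'
      have hne := hLne j (by omega)
      haveI := hLn j
      have hle : L (j+1) ≤ L j := Subgroup.commutator_le_left (L j) ⊤
      have hne2 : L (j+1) ≠ L j := Cfsg.Agent.S0129.comm_top_ne (L j) hne
      obtain ⟨a, ha⟩ := IsPGroup.iff_card.mp (hPG.to_subgroup (L j))
      obtain ⟨b, hb⟩ := IsPGroup.iff_card.mp (hPG.to_subgroup (L (j+1)))
      have hlt' : Nat.card (L (j+1)) < Nat.card (L j) := by
        by_contra hcon
        exact hne2 (Subgroup.eq_of_le_of_card_ge hle (not_lt.mp hcon))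
      rw [ha, hb] at hlt'
      have hba : b < a := (Nat.pow_lt_pow_iff_right hp.one_lt).1 hlt'
      rw [hb] at ih'
      rw [ha]
      calc p ^ (k+1) = p ^ k * p := pow_succ p k
        _ ≤ p ^ b * p := Nat.mul_le_mul_right p ih'
        _ = p ^ (b+1) := (pow_succ p b).symm
        _ ≤ p ^ a := Nat.pow_le_pow_right hp.pos hba
  have part1 : ∀ (N : Subgroup G) [N.Normal] (r : ℕ), 2 ≤ r → N.index = p ^ r → N = L (r - 1) := by
    intro N _ r hr hNi
    have hrn : r ≤ n := by
      have := Subgroup.index_dvd_card N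
      rw [hNi, hG] at this
      exact (Nat.pow_dvd_pow_iff_le_right hp.one_lt).1 this
    have hcN : Nat.card N = p ^ (n - r) := by
      have := Subgroup.card_mul_index N
      rw [hNi, hG] at this
      have h2 : p ^ n = p ^ (n - r) * p ^ r := by rw [← pow_add]; congr 1; omega
      rw [h2] at this
      exact Nat.eq_of_mul_eq_mul_right (pow_pos hp.pos r) this
    have hle : L (r - 1) ≤ N := by
      have hq : Nat.card (G ⧸ N) = p ^ r := hNi
      have hcl' := Cfsg.Agent.S0063.result p r hq (by omega)
      haveI : Group.IsNilpotent (G ⧸ N) := inferInstance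
      rw [← Subgroup.lowerCentralSeries_eq_bot_iff_nilpotencyClass_le] at hcl'
      have hm := Subgroup.map_lowerCentralSeries (⊤ : Subgroup G) (QuotientGroup.mk' N) (r - 1)
      rw [Subgroup.map_top_of_surjective _ (QuotientGroup.mk'_surjective N), hcl',
        Subgroup.map_eq_bot_iff, QuotientGroup.ker_mk'] at hm
      exact hm
    have := hcard (n - r) (by omega)
    have h3 : n - 1 - (n - r) = r - 1 := by omega
    rw [h3] at this
    exact (Subgroup.eq_of_le_of_card_ge hle (by rw [hcN]; exact this)).symm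
  refine ⟨fun N _ r hr hNi => part1 N r hr hNi, ?_⟩
  set D := commutator G with hD
  have hDL : L 1 = D := Subgroup.top_lowerCentralSeries_one
  have hDne : D ≠ ⊥ := hDL ▸ hLne 1 (by omega)
  have hβ : ∀ x : G, ¬ (∀ E : Subgroup G, D ≤ E → x ∈ E → E = ⊤) := fun x hx => hDne (not_gen x hx)
  have hminFac : (Nat.card G).minFac = p := by
    rw [hG, Nat.pow_minFac (by omega), hp.minFac_eq]
  have hDidx : D.index = p ^ 2 := by
    have h1 := hcard (n - 2) (by omega)
    have h2 : n - 1 - (n - 2) = 1 := by omega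
    rw [h2, hDL] at h1
    have h3 : D.index ∣ p ^ n := hG ▸ Subgroup.index_dvd_card D
    obtain ⟨j, hj, hjc⟩ := (Nat.dvd_prime_pow hp).1 h3
    have h4 := Subgroup.card_mul_index D
    rw [hjc, hG] at h4
    have hj2 : j ≤ 2 := by
      have h5 : p ^ (n - 2 + j) ≤ p ^ n := by
        rw [pow_add, ← h4]
        exact Nat.mul_le_mul_right _ h1
      have := (Nat.pow_le_pow_iff_right hp.one_lt).1 h5
      omega
    have hj0 : j ≠ 0 := by
      intro h0
      rw [h0, pow_zero, Subgroup.index_eq_one] at hjc
      exact hβ 1 (fun E hE _ => top_le_iff.mp (hjc ▸ hE))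
    have hj1 : j ≠ 1 := by
      intro h0
      rw [h0, pow_one] at hjc
      have hex : ∃ x : G, x ∉ D := by
        by_contra hcon
        push_neg at hcon
        have : D = ⊤ := eq_top_iff.mpr (fun x _ => hcon x)
        rw [this, Subgroup.index_top] at hjc
        exact hp.one_lt.ne hjc
      obtain ⟨x, hx⟩ := hex
      exact hβ x (fun E hE hxE => Cfsg.Agent.S3807.gen_top hp D hjc E hE hxE hx)
    have : j = 2 := by omega
    rw [hjc, this]
  have hFidx : ∀ x ∉ D, (D ⊔ Subgroup.zpowers x).index = p := by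
    intro x hx
    have hle : D ≤ D ⊔ Subgroup.zpowers x := le_sup_left
    have hxF : x ∈ D ⊔ Subgroup.zpowers x := (le_sup_right : Subgroup.zpowers x ≤ _) (Subgroup.mem_zpowers x)
    have h := Subgroup.relIndex_mul_index hle
    rw [hDidx] at h
    have hd : (D ⊔ Subgroup.zpowers x).index ∣ p ^ 2 := Dvd.intro_left _ h
    obtain ⟨j, hj, hjc⟩ := (Nat.dvd_prime_pow hp).1 hd
    have hj0 : j ≠ 0 := by
      intro h0
      rw [h0, pow_zero, Subgroup.index_eq_one] at hjc
      exact hβ x (fun E hE hxE => top_le_iff.mp (hjc ▸ sup_le hE (Subgroup.zpowers_le.mpr hxE)))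
    have hj2 : j ≠ 2 := by
      intro h2
      rw [hjc, h2] at h
      have : D.relIndex (D ⊔ Subgroup.zpowers x) = 1 :=
        Nat.eq_of_mul_eq_mul_right (pow_pos hp.pos 2) (by rw [h, one_mul])
      exact hx (Subgroup.relIndex_eq_one.mp this hxF)
    have : j = 1 := by omega
    rw [hjc, this, pow_one]
  apply count_gen hp D hDidx (fun N => N.Normal ∧ N.index = p) (fun x => D ⊔ Subgroup.zpowers x)
  · intro x hx
    refine ⟨⟨?_, hFidx x hx⟩, (le_sup_right : Subgroup.zpowers x ≤ _) (Subgroup.mem_zpowers x)⟩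
    apply Subgroup.normal_of_index_eq_minFac_card
    rw [hFidx x hx, hminFac]
  · rintro B ⟨hBn, hBi⟩
    refine ⟨hBi, ?_⟩
    haveI := hBn
    have hq : Nat.card (G ⧸ B) = p := hBi
    haveI : IsCyclic (G ⧸ B) := isCyclic_of_prime_card hq
    exact Subgroup.Normal.quotient_commutative_iff_commutator_le.mp inferInstance
  · rintro B ⟨hBn, hBi⟩ x hxB hx
    haveI := hBn
    have hq : Nat.card (G ⧸ B) = p := hBi
    haveI : IsCyclic (G ⧸ B) := isCyclic_of_prime_card hq
    have hDB : D ≤ B := Subgroup.Normal.quotient_commutative_iff_commutator_le.mp inferInstance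
    have hle : D ⊔ Subgroup.zpowers x ≤ B := sup_le hDB (Subgroup.zpowers_le.mpr hxB)
    have h := Subgroup.relIndex_mul_index hle
    rw [hBi, hFidx x hx] at h
    have : (D ⊔ Subgroup.zpowers x).relIndex B = 1 :=
      Nat.eq_of_mul_eq_mul_right hp.pos (by rw [h, one_mul])
    exact le_antisymm hle (Subgroup.relIndex_eq_one.mp this)

end Cfsg.Agent.S0662
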