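import Cfsg.Statements.S0128
import Cfsg.Agent.S0124
import Cfsg.Agent.S0126
import Cfsg.Agent.S0129
import Cfsg.Agent.S0662
import Cfsg.Agent.S0063

set_option autoImplicit false
open Cfsg

namespace Cfsg.Agent.S0128

universe u

/-- exponent `p`, rank ≤ 2 ⇒ order ≤ `p^3`. -/
theorem card_le_cube {W : Type*} [Group W] [Finite W] {p : ℕ} [Fact p.Prime] (hp : p ≠ 2)
    (hW : IsPGroup p W) (hexp : ∀ w : W, w ^ p = 1)
    (hrk : ∀ E : Subgroup W, Cfsg.IsElementaryAbelian p E → Nat.card E ≤ p ^ 2) :
    Nat.card W ≤ p ^ 3 := by
  have hpp : p.Prime := Fact.out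
  by_cases hcyc : IsCyclic W
  · obtain ⟨g, hg⟩ := hcyc.exists_generator
    have h1 : Nat.card W = orderOf g := (orderOf_eq_card_of_forall_mem_zpowers hg).symm
    rw [h1]
    calc orderOf g ≤ p := orderOf_le_of_pow_eq_one hpp.pos (hexp g)
      _ ≤ p ^ 3 := Nat.le_self_pow (by norm_num) p
  · obtain ⟨A, hAn, hAe, hAc⟩ := Cfsg.Agent.S0126.result hp hW hcyc
    have hAA : A ≤ Subgroup.centralizer (A : Set W) :=
      Subgroup.le_centralizer_iff_isMulCommutative.mpr hAe.1
    have hCA : Subgroup.centralizer (A : Set W) ≤ A := by
      intro u hu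
      have hZA : Subgroup.zpowers u ≤ Subgroup.centralizer (A : Set W) := Subgroup.zpowers_le.mpr hu
      have hZZ : Subgroup.zpowers u ≤ Subgroup.centralizer (Subgroup.zpowers u : Set W) :=
        Subgroup.le_centralizer_iff_isMulCommutative.mpr inferInstance
      have hE : Cfsg.IsElementaryAbelian p (A ⊔ Subgroup.zpowers u) := by
        refine ⟨?_, fun a _ => hexp a⟩
        rw [← Subgroup.le_centralizer_iff_isMulCommutative]
        apply sup_le
        · rw [Subgroup.le_centralizer_iff]
          exact sup_le hAA hZA
        · rw [Subgroup.le_centralizer_iff]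
          exact sup_le (Subgroup.le_centralizer_iff.mp hZA) hZZ
      have h1 := hrk _ hE
      have h2 : A = A ⊔ Subgroup.zpowers u :=
        Subgroup.eq_of_le_of_card_ge le_sup_left (by rw [hAc]; exact h1)
      rw [h2]
      exact (le_sup_right : Subgroup.zpowers u ≤ _) (Subgroup.mem_zpowers u)
    have h3 := Cfsg.Agent.S0129.index_centralizer_le hW 2 A hAn hAc
    have h4 : Subgroup.centralizer (A : Set W) = A := le_antisymm hCA hAA
    rw [h4] at h3
    have h5 : ∑ i ∈ Finset.range 2, i = 1 := by decide
    rw [h5, pow_one] at h3
    calc Nat.card W = Nat.card A * A.index := (Subgroup.card_mul_index A).symm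
      _ ≤ p ^ 2 * p := by rw [hAc]; exact Nat.mul_le_mul_left _ h3
      _ = p ^ 3 := by ring

theorem rank_sub {R : Type*} [Group R] {p : ℕ}
    (hrk : ∀ E : Subgroup R, Cfsg.IsElementaryAbelian p E → Nat.card E ≤ p ^ 2) (H : Subgroup R) :
    ∀ E : Subgroup ↥H, Cfsg.IsElementaryAbelian p E → Nat.card E ≤ p ^ 2 := by
  intro E hE
  have h1 : Cfsg.IsElementaryAbelian p (E.map H.subtype) := by
    refine ⟨?_, ?_⟩
    · haveI := hE.1
      infer_instance
    · rintro _ ⟨e, he, rfl⟩
      have := hE.2 e he
      simpa using congrArg Subtype.val this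
  have h2 := hrk _ h1
  rwa [← Nat.card_congr (Subgroup.equivMapOfInjective E H.subtype H.subtype_injective).toEquiv] at h2

theorem card_lt_of_ne_top {R : Type*} [Group R] [Finite R] (H : Subgroup R) (h : H ≠ ⊤) :
    Nat.card H < Nat.card R := by
  by_contra hcon
  exact h (Subgroup.eq_top_of_card_eq H (le_antisymm (Subgroup.card_le_card_group H) (not_lt.mp hcon)))

open scoped Pointwise in
theorem main {p : ℕ} [Fact p.Prime] (hp : 3 < p) : ∀ (n : ℕ) (R : Type u) [Group R] [Finite R],
    Nat.card R ≤ n → IsPGroup p R →
    (∀ E : Subgroup R, Cfsg.IsElementaryAbelian p E → Nat.card E ≤ p ^ 2) →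
    ∀ x y : R, x ^ p = 1 → y ^ p = 1 → (x * y) ^ p = 1 := by
  have hpp : p.Prime := Fact.out
  intro n
  induction n with
  | zero =>
    intro R _ _ hc
    exact absurd (Nat.card_pos (α := R)) (by omega)
  | succ n ih =>
    intro R _ _ hc hR hrk x y hx hy
    haveI : Group.IsNilpotent R := hR.isNilpotent
    by_cases hH : Subgroup.closure ({x, y} : Set R) = ⊤
    · set X := Subgroup.normalClosure ({x} : Set R) with hXdef
      by_cases hX : X = ⊤
      · have hcomm : commutator R = ⊥ := by
          apply Cfsg.Agent.S0662.not_gen x
          intro E hE hxE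
          haveI : E.Normal := by
            constructor
            intro e he g
            have h1 := Subgroup.commutator_mem_commutator (Subgroup.mem_top g) (Subgroup.mem_top e)
            rw [← commutator_def, commutatorElement_def] at h1
            have := E.mul_mem (hE h1) he
            simpa using this
          have : X ≤ E := Subgroup.normalClosure_le_normal (Set.singleton_subset_iff.mpr hxE)
          rw [hX] at this
          exact top_le_iff.mp this
        have hxy : Commute x y := by
          have h1 := Subgroup.commutator_mem_commutator (Subgroup.mem_top x) (Subgroup.mem_top y)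
          rw [← commutator_def, hcomm, Subgroup.mem_bot, commutatorElement_def] at h1
          show x * y = y * x
          have : x * y = (x * y * x⁻¹ * y⁻¹) * (y * x) := by group
          rw [this, h1, one_mul]
        rw [hxy.mul_pow, hx, hy, one_mul]
      · have hXlt : Nat.card X < Nat.card R := card_lt_of_ne_top X hX
        have hXexp : ∀ u ∈ X, u ^ p = 1 := by
          intro u hu
          rw [hXdef, Subgroup.normalClosure] at hu
          induction hu using Subgroup.closure_induction with
          | mem v hv =>
            rw [Group.mem_conjugatesOfSet_iff] at hv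
            obtain ⟨a, ha, hav⟩ := hv
            rw [Set.mem_singleton_iff] at ha
            obtain ⟨c, rfl⟩ := isConj_iff.mp hav
            rw [conj_pow, ha, hx]
            group
          | one => exact one_pow p
          | mul a b ha hb iha ihb =>
            have := ih ↥X (by omega) (hR.to_subgroup X) (rank_sub hrk X) ⟨a, ha⟩ ⟨b, hb⟩
              (Subtype.ext iha) (Subtype.ext ihb)
            exact congrArg Subtype.val this
          | inv a _ iha => rw [inv_pow, iha, inv_one]
        have hXc : Nat.card X ≤ p ^ 3 := card_le_cube (by omega) (hR.to_subgroup X)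
          (fun w => Subtype.ext (hXexp w w.2)) (rank_sub hrk X)
        have htop : X ⊔ Subgroup.zpowers y = ⊤ := by
          rw [eq_top_iff, ← hH, Subgroup.closure_le]
          intro v hv
          rcases hv with rfl | hv
          · exact (le_sup_left : X ≤ _) (Subgroup.subset_normalClosure (Set.mem_singleton v))
          · rw [Set.mem_singleton_iff] at hv
            rw [hv]
            exact (le_sup_right : Subgroup.zpowers y ≤ _) (Subgroup.mem_zpowers y)
        have hRc : Nat.card R ≤ p ^ 4 := by
          have h1 : Nat.card R = Nat.card ((X : Set R) * (Subgroup.zpowers y : Set R) : Set R) := by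
            rw [← Subgroup.normal_mul, htop]
            simp
          rw [h1]
          calc Nat.card ((X : Set R) * (Subgroup.zpowers y : Set R) : Set R)
              ≤ Nat.card (X : Set R) * Nat.card (Subgroup.zpowers y : Set R) := Set.natCard_mul_le
            _ ≤ p ^ 3 * p := by
                apply Nat.mul_le_mul hXc
                show Nat.card (Subgroup.zpowers y) ≤ p
                rw [Nat.card_zpowers]
                exact orderOf_le_of_pow_eq_one hpp.pos hy
            _ = p ^ 4 := by ring
        obtain ⟨m, hm⟩ := IsPGroup.iff_card.mp hR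
        have hm4 : m ≤ 4 := by
          rw [hm] at hRc
          exact (Nat.pow_le_pow_iff_right hpp.one_lt).1 hRc
        by_cases hm1 : 1 < m
        · have hc3 : Group.nilpotencyClass R ≤ 3 :=
            (Cfsg.Agent.S0063.result p m hm hm1).trans (by omega)
          have h3 := Subgroup.lowerCentralSeries_eq_bot_iff_nilpotencyClass_le.mpr hc3
          have hcl : ⁅⁅commutator R, (⊤ : Subgroup R)⁆, (⊤ : Subgroup R)⁆ = ⊥ := by
            rw [commutator_def]; exact h3
          exact Cfsg.Agent.S0124.mul_pow_one hpp hp hcl x y hx hy
        · have hd : Nat.card R ∣ p := by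
            rw [hm]
            calc p ^ m ∣ p ^ 1 := pow_dvd_pow p (by omega)
              _ = p := pow_one p
          haveI : IsCyclic R := isCyclic_of_card_dvd_prime hd
          have hxy : Commute x y := mul_comm' x y
          rw [hxy.mul_pow, hx, hy, one_mul]
    · set H := Subgroup.closure ({x, y} : Set R) with hHdef
      have hlt := card_lt_of_ne_top H hH
      have hxH : x ∈ H := Subgroup.subset_closure (by simp)
      have hyH : y ∈ H := Subgroup.subset_closure (by simp)
      have := ih ↥H (by omega) (hR.to_subgroup H) (rank_sub hrk H) ⟨x, hxH⟩ ⟨y, hyH⟩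
        (Subtype.ext hx) (Subtype.ext hy)
      exact congrArg Subtype.val this

/-- For p > 3, in a p-group of p-rank at most 2 the elements of order dividing p generate a subgroup of exponent dividing p. -/
theorem result {R : Type*} [Group R] [Finite R] {p : ℕ} [Fact p.Prime] (hp : 3 < p) (hR : IsPGroup p R) (hrk : ∀ E : Subgroup R, Cfsg.IsElementaryAbelian p E → Nat.card E ≤ p ^ 2) (g : R) (hg : g ∈ Subgroup.closure {x : R | x ^ p = 1}) : g ^ p = 1 := by
  induction hg using Subgroup.closure_induction with
  | mem x hx => exact hx
  | one => exact one_pow p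
  | mul x y _ _ hx hy => exact main hp (Nat.card R) R le_rfl hR hrk x y hx hy
  | inv x _ hx => rw [inv_pow, hx, inv_one]

end Cfsg.Agent.S0128
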