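import Cfsg.Statements.S0206
import Mathlib
import Cfsg.Agent.Lib.Helper14.DihRec2
-- import your own Cfsg.Agent.* helpers here

set_option autoImplicit false
open Cfsg

namespace Cfsg.Agent.S0206

/-- Two distinct involutions x, y of a finite group generate a subgroup isomorphic to the dihedral group of order 2·|xy|. -/
theorem result {G : Type*} [Group G] [Finite G] (x y : G) (hx : orderOf x = 2) (hy : orderOf y = 2) (hxy : x ≠ y) : Nonempty (↥(Subgroup.closure ({x, y} : Set G)) ≃* DihedralGroup (orderOf (x * y))) := by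
  have hx2 : x * x = 1 := by
    have := pow_orderOf_eq_one x
    rwa [hx, pow_two] at this
  have hy2 : y * y = 1 := by
    have := pow_orderOf_eq_one y
    rwa [hy, pow_two] at this
  have hxi : x⁻¹ = x := inv_eq_of_mul_eq_one_left hx2
  have hyi : y⁻¹ = y := inv_eq_of_mul_eq_one_left hy2
  have hx1 : x ≠ 1 := by
    intro h; rw [h, orderOf_one] at hx; omega
  have hy1 : y ≠ 1 := by
    intro h; rw [h, orderOf_one] at hy; omega
  set c := x * y with hc
  have : NeZero (orderOf c) := ⟨(orderOf_pos c).ne'⟩
  have hinv : x * c * x⁻¹ = c⁻¹ := by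
    rw [hc, mul_inv_rev, hxi, hyi, ← mul_assoc, hx2, one_mul]
  have hxc : x ∉ Subgroup.zpowers c := by
    rintro ⟨k, hk⟩
    have hk' : c ^ k = x := hk
    have hcomm : x * c = c * x := by rw [← hk', ← zpow_add_one, ← zpow_one_add, add_comm]
    have h1 : c⁻¹ = c := by rw [← hinv, hcomm, mul_inv_cancel_right]
    have h2 : c * c = 1 := by
      nth_rewrite 1 [← h1]; exact inv_mul_cancel c
    -- c^k is 1 or c
    have h3 : c ^ k = 1 ∨ c ^ k = c := by
      rcases Int.even_or_odd' k with ⟨j, rfl | rfl⟩
      · left; rw [zpow_mul, zpow_two, h2, one_zpow]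
      · right; rw [zpow_add, zpow_mul, zpow_two, h2, one_zpow, one_mul, zpow_one]
    rcases h3 with h3 | h3
    · exact hx1 (hk' ▸ h3)
    · apply hy1
      have : x * y = x * 1 := by rw [mul_one, ← hc, ← h3, hk']
      exact mul_left_cancel this
  obtain ⟨f, hf, hfr, hfs⟩ := Cfsg.Agent.Lib.Helper14.exists_dihedral_hom (orderOf c) c x rfl hxc hx2 hinv
  have hrange : f.range = Subgroup.closure ({x, y} : Set G) := by
    have hxcl : x ∈ Subgroup.closure ({x, y} : Set G) := Subgroup.subset_closure (by simp)
    have hycl : y ∈ Subgroup.closure ({x, y} : Set G) := Subgroup.subset_closure (by simp)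
    apply le_antisymm
    · rintro _ ⟨d, rfl⟩
      cases d with
      | r i => rw [hfr]; exact Subgroup.pow_mem _ (Subgroup.mul_mem _ hxcl hycl) _
      | sr i => rw [hfs]; exact Subgroup.mul_mem _ hxcl (Subgroup.pow_mem _ (Subgroup.mul_mem _ hxcl hycl) _)
    · rw [Subgroup.closure_le]
      have hxr : x ∈ f.range := ⟨DihedralGroup.sr 0, by rw [hfs, ZMod.val_zero, pow_zero, mul_one]⟩
      have hcr : c ∈ f.range := by
        by_cases h1 : orderOf c = 1
        · have h2 : c = 1 := orderOf_eq_one_iff.mp h1
          exact ⟨1, by rw [map_one]; exact h2.symm⟩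
        · have : Fact (1 < orderOf c) := ⟨by have := orderOf_pos c; omega⟩
          exact ⟨DihedralGroup.r 1, by rw [hfr, ZMod.val_one, pow_one]⟩
      rintro z (rfl | hz)
      · exact hxr
      · rw [Set.mem_singleton_iff] at hz
        have : y = x * c := by rw [hc, ← mul_assoc, hx2, one_mul]
        rw [hz, this]
        exact Subgroup.mul_mem _ hxr hcr
  exact ⟨((MonoidHom.ofInjective hf).trans (MulEquiv.subgroupCongr hrange)).symm⟩

end Cfsg.Agent.S0206
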