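import Cfsg.Statements.S0214
import Mathlib
import Cfsg.Agent.Lib.Helper17.Syl
-- import your own Cfsg.Agent.* helpers here

set_option autoImplicit false
open Cfsg

namespace Cfsg.Agent.S0214

open Cfsg.Agent.Lib.Helper17

/-- Let H be a proper subgroup of the finite group G and P a nontrivial Sylow 2-subgroup of H. Then H is strongly embedded in G if and only if N_G(X) ≤ H for every nontrivial subgroup X of P. -/
theorem result {G : Type*} [Group G] [Finite G] (H : Subgroup G) (hH : H ≠ ⊤) (P : Sylow 2 ↥H) (hP : (P : Subgroup ↥H) ≠ ⊥) : Cfsg.IsStronglyEmbedded H ↔ (∀ X : Subgroup ↥H, X ≤ (P : Subgroup ↥H) → X ≠ ⊥ → Subgroup.normalizer ((X.map H.subtype : Subgroup G) : Set G) ≤ H) := by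
  have : Fact (Nat.Prime 2) := ⟨Nat.prime_two⟩
  have hP' : IsSyl 2 ((P : Subgroup H).map H.subtype) H := isSyl_of_sylow P
  obtain ⟨P', hPdef⟩ : ∃ P', P' = (P : Subgroup H).map H.subtype := ⟨_, rfl⟩
  rw [← hPdef] at hP'
  have hP'ne : P' ≠ ⊥ := by
    rw [hPdef]
    intro h
    exact hP ((Subgroup.map_eq_bot_iff_of_injective _ H.subtype_injective).mp h)
  constructor
  · rintro ⟨-, -, hse⟩ X hXP hX g hg
    by_contra hgH
    have hodd := hse g hgH
    have hX' : X.map H.subtype ≤ H ⊓ H.map (MulAut.conj g).toMonoidHom := by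
      apply le_inf (Subgroup.map_subtype_le _)
      have := map_conj_eq_of_mem_normalizer hg
      rw [← this]
      exact Subgroup.map_mono (Subgroup.map_subtype_le _)
    have hXp : IsPGroup 2 (X.map H.subtype) := (P.2.to_le hXP).map _
    obtain ⟨k, hk⟩ := hXp.exists_card_eq
    have hk0 : k ≠ 0 := by
      rintro rfl
      rw [pow_zero, Subgroup.card_eq_one] at hk
      exact hX ((Subgroup.map_eq_bot_iff_of_injective _ H.subtype_injective).mp hk)
    have h2 : 2 ∣ Nat.card (H ⊓ H.map (MulAut.conj g).toMonoidHom : Subgroup G) := by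
      refine dvd_trans ?_ (Subgroup.card_dvd_of_le hX')
      rw [hk]; exact dvd_pow_self 2 hk0
    exact (Nat.not_even_iff_odd.mpr hodd) (even_iff_two_dvd.mpr h2)
  · intro hN
    -- ambient form
    have hA : ∀ X' : Subgroup G, X' ≤ P' → X' ≠ ⊥ → Subgroup.normalizer (X' : Set G) ≤ H := by
      intro X' hX' hne
      have hXH : X' ≤ H := hX'.trans hP'.le
      have hmap : (X'.subgroupOf H).map H.subtype = X' := by
        rw [Subgroup.subgroupOf_map_subtype, inf_of_le_left hXH]
      have := hN (X'.subgroupOf H) ?_ ?_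
      · rwa [hmap] at this
      · intro y hy
        have hy' : (y : G) ∈ P' := hX' (Subgroup.mem_subgroupOf.mp hy)
        rw [hPdef] at hy'
        obtain ⟨w, hw, hwy⟩ := hy'
        have : w = y := Subtype.ext hwy
        rwa [← this]
      · intro h
        apply hne
        rw [← hmap, h, Subgroup.map_bot]
    have hB : ∀ U : Subgroup G, U ≤ H → IsPGroup 2 U → U ≠ ⊥ →
        Subgroup.normalizer (U : Set G) ≤ H := by
      intro U hUH hU hne
      obtain ⟨m, hm, hUm⟩ := hP'.exists_conj_ge hUH hU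
      rw [le_map_conj_iff] at hUm
      have h1 := hA _ hUm (by
        intro h
        exact hne ((Subgroup.map_eq_bot_iff_of_injective _ (MulAut.conj m⁻¹).injective).mp h))
      rw [normalizer_map_conj] at h1
      intro n hn
      have h2 : m⁻¹ * n * m⁻¹⁻¹ ∈ H := h1 (conj_mem_map_conj hn)
      have h3 : n = m * (m⁻¹ * n * m⁻¹⁻¹) * m⁻¹ := by group
      rw [h3]
      exact H.mul_mem (H.mul_mem hm h2) (H.inv_mem hm)
    refine ⟨hH, ?_, ?_⟩
    · obtain ⟨k, hk⟩ := hP'.isPGroup.exists_card_eq
      have hk0 : k ≠ 0 := by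
        rintro rfl
        rw [pow_zero, Subgroup.card_eq_one] at hk
        exact hP'ne hk
      rw [even_iff_two_dvd]
      refine dvd_trans ?_ (Subgroup.card_dvd_of_le hP'.le)
      rw [hk]; exact dvd_pow_self 2 hk0
    · intro g hg
      by_contra hodd
      rw [Nat.not_odd_iff_even, even_iff_two_dvd] at hodd
      obtain ⟨U, hU⟩ := exists_isSyl 2 (H ⊓ H.map (MulAut.conj g).toMonoidHom)
      have hUne := hU.ne_bot hodd
      have hUH : U ≤ H := hU.le.trans inf_le_left
      have hUHg : U ≤ H.map (MulAut.conj g).toMonoidHom := hU.le.trans inf_le_right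
      have hNU := hB U hUH hU.isPGroup hUne
      obtain ⟨S1, hS1, hUS1⟩ := exists_isSyl_ge hUHg hU.isPGroup
      have hUeq : U = S1 := by
        by_contra hne
        obtain ⟨x, hxS, hxN, hxU⟩ := pgroup_normalizer_grow hS1.isPGroup (lt_of_le_of_ne hUS1 hne)
        have h1 : U ⊔ Subgroup.zpowers x ≤ S1 := sup_le hUS1 (by rwa [Subgroup.zpowers_le])
        have h2 : U ⊔ Subgroup.zpowers x ≤ H ⊓ H.map (MulAut.conj g).toMonoidHom := by
          apply le_inf
          · exact sup_le hUH (by rw [Subgroup.zpowers_le]; exact hNU hxN)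
          · exact h1.trans hS1.le
        have h3 := hU.eq_of_le h2 (hS1.isPGroup.to_le h1) le_sup_left
        apply hxU
        rw [← h3]
        exact (le_sup_right : Subgroup.zpowers x ≤ _) (Subgroup.mem_zpowers x)
      rw [← hUeq] at hS1
      have hPg := hP'.map_conj g
      have hcard : Nat.card U = Nat.card P' := by
        rw [hPg.card_eq hS1, card_map_conj]
      have hUsylH : IsSyl 2 U H := hP'.of_card_le hUH hU.isPGroup hcard.ge
      obtain ⟨m, hm, hUm⟩ := hPg.conj hS1
      obtain ⟨h, hh, hUh⟩ := hP'.conj hUsylH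
      rw [map_conj_map_conj] at hUm
      have hn : h⁻¹ * (m * g) ∈ Subgroup.normalizer (P' : Set G) := by
        rw [mem_normalizer_iff_map_conj, ← map_conj_map_conj, ← hUm, hUh, map_conj_map_conj,
          inv_mul_cancel, map_conj_one]
      have hnH := hA P' le_rfl hP'ne hn
      rw [mem_map_conj] at hm
      apply hg
      have : g = h * (h⁻¹ * (m * g)) * (g⁻¹ * m * g)⁻¹ := by group
      rw [this]
      exact H.mul_mem (H.mul_mem hh hnH) (H.inv_mem hm)

end Cfsg.Agent.S0214
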