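import Cfsg.Statements.S0223
import Mathlib
import Cfsg.Agent.Lib.Lead.Iso

set_option autoImplicit false
open Cfsg

namespace Cfsg.Agent.S0223

open Cfsg.Agent.Lib.Lead

/-- Let H be a proper subgroup of even order of the finite group G. Then H is strongly embedded if and only if (i) C_G(t) ≤ H for every involution t of H and (ii) H controls fusion of its involutions: involutions of H conjugate in G are conjugate in H. -/
theorem result {G : Type*} [Group G] [Finite G] (H : Subgroup G) (hH : H ≠ ⊤) (heven : Even (Nat.card H)) : Cfsg.IsStronglyEmbedded H ↔ ((∀ t ∈ H, orderOf t = 2 → Subgroup.centralizer ({t} : Set G) ≤ H) ∧ (∀ t ∈ H, ∀ s ∈ H, orderOf t = 2 → orderOf s = 2 → IsConj t s → ∃ h ∈ H, h * t * h⁻¹ = s)) := by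
  have hodd_no_invol : ∀ K : Subgroup G, Odd (Nat.card K) → ∀ t ∈ K, orderOf t ≠ 2 := by
    intro K hK t ht h2
    have := orderOf_dvd_natCard (⟨t, ht⟩ : K)
    rw [Subgroup.orderOf_mk, h2] at this
    exact (Nat.not_even_iff_odd.mpr hK) (even_iff_two_dvd.mpr this)
  constructor
  · rintro ⟨_, _, hSE⟩
    have key : ∀ t ∈ H, orderOf t = 2 → ∀ g : G, g * t * g⁻¹ ∈ H → g ∈ H := by
      intro t ht ht2 g hg
      by_contra hgH
      have ho : orderOf (g * t * g⁻¹) = 2 := by
        have := orderOf_injective (MulAut.conj g).toMonoidHom (MulAut.conj g).injective t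
        simpa [ht2] using this
      exact hodd_no_invol _ (hSE g hgH) (g * t * g⁻¹) ⟨hg, ⟨t, ht, rfl⟩⟩ ho
    constructor
    · intro t ht ht2 c hc
      apply key t ht ht2 c
      rw [Subgroup.mem_centralizer_singleton_iff] at hc
      rw [hc, mul_inv_cancel_right]; exact ht
    · intro t ht s hs ht2 _ hconj
      obtain ⟨g, hg⟩ := isConj_iff.mp hconj
      exact ⟨g, key t ht ht2 g (hg ▸ hs), hg⟩
  · rintro ⟨hC, hF⟩
    refine ⟨hH, heven, ?_⟩
    intro g hg
    by_contra hne
    rw [Nat.not_odd_iff_even] at hne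
    have : Fact (Nat.Prime 2) := ⟨Nat.prime_two⟩
    obtain ⟨s, hs⟩ := exists_prime_orderOf_dvd_card' 2 (even_iff_two_dvd.mp hne)
    have hs2 : orderOf (s : G) = 2 := by rw [Subgroup.orderOf_coe]; exact hs
    obtain ⟨hsH, t, htH, hts⟩ := s.2
    simp only [MulEquiv.coe_toMonoidHom, MulAut.conj_apply] at hts
    have ht2 : orderOf t = 2 := by
      have := orderOf_injective (MulAut.conj g).toMonoidHom (MulAut.conj g).injective t
      simp only [MulEquiv.coe_toMonoidHom, MulAut.conj_apply, hts, hs2] at this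
      exact this.symm
    obtain ⟨h, hh, hht⟩ := hF t htH s hsH ht2 hs2 (isConj_iff.mpr ⟨g, hts⟩)
    have hc : h⁻¹ * g ∈ Subgroup.centralizer ({t} : Set G) := by
      rw [Subgroup.mem_centralizer_singleton_iff]
      have e : g * t = (s : G) * g := by rw [← hts]; group
      have e2 : h⁻¹ * (s : G) = t * h⁻¹ := by rw [← hht]; group
      rw [mul_assoc, e, ← mul_assoc, e2, mul_assoc]
    have := mul_mem hh (hC t htH ht2 hc)
    apply hg
    simpa using this

end Cfsg.Agent.S0223
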