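import Cfsg.Statements.S0224
import Mathlib
import Cfsg.Agent.Lib.Lead.Iso

set_option autoImplicit false
open Cfsg

namespace Cfsg.Agent.S0224

open Cfsg.Agent.Lib.Lead

/-- Let H be a proper subgroup of even order of the finite group G. Then H is strongly embedded if and only if each involution of H fixes exactly one point (namely the coset H) in the action of G on the cosets of H. -/
theorem result {G : Type*} [Group G] [Finite G] (H : Subgroup G) (hH : H ≠ ⊤) (heven : Even (Nat.card H)) : Cfsg.IsStronglyEmbedded H ↔ ∀ t ∈ H, orderOf t = 2 → Nat.card {c : G ⧸ H // t • c = c} = 1 := by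
  have hodd_no_invol : ∀ K : Subgroup G, Odd (Nat.card K) → ∀ t ∈ K, orderOf t ≠ 2 := by
    intro K hK t ht h2
    have := orderOf_dvd_natCard (⟨t, ht⟩ : K)
    rw [Subgroup.orderOf_mk, h2] at this
    exact (Nat.not_even_iff_odd.mpr hK) (even_iff_two_dvd.mpr this)
  have hfix : ∀ (t g : G), t • (g : G ⧸ H) = (g : G ⧸ H) ↔ g⁻¹ * t * g ∈ H := by
    intro t g
    rw [MulAction.Quotient.smul_coe, smul_eq_mul, eq_comm, QuotientGroup.eq, ← mul_assoc]
  constructor
  · rintro ⟨_, _, hSE⟩ t ht ht2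
    rw [Nat.card_eq_one_iff_unique]
    refine ⟨⟨?_⟩, ⟨⟨((1 : G) : G ⧸ H), by rw [hfix]; simpa using ht⟩⟩⟩
    have key : ∀ c : {c : G ⧸ H // t • c = c}, c.1 = ((1 : G) : G ⧸ H) := by
      rintro ⟨c, hc⟩
      obtain ⟨g, rfl⟩ := QuotientGroup.mk_surjective c
      rw [hfix] at hc
      simp only
      rw [eq_comm, QuotientGroup.eq]
      simp only [inv_one, one_mul]
      by_contra hgH
      refine hodd_no_invol _ (hSE g hgH) t ⟨ht, ⟨g⁻¹ * t * g, hc, ?_⟩⟩ ht2
      simp [mul_assoc]
    intro a b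
    apply Subtype.ext
    rw [key a, key b]
  · intro hone
    refine ⟨hH, heven, ?_⟩
    intro g hg
    by_contra hne
    rw [Nat.not_odd_iff_even] at hne
    have : Fact (Nat.Prime 2) := ⟨Nat.prime_two⟩
    obtain ⟨s, hs⟩ := exists_prime_orderOf_dvd_card' 2 (even_iff_two_dvd.mp hne)
    have hs2 : orderOf (s : G) = 2 := by rw [Subgroup.orderOf_coe]; exact hs
    obtain ⟨hsH, t, htH, hts⟩ := s.2
    simp only [MulEquiv.coe_toMonoidHom, MulAut.conj_apply] at hts
    have h1 := hone s hsH hs2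
    rw [Nat.card_eq_one_iff_unique] at h1
    obtain ⟨hsub, _⟩ := h1
    have a1 : (s : G) • ((1 : G) : G ⧸ H) = ((1 : G) : G ⧸ H) := by rw [hfix]; simpa using hsH
    have a2 : (s : G) • ((g : G) : G ⧸ H) = ((g : G) : G ⧸ H) := by
      rw [hfix, ← hts]
      have e : g⁻¹ * (g * t * g⁻¹) * g = t := by group
      rw [e]; exact htH
    have := hsub.elim ⟨_, a1⟩ ⟨_, a2⟩
    have h2 : ((1 : G) : G ⧸ H) = ((g : G) : G ⧸ H) := congrArg Subtype.val this
    rw [QuotientGroup.eq] at h2
    apply hg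
    simpa using h2

end Cfsg.Agent.S0224
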