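import Cfsg.Statements.S0820
import Mathlib
import Cfsg.Agent.Lib.Helper12.Transv

set_option autoImplicit false
open Cfsg

namespace Cfsg.Agent.S0820

open Matrix

variable {F : Type*} [Field F]

theorem two_eq_zero_of_card [Fintype F] (hF : Fintype.card F = 4) : (2 : F) = 0 := by
  have h4 : ((Fintype.card F : ℕ) : F) = 0 := Nat.cast_card_eq_zero F
  rw [hF] at h4
  have : (2 : F) * 2 = 0 := by
    have e : ((4 : ℕ) : F) = 2 * 2 := by norm_num
    rw [← e]; exact h4
  exact mul_self_eq_zero.mp this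

theorem eq_zero_of_rank_eq_zero {n : ℕ} (M : Matrix (Fin n) (Fin n) F) (h : M.rank = 0) :
    M = 0 := by
  have h1 : Module.finrank F (LinearMap.range M.mulVecLin) = 0 := h
  have h2 := Submodule.finrank_eq_zero.mp h1
  have h3 := LinearMap.range_eq_bot.mp h2
  ext i j
  have h4 := congrFun (LinearMap.congr_fun h3 (Pi.single j 1)) i
  simpa using h4

/-- an involution of `PSL₃` in characteristic 2 lifts to a transvection -/
theorem exists_lift (h2 : (2 : F) = 0) (x : Matrix.ProjectiveSpecialLinearGroup (Fin 3) F)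
    (hx : orderOf x = 2) :
    ∃ b : Matrix.SpecialLinearGroup (Fin 3) F,
      (QuotientGroup.mk b : Matrix.ProjectiveSpecialLinearGroup (Fin 3) F) = x ∧
      ((b : Matrix (Fin 3) (Fin 3) F) - 1).rank = 1 ∧
      ((b : Matrix (Fin 3) (Fin 3) F) - 1) * ((b : Matrix (Fin 3) (Fin 3) F) - 1) = 0 := by
  obtain ⟨a, rfl⟩ := QuotientGroup.mk_surjective x
  have hx2 : (QuotientGroup.mk a : Matrix.ProjectiveSpecialLinearGroup (Fin 3) F) ^ 2 = 1 := by
    rw [← hx]; exact pow_orderOf_eq_one _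
  have hx1 : (QuotientGroup.mk a : Matrix.ProjectiveSpecialLinearGroup (Fin 3) F) ≠ 1 := by
    intro h; rw [h, orderOf_one] at hx; omega
  have hz : a ^ 2 ∈ Subgroup.center (Matrix.SpecialLinearGroup (Fin 3) F) := by
    rw [← QuotientGroup.eq_one_iff]
    exact hx2
  have hz3 : (a ^ 2) ^ 3 = 1 := by
    obtain ⟨r, hr, hra⟩ := Matrix.SpecialLinearGroup.mem_center_iff.mp hz
    apply Matrix.SpecialLinearGroup.ext
    intro i j
    rw [Matrix.SpecialLinearGroup.coe_pow, ← hra, ← map_pow]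
    rw [Fintype.card_fin] at hr
    rw [hr]
    simp
  set z := a ^ 2 with hzdef
  have hzc := Subgroup.mem_center_iff.mp hz
  set b := a * z with hb
  have hb2 : b * b = 1 := by
    calc b * b = a * (z * a) * z := by rw [hb]; group
      _ = a * (a * z) * z := by rw [hzc a]
      _ = (a ^ 2) * z ^ 2 := by simp only [pow_two, mul_assoc]
      _ = z ^ 3 := by rw [← hzdef, pow_succ' z 2]
      _ = 1 := hz3
  have hbx : (QuotientGroup.mk b : Matrix.ProjectiveSpecialLinearGroup (Fin 3) F) =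
      QuotientGroup.mk a := by
    rw [hb, QuotientGroup.mk_mul, (QuotientGroup.eq_one_iff z).mpr hz, mul_one]
  have hb1 : b ≠ 1 := by
    intro h
    apply hx1
    rw [← hbx, h]
    rfl
  have hsq : ((b : Matrix (Fin 3) (Fin 3) F) - 1) * ((b : Matrix (Fin 3) (Fin 3) F) - 1) = 0 := by
    have e1 : (b : Matrix (Fin 3) (Fin 3) F) * (b : Matrix (Fin 3) (Fin 3) F) = 1 := by
      rw [← Matrix.SpecialLinearGroup.coe_mul, hb2]; rfl
    have e2 : ((b : Matrix (Fin 3) (Fin 3) F) - 1) * ((b : Matrix (Fin 3) (Fin 3) F) - 1) =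
        (2 : F) • (1 - (b : Matrix (Fin 3) (Fin 3) F)) := by
      rw [sub_mul, mul_sub, e1, two_smul]
      simp only [mul_one, one_mul]
      abel
    rw [e2, h2, zero_smul]
  refine ⟨b, hbx, ?_, hsq⟩
  have h3 := Matrix.rank_add_rank_le_card_of_mul_eq_zero hsq
  rw [Fintype.card_fin] at h3
  have h4 : ((b : Matrix (Fin 3) (Fin 3) F) - 1).rank ≠ 0 := by
    intro h
    apply hb1
    apply Matrix.SpecialLinearGroup.ext
    intro i j
    have := eq_zero_of_rank_eq_zero _ h
    have e := sub_eq_zero.mp this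
    rw [e]; rfl
  omega

/-- Any two elements of order 2 of PSL_3(4) are conjugate. -/
theorem result {F : Type*} [Field F] [Fintype F] (hF : Fintype.card F = 4) (x y : Matrix.ProjectiveSpecialLinearGroup (Fin 3) F) (hx : orderOf x = 2) (hy : orderOf y = 2) : IsConj x y := by
  have h2 := two_eq_zero_of_card hF
  obtain ⟨a, rfl, ha1, ha2⟩ := exists_lift h2 x hx
  obtain ⟨b, rfl, hb1, hb2⟩ := exists_lift h2 y hy
  have h01 : (0 : Fin 3) ≠ 1 := by decide
  have h02 : (0 : Fin 3) ≠ 2 := by decide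
  have h12 : (1 : Fin 3) ≠ 2 := by decide
  obtain ⟨G, hG⟩ := Cfsg.Agent.Lib.Helper12.exists_SL_conj_transvection_one _ ha1 ha2 _ _ _ h01 h02 h12
  obtain ⟨H, hH⟩ := Cfsg.Agent.Lib.Helper12.exists_SL_conj_transvection_one _ hb1 hb2 _ _ _ h01 h02 h12
  have e1 : G⁻¹ * a * G = H⁻¹ * b * H := by
    apply Matrix.SpecialLinearGroup.ext
    intro i j
    have a1 : ((G⁻¹ * a * G : Matrix.SpecialLinearGroup (Fin 3) F) : Matrix (Fin 3) (Fin 3) F) =
        Matrix.transvection 0 1 1 := by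
      rw [mul_assoc, Matrix.SpecialLinearGroup.coe_mul, Matrix.SpecialLinearGroup.coe_mul, hG,
        ← mul_assoc, ← Matrix.SpecialLinearGroup.coe_mul, inv_mul_cancel]
      simp
    have a2 : ((H⁻¹ * b * H : Matrix.SpecialLinearGroup (Fin 3) F) : Matrix (Fin 3) (Fin 3) F) =
        Matrix.transvection 0 1 1 := by
      rw [mul_assoc, Matrix.SpecialLinearGroup.coe_mul, Matrix.SpecialLinearGroup.coe_mul, hH,
        ← mul_assoc, ← Matrix.SpecialLinearGroup.coe_mul, inv_mul_cancel]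
      simp
    rw [a1, a2]
  have hconj : IsConj a b := by
    rw [isConj_iff]
    refine ⟨H * G⁻¹, ?_⟩
    calc H * G⁻¹ * a * (H * G⁻¹)⁻¹ = H * (G⁻¹ * a * G) * H⁻¹ := by group
      _ = H * (H⁻¹ * b * H) * H⁻¹ := by rw [e1]
      _ = b := by group
  exact (QuotientGroup.mk' (Subgroup.center (Matrix.SpecialLinearGroup (Fin 3) F))).map_isConj hconj


end Cfsg.Agent.S0820
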