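import Cfsg.Statements.S2550
import Mathlib
import Cfsg.Agent.Lib.Helper12.GLCard
import Cfsg.Agent.S0820

set_option autoImplicit false
open Cfsg

namespace Cfsg.Agent.S2550

open Matrix Matrix.SpecialLinearGroup

variable {F : Type*} [Field F]

theorem eq_zero_or_one [Fintype F] (hF : Fintype.card F = 2) (a : F) : a = 0 ∨ a = 1 := by
  classical
  by_contra hcon
  push Not at hcon
  have : ({0, 1, a} : Finset F).card = 3 := by
    rw [Finset.card_insert_of_notMem, Finset.card_insert_of_notMem, Finset.card_singleton]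
    · simpa using hcon.2.symm
    · simp only [Finset.mem_insert, Finset.mem_singleton, not_or]
      exact ⟨zero_ne_one, hcon.1.symm⟩
  have h2 := Finset.card_le_univ ({0, 1, a} : Finset F)
  rw [this, hF] at h2
  omega

theorem card_psl4 [Fintype F] (hF : Fintype.card F = 2) :
    Nat.card (Matrix.ProjectiveSpecialLinearGroup (Fin 4) F) = 20160 := by
  have h1 := Cfsg.Agent.Lib.Helper12.card_GL_eq_mul (F := F) 4 (by norm_num)
  rw [Cfsg.Agent.Lib.Helper12.card_units_eq, Matrix.card_GL_field, hF] at h1
  have h2 := Cfsg.Agent.Lib.Helper12.card_center_SL (F := F) 4 (by norm_num)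
  rw [Cfsg.Agent.Lib.Helper12.card_units_eq, hF] at h2
  have h3 := Subgroup.card_eq_card_quotient_mul_card_subgroup
    (Subgroup.center (Matrix.SpecialLinearGroup (Fin 4) F))
  rw [h2] at h3
  simp [Fin.prod_univ_succ] at h1 h3
  show Nat.card (Matrix.SpecialLinearGroup (Fin 4) F ⧸ _) = 20160
  omega

theorem card_psl3 [Fintype F] (hF : Fintype.card F = 4) :
    Nat.card (Matrix.ProjectiveSpecialLinearGroup (Fin 3) F) = 20160 := by
  have h1 := Cfsg.Agent.Lib.Helper12.card_GL_eq_mul (F := F) 3 (by norm_num)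
  rw [Cfsg.Agent.Lib.Helper12.card_units_eq, Matrix.card_GL_field, hF] at h1
  have h2 := Cfsg.Agent.Lib.Helper12.card_center_SL (F := F) 3 (by norm_num)
  rw [Cfsg.Agent.Lib.Helper12.card_units_eq, hF] at h2
  have h3 := Subgroup.card_eq_card_quotient_mul_card_subgroup
    (Subgroup.center (Matrix.SpecialLinearGroup (Fin 3) F))
  rw [h2] at h3
  simp [Fin.prod_univ_succ] at h1 h3
  show Nat.card (Matrix.SpecialLinearGroup (Fin 3) F ⧸ _) = 20160
  omega

theorem key [Fintype F] (hF : Fintype.card F = 2) (C : Matrix (Fin 4) (Fin 4) F)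
    (h : C * (1 + single 0 1 1) = (1 + single 0 1 1) * (1 + single 2 3 1) * C) : C.det = 0 := by
  have e : ((1 : Matrix (Fin 4) (Fin 4) F) + single 0 1 1) * (1 + single 2 3 1) =
      1 + single 0 1 1 + single 2 3 1 := by
    rw [add_mul, mul_add, mul_add, one_mul, one_mul, mul_one,
      single_mul_single_of_ne _ _ _ _ (by decide)]
    abel
  rw [e, mul_add, add_mul, add_mul, mul_one, one_mul, add_assoc, add_right_inj] at h
  have hL : ∀ i j, (C * (Matrix.single 0 1 1 : Matrix (Fin 4) (Fin 4) F)) i j =
      if j = 1 then C i 0 else 0 := by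
    intro i j
    by_cases hj : j = 1
    · subst hj; simp [Matrix.mul_apply, Matrix.single_apply]
    · simp [Matrix.mul_apply, Matrix.single_apply, hj, Ne.symm hj]
  have hR : ∀ (a b : Fin 4) i j, ((Matrix.single a b 1 : Matrix (Fin 4) (Fin 4) F) * C) i j =
      if i = a then C b j else 0 := by
    intro a b i j
    by_cases hi : i = a
    · subst hi; simp [Matrix.mul_apply, Matrix.single_apply]
    · simp [Matrix.mul_apply, Matrix.single_apply, hi, Ne.symm hi]
  have r1 : ∀ j, j ≠ 1 → C 1 j = 0 := by
    intro j hj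
    have := congrFun (congrFun h 0) j
    rw [Matrix.add_apply, hL, hR, hR] at this
    simpa [hj] using this.symm
  have r3 : ∀ j, j ≠ 1 → C 3 j = 0 := by
    intro j hj
    have := congrFun (congrFun h 2) j
    rw [Matrix.add_apply, hL, hR, hR] at this
    simpa [hj] using this.symm
  rcases eq_zero_or_one hF (C 1 1) with h1 | h1
  · apply Matrix.det_eq_zero_of_row_eq_zero 1
    intro j
    by_cases hj : j = 1
    · rw [hj, h1]
    · exact r1 j hj
  · rcases eq_zero_or_one hF (C 3 1) with h3 | h3
    · apply Matrix.det_eq_zero_of_row_eq_zero 3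
      intro j
      by_cases hj : j = 1
      · rw [hj, h3]
      · exact r3 j hj
    · apply Matrix.det_zero_of_row_eq (i := 1) (j := 3) (by decide)
      funext j
      by_cases hj : j = 1
      · rw [hj, h1, h3]
      · rw [r1 j hj, r3 j hj]

theorem exists_nonconj [Fintype F] (hF : Fintype.card F = 2) :
    ∃ x y : Matrix.ProjectiveSpecialLinearGroup (Fin 4) F, orderOf x = 2 ∧ orderOf y = 2 ∧
      ¬ IsConj x y := by
  have h01 : (0 : Fin 4) ≠ 1 := by decide
  have h23 : (2 : Fin 4) ≠ 3 := by decide
  have h2 : (1 : F) + 1 = 0 := by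
    rcases eq_zero_or_one hF (1 + 1) with h | h
    · exact h
    · exfalso; simp at h
  let T1 : SpecialLinearGroup (Fin 4) F := transvection h01 1
  let T3 : SpecialLinearGroup (Fin 4) F := transvection h23 1
  have hT1 : T1 * T1 = 1 := by
    rw [← transvection_add, h2, transvection_coeff_zero]
  have hT3 : T3 * T3 = 1 := by
    rw [← transvection_add, h2, transvection_coeff_zero]
  have hcomm : T1 * T3 = T3 * T1 := by
    apply Subtype.ext
    simp only [T1, T3, coe_mul, transvection_coe, add_mul, mul_add, one_mul, mul_one]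
    rw [single_mul_single_of_ne _ _ _ _ (by decide), single_mul_single_of_ne _ _ _ _ (by decide)]
    abel
  let π := QuotientGroup.mk' (Subgroup.center (SpecialLinearGroup (Fin 4) F))
  have hcenter : ∀ z ∈ Subgroup.center (SpecialLinearGroup (Fin 4) F), z = 1 := by
    intro z hz
    obtain ⟨r, hr, hrz⟩ := mem_center_iff.mp hz
    rcases eq_zero_or_one hF r with h | h
    · rw [h] at hr; simp at hr
    · apply Subtype.ext
      rw [← hrz, h]; simp
  refine ⟨π T1, π (T1 * T3), ?_, ?_, ?_⟩
  · apply orderOf_eq_prime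
    · rw [← map_pow, pow_two, hT1, map_one]
    · intro h
      have := (QuotientGroup.eq_one_iff T1).mp h
      rw [transvection_mem_center_iff] at this
      exact one_ne_zero this
  · apply orderOf_eq_prime
    · rw [← map_pow, pow_two]
      have : T1 * T3 * (T1 * T3) = 1 := by
        calc T1 * T3 * (T1 * T3) = T1 * (T3 * T1) * T3 := by group
          _ = T1 * (T1 * T3) * T3 := by rw [hcomm]
          _ = (T1 * T1) * (T3 * T3) := by group
          _ = 1 := by rw [hT1, hT3, one_mul]
      rw [this, map_one]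
    · intro h
      have := hcenter _ ((QuotientGroup.eq_one_iff (T1 * T3)).mp h)
      have h5 : T3 = T1 := by
        calc T3 = T1 * (T1 * T3) := by rw [← mul_assoc, hT1, one_mul]
          _ = T1 := by rw [this, mul_one]
      have h6 := congrArg (fun M : SpecialLinearGroup (Fin 4) F => (M : Matrix (Fin 4) (Fin 4) F) 0 1) h5
      simp [T1, T3, transvection_coe, Matrix.single_apply] at h6
  · intro hc
    rw [isConj_iff] at hc
    obtain ⟨c, hc⟩ := hc
    obtain ⟨C, rfl⟩ := QuotientGroup.mk'_surjective _ c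
    have h7 : π (C * T1 * C⁻¹ * (T1 * T3)⁻¹) = 1 := by
      rw [map_mul, map_mul, map_mul, map_inv, map_inv, hc]; simp
    have h8 := hcenter _ ((QuotientGroup.eq_one_iff _).mp h7)
    have h9 : C * T1 = T1 * T3 * C := by
      calc C * T1 = (C * T1 * C⁻¹ * (T1 * T3)⁻¹) * (T1 * T3 * C) := by group
        _ = T1 * T3 * C := by rw [h8, one_mul]
    have h10 := congrArg (fun M : SpecialLinearGroup (Fin 4) F => (M : Matrix (Fin 4) (Fin 4) F)) h9
    simp only [T1, T3, coe_mul, transvection_coe] at h10
    have h11 := key hF _ h10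
    rw [C.det_coe] at h11
    exact one_ne_zero h11

/-- Let F be a field with 2 elements and K a field with 4 elements. PSL_4(F) and PSL_3(K) have the same order (20160) but are not isomorphic. -/
theorem result {F K : Type*} [Field F] [Fintype F] [Field K] [Fintype K] (hF : Fintype.card F = 2) (hK : Fintype.card K = 4) : Nat.card (Matrix.ProjectiveSpecialLinearGroup (Fin 4) F) = Nat.card (Matrix.ProjectiveSpecialLinearGroup (Fin 3) K) ∧ ¬ Nonempty (Matrix.ProjectiveSpecialLinearGroup (Fin 4) F ≃* Matrix.ProjectiveSpecialLinearGroup (Fin 3) K) := by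
  refine ⟨by rw [card_psl4 hF, card_psl3 hK], ?_⟩
  rintro ⟨e⟩
  obtain ⟨x, y, hx, hy, hxy⟩ := exists_nonconj hF
  apply hxy
  have h1 : IsConj (e x) (e y) := Cfsg.Agent.S0820.result hK (e x) (e y)
    (by rw [MulEquiv.orderOf_eq, hx]) (by rw [MulEquiv.orderOf_eq, hy])
  have h2 := e.symm.toMonoidHom.map_isConj h1
  simpa using h2


end Cfsg.Agent.S2550
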