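import Cfsg.Statements.S0256
import Mathlib
import Cfsg.Agent.Lib.Helper21.AltPres
import Cfsg.Agent.S2550

set_option autoImplicit false
open Cfsg

namespace Cfsg.Agent.S0256

open Cfsg.Agent.S3335 Cfsg.Agent.Lib.Helper21.AltPres

def M : Fin 6 → Matrix (Fin 4) (Fin 4) (ZMod 2) :=
  ![!![0, 1, 0, 0; 1, 1, 0, 0; 0, 0, 0, 1; 0, 0, 1, 1],
    !![1, 0, 0, 0; 0, 1, 0, 0; 1, 0, 1, 0; 1, 1, 0, 1],
    !![0, 0, 1, 0; 0, 0, 1, 1; 1, 0, 0, 0; 1, 1, 0, 0],
    !![1, 0, 0, 0; 1, 1, 0, 0; 1, 0, 1, 0; 1, 1, 1, 1],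
    !![0, 1, 0, 0; 1, 0, 0, 0; 0, 0, 1, 1; 0, 0, 0, 1],
    !![1, 0, 0, 0; 1, 1, 0, 0; 0, 0, 1, 0; 0, 0, 1, 1]]

set_option maxRecDepth 100000 in
lemma M6 : ∀ i : Fin 6, M i ^ 6 = 1 := by decide

set_option maxRecDepth 100000 in
lemma M3 : ∀ i : Fin 6, i.val = 0 → M i ^ 3 = 1 := by decide

set_option maxRecDepth 100000 in
lemma M2 : ∀ i : Fin 6, 1 ≤ i.val → M i ^ 2 = 1 := by decide

set_option maxRecDepth 100000 in
lemma Mb : ∀ i j : Fin 6, j.val = i.val + 1 → (M i * M j) ^ 3 = 1 := by decide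

set_option maxRecDepth 100000 in
lemma Mc : ∀ i j : Fin 6, i.val + 1 < j.val → (M i * M j) ^ 2 = 1 := by decide

set_option maxRecDepth 100000 in
lemma Mnc : M 0 * M 1 ≠ M 1 * M 0 := by decide

lemma det_of_pow (m : Matrix (Fin 4) (Fin 4) (ZMod 2)) (h : m ^ 6 = 1) : m.det = 1 := by
  have h1 := congrArg Matrix.det h
  rw [Matrix.det_pow, Matrix.det_one] at h1
  have : ∀ d : ZMod 2, d ^ 6 = 1 → d = 1 := by decide
  exact this _ h1

def f (i : Fin 6) : Matrix.SpecialLinearGroup (Fin 4) (ZMod 2) := ⟨M i, det_of_pow _ (M6 i)⟩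

lemma sat_f : Sat 6 f where
  h3 i hi := Subtype.ext (M3 i hi)
  h2 i hi := Subtype.ext (M2 i hi)
  hb i j hij := Subtype.ext (Mb i j hij)
  hc i j hij := Subtype.ext (Mc i j hij)


/-- PSL_4(2) is isomorphic to A_8. -/
theorem result {F : Type*} [Field F] [Fintype F] (hF : Fintype.card F = 2) : Nonempty (Matrix.ProjectiveSpecialLinearGroup (Fin 4) F ≃* alternatingGroup (Fin 8)) := by
  obtain ⟨φ⟩ : Nonempty (ZMod 2 ≃+* F) := ⟨ZMod.ringEquivOfPrime F Nat.prime_two hF⟩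
  have hsat := Cfsg.Agent.Lib.Helper21.AltPres.Sat.map
    (Cfsg.Agent.Lib.Helper21.AltPres.Sat.map sat_f (Matrix.SpecialLinearGroup.map φ.toRingHom))
    (QuotientGroup.mk' (Subgroup.center (Matrix.SpecialLinearGroup (Fin 4) F)))
  haveI : Finite (Matrix.ProjectiveSpecialLinearGroup (Fin 4) F) := by
    unfold Matrix.ProjectiveSpecialLinearGroup
    infer_instance
  refine alt_iso_of_sat 6 (by norm_num) _ hsat ⟨0, ?_⟩ ?_
  · intro h
    have h1 : Matrix.SpecialLinearGroup.map φ.toRingHom (f 0) ∈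
        Subgroup.center (Matrix.SpecialLinearGroup (Fin 4) F) :=
      (QuotientGroup.eq_one_iff _).mp h
    have h2 := Subgroup.mem_center_iff.mp h1 (Matrix.SpecialLinearGroup.map φ.toRingHom (f 1))
    rw [← map_mul, ← map_mul] at h2
    apply Mnc
    have h3 : ∀ a b, φ ((f 1 * f 0).1 a b) = φ ((f 0 * f 1).1 a b) := by
      intro a b
      exact congrFun (congrFun (congrArg Subtype.val h2) a) b
    ext a b
    exact (φ.injective (h3 a b)).symm
  · rw [Cfsg.Agent.S2550.card_psl4 hF, nat_card_alternatingGroup]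
    simp [Nat.factorial]

end Cfsg.Agent.S0256
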