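import Cfsg.Statements.S0274
import Cfsg.Agent.Lib.Helper5.DK9

set_option autoImplicit false
open Cfsg

namespace Cfsg.Agent.S0274

/-- Dickson's Theorem for SL_2: if p is odd and H is a subgroup of SL_2(q), q a power of p, with more than one Sylow p-subgroup, then H contains a copy of SL_2(p). -/
theorem result {F : Type*} [Field F] [Fintype F] (p : ℕ) [Fact p.Prime] [CharP F p] (hp : p ≠ 2) (H : Subgroup (Matrix.SpecialLinearGroup (Fin 2) F)) (hH : 1 < Nat.card (Sylow p H)) : ∃ K : Subgroup (Matrix.SpecialLinearGroup (Fin 2) F), K ≤ H ∧ Nonempty (K ≃* Matrix.SpecialLinearGroup (Fin 2) (ZMod p)) := by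
  haveI : Finite (Sylow p H) := Nat.finite_of_card_ne_zero (by omega)
  haveI : Nontrivial (Sylow p H) := Finite.one_lt_card_iff_nontrivial.mp hH
  obtain ⟨P, Q, hPQ⟩ := exists_pair_ne (Sylow p H)
  obtain ⟨a, ha, b, hb, hab⟩ := Cfsg.Agent.Lib.Helper5.exists_noncomm_of_sylow P Q hPQ
  haveI : Finite (Matrix.SpecialLinearGroup (Fin 2) F) := Subtype.finite
  obtain ⟨φ, hφ, hr⟩ := Cfsg.Agent.Lib.Helper5.dickson_general hp H a.1 b.1 a.2 b.2
    (by
      obtain ⟨k, hk⟩ := P.2 ⟨a, ha⟩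
      refine ⟨k, ?_⟩
      have := congrArg (fun x : (P : Subgroup H) => (x.1.1 : Matrix.SpecialLinearGroup (Fin 2) F)) hk
      simpa using this)
    (by
      obtain ⟨k, hk⟩ := Q.2 ⟨b, hb⟩
      refine ⟨k, ?_⟩
      have := congrArg (fun x : (Q : Subgroup H) => (x.1.1 : Matrix.SpecialLinearGroup (Fin 2) F)) hk
      simpa using this)
    (by
      intro h
      exact hab (Subtype.ext h))
  exact ⟨φ.range, hr, ⟨(MonoidHom.ofInjective hφ).symm⟩⟩

end Cfsg.Agent.S0274
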