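import Cfsg.Statements.S0891
import Mathlib
import Cfsg.Agent.S3335

set_option autoImplicit false
open Cfsg

namespace Cfsg.Agent.S0891

section ring
variable {R : Type*} [Ring R]

lemma cubeA (a b : R) (ha : a * a = -1) (hb : b * b = -1) (hab : a * b + b * a = 1) :
    (a * b) ^ 3 = -1 := by
  have hba : b * a = 1 - a * b := by rw [← hab]; abel
  have h2 : a * b * (a * b) = a * b - 1 := by
    calc a * b * (a * b) = a * (b * a) * b := by simp only [mul_assoc]
      _ = a * (1 - a * b) * b := by rw [hba]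
      _ = a * b - (a * a) * (b * b) := by noncomm_ring
      _ = a * b - 1 := by rw [ha, hb]; noncomm_ring
  calc (a * b) ^ 3 = a * b * (a * b) * (a * b) := by simp only [pow_succ, pow_zero, one_mul]
    _ = (a * b - 1) * (a * b) := by rw [h2]
    _ = a * b * (a * b) - a * b := by noncomm_ring
    _ = -1 := by rw [h2]; abel

lemma sqB (a b : R) (ha : a * a = -1) (hb : b * b = -1) (hab : a * b + b * a = 0) :
    (a * b) ^ 2 = -1 := by
  have hba : b * a = - (a * b) := by
    rw [eq_neg_iff_add_eq_zero, add_comm]; exact hab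
  calc (a * b) ^ 2 = a * (b * a) * b := by simp only [pow_two, mul_assoc]
    _ = a * (-(a * b)) * b := by rw [hba]
    _ = - ((a * a) * (b * b)) := by noncomm_ring
    _ = -1 := by rw [ha, hb]; noncomm_ring

/-- abstract relations -/
structure Cliff (k : ℕ) (t : Fin (k + 1) → R) : Prop where
  sq : ∀ a, t a * t a = -1
  adj : ∀ a b : Fin (k + 1), a.val + 1 = b.val → t a * t b + t b * t a = 1
  far : ∀ a b : Fin (k + 1), a.val + 2 ≤ b.val → t a * t b + t b * t a = 0

variable {k : ℕ} {t : Fin (k + 1) → R}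

lemma Cliff.prod_pos (h : Cliff k t) (i j : Fin k) (hi : 1 ≤ i.val) :
    t 0 * t i.succ * (t 0 * t j.succ) = t i.succ * t j.succ := by
  have h1 := h.far 0 i.succ (by simp; omega)
  have h2 : t i.succ * t 0 = - (t 0 * t i.succ) := by
    rw [eq_neg_iff_add_eq_zero, add_comm]; exact h1
  calc t 0 * t i.succ * (t 0 * t j.succ) = t 0 * (t i.succ * t 0) * t j.succ := by
        simp only [mul_assoc]
    _ = t 0 * (-(t 0 * t i.succ)) * t j.succ := by rw [h2]
    _ = - (t 0 * t 0) * (t i.succ * t j.succ) := by noncomm_ring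
    _ = t i.succ * t j.succ := by rw [h.sq]; noncomm_ring

lemma Cliff.prod_zero (h : Cliff k t) (i j : Fin k) (hi : i.val = 0) :
    t 0 * t i.succ * (t 0 * t j.succ) = (t 0 + t i.succ) * t j.succ := by
  have h1 := h.adj 0 i.succ (by simp [hi])
  have h2 : t i.succ * t 0 = 1 - t 0 * t i.succ := by rw [← h1]; abel
  calc t 0 * t i.succ * (t 0 * t j.succ) = t 0 * (t i.succ * t 0) * t j.succ := by
        simp only [mul_assoc]
    _ = t 0 * (1 - t 0 * t i.succ) * t j.succ := by rw [h2]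
    _ = (t 0 - (t 0 * t 0) * t i.succ) * t j.succ := by noncomm_ring
    _ = (t 0 + t i.succ) * t j.succ := by rw [h.sq]; noncomm_ring

lemma Cliff.s_sq (h : Cliff k t) (i : Fin k) (hi : i.val = 0) :
    (t 0 + t i.succ) * (t 0 + t i.succ) = -1 := by
  have h1 := h.adj 0 i.succ (by simp [hi])
  calc (t 0 + t i.succ) * (t 0 + t i.succ)
      = t 0 * t 0 + t i.succ * t i.succ + (t 0 * t i.succ + t i.succ * t 0) := by noncomm_ring
    _ = -1 := by rw [h.sq, h.sq, h1]; abel

lemma Cliff.r3 (h : Cliff k t) (i : Fin k) (hi : i.val = 0) : (t 0 * t i.succ) ^ 3 = -1 :=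
  cubeA _ _ (h.sq _) (h.sq _) (h.adj 0 i.succ (by simp [hi]))

lemma Cliff.r2 (h : Cliff k t) (i : Fin k) (hi : 1 ≤ i.val) : (t 0 * t i.succ) ^ 2 = -1 :=
  sqB _ _ (h.sq _) (h.sq _) (h.far 0 i.succ (by simp; omega))

lemma Cliff.rb (h : Cliff k t) (i j : Fin k) (hij : j.val = i.val + 1) :
    (t 0 * t i.succ * (t 0 * t j.succ)) ^ 3 = -1 := by
  by_cases hi : i.val = 0
  · rw [h.prod_zero i j hi]
    apply cubeA _ _ (h.s_sq i hi) (h.sq _)
    have h1 := h.far 0 j.succ (by simp; omega)
    have h2 := h.adj i.succ j.succ (by simp only [Fin.val_succ]; omega)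
    calc (t 0 + t i.succ) * t j.succ + t j.succ * (t 0 + t i.succ)
        = (t 0 * t j.succ + t j.succ * t 0) + (t i.succ * t j.succ + t j.succ * t i.succ) := by
          noncomm_ring
      _ = 1 := by rw [h1, h2, zero_add]
  · rw [h.prod_pos i j (by omega)]
    exact cubeA _ _ (h.sq _) (h.sq _) (h.adj i.succ j.succ (by simp only [Fin.val_succ]; omega))

lemma Cliff.rc (h : Cliff k t) (i j : Fin k) (hij : i.val + 1 < j.val) :
    (t 0 * t i.succ * (t 0 * t j.succ)) ^ 2 = -1 := by
  by_cases hi : i.val = 0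
  · rw [h.prod_zero i j hi]
    apply sqB _ _ (h.s_sq i hi) (h.sq _)
    have h1 := h.far 0 j.succ (by simp; omega)
    have h2 := h.far i.succ j.succ (by simp only [Fin.val_succ]; omega)
    calc (t 0 + t i.succ) * t j.succ + t j.succ * (t 0 + t i.succ)
        = (t 0 * t j.succ + t j.succ * t 0) + (t i.succ * t j.succ + t j.succ * t i.succ) := by
          noncomm_ring
      _ = 0 := by rw [h1, h2, zero_add]
  · rw [h.prod_pos i j (by omega)]
    exact sqB _ _ (h.sq _) (h.sq _) (h.far i.succ j.succ (by simp only [Fin.val_succ]; omega))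

end ring

noncomputable section clifford

def Mx (m : ℕ) : Matrix (Fin m) (Fin m) ℚ :=
  Matrix.of fun i j => if i = j then -1 else if i.val + 1 = j.val then 1 else 0

def Q (m : ℕ) : QuadraticForm ℚ (Fin m → ℚ) :=
  LinearMap.BilinMap.toQuadraticMap (Matrix.toLinearMap₂' ℚ (Mx m))

abbrev Cl (m : ℕ) := CliffordAlgebra (Q m)

def t (m : ℕ) (i : Fin m) : Cl m := CliffordAlgebra.ι (Q m) (Pi.single i 1)

lemma B_single (m : ℕ) (i j : Fin m) :
    Matrix.toLinearMap₂' ℚ (Mx m) (Pi.single i (1 : ℚ) : Fin m → ℚ)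
      (Pi.single j (1 : ℚ) : Fin m → ℚ) = Mx m i j := by
  rw [Matrix.toLinearMap₂'_apply']
  simp

lemma Q_single (m : ℕ) (i : Fin m) : Q m (Pi.single i 1) = Mx m i i := by
  show LinearMap.BilinMap.toQuadraticMap (Matrix.toLinearMap₂' ℚ (Mx m)) (Pi.single i 1) = _
  rw [LinearMap.BilinMap.toQuadraticMap_apply]
  exact B_single m i i

lemma polar_Q (m : ℕ) (i j : Fin m) :
    QuadraticMap.polar (Q m) (Pi.single i 1) (Pi.single j 1) = Mx m i j + Mx m j i := by
  show QuadraticMap.polar (LinearMap.BilinMap.toQuadraticMap (Matrix.toLinearMap₂' ℚ (Mx m)))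
    _ _ = _
  rw [LinearMap.BilinMap.polar_toQuadraticMap]
  exact congrArg₂ (· + ·) (B_single m i j) (B_single m j i)

lemma t_sq (m : ℕ) (i : Fin m) : t m i * t m i = -1 := by
  rw [t, CliffordAlgebra.ι_sq_scalar, Q_single]
  simp [Mx]

lemma t_add (m : ℕ) (i j : Fin m) :
    t m i * t m j + t m j * t m i = algebraMap ℚ _ (Mx m i j + Mx m j i) := by
  rw [t, t, CliffordAlgebra.ι_mul_ι_add_swap, polar_Q]

lemma cliff_t (k : ℕ) : Cliff k (t (k + 1)) where
  sq := t_sq _
  adj a b hab := by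
    rw [t_add]
    have h1 : a ≠ b := by intro e; rw [e] at hab; omega
    have h2 : ¬ (b.val + 1 = a.val) := by omega
    simp [Mx, h1, h1.symm, hab, h2]
  far a b hab := by
    rw [t_add]
    have h1 : a ≠ b := by intro e; rw [e] at hab; omega
    have h2 : ¬ (b.val + 1 = a.val) := by omega
    have h3 : ¬ (a.val + 1 = b.val) := by omega
    simp [Mx, h1, h1.symm, h3, h2]

lemma neg_one_ne (m : ℕ) : (-1 : Cl m) ≠ 1 := by
  haveI : Invertible (2 : ℚ) := invertibleOfNonzero two_ne_zero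
  haveI : Nontrivial (Cl m) := inferInstance
  haveI : CharZero (Cl m) := algebraRat.charZero _
  intro h
  have h2 : (2 : Cl m) = 0 := by
    have : (1 : Cl m) + 1 = 0 := by
      nth_rewrite 1 [← h]
      simp
    rw [← this]; norm_num
  exact two_ne_zero h2

end clifford

open Cfsg.Agent.S3335

/-- relations of the double cover -/
structure Sat2 {X : Type*} [Group X] (k : ℕ) (Z : X) (f : Fin k → X) : Prop where
  hz : Z * Z = 1
  hcomm : ∀ i, Z * f i = f i * Z
  h3 : ∀ i : Fin k, i.val = 0 → f i ^ 3 = Z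
  h2 : ∀ i : Fin k, 1 ≤ i.val → f i ^ 2 = Z
  hb : ∀ i j : Fin k, j.val = i.val + 1 → (f i * f j) ^ 3 = Z
  hc : ∀ i j : Fin k, i.val + 1 < j.val → (f i * f j) ^ 2 = Z

def zz (k : ℕ) : FreeGroup (Option (Fin k)) := FreeGroup.of none
def xx (k : ℕ) (i : Fin k) : FreeGroup (Option (Fin k)) := FreeGroup.of (some i)

def rels2 (k : ℕ) : Set (FreeGroup (Option (Fin k))) :=
  {g | g = zz k * zz k} ∪ {g | ∃ i, g = zz k * xx k i * (xx k i * zz k)⁻¹} ∪
  {g | ∃ i : Fin k, i.val = 0 ∧ g = xx k i ^ 3 * (zz k)⁻¹} ∪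
  {g | ∃ i : Fin k, 1 ≤ i.val ∧ g = xx k i ^ 2 * (zz k)⁻¹} ∪
  {g | ∃ i j : Fin k, j.val = i.val + 1 ∧ g = (xx k i * xx k j) ^ 3 * (zz k)⁻¹} ∪
  {g | ∃ i j : Fin k, i.val + 1 < j.val ∧ g = (xx k i * xx k j) ^ 2 * (zz k)⁻¹}

abbrev Gam (k : ℕ) := PresentedGroup (rels2 k)

def gen {X : Type*} {k : ℕ} (Z : X) (f : Fin k → X) : Option (Fin k) → X := fun o => o.elim Z f

lemma Sat2.lift {X : Type*} [Group X] {k : ℕ} {Z : X} {f : Fin k → X} (h : Sat2 k Z f) :
    ∀ r ∈ rels2 k, FreeGroup.lift (gen Z f) r = 1 := by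
  have e1 : FreeGroup.lift (gen Z f) (zz k) = Z := by simp [zz, gen]
  have e2 : ∀ i, FreeGroup.lift (gen Z f) (xx k i) = f i := by intro i; simp [xx, gen]
  rintro r (((((rfl | ⟨i, rfl⟩) | ⟨i, hi, rfl⟩) | ⟨i, hi, rfl⟩) | ⟨i, j, hij, rfl⟩) |
    ⟨i, j, hij, rfl⟩)
  · rw [map_mul, e1, h.hz]
  · rw [map_mul, map_inv, map_mul, map_mul, e1, e2, h.hcomm, mul_inv_cancel]
  · rw [map_mul, map_inv, map_pow, e1, e2, h.h3 i hi, mul_inv_cancel]
  · rw [map_mul, map_inv, map_pow, e1, e2, h.h2 i hi, mul_inv_cancel]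
  · rw [map_mul, map_inv, map_pow, map_mul, e1, e2, e2, h.hb i j hij, mul_inv_cancel]
  · rw [map_mul, map_inv, map_pow, map_mul, e1, e2, e2, h.hc i j hij, mul_inv_cancel]

lemma sat2_of (k : ℕ) : Sat2 k (PresentedGroup.of none : Gam k)
    (fun i => (PresentedGroup.of (some i) : Gam k)) where
  hz := by
    have := PresentedGroup.one_of_mem (rels := rels2 k) (x := zz k * zz k)
      (Or.inl (Or.inl (Or.inl (Or.inl (Or.inl rfl)))))
    rw [map_mul] at this
    exact this
  hcomm i := by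
    have := PresentedGroup.one_of_mem (rels := rels2 k)
      (x := zz k * xx k i * (xx k i * zz k)⁻¹)
      (Or.inl (Or.inl (Or.inl (Or.inl (Or.inr ⟨i, rfl⟩)))))
    rw [map_mul, map_inv, mul_inv_eq_one, map_mul, map_mul] at this
    exact this
  h3 i hi := by
    have := PresentedGroup.one_of_mem (rels := rels2 k) (x := xx k i ^ 3 * (zz k)⁻¹)
      (Or.inl (Or.inl (Or.inl (Or.inr ⟨i, hi, rfl⟩))))
    rw [map_mul, map_inv, mul_inv_eq_one, map_pow] at this
    exact this
  h2 i hi := by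
    have := PresentedGroup.one_of_mem (rels := rels2 k) (x := xx k i ^ 2 * (zz k)⁻¹)
      (Or.inl (Or.inl (Or.inr ⟨i, hi, rfl⟩)))
    rw [map_mul, map_inv, mul_inv_eq_one, map_pow] at this
    exact this
  hb i j hij := by
    have := PresentedGroup.one_of_mem (rels := rels2 k)
      (x := (xx k i * xx k j) ^ 3 * (zz k)⁻¹) (Or.inl (Or.inr ⟨i, j, hij, rfl⟩))
    rw [map_mul, map_inv, mul_inv_eq_one, map_pow, map_mul] at this
    exact this
  hc i j hij := by
    have := PresentedGroup.one_of_mem (rels := rels2 k)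
      (x := (xx k i * xx k j) ^ 2 * (zz k)⁻¹) (Or.inr ⟨i, j, hij, rfl⟩)
    rw [map_mul, map_inv, mul_inv_eq_one, map_pow, map_mul] at this
    exact this

lemma z_center (k : ℕ) : (PresentedGroup.of none : Gam k) ∈ Subgroup.center (Gam k) := by
  have h := sat2_of k
  rw [Subgroup.mem_center_iff]
  intro g
  have hg : g ∈ Subgroup.closure (Set.range (PresentedGroup.of : Option (Fin k) → Gam k)) := by
    rw [PresentedGroup.closure_range_of]; trivial
  show Commute g (PresentedGroup.of none)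
  induction hg using Subgroup.closure_induction with
  | mem x hx =>
    obtain ⟨o, rfl⟩ := hx
    cases o with
    | none => exact Commute.refl _
    | some i => exact (h.hcomm i).symm
  | one => exact Commute.one_left _
  | mul a b _ _ ha hb => exact Commute.mul_left ha hb
  | inv a _ ha => exact Commute.inv_left ha

lemma normal_zp {G : Type*} [Group G] (z : G) (hz : z ∈ Subgroup.center G) :
    (Subgroup.zpowers z).Normal := by
  constructor
  intro n hn g
  have hn' : n ∈ Subgroup.center G := (Subgroup.zpowers_le.mpr hz) hn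
  have : g * n * g⁻¹ = n := by
    rw [Subgroup.mem_center_iff.mp hn' g, mul_assoc, mul_inv_cancel, mul_one]
  rw [this]
  exact hn

lemma sat2_one (k : ℕ) : Sat2 k (1 : P k) (fun i => (PresentedGroup.of i : P k)) where
  hz := one_mul 1
  hcomm i := by rw [one_mul, mul_one]
  h3 := (sat_of k).h3
  h2 := (sat_of k).h2
  hb := (sat_of k).hb
  hc := (sat_of k).hc

noncomputable def alpha (k : ℕ) : Gam k →* P k := PresentedGroup.toGroup (sat2_one k).lift

lemma alpha_z (k : ℕ) : alpha k (PresentedGroup.of none) = 1 := PresentedGroup.toGroup.of _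

lemma alpha_x (k : ℕ) (i : Fin k) : alpha k (PresentedGroup.of (some i)) = PresentedGroup.of i :=
  PresentedGroup.toGroup.of _

lemma quot_iso (k : ℕ) (N : Subgroup (Gam k)) (hN : N.Normal)
    (hNd : N = Subgroup.zpowers (PresentedGroup.of none)) :
    Nonempty (Gam k ⧸ N ≃* P k) := by
  have h := sat2_of k
  have hzN : (QuotientGroup.mk' N) (PresentedGroup.of none : Gam k) = 1 := by
    rw [QuotientGroup.mk'_apply, QuotientGroup.eq_one_iff, hNd]
    exact Subgroup.mem_zpowers _
  have hsat : Sat k (fun i => (QuotientGroup.mk' N) (PresentedGroup.of (some i) : Gam k)) := by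
    refine ⟨?_, ?_, ?_, ?_⟩
    · intro i hi
      rw [← map_pow, h.h3 i hi, hzN]
    · intro i hi
      rw [← map_pow, h.h2 i hi, hzN]
    · intro i j hij
      rw [← map_mul, ← map_pow, h.hb i j hij, hzN]
    · intro i j hij
      rw [← map_mul, ← map_pow, h.hc i j hij, hzN]
  have hker : ∀ x ∈ N, alpha k x = 1 := by
    intro x hx
    rw [hNd] at hx
    obtain ⟨m, rfl⟩ := Subgroup.mem_zpowers_iff.mp hx
    rw [map_zpow, alpha_z, one_zpow]
  obtain ⟨a, ha⟩ : ∃ a : Gam k ⧸ N →* P k, a = QuotientGroup.lift N (alpha k) hker := ⟨_, rfl⟩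
  obtain ⟨b, hb⟩ : ∃ b : P k →* Gam k ⧸ N, b = PresentedGroup.toGroup hsat.lift := ⟨_, rfl⟩
  have ha' : ∀ x : Gam k, a ((QuotientGroup.mk' N) x) = alpha k x := by
    intro x; rw [ha]; rfl
  have hb' : ∀ i, b (PresentedGroup.of i) = (QuotientGroup.mk' N) (PresentedGroup.of (some i)) := by
    intro i; rw [hb]; exact PresentedGroup.toGroup.of _
  refine ⟨MonoidHom.toMulEquiv a b ?_ ?_⟩
  · apply QuotientGroup.monoidHom_ext
    apply PresentedGroup.ext
    intro o
    show b (a ((QuotientGroup.mk' N) (PresentedGroup.of o))) =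
      (QuotientGroup.mk' N) (PresentedGroup.of o)
    rw [ha']
    cases o with
    | none => rw [alpha_z, map_one, hzN]
    | some i => rw [alpha_x, hb']
  · apply PresentedGroup.ext
    intro i
    show a (b (PresentedGroup.of i)) = PresentedGroup.of i
    rw [hb', ha', alpha_x]

lemma z_comm (k : ℕ) (hk : 2 ≤ k) : (PresentedGroup.of none : Gam k) ∈ commutator (Gam k) := by
  have h := sat2_of k
  obtain ⟨π, hπ⟩ : ∃ π : Gam k →* Abelianization (Gam k), π = Abelianization.of := ⟨_, rfl⟩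
  have ha := congrArg π (h.h3 ⟨0, by omega⟩ rfl)
  have hb := congrArg π (h.h2 ⟨1, by omega⟩ (le_refl 1))
  have hab := congrArg π (h.hb ⟨0, by omega⟩ ⟨1, by omega⟩ rfl)
  have hc := congrArg π h.hz
  rw [map_pow] at ha hb
  rw [map_pow, map_mul] at hab
  rw [map_mul, map_one] at hc
  have h1 : π (PresentedGroup.of (some ⟨1, by omega⟩)) = π (PresentedGroup.of none) := by
    rw [mul_pow, ha, pow_succ, hb, ← mul_assoc, hc, one_mul] at hab
    exact hab
  rw [h1, pow_two, hc] at hb
  have h2 : π (PresentedGroup.of none) = 1 := hb.symm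
  rw [hπ] at h2
  exact (QuotientGroup.eq_one_iff _).mp h2

noncomputable def T (m : ℕ) (a : Fin m) : (Cl m)ˣ :=
  ⟨t m a, - t m a, by rw [mul_neg, t_sq, neg_neg], by rw [neg_mul, t_sq, neg_neg]⟩

lemma sat2_cl (k : ℕ) : Sat2 k (-1 : (Cl (k + 1))ˣ) (fun i => T (k + 1) 0 * T (k + 1) i.succ) where
  hz := by simp
  hcomm i := by simp
  h3 i hi := Units.ext (by
    rw [Units.val_pow_eq_pow_val, Units.val_mul, Units.val_neg, Units.val_one]
    exact (cliff_t k).r3 i hi)
  h2 i hi := Units.ext (by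
    rw [Units.val_pow_eq_pow_val, Units.val_mul, Units.val_neg, Units.val_one]
    exact (cliff_t k).r2 i hi)
  hb i j hij := Units.ext (by
    rw [Units.val_pow_eq_pow_val, Units.val_mul, Units.val_mul, Units.val_mul, Units.val_neg,
      Units.val_one]
    exact (cliff_t k).rb i j hij)
  hc i j hij := Units.ext (by
    rw [Units.val_pow_eq_pow_val, Units.val_mul, Units.val_mul, Units.val_mul, Units.val_neg,
      Units.val_one]
    exact (cliff_t k).rc i j hij)

lemma z_ne (k : ℕ) : (PresentedGroup.of none : Gam k) ≠ 1 := by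
  intro h
  have h1 := congrArg (PresentedGroup.toGroup (sat2_cl k).lift) h
  rw [map_one, PresentedGroup.toGroup.of] at h1
  have h2 : (-1 : (Cl (k + 1))ˣ) = 1 := h1
  have h3 := congrArg Units.val h2
  rw [Units.val_neg, Units.val_one] at h3
  exact neg_one_ne _ h3


/-- For every n ≥ 4 there are a finite group Γ and a central element z of Γ of order 2 lying in the commutator subgroup of Γ such that the quotient of Γ by the (normal) subgroup generated by z is isomorphic to the alternating group on n letters. -/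
theorem result (n : ℕ) (hn : 4 ≤ n) : ∃ (Γ : Type) (_ : Group Γ) (_ : Finite Γ) (z : Γ) (hz : z ∈ Subgroup.center Γ), orderOf z = 2 ∧ z ∈ commutator Γ ∧ ∃ _ : (Subgroup.zpowers z).Normal, Nonempty (Γ ⧸ Subgroup.zpowers z ≃* alternatingGroup (Fin n)) := by
  obtain ⟨k, rfl⟩ : ∃ k, n = k + 2 := ⟨n - 2, by omega⟩
  have hN := normal_zp _ (z_center k)
  obtain ⟨e1⟩ := quot_iso k _ hN rfl
  obtain ⟨e2⟩ := Cfsg.Agent.S3335.main k
  have hz2 : (PresentedGroup.of none : Gam k) ^ 2 = 1 := by
    rw [pow_two]; exact (sat2_of k).hz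
  have hfin : Finite (Gam k) := by
    haveI : Finite (Subgroup.zpowers (PresentedGroup.of none : Gam k)) :=
      (isOfFinOrder_iff_pow_eq_one.mpr ⟨2, by norm_num, hz2⟩).finite_zpowers
    haveI : Finite (Gam k ⧸ Subgroup.zpowers (PresentedGroup.of none : Gam k)) :=
      Finite.of_equiv _ (e1.trans e2).symm.toEquiv
    exact Finite.of_subgroup_quotient (Subgroup.zpowers (PresentedGroup.of none : Gam k))
  exact ⟨Gam k, inferInstance, hfin, PresentedGroup.of none, z_center k,
    orderOf_eq_prime hz2 (z_ne k), z_comm k (by omega), hN, ⟨e1.trans e2⟩⟩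

end Cfsg.Agent.S0891
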