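import Cfsg.Statements.S0447
import Mathlib
import Cfsg.Agent.S0051
import Cfsg.Agent.S0891
import Cfsg.Agent.S0256

set_option autoImplicit false
open Cfsg

namespace Cfsg.Agent.S0447

open Subgroup

section core

/-- a group generated by two involutions whose product has order dividing `m` -/
lemma dih_le {G : Type*} [Group G] (a b : G) (m : ℕ) (hm : 0 < m) (ha : a * a = 1)
    (hb : b * b = 1) (hab : (a * b) ^ m = 1) :
    Finite (closure ({a, b} : Set G)) ∧ Nat.card (closure ({a, b} : Set G)) ≤ 2 * m := by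
  obtain ⟨r, hr⟩ : ∃ r, r = a * b := ⟨_, rfl⟩
  rw [← hr] at hab
  have hfo : IsOfFinOrder r := isOfFinOrder_iff_pow_eq_one.mpr ⟨m, hm, hab⟩
  haveI : Finite (zpowers r) := hfo.finite_zpowers
  have hRcard : Nat.card (zpowers r) ≤ m := by
    rw [Nat.card_zpowers]; exact orderOf_le_of_pow_eq_one hm hab
  have hai : a⁻¹ = a := (eq_inv_of_mul_eq_one_right ha).symm
  have hbi : b⁻¹ = b := (eq_inv_of_mul_eq_one_right hb).symm
  have hri : r⁻¹ = b * a := by rw [hr, mul_inv_rev, hai, hbi]
  have hbr : b = a * r := by rw [hr, ← mul_assoc, ha, one_mul]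
  have har : a * r = r⁻¹ * a := by rw [hri, hr, mul_assoc b a a, ha, mul_one, ← mul_assoc, ha, one_mul]
  obtain ⟨Y, hY⟩ : ∃ Y : Set G, Y = (zpowers r : Set G) ∪ (fun x => x * a) '' (zpowers r : Set G) :=
    ⟨_, rfl⟩
  have hYfin : Y.Finite := by
    rw [hY]
    exact (Set.toFinite _).union ((Set.toFinite _).image _)
  have hYcard : Y.ncard ≤ 2 * m := by
    rw [hY]
    calc _ ≤ (zpowers r : Set G).ncard + ((fun x => x * a) '' (zpowers r : Set G)).ncard :=
          Set.ncard_union_le _ _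
      _ ≤ (zpowers r : Set G).ncard + (zpowers r : Set G).ncard :=
          Nat.add_le_add_left (Set.ncard_image_le (Set.toFinite _)) _
      _ ≤ 2 * m := by
          have : (zpowers r : Set G).ncard = Nat.card (zpowers r) := (Nat.card_coe_set_eq _).symm
          rw [this]; omega
  have stepa : ∀ x ∈ Y, x * a ∈ Y := by
    intro x hx
    rw [hY] at hx ⊢
    rcases hx with hx | ⟨y, hy, rfl⟩
    · exact Or.inr ⟨x, hx, rfl⟩
    · left
      show y * a * a ∈ (zpowers r : Set G)
      rw [mul_assoc, ha, mul_one]; exact hy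
  have stepb : ∀ x ∈ Y, x * b ∈ Y := by
    intro x hx
    rw [hY] at hx ⊢
    rcases hx with hx | ⟨y, hy, rfl⟩
    · right
      refine ⟨x * r⁻¹, (zpowers r).mul_mem hx ((zpowers r).inv_mem (mem_zpowers r)), ?_⟩
      show x * r⁻¹ * a = x * b
      rw [hbr, har, mul_assoc]
    · left
      show y * a * b ∈ (zpowers r : Set G)
      rw [mul_assoc, ← hr]
      exact (zpowers r).mul_mem hy (mem_zpowers r)
  have hsub : (closure ({a, b} : Set G) : Set G) ⊆ Y := by
    intro x hx
    induction hx using closure_induction_right with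
    | one => rw [hY]; exact Or.inl (zpowers r).one_mem
    | mul_right x _ y hy ih =>
      rcases hy with rfl | rfl
      · exact stepa x ih
      · exact stepb x ih
    | mul_inv_cancel x _ y hy ih =>
      rcases hy with rfl | rfl
      · rw [hai]; exact stepa x ih
      · rw [hbi]; exact stepb x ih
  have hfin : Finite (closure ({a, b} : Set G)) := (hYfin.subset hsub).to_subtype
  refine ⟨hfin, ?_⟩
  rw [← SetLike.coe_sort_coe, Nat.card_coe_set_eq]
  exact (Set.ncard_le_ncard hsub hYfin).trans hYcard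

lemma core {H A : Type*} [Group H] [Finite H] [Group A] [Finite A]
    (hns : Cfsg.IsNonsplitDoubleCover H A) (a b : A) (m' : ℕ) (hm' : 0 < m')
    (ha : a * a = 1) (hb : b * b = 1) (ha1 : a ≠ 1) (hb1 : b ≠ 1)
    (hr : orderOf (a * b) = 2 * m') (hnot : a ∉ zpowers (a * b))
    (hodd : ∃ k, Nat.card A = 4 * m' * k ∧ Odd k)
    (hconj : ∀ u v : A, orderOf u = 2 → orderOf v = 2 → ∃ g, g * u * g⁻¹ = v)
    (x : H) (hx : orderOf x = 2) : x ∈ center H := by
  by_contra hxC
  obtain ⟨hC2, ⟨e⟩, hno⟩ := hns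
  obtain ⟨π, hπ⟩ : ∃ π : H →* A, π = e.toMonoidHom.comp (QuotientGroup.mk' (center H)) := ⟨_, rfl⟩
  have hsurj : Function.Surjective π := by
    rw [hπ]
    exact e.surjective.comp (QuotientGroup.mk'_surjective _)
  have hker : ∀ g : H, π g = 1 ↔ g ∈ center H := by
    intro g
    rw [hπ]
    show e (QuotientGroup.mk' (center H) g) = 1 ↔ _
    rw [map_eq_one_iff e e.injective, QuotientGroup.mk'_apply, QuotientGroup.eq_one_iff]
  have hx2 : x * x = 1 := by
    have := pow_orderOf_eq_one x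
    rwa [hx, pow_two] at this
  have hu : orderOf (π x) = 2 := by
    apply orderOf_eq_prime
    · rw [pow_two, ← map_mul, hx2, map_one]
    · intro h; exact hxC ((hker x).mp h)
  have hcsq : ∀ c ∈ center H, c * c = 1 := by
    intro c hc
    have h1 : (⟨c, hc⟩ : center H) ^ 2 = 1 := by rw [← hC2]; exact pow_card_eq_one'
    have h2 := congrArg Subtype.val h1
    rw [pow_two] at h2
    exact h2
  have lifts : ∀ y : H, orderOf (π y) = 2 → y * y = 1 := by
    intro y hy
    obtain ⟨g, hg⟩ := hconj (π x) (π y) hu hy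
    obtain ⟨h, rfl⟩ := hsurj g
    have h1 : π ((h * x * h⁻¹)⁻¹ * y) = 1 := by
      rw [map_mul, map_inv, map_mul, map_mul, map_inv, hg, inv_mul_cancel]
    have h2 := (hker _).mp h1
    obtain ⟨c, hc⟩ : ∃ c, c = (h * x * h⁻¹)⁻¹ * y := ⟨_, rfl⟩
    rw [← hc] at h2
    have hy' : y = (h * x * h⁻¹) * c := by rw [hc, mul_inv_cancel_left]
    have hcc := mem_center_iff.mp h2
    calc y * y = (h * x * h⁻¹) * c * ((h * x * h⁻¹) * c) := by rw [← hy']
      _ = (h * x * h⁻¹) * (c * (h * x * h⁻¹)) * c := by simp only [mul_assoc]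
      _ = (h * x * h⁻¹) * ((h * x * h⁻¹) * c) * c := by rw [← hcc (h * x * h⁻¹)]
      _ = h * (x * x) * h⁻¹ * (c * c) := by group
      _ = 1 := by rw [hx2, hcsq c h2]; group
  have hoa : orderOf a = 2 := orderOf_eq_prime (by rw [pow_two]; exact ha) ha1
  have hob : orderOf b = 2 := orderOf_eq_prime (by rw [pow_two]; exact hb) hb1
  obtain ⟨a', rfl⟩ := hsurj a
  obtain ⟨b', rfl⟩ := hsurj b
  have ha' : a' * a' = 1 := lifts a' hoa
  have hb' : b' * b' = 1 := lifts b' hob
  have hmid : orderOf (π ((a' * b') ^ m')) = 2 := by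
    rw [map_pow, map_mul]
    apply orderOf_eq_prime
    · rw [← pow_mul, mul_comm, ← hr]; exact pow_orderOf_eq_one _
    · exact pow_ne_one_of_lt_orderOf hm'.ne' (by rw [hr]; omega)
  have hpow : (a' * b') ^ (2 * m') = 1 := by
    have := lifts _ hmid
    rw [← pow_add] at this
    rwa [two_mul]
  obtain ⟨hTfin, hTcard⟩ := dih_le a' b' (2 * m') (by omega) ha' hb' hpow
  have hpowA : (π a' * π b') ^ (2 * m') = 1 := by rw [← hr]; exact pow_orderOf_eq_one _
  obtain ⟨_, hScard⟩ := dih_le (π a') (π b') (2 * m') (by omega) ha hb hpowA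
  obtain ⟨T, hT⟩ : ∃ T, T = closure ({a', b'} : Set H) := ⟨_, rfl⟩
  obtain ⟨S₀, hS₀⟩ : ∃ S₀, S₀ = closure ({π a', π b'} : Set A) := ⟨_, rfl⟩
  rw [← hT] at hTcard
  rw [← hS₀] at hScard
  have hmap : T.map π = S₀ := by
    rw [hT, hS₀, MonoidHom.map_closure, Set.image_pair]
  -- lower bound
  have hSlow : 4 * m' ≤ Nat.card S₀ := by
    have hle : zpowers (π a' * π b') ≤ S₀ := by
      rw [zpowers_le, hS₀]
      exact Subgroup.mul_mem _ (subset_closure (by simp)) (subset_closure (by simp))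
    have hdvd := Subgroup.card_dvd_of_le hle
    rw [Nat.card_zpowers, hr] at hdvd
    obtain ⟨c, hc⟩ := hdvd
    have hpos : 0 < Nat.card S₀ := Nat.card_pos
    have hc1 : c ≠ 1 := by
      intro h1
      apply hnot
      have heq : zpowers (π a' * π b') = S₀ := by
        apply Subgroup.eq_of_le_of_card_ge hle
        rw [Nat.card_zpowers, hr, hc, h1, mul_one]
      rw [heq, hS₀]
      exact subset_closure (by simp)
    have hc0 : c ≠ 0 := by rintro rfl; omega
    have : 2 ≤ c := by omega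
    nlinarith
  have hSeq : Nat.card S₀ = 4 * m' := by omega
  -- T meets the centre trivially
  have hTK : T ⊓ center H = ⊥ := by
    have hmem : ∀ t : T, π t ∈ S₀ := fun t => hmap ▸ Subgroup.mem_map_of_mem π t.2
    have hsj : Function.Surjective (fun t : T => (⟨π t, hmem t⟩ : S₀)) := by
      rintro ⟨s, hs⟩
      rw [← hmap] at hs
      obtain ⟨t, ht, rfl⟩ := hs
      exact ⟨⟨t, ht⟩, rfl⟩
    haveI : Finite T := by rw [hT]; exact hTfin
    have hbij := hsj.bijective_of_nat_card_le (by omega)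
    rw [eq_bot_iff]
    rintro t ⟨htT, htC⟩
    have h1 : (fun t : T => (⟨π t, hmem t⟩ : S₀)) ⟨t, htT⟩ =
        (fun t : T => (⟨π t, hmem t⟩ : S₀)) 1 := by
      apply Subtype.ext
      show π t = π 1
      rw [map_one]
      exact (hker t).mpr htC
    have h2 := hbij.1 h1
    exact congrArg Subtype.val h2
  obtain ⟨U, hU⟩ : ∃ U, U = S₀.comap π := ⟨_, rfl⟩
  have hKU : center H ≤ U := by
    intro c hc
    rw [hU, mem_comap, (hker c).mpr hc]
    exact S₀.one_mem
  have hTU : T ≤ U := by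
    intro t ht
    rw [hU, mem_comap, ← hmap]
    exact Subgroup.mem_map_of_mem π ht
  have hKT : center H ⊔ T = U := by
    apply le_antisymm (sup_le hKU hTU)
    intro g hg
    rw [hU, mem_comap, ← hmap] at hg
    obtain ⟨t, ht, htg⟩ := hg
    have h1 : g * t⁻¹ ∈ center H := by
      rw [← hker, map_mul, map_inv, htg, mul_inv_cancel]
    have h2 : g = (g * t⁻¹) * t := by group
    rw [h2]
    exact Subgroup.mul_mem_sup h1 ht
  have hcop : (Nat.card (center H)).Coprime U.index := by
    rw [hC2, hU, Subgroup.index_comap_of_surjective _ hsurj]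
    obtain ⟨k, hk, hkodd⟩ := hodd
    have h1 := S₀.card_mul_index
    rw [hSeq, hk] at h1
    have h2 : S₀.index = k := Nat.eq_of_mul_eq_mul_left (by omega) h1
    rw [h2]
    exact (Nat.coprime_two_left).mpr hkodd
  obtain ⟨L, hL⟩ := Cfsg.Agent.S0051.result (center H) U hKU hcop T hTU hTK hKT
  exact hno L hL

end core

section alt

open Equiv Equiv.Perm

lemma ct_of_order_two (n : ℕ) (hn : n ≤ 7) (u : alternatingGroup (Fin n)) (hu : orderOf u = 2) :
    (u : Perm (Fin n)).cycleType = {2, 2} := by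
  have ho : orderOf (u : Perm (Fin n)) = 2 := by rw [Subgroup.orderOf_coe]; exact hu
  obtain ⟨k, hk⟩ := cycleType_prime_order (σ := (u : Perm (Fin n)))
    (by rw [ho]; exact Nat.prime_two)
  rw [ho] at hk
  have hsum : (u : Perm (Fin n)).cycleType.sum = (u : Perm (Fin n)).support.card :=
    sum_cycleType _
  rw [hk, Multiset.sum_replicate, smul_eq_mul] at hsum
  have hle : (u : Perm (Fin n)).support.card ≤ n := by
    calc _ ≤ Fintype.card (Fin n) := Finset.card_le_univ _
      _ = n := Fintype.card_fin n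
  have hs : sign (u : Perm (Fin n)) = 1 := mem_alternatingGroup.mp u.2
  have hk3 : k = 0 ∨ k = 1 ∨ k = 2 := by omega
  rcases hk3 with rfl | rfl | rfl
  · exfalso; rw [sign_of_cycleType, hk] at hs; revert hs; decide
  · rw [hk]; rfl
  · exfalso; rw [sign_of_cycleType, hk] at hs; revert hs; decide

lemma four_le (n : ℕ) (hn : n ≤ 7) (u : alternatingGroup (Fin n)) (hu : orderOf u = 2) :
    4 ≤ n := by
  have h := ct_of_order_two n hn u hu
  have hsum : (u : Perm (Fin n)).cycleType.sum = (u : Perm (Fin n)).support.card :=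
    sum_cycleType _
  rw [h] at hsum
  have hle : (u : Perm (Fin n)).support.card ≤ n := by
    calc _ ≤ Fintype.card (Fin n) := Finset.card_le_univ _
      _ = n := Fintype.card_fin n
  have h4 : ({2, 2} : Multiset ℕ).sum = 4 := by decide
  omega

lemma conj_alt (n : ℕ) (hn : n ≤ 7) (u v : alternatingGroup (Fin n)) (hu : orderOf u = 2)
    (hv : orderOf v = 2) : ∃ g : alternatingGroup (Fin n), g * u * g⁻¹ = v := by
  have h1 : IsConj (u : Perm (Fin n)) (v : Perm (Fin n)) := by
    rw [isConj_iff_cycleType_eq, ct_of_order_two n hn u hu, ct_of_order_two n hn v hv]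
  obtain ⟨σ, hσ⟩ := isConj_iff.mp h1
  rcases Int.units_eq_one_or (sign σ) with hs | hs
  · exact ⟨⟨σ, mem_alternatingGroup.mpr hs⟩, Subtype.ext hσ⟩
  · have hu1 : (u : Perm (Fin n)) ≠ 1 := by
      intro h
      have h' : u = 1 := Subtype.ext h
      rw [h', orderOf_one] at hu
      omega
    obtain ⟨p, hp⟩ : ∃ p, (u : Perm (Fin n)) p ≠ p := by
      by_contra hc
      push Not at hc
      exact hu1 (Equiv.ext hc)
    have hu2 : (u : Perm (Fin n)) * (u : Perm (Fin n)) = 1 := by
      have := pow_orderOf_eq_one u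
      rw [hu, pow_two] at this
      exact congrArg Subtype.val this
    have huu : (u : Perm (Fin n)) ((u : Perm (Fin n)) p) = p :=
      congrArg (fun f : Perm (Fin n) => f p) hu2
    obtain ⟨τ, hτ⟩ : ∃ τ : Perm (Fin n), τ = swap p ((u : Perm (Fin n)) p) := ⟨_, rfl⟩
    have hcomm : (u : Perm (Fin n)) * τ = τ * (u : Perm (Fin n)) := by
      rw [hτ, Equiv.mul_swap_eq_swap_mul, huu, swap_comm]
    have hsτ : sign τ = -1 := by rw [hτ]; exact sign_swap (Ne.symm hp)
    refine ⟨⟨σ * τ, mem_alternatingGroup.mpr (by rw [map_mul, hs, hsτ]; decide)⟩, ?_⟩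
    apply Subtype.ext
    show σ * τ * (u : Perm (Fin n)) * (σ * τ)⁻¹ = v
    rw [← hσ, mul_assoc σ τ, ← hcomm]
    group

lemma dbl_mem {n : ℕ} (p q r s : Fin n) (hpq : p ≠ q) (hrs : r ≠ s) :
    swap p q * swap r s ∈ alternatingGroup (Fin n) := by
  rw [mem_alternatingGroup, map_mul, sign_swap hpq, sign_swap hrs]
  decide

lemma img_order_two {H A : Type*} [Group H] [Group A]
    (hns : Cfsg.IsNonsplitDoubleCover H A) (x : H) (hx : orderOf x = 2) (hxC : x ∉ center H) :
    ∃ u : A, orderOf u = 2 := by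
  obtain ⟨_, ⟨e⟩, _⟩ := hns
  refine ⟨e (QuotientGroup.mk' (center H) x), ?_⟩
  apply orderOf_eq_prime
  · rw [← map_pow, ← map_pow, ← hx, pow_orderOf_eq_one, map_one, map_one]
  · intro h
    rw [map_eq_one_iff e e.injective, QuotientGroup.mk'_apply, QuotientGroup.eq_one_iff] at h
    exact hxC h

lemma part1_aux (n : ℕ) (hn : n ≤ 7) (H : Type) [Group H] [Finite H]
    (hns : Cfsg.IsNonsplitDoubleCover H (alternatingGroup (Fin n)))
    (A B : Perm (Fin n)) (hA : A ∈ alternatingGroup (Fin n)) (hB : B ∈ alternatingGroup (Fin n))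
    (m' : ℕ) (hm' : 0 < m') (hAA : A * A = 1) (hBB : B * B = 1) (hA1 : A ≠ 1) (hB1 : B ≠ 1)
    (hr : orderOf (A * B) = 2 * m') (hnot : A ∉ zpowers (A * B))
    (hodd : ∃ k, Nat.card (alternatingGroup (Fin n)) = 4 * m' * k ∧ Odd k)
    (x : H) (hx : orderOf x = 2) : x ∈ center H := by
  refine core hns ⟨A, hA⟩ ⟨B, hB⟩ m' hm' (Subtype.ext hAA) (Subtype.ext hBB)
    (fun h => hA1 (congrArg Subtype.val h)) (fun h => hB1 (congrArg Subtype.val h)) ?_ ?_ hodd
    (conj_alt n hn) x hx
  · rw [← Subgroup.orderOf_coe]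
    exact hr
  · intro h
    obtain ⟨k, hk⟩ := mem_zpowers_iff.mp h
    apply hnot
    refine mem_zpowers_iff.mpr ⟨k, ?_⟩
    have := congrArg Subtype.val hk
    simpa using this

lemma card_alt (n : ℕ) (hn : 2 ≤ n) : Nat.card (alternatingGroup (Fin n)) = n.factorial / 2 := by
  haveI : Nontrivial (Fin n) := Fin.nontrivial_iff_two_le.mpr hn
  rw [nat_card_alternatingGroup, Nat.card_eq_fintype_card, Fintype.card_fin]

set_option maxRecDepth 100000 in
lemma part1 (n : ℕ) (hn : n ≤ 7) (H : Type) [Group H] [Finite H]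
    (hns : Cfsg.IsNonsplitDoubleCover H (alternatingGroup (Fin n)))
    (x : H) (hx : orderOf x = 2) : x ∈ center H := by
  by_contra hxC
  obtain ⟨u, hu⟩ := img_order_two hns x hx hxC
  have h4 := four_le n hn u hu
  apply hxC
  clear hu u
  interval_cases n
  · refine part1_aux 4 (by norm_num) H hns (swap 0 1 * swap 2 3) (swap 0 2 * swap 1 3)
      (dbl_mem _ _ _ _ (by decide) (by decide)) (dbl_mem _ _ _ _ (by decide) (by decide))
      1 (by norm_num) (by decide) (by decide) (by decide) (by decide) ?_ ?_ ?_ x hx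
    · exact (orderOf_eq_prime (p := 2) (by decide) (by decide)).trans (by norm_num)
    · rw [mem_zpowers_iff_mem_range_orderOf, orderOf_eq_prime (p := 2) (by decide) (by decide)]
      decide
    · exact ⟨3, by rw [card_alt 4 (by norm_num)]; rfl, by decide⟩
  · refine part1_aux 5 (by norm_num) H hns (swap 0 1 * swap 2 3) (swap 0 2 * swap 1 3)
      (dbl_mem _ _ _ _ (by decide) (by decide)) (dbl_mem _ _ _ _ (by decide) (by decide))
      1 (by norm_num) (by decide) (by decide) (by decide) (by decide) ?_ ?_ ?_ x hx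
    · exact (orderOf_eq_prime (p := 2) (by decide) (by decide)).trans (by norm_num)
    · rw [mem_zpowers_iff_mem_range_orderOf, orderOf_eq_prime (p := 2) (by decide) (by decide)]
      decide
    · exact ⟨15, by rw [card_alt 5 (by norm_num)]; rfl, by decide⟩
  · refine part1_aux 6 (by norm_num) H hns (swap 0 1 * swap 2 3) (swap 0 2 * swap 4 5)
      (dbl_mem _ _ _ _ (by decide) (by decide)) (dbl_mem _ _ _ _ (by decide) (by decide))
      2 (by norm_num) (by decide) (by decide) (by decide) (by decide) ?_ ?_ ?_ x hx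
    · exact orderOf_eq_prime_pow (p := 2) (n := 1) (by decide) (by decide)
    · rw [mem_zpowers_iff_mem_range_orderOf,
        orderOf_eq_prime_pow (p := 2) (n := 1) (by decide) (by decide)]
      decide
    · exact ⟨45, by rw [card_alt 6 (by norm_num)]; rfl, by decide⟩
  · refine part1_aux 7 (by norm_num) H hns (swap 0 1 * swap 2 3) (swap 0 2 * swap 4 5)
      (dbl_mem _ _ _ _ (by decide) (by decide)) (dbl_mem _ _ _ _ (by decide) (by decide))
      2 (by norm_num) (by decide) (by decide) (by decide) (by decide) ?_ ?_ ?_ x hx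
    · exact orderOf_eq_prime_pow (p := 2) (n := 1) (by decide) (by decide)
    · rw [mem_zpowers_iff_mem_range_orderOf,
        orderOf_eq_prime_pow (p := 2) (n := 1) (by decide) (by decide)]
      decide
    · exact ⟨315, by rw [card_alt 7 (by norm_num)]; rfl, by decide⟩

end alt

section part2

open Cfsg.Agent.S0891 Cfsg.Agent.S3335

lemma anti {G : Type*} [Group G] (Z p q : G) (hZ : Z * Z = 1) (hZc : ∀ g, Z * g = g * Z)
    (hp : p ^ 2 = Z) (hq : q ^ 2 = Z) (hpq : (p * q) ^ 2 = Z) : q * p = Z * (p * q) := by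
  apply mul_left_cancel (a := p)
  apply mul_right_cancel (b := q)
  calc p * (q * p) * q = (p * q) ^ 2 := by rw [pow_two]; simp only [mul_assoc]
    _ = Z := hpq
    _ = Z * (Z * Z) := by rw [hZ, mul_one]
    _ = Z * ((p ^ 2) * (q ^ 2)) := by rw [hp, hq]
    _ = (Z * p) * (p * q) * q := by rw [pow_two, pow_two]; simp only [mul_assoc]
    _ = (p * Z) * (p * q) * q := by rw [hZc p]
    _ = p * (Z * (p * q)) * q := by simp only [mul_assoc]

lemma w_sq {G : Type*} [Group G] (Z p q r : G) (hZ : Z * Z = 1) (hZc : ∀ g, Z * g = g * Z)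
    (hp : p ^ 2 = Z) (hq : q ^ 2 = Z) (hr : r ^ 2 = Z) (hpq : (p * q) ^ 2 = Z)
    (hpr : (p * r) ^ 2 = Z) (hqr : (q * r) ^ 2 = Z) : (p * q * r) * (p * q * r) = 1 := by
  have a1 := anti Z p q hZ hZc hp hq hpq
  have a2 := anti Z p r hZ hZc hp hr hpr
  calc p * q * r * (p * q * r) = p * q * (r * p) * (q * r) := by simp only [mul_assoc]
    _ = (p * q * Z) * (p * r) * (q * r) := by rw [a2]; simp only [mul_assoc]
    _ = (Z * (p * q)) * (p * r) * (q * r) := by rw [hZc (p * q)]
    _ = Z * (p * (q * p) * (r * (q * r))) := by simp only [mul_assoc]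
    _ = Z * ((p * Z) * (p * q) * (r * (q * r))) := by rw [a1]; simp only [mul_assoc]
    _ = Z * ((Z * p) * (p * q) * (r * (q * r))) := by rw [hZc p]
    _ = (Z * Z) * (p ^ 2) * ((q * r) ^ 2) := by rw [pow_two, pow_two]; simp only [mul_assoc]
    _ = 1 := by rw [hZ, hp, hqr, one_mul, hZ]

lemma conj_central {G : Type*} [Group G] (c l X : G) (hc : ∀ g, c * g = g * c) :
    (c * l) * X * (c * l)⁻¹ = l * X * l⁻¹ := by
  calc (c * l) * X * (c * l)⁻¹ = c * (l * X * l⁻¹) * c⁻¹ := by group
    _ = (l * X * l⁻¹) * c * c⁻¹ := by rw [hc]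
    _ = l * X * l⁻¹ := by rw [mul_assoc, mul_inv_cancel, mul_one]

set_option maxRecDepth 100000 in
lemma M135 : Cfsg.Agent.S0256.M 1 * Cfsg.Agent.S0256.M 3 * Cfsg.Agent.S0256.M 5 ≠ 1 := by decide

theorem part2 : ∃ (H : Type) (_ : Group H) (_ : Finite H),
    Cfsg.IsNonsplitDoubleCover H (alternatingGroup (Fin 8)) ∧
      ∃ x y : H, x ≠ y ∧ orderOf x = 2 ∧ orderOf y = 2 := by
  obtain ⟨Z, hZd⟩ : ∃ Z : Gam 6, Z = PresentedGroup.of none := ⟨_, rfl⟩
  have hZcen : Z ∈ center (Gam 6) := by rw [hZd]; exact z_center 6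
  have hN := normal_zp Z hZcen
  obtain ⟨e1⟩ := quot_iso 6 (zpowers Z) hN (by rw [hZd])
  obtain ⟨e2⟩ := Cfsg.Agent.S3335.main 6
  have hsat := sat2_of 6
  rw [← hZd] at hsat
  have hZc : ∀ g, Z * g = g * Z := fun g => (mem_center_iff.mp hZcen g).symm
  have hz2 : Z ^ 2 = 1 := by rw [pow_two]; exact hsat.hz
  have hZne : Z ≠ 1 := by rw [hZd]; exact z_ne 6
  have hZo : orderOf Z = 2 := orderOf_eq_prime hz2 hZne
  have hfin : Finite (Gam 6) := by
    haveI : Finite (zpowers Z) :=
      (isOfFinOrder_iff_pow_eq_one.mpr ⟨2, by norm_num, hz2⟩).finite_zpowers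
    haveI : Finite (Gam 6 ⧸ zpowers Z) := Finite.of_equiv _ (e1.trans e2).symm.toEquiv
    exact Finite.of_subgroup_quotient (zpowers Z)
  obtain ⟨ε, -⟩ : ∃ ε : Gam 6 ⧸ zpowers Z ≃* alternatingGroup (Fin 8), True :=
    ⟨e1.trans e2, trivial⟩
  have hCeq : center (Gam 6) = zpowers Z := by
    apply le_antisymm
    · intro c hc
      have h1 : ε (QuotientGroup.mk' (zpowers Z) c) ∈ center (alternatingGroup (Fin 8)) := by
        rw [mem_center_iff]
        intro g
        obtain ⟨g', rfl⟩ := ε.surjective g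
        obtain ⟨h, rfl⟩ := QuotientGroup.mk'_surjective (zpowers Z) g'
        rw [← map_mul, ← map_mul, ← map_mul, ← map_mul, mem_center_iff.mp hc h]
      rw [alternatingGroup.center_eq_bot (by simp), mem_bot, map_eq_one_iff ε ε.injective,
        QuotientGroup.mk'_apply, QuotientGroup.eq_one_iff] at h1
      exact h1
    · exact zpowers_le.mpr hZcen
  refine ⟨Gam 6, inferInstance, hfin, ⟨?_, ?_, ?_⟩, ?_⟩
  · rw [hCeq, Nat.card_zpowers, hZo]
  · exact ⟨(QuotientGroup.quotientMulEquivOfEq hCeq).trans ε⟩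
  · intro L hL
    have hcomm : commutator (Gam 6) ≤ L := by
      rw [commutator_def, Subgroup.commutator_le]
      intro g₁ _ g₂ _
      obtain ⟨⟨c₁, l₁⟩, h₁, -⟩ := (isComplement_iff_existsUnique.mp hL) g₁
      obtain ⟨⟨c₂, l₂⟩, h₂, -⟩ := (isComplement_iff_existsUnique.mp hL) g₂
      simp only at h₁ h₂
      have hc₁ : ∀ g, (c₁ : Gam 6) * g = g * c₁ := fun g => (mem_center_iff.mp c₁.2 g).symm
      have hc₂ : ∀ g, (c₂ : Gam 6) * g = g * c₂ := fun g => (mem_center_iff.mp c₂.2 g).symm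
      rw [commutatorElement_def, ← h₁, conj_central _ _ _ hc₁, ← h₂]
      have e3 : (l₁ : Gam 6) * ((c₂ : Gam 6) * l₂) * (l₁ : Gam 6)⁻¹ * ((c₂ : Gam 6) * l₂)⁻¹ =
          l₁ * (((c₂ : Gam 6) * l₂) * (l₁ : Gam 6)⁻¹ * ((c₂ : Gam 6) * l₂)⁻¹) := by
        simp only [mul_assoc]
      rw [e3, conj_central _ _ _ hc₂]
      exact L.mul_mem l₁.2 (L.mul_mem (L.mul_mem l₂.2 (L.inv_mem l₁.2)) (L.inv_mem l₂.2))
    have hZL : Z ∈ L := hcomm (by rw [hZd]; exact z_comm 6 (by norm_num))
    have hdis := hL.disjoint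
    have : Z ∈ center (Gam 6) ⊓ L := ⟨hZcen, hZL⟩
    rw [hdis.eq_bot, mem_bot] at this
    exact hZne this
  · obtain ⟨w, hw⟩ : ∃ w : Gam 6, w = PresentedGroup.of (some 1) * PresentedGroup.of (some 3) *
        PresentedGroup.of (some 5) := ⟨_, rfl⟩
    have hww : w * w = 1 := by
      rw [hw]
      exact w_sq Z _ _ _ hsat.hz hZc (hsat.h2 1 (by decide)) (hsat.h2 3 (by decide))
        (hsat.h2 5 (by decide)) (hsat.hc 1 3 (by decide)) (hsat.hc 1 5 (by decide))
        (hsat.hc 3 5 (by decide))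
    have himg : (PresentedGroup.toGroup Cfsg.Agent.S0256.sat_f.lift) (alpha 6 w) ≠ 1 := by
      simp only [hw, map_mul, alpha_x, PresentedGroup.toGroup.of]
      intro h
      exact M135 (congrArg Subtype.val h)
    have hw1 : w ≠ 1 := by
      intro h
      apply himg
      rw [h, map_one, map_one]
    have hwZ : Z ≠ w := by
      intro h
      apply himg
      rw [← h, hZd, alpha_z, map_one]
    exact ⟨Z, w, hwZ, hZo, orderOf_eq_prime (by rw [pow_two]; exact hww) hw1⟩

end part2

/-- Involutions in double covers of alternating groups: for n ≤ 7, a finite non-split double cover of the alternating group of degree n has exactly one element of order 2 (the central one); for degree 8 there is a non-split double cover with two distinct involutions. -/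
theorem result : (∀ (n : ℕ) (H : Type) (_ : Group H) (_ : Finite H), n ≤ 7 → Cfsg.IsNonsplitDoubleCover H (alternatingGroup (Fin n)) → ∀ x y : H, orderOf x = 2 → orderOf y = 2 → x = y) ∧ ∃ (H : Type) (_ : Group H) (_ : Finite H), Cfsg.IsNonsplitDoubleCover H (alternatingGroup (Fin 8)) ∧ ∃ x y : H, x ≠ y ∧ orderOf x = 2 ∧ orderOf y = 2 := by
  refine ⟨?_, part2⟩
  intro n H _ _ hn hns x y hx hy
  have hxC := part1 n hn H hns x hx
  have hyC := part1 n hn H hns y hy
  obtain ⟨c, _, hc⟩ := (Nat.card_eq_two_iff' (1 : Subgroup.center H)).mp hns.1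
  have e1 := hc ⟨x, hxC⟩ (by
    intro h
    have h' : x = 1 := congrArg Subtype.val h
    rw [h', orderOf_one] at hx
    omega)
  have e2 := hc ⟨y, hyC⟩ (by
    intro h
    have h' : y = 1 := congrArg Subtype.val h
    rw [h', orderOf_one] at hy
    omega)
  exact congrArg Subtype.val (e1.trans e2.symm)

end Cfsg.Agent.S0447
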