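import Cfsg.Statements.S0499
import Mathlib
import Cfsg.Agent.S0071
import Cfsg.Agent.S0073
import Cfsg.Agent.S0144

set_option autoImplicit false
open Cfsg

namespace Cfsg.Agent.S0499

theorem arith (a b q : ℕ) (ha : a ∣ 8) (hb : b ∣ a) (hlt : b < a) (hq : q.Prime) (hq2 : q ≠ 2)
    (hd : q ∣ a - b) : q = 3 ∨ q = 7 := by
  have ha8 : a ≤ 8 := Nat.le_of_dvd (by norm_num) ha
  have hq8 : q ≤ 8 := (Nat.le_of_dvd (by omega) hd).trans (by omega)
  interval_cases q
  · norm_num at hq
  · norm_num at hq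
  · exact absurd rfl hq2
  · left; rfl
  · norm_num at hq
  · exfalso
    interval_cases a <;> interval_cases b <;> omega
  · norm_num at hq
  · right; rfl
  · norm_num at hq

/-- an automorphism of odd prime order `q` of a group of order dividing 8 has `q = 3` or `7`. -/
theorem aut_prime {Q : Type*} [Group Q] [Finite Q] (hQ : Nat.card Q ∣ 8) (ψ : MulAut Q) (q : ℕ)
    (hq : q.Prime) (hq2 : q ≠ 2) (hψ : orderOf ψ = q) : q = 3 ∨ q = 7 := by
  haveI : Fact q.Prime := ⟨hq⟩
  have hp : IsPGroup q (Subgroup.zpowers ψ) :=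
    IsPGroup.of_card (n := 1) (by rw [Nat.card_zpowers, hψ, pow_one])
  have hmod := hp.card_modEq_card_fixedPoints Q
  let F : Subgroup Q :=
    { carrier := {y | ψ y = y}
      one_mem' := map_one ψ
      mul_mem' := by
        intro a b ha hb
        show ψ (a * b) = a * b
        rw [map_mul, ha, hb]
      inv_mem' := by
        intro a ha
        show ψ a⁻¹ = a⁻¹
        rw [map_inv, ha] }
  have hF : Nat.card (MulAction.fixedPoints (Subgroup.zpowers ψ) Q) = Nat.card F := by
    apply Nat.card_congr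
    apply Equiv.subtypeEquivRight
    intro y
    rw [MulAction.mem_fixedPoints]
    constructor
    · intro h
      exact h ⟨ψ, Subgroup.mem_zpowers ψ⟩
    · intro h m
      have hle : Subgroup.zpowers ψ ≤ MulAction.stabilizer (MulAut Q) y := by
        rw [Subgroup.zpowers_le, MulAction.mem_stabilizer_iff]
        exact h
      exact MulAction.mem_stabilizer_iff.mp (hle m.2)
  rw [hF] at hmod
  have hFne : F ≠ ⊤ := by
    intro h
    have : ψ = 1 := by
      ext y
      have : y ∈ F := by rw [h]; trivial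
      exact this
    rw [this, orderOf_one] at hψ
    exact hq.one_lt.ne hψ
  have hdvd : Nat.card F ∣ Nat.card Q := Subgroup.card_subgroup_dvd_card F
  have hlt : Nat.card F < Nat.card Q := by
    rcases (Nat.le_of_dvd Nat.card_pos hdvd).lt_or_eq with h | h
    · exact h
    · exact absurd (Subgroup.eq_top_of_card_eq F h) hFne
  exact arith _ _ q hQ hdvd hlt hq hq2 ((Nat.modEq_iff_dvd' hlt.le).mp hmod.symm)

/-- A non-abelian finite simple group of even order has order divisible by 12, 16 or 56. -/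
theorem result {G : Type*} [Group G] [Finite G] [IsSimpleGroup G]
    (hG : ¬ IsMulCommutative G) (h2 : Even (Nat.card G)) :
    12 ∣ Nat.card G ∨ 16 ∣ Nat.card G ∨ 56 ∣ Nat.card G := by
  classical
  have hnc : ∃ x y : G, x * y ≠ y * x := by
    by_contra hc
    push Not at hc
    exact hG ⟨⟨hc⟩⟩
  obtain ⟨g, hg⟩ : ∃ g, g = Nat.card G := ⟨_, rfl⟩
  have h73 := Cfsg.Agent.S0073.result hnc
  rw [← hg] at h73 h2 ⊢
  have hmf : g.minFac = 2 := (Nat.minFac_eq_two_iff g).mpr (even_iff_two_dvd.mp h2)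
  rw [hmf] at h73
  rcases h73 with h8 | h12
  swap
  · left; exact h12
  by_cases h16 : 16 ∣ g
  · right; left; exact h16
  haveI : Fact (Nat.Prime 2) := ⟨Nat.prime_two⟩
  obtain ⟨P⟩ : Nonempty (Sylow 2 G) := inferInstance
  have hgpos : g ≠ 0 := by rw [hg]; exact Nat.card_pos.ne'
  have hP : Nat.card P = 8 := by
    rw [P.card_eq_multiplicity, ← hg]
    have h3 : 3 ≤ g.factorization 2 :=
      (Nat.prime_two.pow_dvd_iff_le_factorization hgpos).mp h8
    have h4 : ¬ 4 ≤ g.factorization 2 := by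
      intro h
      exact h16 ((Nat.prime_two.pow_dvd_iff_le_factorization hgpos).mpr h)
    have : g.factorization 2 = 3 := by omega
    rw [this]; norm_num
  have hno : ¬ ∃ N : Subgroup G, N.Normal ∧ N.IsComplement' (P : Subgroup G) := by
    rintro ⟨N, hN, hc⟩
    have hcard := hc.card_mul_card
    rw [hP, ← hg] at hcard
    rcases hN.eq_bot_or_eq_top with h | h
    · rw [h, Subgroup.card_bot] at hcard
      have hsol : Group.IsSolvable G :=
        Cfsg.Agent.S0144.result 2 3 3 0 Nat.prime_two Nat.prime_three (by rw [← hg, ← hcard]; norm_num)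
      obtain ⟨x, y, hxy⟩ := hnc
      exact hxy (IsSimpleGroup.comm_iff_isSolvable.mpr hsol x y)
    · rw [h, Subgroup.card_top, ← hg] at hcard
      omega
  rw [Cfsg.Agent.S0071.result P] at hno
  push Not at hno
  obtain ⟨Q, hQP, x, hx, hcop, hxC⟩ := hno
  obtain ⟨φ, hφ⟩ : ∃ φ, φ = Q.normalizerMonoidHom ⟨x, hx⟩ := ⟨_, rfl⟩
  have hφ1 : φ ≠ 1 := by
    intro h
    have : (⟨x, hx⟩ : Subgroup.normalizer (Q : Set G)) ∈ Q.normalizerMonoidHom.ker := by
      rw [MonoidHom.mem_ker, ← hφ, h]
    rw [Subgroup.normalizerMonoidHom_ker, Subgroup.mem_subgroupOf] at this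
    exact hxC this
  have hd : orderOf φ ∣ orderOf x := by
    have := orderOf_map_dvd Q.normalizerMonoidHom (⟨x, hx⟩ : Subgroup.normalizer (Q : Set G))
    rwa [← hφ, Subgroup.orderOf_mk] at this
  have hd1 : orderOf φ ≠ 1 := by
    intro h
    exact hφ1 (orderOf_eq_one_iff.mp h)
  have hq := Nat.minFac_prime hd1
  have hqd := Nat.minFac_dvd (orderOf φ)
  have hq2 : (orderOf φ).minFac ≠ 2 := by
    intro h
    have h2x : 2 ∣ orderOf x := by rw [← h]; exact hqd.trans hd
    have := Nat.Coprime.eq_one_of_dvd hcop.symm h2x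
    omega
  have hord : orderOf (φ ^ (orderOf φ / (orderOf φ).minFac)) = (orderOf φ).minFac :=
    orderOf_pow_orderOf_div (orderOf_pos φ).ne' hqd
  have hQ8 : Nat.card Q ∣ 8 := by rw [← hP]; exact Subgroup.card_dvd_of_le hQP
  have hqg : (orderOf φ).minFac ∣ g := by
    rw [hg]; exact (hqd.trans hd).trans (orderOf_dvd_natCard x)
  rcases aut_prime hQ8 _ _ hq hq2 hord with h | h
  · rw [h] at hqg
    left; omega
  · rw [h] at hqg
    right; right; omega

end Cfsg.Agent.S0499
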