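import Cfsg.Statements.S0493
import Mathlib
import Cfsg.Agent.S0144
import Cfsg.Agent.S0499

set_option autoImplicit false
open Cfsg

namespace Cfsg.Agent.S0493

/-- A finite simple group of order at most 100 that is not cyclic has order 60. -/
theorem result {G : Type*} [Group G] [Finite G] [IsSimpleGroup G]
    (hG : ¬ IsCyclic G) (h : Nat.card G ≤ 100) : Nat.card G = 60 := by
  classical
  have hncomm : ¬ ∀ a b : G, a * b = b * a := by
    intro hc
    apply hG
    let _ : CommGroup G := { (inferInstance : Group G) with mul_comm := hc }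
    exact IsSimpleGroup.isCyclic
  have hsol : ¬ Group.IsSolvable G := fun hs => hncomm (IsSimpleGroup.comm_iff_isSolvable.mpr hs)
  have hnc : ¬ IsMulCommutative G := fun hc => hncomm (fun a b => hc.is_comm.comm a b)
  have heven : ∀ {n : ℕ}, Nat.card G = n → Even n → ¬ 12 ∣ n → ¬ 16 ∣ n → ¬ 56 ∣ n → Nat.card G = 60 := by
    intro n hn h2 h12 h16 h56
    exfalso
    rcases Cfsg.Agent.S0499.result hnc (hn ▸ h2) with h | h | h
    · exact h12 (hn ▸ h)
    · exact h16 (hn ▸ h)
    · exact h56 (hn ▸ h)
  have h84 : Nat.card G = 84 → Nat.card G = 60 := by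
    intro hn
    exfalso
    haveI : Fact (Nat.Prime 7) := ⟨by norm_num⟩
    have P : Sylow 7 G := default
    have h1 := card_sylow_modEq_one 7 G
    have h2 : Nat.card (Sylow 7 G) ∣ (P : Subgroup G).index := Sylow.card_dvd_index P
    have h3 : ¬ 7 ∣ (P : Subgroup G).index := Sylow.not_dvd_index P
    have h4 := (P : Subgroup G).card_mul_index
    obtain ⟨k, hk⟩ := (IsPGroup.iff_card.mp P.2)
    rw [hn, hk] at h4
    have hk1 : k = 1 := by
      rcases k with _ | _ | k
      · exfalso; apply h3; rw [pow_zero, one_mul] at h4; rw [h4]; norm_num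
      · rfl
      · exfalso
        have : 49 ∣ 84 := by
          rw [← h4]
          exact ⟨7 ^ k * (P : Subgroup G).index, by ring⟩
        revert this; norm_num
    subst hk1
    have hidx : (P : Subgroup G).index = 12 := by omega
    rw [hidx] at h2
    have hle : Nat.card (Sylow 7 G) ≤ 12 := Nat.le_of_dvd (by norm_num) h2
    have hone : Nat.card (Sylow 7 G) = 1 := by
      have h5 : Nat.card (Sylow 7 G) % 7 = 1 := h1
      generalize Nat.card (Sylow 7 G) = m at *
      interval_cases m <;> simp_all <;> omega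
    have hsub : Subsingleton (Sylow 7 G) := (Nat.card_eq_one_iff_unique.mp hone).1
    have hnorm : (P : Subgroup G).Normal := Sylow.normal_of_subsingleton P
    rcases hnorm.eq_bot_or_eq_top with h | h
    · rw [h] at hk; simp at hk
    · rw [h] at hk; simp [hn] at hk
  have hpos : 0 < Nat.card G := Nat.card_pos
  obtain ⟨n, hn⟩ : ∃ n, Nat.card G = n := ⟨_, rfl⟩
  rw [hn] at h hpos
  interval_cases n
  · exact absurd (Cfsg.Agent.S0144.result 2 3 0 0 (by norm_num) (by norm_num) (by rw [hn]; norm_num)) hsol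
  · exact absurd (Cfsg.Agent.S0144.result 2 3 1 0 (by norm_num) (by norm_num) (by rw [hn]; norm_num)) hsol
  · exact absurd (Cfsg.Agent.S0144.result 3 2 1 0 (by norm_num) (by norm_num) (by rw [hn]; norm_num)) hsol
  · exact absurd (Cfsg.Agent.S0144.result 2 3 2 0 (by norm_num) (by norm_num) (by rw [hn]; norm_num)) hsol
  · exact absurd (Cfsg.Agent.S0144.result 5 2 1 0 (by norm_num) (by norm_num) (by rw [hn]; norm_num)) hsol
  · exact absurd (Cfsg.Agent.S0144.result 2 3 1 1 (by norm_num) (by norm_num) (by rw [hn]; norm_num)) hsol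
  · exact absurd (Cfsg.Agent.S0144.result 7 2 1 0 (by norm_num) (by norm_num) (by rw [hn]; norm_num)) hsol
  · exact absurd (Cfsg.Agent.S0144.result 2 3 3 0 (by norm_num) (by norm_num) (by rw [hn]; norm_num)) hsol
  · exact absurd (Cfsg.Agent.S0144.result 3 2 2 0 (by norm_num) (by norm_num) (by rw [hn]; norm_num)) hsol
  · exact absurd (Cfsg.Agent.S0144.result 2 5 1 1 (by norm_num) (by norm_num) (by rw [hn]; norm_num)) hsol
  · exact absurd (Cfsg.Agent.S0144.result 11 2 1 0 (by norm_num) (by norm_num) (by rw [hn]; norm_num)) hsol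
  · exact absurd (Cfsg.Agent.S0144.result 2 3 2 1 (by norm_num) (by norm_num) (by rw [hn]; norm_num)) hsol
  · exact absurd (Cfsg.Agent.S0144.result 13 2 1 0 (by norm_num) (by norm_num) (by rw [hn]; norm_num)) hsol
  · exact absurd (Cfsg.Agent.S0144.result 2 7 1 1 (by norm_num) (by norm_num) (by rw [hn]; norm_num)) hsol
  · exact absurd (Cfsg.Agent.S0144.result 3 5 1 1 (by norm_num) (by norm_num) (by rw [hn]; norm_num)) hsol
  · exact absurd (Cfsg.Agent.S0144.result 2 3 4 0 (by norm_num) (by norm_num) (by rw [hn]; norm_num)) hsol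
  · exact absurd (Cfsg.Agent.S0144.result 17 2 1 0 (by norm_num) (by norm_num) (by rw [hn]; norm_num)) hsol
  · exact absurd (Cfsg.Agent.S0144.result 2 3 1 2 (by norm_num) (by norm_num) (by rw [hn]; norm_num)) hsol
  · exact absurd (Cfsg.Agent.S0144.result 19 2 1 0 (by norm_num) (by norm_num) (by rw [hn]; norm_num)) hsol
  · exact absurd (Cfsg.Agent.S0144.result 2 5 2 1 (by norm_num) (by norm_num) (by rw [hn]; norm_num)) hsol
  · exact absurd (Cfsg.Agent.S0144.result 3 7 1 1 (by norm_num) (by norm_num) (by rw [hn]; norm_num)) hsol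
  · exact absurd (Cfsg.Agent.S0144.result 2 11 1 1 (by norm_num) (by norm_num) (by rw [hn]; norm_num)) hsol
  · exact absurd (Cfsg.Agent.S0144.result 23 2 1 0 (by norm_num) (by norm_num) (by rw [hn]; norm_num)) hsol
  · exact absurd (Cfsg.Agent.S0144.result 2 3 3 1 (by norm_num) (by norm_num) (by rw [hn]; norm_num)) hsol
  · exact absurd (Cfsg.Agent.S0144.result 5 2 2 0 (by norm_num) (by norm_num) (by rw [hn]; norm_num)) hsol
  · exact absurd (Cfsg.Agent.S0144.result 2 13 1 1 (by norm_num) (by norm_num) (by rw [hn]; norm_num)) hsol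
  · exact absurd (Cfsg.Agent.S0144.result 3 2 3 0 (by norm_num) (by norm_num) (by rw [hn]; norm_num)) hsol
  · exact absurd (Cfsg.Agent.S0144.result 2 7 2 1 (by norm_num) (by norm_num) (by rw [hn]; norm_num)) hsol
  · exact absurd (Cfsg.Agent.S0144.result 29 2 1 0 (by norm_num) (by norm_num) (by rw [hn]; norm_num)) hsol
  · exact heven hn (by decide) (by decide) (by decide) (by decide)
  · exact absurd (Cfsg.Agent.S0144.result 31 2 1 0 (by norm_num) (by norm_num) (by rw [hn]; norm_num)) hsol
  · exact absurd (Cfsg.Agent.S0144.result 2 3 5 0 (by norm_num) (by norm_num) (by rw [hn]; norm_num)) hsol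
  · exact absurd (Cfsg.Agent.S0144.result 3 11 1 1 (by norm_num) (by norm_num) (by rw [hn]; norm_num)) hsol
  · exact absurd (Cfsg.Agent.S0144.result 2 17 1 1 (by norm_num) (by norm_num) (by rw [hn]; norm_num)) hsol
  · exact absurd (Cfsg.Agent.S0144.result 5 7 1 1 (by norm_num) (by norm_num) (by rw [hn]; norm_num)) hsol
  · exact absurd (Cfsg.Agent.S0144.result 2 3 2 2 (by norm_num) (by norm_num) (by rw [hn]; norm_num)) hsol
  · exact absurd (Cfsg.Agent.S0144.result 37 2 1 0 (by norm_num) (by norm_num) (by rw [hn]; norm_num)) hsol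
  · exact absurd (Cfsg.Agent.S0144.result 2 19 1 1 (by norm_num) (by norm_num) (by rw [hn]; norm_num)) hsol
  · exact absurd (Cfsg.Agent.S0144.result 3 13 1 1 (by norm_num) (by norm_num) (by rw [hn]; norm_num)) hsol
  · exact absurd (Cfsg.Agent.S0144.result 2 5 3 1 (by norm_num) (by norm_num) (by rw [hn]; norm_num)) hsol
  · exact absurd (Cfsg.Agent.S0144.result 41 2 1 0 (by norm_num) (by norm_num) (by rw [hn]; norm_num)) hsol
  · exact heven hn (by decide) (by decide) (by decide) (by decide)
  · exact absurd (Cfsg.Agent.S0144.result 43 2 1 0 (by norm_num) (by norm_num) (by rw [hn]; norm_num)) hsol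
  · exact absurd (Cfsg.Agent.S0144.result 2 11 2 1 (by norm_num) (by norm_num) (by rw [hn]; norm_num)) hsol
  · exact absurd (Cfsg.Agent.S0144.result 3 5 2 1 (by norm_num) (by norm_num) (by rw [hn]; norm_num)) hsol
  · exact absurd (Cfsg.Agent.S0144.result 2 23 1 1 (by norm_num) (by norm_num) (by rw [hn]; norm_num)) hsol
  · exact absurd (Cfsg.Agent.S0144.result 47 2 1 0 (by norm_num) (by norm_num) (by rw [hn]; norm_num)) hsol
  · exact absurd (Cfsg.Agent.S0144.result 2 3 4 1 (by norm_num) (by norm_num) (by rw [hn]; norm_num)) hsol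
  · exact absurd (Cfsg.Agent.S0144.result 7 2 2 0 (by norm_num) (by norm_num) (by rw [hn]; norm_num)) hsol
  · exact absurd (Cfsg.Agent.S0144.result 2 5 1 2 (by norm_num) (by norm_num) (by rw [hn]; norm_num)) hsol
  · exact absurd (Cfsg.Agent.S0144.result 3 17 1 1 (by norm_num) (by norm_num) (by rw [hn]; norm_num)) hsol
  · exact absurd (Cfsg.Agent.S0144.result 2 13 2 1 (by norm_num) (by norm_num) (by rw [hn]; norm_num)) hsol
  · exact absurd (Cfsg.Agent.S0144.result 53 2 1 0 (by norm_num) (by norm_num) (by rw [hn]; norm_num)) hsol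
  · exact absurd (Cfsg.Agent.S0144.result 2 3 1 3 (by norm_num) (by norm_num) (by rw [hn]; norm_num)) hsol
  · exact absurd (Cfsg.Agent.S0144.result 5 11 1 1 (by norm_num) (by norm_num) (by rw [hn]; norm_num)) hsol
  · exact absurd (Cfsg.Agent.S0144.result 2 7 3 1 (by norm_num) (by norm_num) (by rw [hn]; norm_num)) hsol
  · exact absurd (Cfsg.Agent.S0144.result 3 19 1 1 (by norm_num) (by norm_num) (by rw [hn]; norm_num)) hsol
  · exact absurd (Cfsg.Agent.S0144.result 2 29 1 1 (by norm_num) (by norm_num) (by rw [hn]; norm_num)) hsol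
  · exact absurd (Cfsg.Agent.S0144.result 59 2 1 0 (by norm_num) (by norm_num) (by rw [hn]; norm_num)) hsol
  · exact hn
  · exact absurd (Cfsg.Agent.S0144.result 61 2 1 0 (by norm_num) (by norm_num) (by rw [hn]; norm_num)) hsol
  · exact absurd (Cfsg.Agent.S0144.result 2 31 1 1 (by norm_num) (by norm_num) (by rw [hn]; norm_num)) hsol
  · exact absurd (Cfsg.Agent.S0144.result 3 7 2 1 (by norm_num) (by norm_num) (by rw [hn]; norm_num)) hsol
  · exact absurd (Cfsg.Agent.S0144.result 2 3 6 0 (by norm_num) (by norm_num) (by rw [hn]; norm_num)) hsol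
  · exact absurd (Cfsg.Agent.S0144.result 5 13 1 1 (by norm_num) (by norm_num) (by rw [hn]; norm_num)) hsol
  · exact heven hn (by decide) (by decide) (by decide) (by decide)
  · exact absurd (Cfsg.Agent.S0144.result 67 2 1 0 (by norm_num) (by norm_num) (by rw [hn]; norm_num)) hsol
  · exact absurd (Cfsg.Agent.S0144.result 2 17 2 1 (by norm_num) (by norm_num) (by rw [hn]; norm_num)) hsol
  · exact absurd (Cfsg.Agent.S0144.result 3 23 1 1 (by norm_num) (by norm_num) (by rw [hn]; norm_num)) hsol
  · exact heven hn (by decide) (by decide) (by decide) (by decide)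
  · exact absurd (Cfsg.Agent.S0144.result 71 2 1 0 (by norm_num) (by norm_num) (by rw [hn]; norm_num)) hsol
  · exact absurd (Cfsg.Agent.S0144.result 2 3 3 2 (by norm_num) (by norm_num) (by rw [hn]; norm_num)) hsol
  · exact absurd (Cfsg.Agent.S0144.result 73 2 1 0 (by norm_num) (by norm_num) (by rw [hn]; norm_num)) hsol
  · exact absurd (Cfsg.Agent.S0144.result 2 37 1 1 (by norm_num) (by norm_num) (by rw [hn]; norm_num)) hsol
  · exact absurd (Cfsg.Agent.S0144.result 3 5 1 2 (by norm_num) (by norm_num) (by rw [hn]; norm_num)) hsol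
  · exact absurd (Cfsg.Agent.S0144.result 2 19 2 1 (by norm_num) (by norm_num) (by rw [hn]; norm_num)) hsol
  · exact absurd (Cfsg.Agent.S0144.result 7 11 1 1 (by norm_num) (by norm_num) (by rw [hn]; norm_num)) hsol
  · exact heven hn (by decide) (by decide) (by decide) (by decide)
  · exact absurd (Cfsg.Agent.S0144.result 79 2 1 0 (by norm_num) (by norm_num) (by rw [hn]; norm_num)) hsol
  · exact absurd (Cfsg.Agent.S0144.result 2 5 4 1 (by norm_num) (by norm_num) (by rw [hn]; norm_num)) hsol
  · exact absurd (Cfsg.Agent.S0144.result 3 2 4 0 (by norm_num) (by norm_num) (by rw [hn]; norm_num)) hsol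
  · exact absurd (Cfsg.Agent.S0144.result 2 41 1 1 (by norm_num) (by norm_num) (by rw [hn]; norm_num)) hsol
  · exact absurd (Cfsg.Agent.S0144.result 83 2 1 0 (by norm_num) (by norm_num) (by rw [hn]; norm_num)) hsol
  · exact h84 hn
  · exact absurd (Cfsg.Agent.S0144.result 5 17 1 1 (by norm_num) (by norm_num) (by rw [hn]; norm_num)) hsol
  · exact absurd (Cfsg.Agent.S0144.result 2 43 1 1 (by norm_num) (by norm_num) (by rw [hn]; norm_num)) hsol
  · exact absurd (Cfsg.Agent.S0144.result 3 29 1 1 (by norm_num) (by norm_num) (by rw [hn]; norm_num)) hsol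
  · exact absurd (Cfsg.Agent.S0144.result 2 11 3 1 (by norm_num) (by norm_num) (by rw [hn]; norm_num)) hsol
  · exact absurd (Cfsg.Agent.S0144.result 89 2 1 0 (by norm_num) (by norm_num) (by rw [hn]; norm_num)) hsol
  · exact heven hn (by decide) (by decide) (by decide) (by decide)
  · exact absurd (Cfsg.Agent.S0144.result 7 13 1 1 (by norm_num) (by norm_num) (by rw [hn]; norm_num)) hsol
  · exact absurd (Cfsg.Agent.S0144.result 2 23 2 1 (by norm_num) (by norm_num) (by rw [hn]; norm_num)) hsol
  · exact absurd (Cfsg.Agent.S0144.result 3 31 1 1 (by norm_num) (by norm_num) (by rw [hn]; norm_num)) hsol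
  · exact absurd (Cfsg.Agent.S0144.result 2 47 1 1 (by norm_num) (by norm_num) (by rw [hn]; norm_num)) hsol
  · exact absurd (Cfsg.Agent.S0144.result 5 19 1 1 (by norm_num) (by norm_num) (by rw [hn]; norm_num)) hsol
  · exact absurd (Cfsg.Agent.S0144.result 2 3 5 1 (by norm_num) (by norm_num) (by rw [hn]; norm_num)) hsol
  · exact absurd (Cfsg.Agent.S0144.result 97 2 1 0 (by norm_num) (by norm_num) (by rw [hn]; norm_num)) hsol
  · exact absurd (Cfsg.Agent.S0144.result 2 7 1 2 (by norm_num) (by norm_num) (by rw [hn]; norm_num)) hsol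
  · exact absurd (Cfsg.Agent.S0144.result 3 11 2 1 (by norm_num) (by norm_num) (by rw [hn]; norm_num)) hsol
  · exact absurd (Cfsg.Agent.S0144.result 2 5 2 2 (by norm_num) (by norm_num) (by rw [hn]; norm_num)) hsol

end Cfsg.Agent.S0493
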