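import Cfsg.Statements.S0494
import Cfsg.Agent.Lib.Helper12.PermEmbed

set_option autoImplicit false
open Cfsg

namespace Cfsg.Agent.S0494

/-- A simple group of order 60 is isomorphic to the alternating group of degree 5. -/
theorem result {G : Type*} [Group G] [Finite G] [IsSimpleGroup G]
    (h : Nat.card G = 60) : Nonempty (G ≃* alternatingGroup (Fin 5)) := by
  have hp2 : Fact (Nat.Prime 2) := ⟨Nat.prime_two⟩
  obtain ⟨P⟩ : Nonempty (Sylow 2 G) := inferInstance
  have hPi := (P : Subgroup G).card_mul_index
  rw [h] at hPi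
  have hPcard : Nat.card P = 4 ∧ (P : Subgroup G).index = 15 := by
    obtain ⟨n, hn⟩ := (IsPGroup.iff_card.mp P.2)
    have hnd := P.not_dvd_index
    rw [hn] at hPi ⊢
    have hn6 : n < 6 := by
      by_contra hcon
      have h64 : 2 ^ 6 ≤ 2 ^ n := Nat.pow_le_pow_right (by norm_num) (by omega)
      have hpos : 0 < (P : Subgroup G).index := Nat.pos_of_ne_zero Subgroup.index_ne_zero_of_finite
      nlinarith
    interval_cases n <;> omega
  obtain ⟨hP4, hP15⟩ := hPcard
  set N := Subgroup.normalizer ((P : Subgroup G) : Set G) with hN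
  have hPN : (P : Subgroup G) ≤ N := Subgroup.le_normalizer
  have hNtop : N ≠ ⊤ := by
    intro htop
    have hnorm : (P : Subgroup G).Normal := Subgroup.normalizer_eq_top_iff.mp htop
    rcases hnorm.eq_bot_or_eq_top with hb | hb
    · rw [hb, Subgroup.card_bot] at hP4; omega
    · rw [hb, Subgroup.card_top] at hP4; omega
  have hdvd : N.index ∣ 15 := hP15 ▸ Subgroup.index_dvd_of_le hPN
  have hfac := Cfsg.Agent.Lib.Helper12.card_dvd_factorial_index_of_simple N hNtop
  rw [h] at hfac
  have hcases : N.index = 1 ∨ N.index = 3 ∨ N.index = 5 ∨ N.index = 15 := by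
    have hle : N.index ≤ 15 := Nat.le_of_dvd (by norm_num) hdvd
    have hpos : 0 < N.index := Nat.pos_of_ne_zero Subgroup.index_ne_zero_of_finite
    interval_cases N.index <;> omega
  rcases hcases with h1 | h3 | h5 | h15
  · rw [h1] at hfac; exact absurd hfac (by decide)
  · rw [h3] at hfac; exact absurd hfac (by decide)
  · have hex := Cfsg.Agent.Lib.Helper12.exists_injective_of_simple N hNtop
    rw [h5] at hex
    obtain ⟨φ, hφ⟩ := hex
    exact Cfsg.Agent.Lib.Helper12.mulEquiv_alternating_of_injective φ hφ (by rw [h]; rfl)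
  · exfalso
    have hNc := N.card_mul_index
    rw [h15, h] at hNc
    have hN4 : Nat.card N = 4 := by omega
    have hNP : (P : Subgroup G) = N := Subgroup.eq_of_le_of_card_ge hPN (by rw [hN4, hP4])
    have hcomm' : IsMulCommutative (P : Subgroup G) :=
      IsPGroup.isMulCommutative_of_card_eq_prime_sq (p := 2) (by rw [hP4]; norm_num)
    have hcomm : ∀ a b : (P : Subgroup G), a * b = b * a := fun a b => mul_comm' a b
    have hNC : Subgroup.normalizer ((P : Subgroup G) : Set G) ≤
        Subgroup.centralizer ((P : Subgroup G) : Set G) := by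
      rw [← hN, ← hNP]
      intro x hx
      rw [Subgroup.mem_centralizer_iff]
      intro y hy
      exact congrArg Subtype.val (hcomm ⟨y, hy⟩ ⟨x, hx⟩)
    have hcompl := MonoidHom.ker_transferSylow_isComplement' P hNC
    have hcm := hcompl.card_mul_card
    rw [hP4, h] at hcm
    rcases (MonoidHom.transferSylow P hNC).normal_ker.eq_bot_or_eq_top with hb | hb
    · rw [hb, Subgroup.card_bot] at hcm; omega
    · rw [hb, Subgroup.card_top, h] at hcm; omega

end Cfsg.Agent.S0494
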