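import Cfsg.Statements.S0514
import Mathlib
import Cfsg.Agent.Lib.Helper14.MaxClassSub
-- import your own Cfsg.Agent.* helpers here

set_option autoImplicit false
open Cfsg

namespace Cfsg.Agent.S0514

open Cfsg.Agent.Lib.Helper14

/-- In a finite group whose Sylow 2-subgroups are dihedral of order at least 4, the centralizer of any involution has a
normal subgroup of odd order whose index in the centralizer is a power of 2. -/
theorem result {X : Type*} [Group X] [Finite X]
    (S : Sylow 2 X) (n : ℕ) (hn : 2 ≤ n) (hS : Nonempty ((S : Subgroup X) ≃* DihedralGroup n)) (t : X)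
    (ht : orderOf t = 2) :
    ∃ N : Subgroup (Subgroup.centralizer ({t} : Set X)), N.Normal ∧ Odd (Nat.card N) ∧ ∃ k : ℕ, N.index = 2 ^ k := by
  have : Fact (Nat.Prime 2) := ⟨Nat.prime_two⟩
  obtain ⟨e⟩ := hS
  have : NeZero n := ⟨by omega⟩
  have hD2 : IsPGroup 2 (DihedralGroup n) := S.2.of_equiv e
  have hsc : SelfCent (S : Subgroup X) :=
    SelfCent.of_injective e.toMonoidHom e.injective (selfCent_dihedral n hD2)
  obtain ⟨C, hC⟩ : ∃ C, C = Subgroup.centralizer ({t} : Set X) := ⟨_, rfl⟩
  rw [← hC]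
  have htC : t ∈ C := by rw [hC, Subgroup.mem_centralizer_singleton_iff]
  have T : Sylow 2 C := default
  have hTsc : SelfCent (T : Subgroup C) := SelfCent.sylow_subgroup S hsc C T
  have hcen : ∀ c : C, c * ⟨t, htC⟩ = ⟨t, htC⟩ * c := by
    rintro ⟨c, hc⟩
    have h1 := hc
    rw [hC, Subgroup.mem_centralizer_singleton_iff] at h1
    exact Subtype.ext h1
  have hcomp : ∃ N : Subgroup C, N.Normal ∧ N.IsComplement' (T : Subgroup C) := by
    by_contra hno
    obtain ⟨Q, hQT, hQ, g, hgN, hgo, hgC⟩ := SelfCent.exists_odd_action T hTsc hno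
    -- `t` lies in `T`
    have hZn : (Subgroup.zpowers (⟨t, htC⟩ : C)).Normal := by
      constructor
      rintro _ ⟨k, rfl⟩ c
      have h1 : c * (⟨t, htC⟩ : C) ^ k * c⁻¹ = (⟨t, htC⟩ : C) ^ k := by
        rw [← conj_zpow, hcen c, mul_inv_cancel_right]
      change c * (⟨t, htC⟩ : C) ^ k * c⁻¹ ∈ _
      rw [h1]
      exact Subgroup.zpow_mem _ (Subgroup.mem_zpowers _) k
    have htT : (⟨t, htC⟩ : C) ∈ (T : Subgroup C) :=
      normal_le_sylow (Subgroup.zpowers (⟨t, htC⟩ : C))
        (IsPGroup.of_card (n := 1) (by rw [Nat.card_zpowers, Subgroup.orderOf_mk, ht, pow_one])) T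
        (Subgroup.mem_zpowers _)
    rcases hQ with hQ | ⟨⟨eQ⟩⟩
    · -- `t ∈ Q`
      have hnc : ¬ IsCyclic (Q.subgroupOf (T : Subgroup C)) := by
        intro hc
        have : IsCyclic Q := isCyclic_of_injective
          (Subgroup.subgroupOfEquivOfLe hQT).symm.toMonoidHom
          (Subgroup.subgroupOfEquivOfLe hQT).symm.injective
        exact IsKleinFour.not_isCyclic this
      have h1 := hTsc _ hnc (x := ⟨⟨t, htC⟩, htT⟩) (by
        rw [Subgroup.mem_centralizer_iff]
        intro y _
        exact Subtype.ext (hcen y.1))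
      rw [Subgroup.mem_subgroupOf] at h1
      apply hgC
      refine klein_fix Q hQ g hgN hgo ⟨t, htC⟩ h1 ?_ ?_
      · intro h
        have h2 : t = 1 := congrArg Subtype.val h
        rw [h2, orderOf_one] at ht
        norm_num at ht
      · rw [hcen g, mul_inv_cancel_right]
    · -- no quaternion subgroup
      have hQ2 : IsPGroup 2 (Q.map C.subtype) := (T.2.to_le hQT).map _
      obtain ⟨S', hS'⟩ := hQ2.exists_le_sylow
      have e' : (S' : Subgroup X) ≃* (S : Subgroup X) := Sylow.equiv S' S
      exact no_q8_in_dihedral n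
        (e.toMonoidHom.comp (e'.toMonoidHom.comp ((Subgroup.inclusion hS').comp
          ((Q.equivMapOfInjective C.subtype C.subtype_injective).toMonoidHom.comp
            eQ.symm.toMonoidHom))))
        (e.injective.comp (e'.injective.comp ((Subgroup.inclusion_injective hS').comp
          ((Q.equivMapOfInjective C.subtype C.subtype_injective).injective.comp
            eQ.symm.injective))))
  obtain ⟨N, hN, hc⟩ := hcomp
  obtain ⟨k, hk⟩ := T.2.exists_card_eq
  refine ⟨N, hN, ?_, k, ?_⟩
  · rw [← Nat.not_even_iff_odd, even_iff_two_dvd, ← hc.index_eq_card]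
    exact T.not_dvd_index
  · rw [hc.symm.index_eq_card, hk]

end Cfsg.Agent.S0514
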