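import Cfsg.Statements.S0521
import Cfsg.Agent.S0109
import Cfsg.Agent.S0012
import Cfsg.Agent.S0029

set_option autoImplicit false
open Cfsg

namespace Cfsg.Agent.S0521

open Cfsg.Agent.Lib.Helper5
open scoped commutatorElement

/-- a `p`-element normalizing a cyclic `p`-group `E` satisfies `[E, b] ⊆ E^p`. -/
lemma cyc_comm {Y : Type*} [Group Y] {p : ℕ} [Fact p.Prime] (E : Subgroup Y) [hE : IsCyclic E]
    (hEp : IsPGroup p E) (b : Y) (m : ℕ) (hb : b ^ p ^ m = 1) (hn : ∀ e ∈ E, b * e * b⁻¹ ∈ E)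
    (e : Y) (he : e ∈ E) : ∃ f ∈ E, ⁅e, b⁆ = f ^ p := by
  obtain ⟨e0, he0⟩ := (E.isCyclic_iff_exists_zpowers_eq_top).mp hE
  have he0E : e0 ∈ E := by rw [← he0]; exact Subgroup.mem_zpowers e0
  have h1 : b * e0 * b⁻¹ ∈ Subgroup.zpowers e0 := by rw [he0]; exact hn e0 he0E
  obtain ⟨k, hk⟩ := Subgroup.mem_zpowers_iff.mp h1
  have hpow : ∀ j : ℕ, b ^ j * e0 * (b ^ j)⁻¹ = e0 ^ (k ^ j) := by
    intro j
    induction j with
    | zero => simp
    | succ j ih =>
      have : b ^ (j + 1) * e0 * (b ^ (j + 1))⁻¹ = b * (b ^ j * e0 * (b ^ j)⁻¹) * b⁻¹ := by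
        rw [pow_succ']; group
      rw [this, ih, ← conj_zpow, ← hk, ← zpow_mul, pow_succ']
  have h2 := hpow (p ^ m)
  rw [hb] at h2
  simp only [one_mul, inv_one, mul_one] at h2
  have hdvd : (p : ℤ) ∣ k - 1 ∨ e0 = 1 := by
    by_cases h0 : e0 = 1
    · exact Or.inr h0
    · left
      obtain ⟨s, hs⟩ := hEp ⟨e0, he0E⟩
      have hs' : e0 ^ p ^ s = 1 := congrArg Subtype.val hs
      have hord : p ∣ orderOf e0 := by
        obtain ⟨t, -, ht⟩ := (Nat.dvd_prime_pow (Fact.out : p.Prime)).1 (orderOf_dvd_of_pow_eq_one hs')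
        rcases t with _ | t
        · rw [pow_zero, orderOf_eq_one_iff] at ht
          exact absurd ht h0
        · rw [ht, pow_succ]; exact dvd_mul_left _ _
      have h3 : e0 ^ (k ^ (p ^ m) - 1) = 1 := by
        rw [zpow_sub, ← h2, zpow_one, mul_inv_cancel]
      have h4 : (orderOf e0 : ℤ) ∣ k ^ (p ^ m) - 1 := orderOf_dvd_iff_zpow_eq_one.mpr h3
      have h5 : (p : ℤ) ∣ k ^ (p ^ m) - 1 := (Int.natCast_dvd_natCast.mpr hord).trans h4
      rw [← ZMod.intCast_zmod_eq_zero_iff_dvd] at h5 ⊢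
      push_cast at h5 ⊢
      rwa [ZMod.pow_card_pow] at h5
  have he' : e ∈ Subgroup.zpowers e0 := by rw [he0]; exact he
  obtain ⟨j, rfl⟩ := Subgroup.mem_zpowers_iff.mp he'
  rcases hdvd with ⟨t, ht⟩ | h0
  · refine ⟨e0 ^ (- j * t), E.zpow_mem he0E _, ?_⟩
    have : ⁅e0 ^ j, b⁆ = e0 ^ j * (b * e0 * b⁻¹) ^ (-j) := by
      rw [commutatorElement_def, conj_zpow, zpow_neg]; group
    rw [this, ← hk, ← zpow_mul, ← zpow_add, ← zpow_natCast, ← zpow_mul]
    congr 1
    have : k = 1 + p * t := by linarith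
    rw [this]; ring
  · refine ⟨1, E.one_mem, ?_⟩
    rw [h0]; simp

lemma core {Y : Type*} [Group Y] [Finite Y] [hs : Group.IsSolvable Y] (hY : Odd (Nat.card Y))
    (p : ℕ) [Fact p.Prime] (hp : p ≠ 2) (hO : Cfsg.pPrimeCore p Y = ⊥) (T : Sylow p Y)
    (hT : IsCyclic (⁅(T : Subgroup Y), (T : Subgroup Y)⁆ : Subgroup Y)) : (T : Subgroup Y) ≤ Cfsg.pCore p Y := by
  classical
  have hpp : p.Prime := Fact.out
  have hQ : QFree p Y := qFree_of_sl2_free hp (Cfsg.Agent.S0109.no_section hp hs (by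
    intro _ T2
    have h1 : Nat.card T2 = 1 := by
      obtain ⟨k, hk⟩ := IsPGroup.iff_card.mp T2.2
      have hd : Nat.card T2 ∣ Nat.card Y := Subgroup.card_subgroup_dvd_card _
      rcases k with _ | k
      · simpa using hk
      · exfalso
        have h2 : 2 ∣ Nat.card Y := (by rw [hk, pow_succ]; exact dvd_mul_left _ _ : 2 ∣ Nat.card T2).trans hd
        exact (Nat.not_even_iff_odd.mpr hY) (even_iff_two_dvd.mpr h2)
    haveI : Subsingleton T2 := (Nat.card_eq_one_iff_unique.mp h1).1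
    exact ⟨⟨fun a b => Subsingleton.elim _ _⟩⟩))
  have hc : Subgroup.centralizer (Cfsg.pCore p Y : Set Y) ≤ Cfsg.pCore p Y := by
    have hFit : Cfsg.fittingSubgroup Y ≤ Cfsg.pCore p Y := by
      rw [Cfsg.Agent.Lib.Helper1.fitting_eq_iSup_pCore]
      apply iSup_le
      intro q
      by_cases hq : (q : ℕ) = p
      · rw [hq]
      · exact ((Cfsg.Agent.Lib.Helper1.pCore_le_pPrimeCore hpp q.2 hq).trans hO.le).trans bot_le
    exact (Subgroup.centralizer_le (SetLike.coe_subset_coe.mpr hFit)).trans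
      (Cfsg.Agent.Lib.Helper1.centralizer_fitting_le.trans hFit)
  obtain ⟨P, hPdef⟩ : ∃ P : Subgroup Y, P = Cfsg.pCore p Y := ⟨_, rfl⟩
  rw [← hPdef] at hc ⊢
  haveI hPn : P.Normal := by rw [hPdef]; exact Cfsg.Agent.Lib.Helper1.pCore_normal p
  have hPp : IsPGroup p P := by rw [hPdef]; exact pCore_isPGroup
  have hPT : P ≤ (T : Subgroup Y) := by rw [hPdef]; exact pCore_le_sylow T
  obtain ⟨N, hNdef⟩ : ∃ N : Subgroup Y, N = (frattini P).map P.subtype := ⟨_, rfl⟩
  haveI hNn : N.Normal := by rw [hNdef]; infer_instance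
  have hpowN : ∀ f ∈ P, f ^ p ∈ N := by
    intro f hf
    rw [hNdef]
    exact ⟨⟨f, hf⟩ ^ p, (Cfsg.Agent.S0012.result p hPp).2 ⟨f, hf⟩, rfl⟩
  -- the kernel of the action on P / Φ(P) is a p-group
  have hKp : IsPGroup p (Cfsg.sectionKernel P N) := by
    rintro ⟨g, hg⟩
    obtain ⟨m, r, hr, hmr⟩ := Nat.exists_eq_pow_mul_and_not_dvd (orderOf_pos g).ne' p hpp.ne_one
    refine ⟨m, Subtype.ext ?_⟩
    show g ^ p ^ m = 1
    have hgr : (g ^ p ^ m) ^ r = 1 := by rw [← pow_mul, ← hmr, pow_orderOf_eq_one]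
    have hcop : (Nat.card (Subgroup.zpowers (g ^ p ^ m))).Coprime p := by
      rw [Nat.card_zpowers]
      exact Nat.Coprime.coprime_dvd_left (orderOf_dvd_of_pow_eq_one hgr)
        ((Nat.Prime.coprime_iff_not_dvd hpp).mpr hr).symm
    have hle : Subgroup.zpowers (g ^ p ^ m) ≤ Cfsg.sectionKernel P N := by
      rw [Subgroup.zpowers_le]; exact Subgroup.pow_mem _ hg _
    have h1 : Subgroup.zpowers (g ^ p ^ m) ≤ Subgroup.centralizer (P : Set Y) := by
      apply Cfsg.Agent.S0029.result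
      · rw [Subgroup.normalizer_eq_top_iff.mpr hPn]; exact le_top
      · obtain ⟨k, hk⟩ := IsPGroup.iff_card.mp (hPp.to_subgroup (frattini P))
        rw [hk]
        exact Nat.Coprime.pow_right _ hcop
      · intro a ha k hk
        rw [← hNdef]
        have ha' := hle ha
        unfold Cfsg.sectionKernel at ha'
        rw [Subgroup.mem_comap, Subgroup.mem_centralizer_iff] at ha'
        have h2 := ha' (QuotientGroup.mk' N k) ⟨k, hk, rfl⟩
        rw [← QuotientGroup.eq_one_iff]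
        have : ((a * k * a⁻¹ * k⁻¹ : Y) : Y ⧸ N) = QuotientGroup.mk' N a * QuotientGroup.mk' N k *
          (QuotientGroup.mk' N a)⁻¹ * (QuotientGroup.mk' N k)⁻¹ := rfl
        rw [this, ← h2]
        group
    have h2 : g ^ p ^ m ∈ P := hc (h1 (Subgroup.mem_zpowers _))
    obtain ⟨j, hj⟩ := hPp ⟨_, h2⟩
    have hj' : (g ^ p ^ m) ^ p ^ j = 1 := congrArg Subtype.val hj
    have hd1 := orderOf_dvd_of_pow_eq_one hj'
    have hd2 := orderOf_dvd_of_pow_eq_one hgr
    have : orderOf (g ^ p ^ m) = 1 := Nat.eq_one_of_dvd_coprimes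
      (Nat.Coprime.pow_left j ((Nat.Prime.coprime_iff_not_dvd hpp).mpr hr)) hd1 hd2
    exact orderOf_eq_one_iff.mp this
  intro a ha
  -- quadratic action on P / Φ(P)
  obtain ⟨E, hEdef⟩ : ∃ E : Subgroup Y, E = ⁅(T : Subgroup Y), (T : Subgroup Y)⁆ ⊓ P := ⟨_, rfl⟩
  haveI hEc : IsCyclic E := by
    rw [hEdef]
    exact Subgroup.isCyclic_of_le (inf_le_left : _ ≤ ⁅(T : Subgroup Y), (T : Subgroup Y)⁆)
  have hEP : E ≤ P := by rw [hEdef]; exact inf_le_right
  have hEp : IsPGroup p E := hPp.to_le hEP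
  have hEn : ∀ b ∈ (T : Subgroup Y), ∀ e ∈ E, b * e * b⁻¹ ∈ E := by
    intro b hb e he
    rw [hEdef] at he ⊢
    refine ⟨?_, hPn.conj_mem e he.2 b⟩
    have heT : e ∈ (T : Subgroup Y) := hPT he.2
    have : b * e * b⁻¹ = ⁅b, e⁆ * e := by rw [commutatorElement_def]; group
    rw [this]
    exact Subgroup.mul_mem _ (Subgroup.commutator_mem_commutator hb heT) he.1
  have hza : Subgroup.zpowers a ≤ (T : Subgroup Y) := by rw [Subgroup.zpowers_le]; exact ha
  have hquad : ⁅⁅P, Subgroup.zpowers a⁆, Subgroup.zpowers a⁆ ≤ N := by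
    rw [Subgroup.commutator_le]
    intro e he b hb
    have heE : e ∈ E := by
      rw [hEdef]
      exact ⟨Subgroup.commutator_mono hPT hza he, Subgroup.commutator_le_left P _ he⟩
    obtain ⟨m, hm⟩ := T.2 ⟨b, hza hb⟩
    have hm' : b ^ p ^ m = 1 := congrArg Subtype.val hm
    obtain ⟨f, hf, hfe⟩ := cyc_comm E hEp b m hm' (hEn b (hza hb)) e heE
    rw [hfe]
    exact hpowN f (hEP hf)
  obtain ⟨D, hDn, hKD, ⟨k, hk⟩, haD⟩ := hQ.stableOnSection P N hPp a hquad
  have hDp : IsPGroup p D := by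
    obtain ⟨j, hj⟩ := IsPGroup.iff_card.mp hKp
    apply IsPGroup.of_card (n := j + k)
    have h1 := Subgroup.card_mul_index ((Cfsg.sectionKernel P N).subgroupOf D)
    rw [Nat.card_congr (Subgroup.subgroupOfEquivOfLe hKD).toEquiv, hj] at h1
    rw [← h1, pow_add]
    congr 1
  rw [hPdef]
  exact le_pCore hDn hDp haD

/-- Let X be a finite solvable group of odd order, p a prime and S a Sylow p-subgroup of X whose commutator subgroup is
cyclic. Then the product of the largest normal subgroup of X of order prime to p with S is a normal subgroup of X. -/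
theorem result {X : Type*} [Group X] [Finite X] [Group.IsSolvable X]
    (hX : Odd (Nat.card X)) (p : ℕ) [Fact p.Prime] (S : Sylow p X) (hS : IsCyclic (commutator (S : Subgroup X))) :
    (Cfsg.pPrimeCore p X ⊔ (S : Subgroup X)).Normal := by
  classical
  have hpp : p.Prime := Fact.out
  by_cases hp : p = 2
  · subst hp
    have h1 : (S : Subgroup X) = ⊥ := by
      obtain ⟨k, hk⟩ := IsPGroup.iff_card.mp S.2
      have hd : Nat.card S ∣ Nat.card X := Subgroup.card_subgroup_dvd_card _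
      rcases k with _ | k
      · exact Subgroup.card_eq_one.mp (by simpa using hk)
      · exfalso
        have h2 : 2 ∣ Nat.card X := (by rw [hk, pow_succ]; exact dvd_mul_left _ _ : 2 ∣ Nat.card S).trans hd
        exact (Nat.not_even_iff_odd.mpr hX) (even_iff_two_dvd.mpr h2)
    rw [h1, sup_bot_eq]
    infer_instance
  · have hsurj := QuotientGroup.mk'_surjective (Cfsg.pPrimeCore p X)
    haveI : Group.IsSolvable (X ⧸ Cfsg.pPrimeCore p X) := Group.isSolvable_of_surjective hsurj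
    have hodd : Odd (Nat.card (X ⧸ Cfsg.pPrimeCore p X)) :=
      Odd.of_dvd_nat hX (Subgroup.index_dvd_card (Cfsg.pPrimeCore p X))
    have hcyc : IsCyclic (⁅((S.mapSurjective hsurj : Sylow p _) : Subgroup (X ⧸ Cfsg.pPrimeCore p X)),
        ((S.mapSurjective hsurj : Sylow p _) : Subgroup (X ⧸ Cfsg.pPrimeCore p X))⁆ :
        Subgroup (X ⧸ Cfsg.pPrimeCore p X)) := by
      rw [Sylow.coe_mapSurjective, ← Subgroup.map_commutator, ← Subgroup.map_subtype_commutator,
        Subgroup.map_map]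
      exact isCyclic_of_surjective (((QuotientGroup.mk' (Cfsg.pPrimeCore p X)).comp
        (S : Subgroup X).subtype).subgroupMap (commutator (S : Subgroup X)))
        (MonoidHom.subgroupMap_surjective _ _)
    have h1 := core hodd p hp pPrimeCore_quot_pPrimeCore (S.mapSurjective hsurj) hcyc
    have h2 : ((S.mapSurjective hsurj : Sylow p _) : Subgroup (X ⧸ Cfsg.pPrimeCore p X))
        = Cfsg.pCore p _ := le_antisymm h1 (pCore_le_sylow _)
    rw [Sylow.coe_mapSurjective] at h2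
    have h3 : Cfsg.pPrimeCore p X ⊔ (S : Subgroup X) =
        ((S : Subgroup X).map (QuotientGroup.mk' (Cfsg.pPrimeCore p X))).comap
          (QuotientGroup.mk' (Cfsg.pPrimeCore p X)) := by
      rw [Subgroup.comap_map_eq, QuotientGroup.ker_mk', sup_comm]
    rw [h3, h2]
    haveI : (Cfsg.pCore p (X ⧸ Cfsg.pPrimeCore p X)).Normal := Cfsg.Agent.Lib.Helper1.pCore_normal p
    infer_instance

end Cfsg.Agent.S0521
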