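import Cfsg.Statements.S0536
import Mathlib
import Cfsg.Agent.S0046
import Cfsg.Agent.Lib.Helper23.Fitting

set_option autoImplicit false
open Cfsg

namespace Cfsg.Agent.S0536

universe u

open Subgroup

theorem all_sylow_normal {G : Type u} [Group G] [Finite G] (p : ℕ) [Fact p.Prime] (Q : Sylow p G)
    (hQ : (Q : Subgroup G).Normal) (P : Sylow p G) : (P : Subgroup G).Normal := by
  obtain ⟨g, hg⟩ := MulAction.exists_smul_eq G Q P
  rw [Sylow.smul_eq_of_normal] at hg
  rw [← hg]
  exact hQ

theorem exists_normal_prime_index {G : Type u} [Group G] [Finite G] [Group.IsSolvable G] [Nontrivial G] :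
    ∃ (M : Subgroup G) (p : ℕ), M.Normal ∧ p.Prime ∧ M.index = p := by
  have hlt := Group.IsSolvable.commutator_lt_top_of_nontrivial G
  obtain ⟨M, hM, hle⟩ := (eq_top_or_exists_le_coatom (commutator G)).resolve_left hlt.ne
  have hMn : M.Normal := by
    constructor
    intro n hn g
    have : g * n * g⁻¹ = (g * n * g⁻¹ * n⁻¹) * n := by group
    rw [this]
    apply mul_mem (hle _) hn
    rw [_root_.commutator_def]
    exact Subgroup.commutator_mem_commutator (mem_top g) (mem_top n)
  have h1 : M.index ≠ 1 := fun h => hM.1 (index_eq_one.mp h)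
  obtain ⟨p, hp, hpd⟩ := Nat.exists_prime_and_dvd h1
  have : Fact p.Prime := ⟨hp⟩
  rw [Subgroup.index_eq_card] at hpd
  obtain ⟨x, hx⟩ := exists_prime_orderOf_dvd_card' (G := G ⧸ M) p hpd
  have hsurj := QuotientGroup.mk'_surjective M
  have h2 : M < (zpowers x).comap (QuotientGroup.mk' M) := by
    refine lt_of_le_of_ne ?_ ?_
    · conv_lhs => rw [← QuotientGroup.ker_mk' M]
      exact ker_le_comap _ _
    · intro h'
      have := congrArg (map (QuotientGroup.mk' M)) h'
      rw [map_comap_eq_self_of_surjective hsurj, (Subgroup.map_eq_bot_iff _).mpr (QuotientGroup.ker_mk' M).ge] at this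
      have hx1 : x = 1 := zpowers_eq_bot.mp this.symm
      rw [hx1, orderOf_one] at hx
      exact hp.one_lt.ne hx
  have h3 := hM.2 _ h2
  have h4 : zpowers x = ⊤ := by
    have := congrArg (map (QuotientGroup.mk' M)) h3
    rwa [map_comap_eq_self_of_surjective hsurj, map_top_of_surjective _ hsurj] at this
  refine ⟨M, p, hMn, hp, ?_⟩
  rw [index_eq_card, ← hx, ← Nat.card_zpowers, h4, Subgroup.card_top]

theorem commute_of_nilpotent_sup {G : Type u} [Group G] [Finite G] {p q : ℕ} [Fact p.Prime] [Fact q.Prime]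
    (hpq : p ≠ q) (X Q : Subgroup G) (hX : IsPGroup p X) (hQ : IsPGroup q Q) [hQn : Q.Normal]
    (hnil : Group.IsNilpotent (X ⊔ Q : Subgroup G)) : ∀ x ∈ X, ∀ y ∈ Q, Commute x y := by
  intro x hx y hy
  obtain ⟨L, hL⟩ : ∃ L, L = X ⊔ Q := ⟨_, rfl⟩
  rw [← hL] at hnil
  have hXL : X ≤ L := hL ▸ le_sup_left
  have hQL : Q ≤ L := hL ▸ le_sup_right
  have hX' : IsPGroup p (X.subgroupOf L) := hX.comap_subtype
  obtain ⟨R, hR⟩ := hX'.exists_le_sylow
  have hRn : (R : Subgroup L).Normal := inferInstance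
  have hQ' : IsPGroup q (Q.subgroupOf L) := hQ.comap_subtype
  have hQn' : (Q.subgroupOf L).Normal := inferInstance
  have hdis := IsPGroup.disjoint_of_ne p q hpq _ _ R.2 hQ'
  have := Subgroup.commute_of_normal_of_disjoint _ _ hRn hQn' hdis ⟨x, hXL hx⟩ ⟨y, hQL hy⟩
    (hR (mem_subgroupOf.mpr hx)) (mem_subgroupOf.mpr hy)
  exact congrArg Subtype.val this

/-- Structure of minimal non-nilpotent groups: if a finite group is not nilpotent but all its proper subgroups are, then there are distinct primes p and q, a cyclic Sylow p-subgroup P and a normal Sylow q-subgroup Q with G generated by P and Q. -/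
theorem result {G : Type*} [Group G] [Finite G] (hG : Cfsg.IsMinimalNonNilpotent G) : ∃ p q : ℕ, p.Prime ∧ q.Prime ∧ p ≠ q ∧ ∃ (P : Sylow p G) (Q : Sylow q G), IsCyclic P ∧ (Q : Subgroup G).Normal ∧ (P : Subgroup G) ⊔ Q = ⊤ := by
  obtain ⟨hnn, hprop⟩ := hG
  have hsolv : Group.IsSolvable G := Cfsg.Agent.S0046.result (fun M hM => hprop M hM.1)
  have hnt : Nontrivial G := by
    by_contra hc
    rw [not_nontrivial_iff_subsingleton] at hc
    exact hnn inferInstance
  obtain ⟨M, p, hMn, hp, hidx⟩ := exists_normal_prime_index (G := G)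
  have hpF : Fact p.Prime := ⟨hp⟩
  have hMt : M ≠ ⊤ := by
    intro h
    rw [h, index_top] at hidx
    exact hp.one_lt.ne hidx
  have hMnil := hprop M hMt
  have hQnormal : ∀ (q : ℕ) [Fact q.Prime], q ≠ p → ∀ Q : Sylow q G, (Q : Subgroup G).Normal := by
    intro q _ hqp Q
    have hq : q.Prime := Fact.out
    have hQM : (Q : Subgroup G) ≤ M := by
      rw [← Subgroup.relIndex_eq_one]
      have d1 : M.relIndex Q ∣ p := hidx ▸ Subgroup.relIndex_dvd_index_of_normal M Q
      have d2 : M.relIndex Q ∣ Nat.card Q := Subgroup.relIndex_dvd_card M Q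
      obtain ⟨k, hk⟩ := IsPGroup.iff_card.mp Q.2
      rw [hk] at d2
      exact Nat.eq_one_of_dvd_coprimes (Nat.Coprime.pow_right k ((Nat.coprime_primes hp hq).mpr hqp.symm)) d1 d2
    have hchar : ((Q.subtype hQM : Sylow q M) : Subgroup M).Characteristic :=
      Sylow.characteristic_of_normal _ inferInstance
    have := ConjAct.normal_of_characteristic_of_normal (H := M)
      (K := ((Q.subtype hQM : Sylow q M) : Subgroup M))
    rw [Sylow.coe_subtype, Subgroup.subgroupOf_map_subtype, inf_eq_left.mpr hQM] at this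
    exact this
  obtain ⟨P⟩ : Nonempty (Sylow p G) := inferInstance
  have hPnn : ¬ (P : Subgroup G).Normal := by
    intro hPn
    apply hnn
    apply ((Group.isNilpotent_of_finite_tfae (G := G)).out 0 3).mpr
    intro r hr R
    by_cases hrp : r = p
    · subst hrp; exact all_sylow_normal r P hPn R
    · exact hQnormal r hrp R
  have hex : ∃ (q : ℕ) (_ : Fact q.Prime) (Q : Sylow q G), q ≠ p ∧ (P : Subgroup G) ⊔ Q = ⊤ := by
    by_contra hcon
    push Not at hcon
    apply hPnn
    rw [← Subgroup.normalizer_eq_top_iff]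
    apply Cfsg.Agent.Lib.Helper23.eq_top_of_forall_sylow_le
    intro r _
    by_cases hrp : r = p
    · subst hrp; exact ⟨P, le_normalizer⟩
    · obtain ⟨R⟩ : Nonempty (Sylow r G) := inferInstance
      refine ⟨R, ?_⟩
      have hRn := hQnormal r hrp R
      have hnil := hprop _ (hcon r inferInstance R hrp)
      have hc := commute_of_nilpotent_sup (p := p) (q := r) (Ne.symm hrp) (P : Subgroup G) (R : Subgroup G) P.2 R.2 (hQn := hRn) hnil
      refine le_trans ?_ (centralizer_le_normalizer _)
      intro y hy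
      rw [mem_centralizer_iff]
      intro x hx
      exact hc x hx y hy
  obtain ⟨q, hqF, Q, hqp, hPQ⟩ := hex
  have hQn := hQnormal q hqp Q
  refine ⟨p, q, hp, hqF.out, hqp.symm, P, Q, ?_, hQn, hPQ⟩
  by_contra hncyc
  apply hPnn
  rw [← normalizer_eq_top_iff, ← top_le_iff, ← hPQ]
  refine sup_le le_normalizer ?_
  refine le_trans ?_ (centralizer_le_normalizer _)
  intro y hy
  rw [mem_centralizer_iff]
  intro x hx
  have hxP : zpowers x ≤ P := zpowers_le.mpr hx
  have hne : zpowers x ⊔ Q ≠ ⊤ := by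
    intro htop
    apply hncyc
    have hdis : (P : Subgroup G) ⊓ Q = ⊥ := (IsPGroup.disjoint_of_ne p q hqp.symm _ _ P.2 Q.2).eq_bot
    rw [Subgroup.isCyclic_iff_exists_zpowers_eq_top]
    refine ⟨x, le_antisymm hxP ?_⟩
    intro z hz
    have hz' : z ∈ zpowers x ⊔ (Q : Subgroup G) := htop ▸ mem_top z
    rw [mem_sup_of_normal_right] at hz'
    obtain ⟨a, ha, b, hb, e⟩ := hz'
    have hb' : b ∈ (P : Subgroup G) ⊓ Q := by
      refine ⟨?_, hb⟩
      have : b = a⁻¹ * z := by rw [← e]; group
      rw [this]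
      exact (P : Subgroup G).mul_mem ((P : Subgroup G).inv_mem (hxP ha)) hz
    rw [hdis, mem_bot] at hb'
    rw [← e, hb', mul_one]
    exact ha
  have hnil := hprop _ hne
  exact commute_of_nilpotent_sup (p := p) (q := q) hqp.symm (zpowers x) (Q : Subgroup G) (P.2.to_le hxP) Q.2 (hQn := hQn) hnil x (mem_zpowers x) y hy

end Cfsg.Agent.S0536
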