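import Cfsg.Statements.S0593
import Cfsg.Agent.Lib.Helper5.QP6

set_option autoImplicit false
open Cfsg

namespace Cfsg.Agent.S0593

/-- For odd p, a faithful group on an elementary abelian p-group generated by two quadratically acting elements is a p-group or has non-abelian Sylow 2-subgroups. -/
theorem result {G : Type*} [Group G] [Finite G] {p : ℕ} [Fact p.Prime] (hp : p ≠ 2) (V H : Subgroup G) (hV : Cfsg.IsElementaryAbelian p V) (hHV : H ≤ Subgroup.normalizer (V : Set G)) (hf : H ⊓ Subgroup.centralizer (V : Set G) = ⊥) (a b : G) (hab : H = Subgroup.closure {a, b}) (ha : ⁅⁅V, Subgroup.zpowers a⁆, Subgroup.zpowers a⁆ = ⊥) (hb : ⁅⁅V, Subgroup.zpowers b⁆, Subgroup.zpowers b⁆ = ⊥) (hnp : ¬ IsPGroup p H) (T : Sylow 2 H) : ¬ IsMulCommutative T := by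
  open Cfsg.Agent.Lib.Helper5 in
  intro hT
  obtain ⟨K, i1, i2, i3, l, π, hl, h1, h2⟩ := quad_pair_normalizer (p := p) V hV.1 hV.2 H hHV a b
    hab ha hb (by
      intro h
      apply hnp
      rintro ⟨g, hg⟩
      obtain ⟨n, hn⟩ := h g hg
      refine ⟨n, Subtype.ext ?_⟩
      have : g ^ p ^ n ∈ H ⊓ Subgroup.centralizer (V : Set G) :=
        Subgroup.mem_inf.mpr ⟨pow_mem hg _, hn⟩
      rw [hf, Subgroup.mem_bot] at this
      simpa using this)
  have hsurj : Function.Surjective π.rangeRestrict := π.rangeRestrict_surjective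
  refine sylow2_not_comm (p := p) hp π.range l hl h1 h2 (T.mapSurjective hsurj) ?_
  rintro _ ⟨s, hs, rfl⟩ _ ⟨t, ht, rfl⟩
  rw [← map_mul, ← map_mul]
  exact congrArg _ (congrArg Subtype.val (hT.is_comm.comm ⟨s, hs⟩ ⟨t, ht⟩))

end Cfsg.Agent.S0593
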