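import Cfsg.Statements.S0594
import Cfsg.Agent.Lib.Helper5.QF2

set_option autoImplicit false
open Cfsg

namespace Cfsg.Agent.S0594

/-- For odd p, two quadratic generators of a faithful group that is not a p-group, one of which acts nontrivially on a normal subgroup of order prime to p, force p = 3 and a section isomorphic to SL(2,3). -/
theorem result {G : Type*} [Group G] [Finite G] {p : ℕ} [Fact p.Prime] (hp : p ≠ 2) (V H : Subgroup G) (hV : Cfsg.IsElementaryAbelian p V) (hHV : H ≤ Subgroup.normalizer (V : Set G)) (hf : H ⊓ Subgroup.centralizer (V : Set G) = ⊥) (a b : G) (hab : H = Subgroup.closure {a, b}) (ha : ⁅⁅V, Subgroup.zpowers a⁆, Subgroup.zpowers a⁆ = ⊥) (hb : ⁅⁅V, Subgroup.zpowers b⁆, Subgroup.zpowers b⁆ = ⊥) (hnp : ¬ IsPGroup p H) (Q : Subgroup G) (hQH : Q ≤ H) (hQn : H ≤ Subgroup.normalizer (Q : Set G)) (hQ : (Nat.card Q).Coprime p) (hQa : ⁅Q, Subgroup.zpowers a⁆ ≠ ⊥) : p = 3 ∧ ∃ (K L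 : Subgroup G) (hL : (L.subgroupOf K).Normal), K ≤ H ∧ Nonempty ((K ⧸ L.subgroupOf K) ≃* Matrix.SpecialLinearGroup (Fin 2) (ZMod 3)) := by
  classical
  have haH : a ∈ H := hab ▸ Subgroup.subset_closure (by simp)
  have hpp : p.Prime := Fact.out
  -- an element of `Q` moved by `a`
  obtain ⟨q, hq, hq2⟩ : ∃ q ∈ Q, a * q * a⁻¹ ≠ q := by
    by_contra hcon
    push Not at hcon
    apply hQa
    rw [Subgroup.commutator_eq_bot_iff_le_centralizer]
    intro r hr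
    rw [Subgroup.mem_centralizer_iff]
    intro h hh
    obtain ⟨i, rfl⟩ := Subgroup.mem_zpowers_iff.mp hh
    have h1 : a * r = r * a := mul_inv_eq_iff_eq_mul.mp (hcon r hr)
    exact (show Commute a r from h1).zpow_left i
  have haq : a * q * a⁻¹ ∈ Q := (Subgroup.mem_normalizer_iff.mp (hQn haH) q).mp hq
  obtain ⟨c, hc⟩ : ∃ c : G, c = a * q * a⁻¹ * q⁻¹ := ⟨_, rfl⟩
  have hcQ : c ∈ Q := by rw [hc]; exact Q.mul_mem haq (Q.inv_mem hq)
  have hcH : c ∈ H := hQH hcQ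
  have hc1 : c ≠ 1 := by
    intro h
    rw [hc] at h
    exact hq2 (mul_inv_eq_one.mp h)
  have hnpc : ¬ ∃ n : ℕ, c ^ p ^ n ∈ Subgroup.centralizer (V : Set G) := by
    rintro ⟨n, hn⟩
    have h1 : c ^ p ^ n ∈ H ⊓ Subgroup.centralizer (V : Set G) := ⟨H.pow_mem hcH _, hn⟩
    rw [hf, Subgroup.mem_bot] at h1
    have h2 : c ^ Nat.card Q = 1 := by
      have := pow_card_eq_one' (G := Q) (x := ⟨c, hcQ⟩)
      exact congrArg Subtype.val this
    apply hc1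
    rw [← orderOf_eq_one_iff]
    exact Nat.eq_one_of_dvd_coprimes (Nat.Coprime.pow_right n hQ)
      (orderOf_dvd_of_pow_eq_one h2) (orderOf_dvd_of_pow_eq_one h1)
  obtain ⟨K, i1, i2, i3, l, π, hl, hπa, hπc⟩ :=
    Cfsg.Agent.Lib.Helper5.quad_pair_normalizer_elt (p := p) V hV.1 hV.2 H hHV a b hab ha hb haH c hcH
      hnpc
  obtain ⟨a', ha'⟩ : ∃ a' : Matrix.SpecialLinearGroup (Fin 2) K, a' = π ⟨a, haH⟩ := ⟨_, rfl⟩
  obtain ⟨R, hR⟩ : ∃ R : Subgroup (Matrix.SpecialLinearGroup (Fin 2) K),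
    R = (Q.subgroupOf H).map π := ⟨_, rfl⟩
  have hRcop : (Nat.card R).Coprime p := by
    have h1 : Nat.card R ∣ Nat.card Q := by
      rw [hR, ← Nat.card_congr (Subgroup.subgroupOfEquivOfLe hQH).toEquiv]
      exact Subgroup.card_map_dvd _ _
    exact Nat.Coprime.coprime_dvd_left h1 hQ
  have hap : a' ^ p = 1 := by rw [ha', hπa]; exact Cfsg.Agent.Lib.Helper5.tU_pow_char l
  have hpg : IsPGroup p (Subgroup.zpowers a') := by
    rintro ⟨g, hg⟩
    obtain ⟨i, rfl⟩ := Subgroup.mem_zpowers_iff.mp hg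
    refine ⟨1, Subtype.ext ?_⟩
    show (a' ^ i) ^ p ^ 1 = 1
    rw [pow_one, ← zpow_natCast, ← zpow_mul, mul_comm, zpow_mul, zpow_natCast, hap, one_zpow]
  have hnorm : a' ∈ Subgroup.normalizer (R : Set (Matrix.SpecialLinearGroup (Fin 2) K)) := by
    rw [hR, ha']
    apply Subgroup.le_normalizer_map π
    refine ⟨⟨a, haH⟩, ?_, rfl⟩
    rw [SetLike.mem_coe, Subgroup.mem_normalizer_iff]
    intro h
    rw [Subgroup.mem_subgroupOf, Subgroup.mem_subgroupOf]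
    exact Subgroup.mem_normalizer_iff.mp (hQn haH) h
  have hnt : ∃ r ∈ R, a' * r * a'⁻¹ ≠ r := by
    refine ⟨π ⟨q, hQH hq⟩, ?_, ?_⟩
    · rw [hR]
      exact ⟨⟨q, hQH hq⟩, Subgroup.mem_subgroupOf.mpr hq, rfl⟩
    · intro h
      apply hπc
      have e : (⟨c, hcH⟩ : H) = ⟨a, haH⟩ * ⟨q, hQH hq⟩ * ⟨a, haH⟩⁻¹ * ⟨q, hQH hq⟩⁻¹ :=
        Subtype.ext hc
      rw [e, map_mul, map_mul, map_mul, map_inv, map_inv, ← ha', h, mul_inv_cancel]
  obtain ⟨hp3, -, ⟨e⟩⟩ := Cfsg.Agent.Lib.Helper5.sl2_normalizing hp a' hpg R hRcop hnorm hnt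
  refine ⟨hp3, ?_⟩
  apply Cfsg.Agent.Lib.Helper5.section_of_range H π
    ((R ⊔ Subgroup.zpowers a').subtype.comp e.symm.toMonoidHom)
  · exact (Subgroup.subtype_injective _).comp e.symm.injective
  · rintro _ ⟨x, rfl⟩
    have h1 : R ⊔ Subgroup.zpowers a' ≤ π.range := by
      apply sup_le
      · rw [hR]; exact Subgroup.map_le_range _ _
      · rw [Subgroup.zpowers_le, ha']; exact ⟨_, rfl⟩
    exact h1 (Subtype.property _)

end Cfsg.Agent.S0594
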