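import Cfsg.Statements.S0595
import Cfsg.Agent.Lib.Helper5.QP6
import Cfsg.Agent.S0593

set_option autoImplicit false
open Cfsg

namespace Cfsg.Agent.S0595

/-- For odd p, a faithful action on an elementary abelian p-group that is not p-stable forces non-abelian Sylow 2-subgroups. -/
theorem result {G : Type*} [Group G] [Finite G] {p : ℕ} [Fact p.Prime] (hp : p ≠ 2) (V H : Subgroup G) (hV : Cfsg.IsElementaryAbelian p V) (hHV : H ≤ Subgroup.normalizer (V : Set G)) (hf : H ⊓ Subgroup.centralizer (V : Set G) = ⊥) (a : G) (haH : a ∈ H) (hq : ⁅⁅V, Subgroup.zpowers a⁆, Subgroup.zpowers a⁆ = ⊥) (hna : a ∉ (Cfsg.pCore p H).map H.subtype) (T : Sylow 2 H) : ¬ IsMulCommutative T := by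
  open Cfsg.Agent.Lib.Helper5 in
  intro hT
  apply hna
  obtain ⟨N, hN, hNp, hDN⟩ := Cfsg.Agent.Lib.Helper22.bs_normal (p := p)
    {d : H | ∃ h : H, d = h * ⟨a, haH⟩ * h⁻¹}
    (by
      rintro g' _ ⟨g, rfl⟩
      exact ⟨g' * g, by group⟩)
    (by
      rintro _ ⟨h₁, rfl⟩ _ ⟨h₂, rfl⟩
      by_contra hnp
      obtain ⟨H₀, hH₀⟩ : ∃ H₀ : Subgroup G, H₀ = Subgroup.closure
        {(h₁ : G) * a * (h₁ : G)⁻¹, (h₂ : G) * a * (h₂ : G)⁻¹} := ⟨_, rfl⟩
      have hmap : (Subgroup.closure {h₁ * ⟨a, haH⟩ * h₁⁻¹, h₂ * ⟨a, haH⟩ * h₂⁻¹}).map H.subtype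
          = H₀ := by
        rw [MonoidHom.map_closure, Set.image_pair, hH₀]
        rfl
      have hH₀H : H₀ ≤ H := hmap ▸ Subgroup.map_subtype_le _
      have hnp' : ¬ IsPGroup p H₀ := by
        intro h
        apply hnp
        rw [← hmap] at h
        exact h.of_equiv (Subgroup.equivMapOfInjective _ _ H.subtype_injective).symm
      obtain ⟨T₀⟩ : Nonempty (Sylow 2 H₀) := inferInstance
      refine Cfsg.Agent.S0593.result hp V H₀ hV (hH₀H.trans hHV)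
        (le_bot_iff.mp (hf ▸ inf_le_inf_right _ hH₀H)) _ _ hH₀
        (quad_conj_normalizer V _ (hHV h₁.2) hq) (quad_conj_normalizer V _ (hHV h₂.2) hq) hnp' T₀ ?_
      have h2 : IsPGroup 2 (((T₀ : Subgroup H₀).map H₀.subtype).subgroupOf H) :=
        (T₀.2.map _).comap_subtype
      obtain ⟨T', hT'⟩ := h2.exists_le_sylow
      have hT'c := sylow_comm_of_sylow_comm T hT T'
      refine ⟨⟨?_⟩⟩
      rintro ⟨s, hs⟩ ⟨t, ht⟩
      have hs' : (⟨(s : G), hH₀H s.2⟩ : H) ∈ (T' : Subgroup H) :=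
        hT' (Subgroup.mem_subgroupOf.mpr ⟨s, hs, rfl⟩)
      have ht' : (⟨(t : G), hH₀H t.2⟩ : H) ∈ (T' : Subgroup H) :=
        hT' (Subgroup.mem_subgroupOf.mpr ⟨t, ht, rfl⟩)
      have h3 := hT'c.is_comm.comm ⟨_, hs'⟩ ⟨_, ht'⟩
      have h4 := congrArg (fun z : (T' : Subgroup H) => ((z : H) : G)) h3
      exact Subtype.ext (Subtype.ext h4))
  exact ⟨⟨a, haH⟩, le_pCore hN hNp (hDN ⟨1, by simp⟩), rfl⟩

end Cfsg.Agent.S0595
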