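import Cfsg.Statements.S0596
import Cfsg.Agent.Lib.Helper5.DK13

set_option autoImplicit false
open Cfsg

namespace Cfsg.Agent.S0596

/-- For odd p, a p-separable group with a faithful action on an elementary abelian p-group that is not p-stable has p = 3 and involves SL(2,3). -/
theorem result {G : Type*} [Group G] [Finite G] {p : ℕ} [Fact p.Prime] (hp : p ≠ 2) (V H : Subgroup G) (hV : Cfsg.IsElementaryAbelian p V) (hHV : H ≤ Subgroup.normalizer (V : Set G)) (hf : H ⊓ Subgroup.centralizer (V : Set G) = ⊥) (hsep : Cfsg.IsPSolvable p H) (a : G) (haH : a ∈ H) (hq : ⁅⁅V, Subgroup.zpowers a⁆, Subgroup.zpowers a⁆ = ⊥) (hna : a ∉ (Cfsg.pCore p H).map H.subtype) : p = 3 ∧ ∃ (K L : Subgroup G) (hL : (L.subgroupOf K).Normal), K ≤ H ∧ Nonempty ((K ⧸ L.subgroupOf K) ≃* Matrix.SpecialLinearGroup (Fin 2) (ZMod 3)) := by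
  have hsec : ∃ (K L : Subgroup G) (_ : (L.subgroupOf K).Normal), K ≤ H ∧
      Nonempty ((K ⧸ L.subgroupOf K) ≃* Matrix.SpecialLinearGroup (Fin 2) (ZMod p)) := by
    by_contra hfree
    have hQ := Cfsg.Agent.Lib.Helper5.qFree_of_no_section hp H hfree
    obtain ⟨N, hN, hxN, hNp⟩ := hQ.stable_ext hp V H (Cfsg.Agent.Lib.Helper5.elemAb_isPGroup hV) hHV
      a haH hq
    have hNpg : IsPGroup p N := by
      intro n
      obtain ⟨k, hk⟩ := hNp n.1 n.2
      refine ⟨k, ?_⟩
      have h1 : (n.1 : G) ^ (p ^ k) ∈ H ⊓ Subgroup.centralizer (V : Set G) :=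
        ⟨H.pow_mem n.1.2 _, hk⟩
      rw [hf, Subgroup.mem_bot] at h1
      apply Subtype.ext
      apply Subtype.ext
      simpa using h1
    exact hna ⟨⟨a, haH⟩, Cfsg.Agent.Lib.Helper5.le_pCore hN hNpg hxN, rfl⟩
  have hp3 : p = 3 := by
    by_contra h3
    have h5 : 5 ≤ p := by
      have h2 := (Fact.out : p.Prime).two_le
      have h4 : p ≠ 4 := by
        intro h4
        have := (Fact.out : p.Prime)
        rw [h4] at this
        exact absurd this (by norm_num)
      omega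
    obtain ⟨K, L, hL, hKH, ⟨e⟩⟩ := hsec
    apply Cfsg.Agent.Lib.Helper5.not_isPSolvable_sl2 h5
    have hK : Cfsg.IsPSolvable p K :=
      Cfsg.Agent.Lib.Helper5.isPSolvable_of_surjective (Subgroup.subgroupOfEquivOfLe hKH).toMonoidHom
        (Subgroup.subgroupOfEquivOfLe hKH).surjective
        (Cfsg.Agent.Lib.Helper5.isPSolvable_subgroup (K.subgroupOf H) hsep)
    exact Cfsg.Agent.Lib.Helper5.isPSolvable_of_surjective
      (e.toMonoidHom.comp (QuotientGroup.mk' _))
      (e.surjective.comp (QuotientGroup.mk'_surjective _)) hK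
  subst hp3
  exact ⟨rfl, hsec⟩

end Cfsg.Agent.S0596
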