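import Cfsg.Statements.S0609
import Mathlib
import Cfsg.Agent.Lib.Helper5.Thomp2
import Cfsg.Agent.Lib.Helper5.PPrimeQuot
import Cfsg.Agent.Lib.Helper13.Sec
import Cfsg.Agent.Lib.Helper13.SecLift

set_option autoImplicit false
open Cfsg

namespace Cfsg.Agent.S0609

theorem exists_sylow_map {G : Type*} [Group G] [Finite G] {p : ℕ} [Fact p.Prime] (N : Subgroup G)
    [N.Normal] (T : Sylow p (G ⧸ N)) :
    ∃ S : Sylow p G, (S : Subgroup G).map (QuotientGroup.mk' N) = T := by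
  obtain ⟨S₀⟩ : Nonempty (Sylow p G) := inferInstance
  have hs := QuotientGroup.mk'_surjective N
  obtain ⟨y', hy'⟩ := MulAction.exists_smul_eq (G ⧸ N) (S₀.mapSurjective hs) T
  obtain ⟨y, rfl⟩ := hs y'
  refine ⟨y • S₀, ?_⟩
  rw [← hy', Sylow.coe_subgroup_smul, Sylow.coe_subgroup_smul, Sylow.coe_mapSurjective]
  ext x
  constructor
  · rintro ⟨_, ⟨s, hs, rfl⟩, rfl⟩
    refine ⟨QuotientGroup.mk' N s, ⟨s, hs, rfl⟩, ?_⟩
    show QuotientGroup.mk' N y * QuotientGroup.mk' N s * (QuotientGroup.mk' N y)⁻¹ =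
      QuotientGroup.mk' N (y * s * y⁻¹)
    rw [map_mul, map_mul, map_inv]
  · rintro ⟨_, ⟨s, hs, rfl⟩, rfl⟩
    refine ⟨y * s * y⁻¹, ⟨s, hs, rfl⟩, ?_⟩
    show QuotientGroup.mk' N (y * s * y⁻¹) =
      QuotientGroup.mk' N y * QuotientGroup.mk' N s * (QuotientGroup.mk' N y)⁻¹
    rw [map_mul, map_mul, map_inv]

/-- Thompson factorizability passes to and from the quotient by the largest normal subgroup of order prime to p. -/
theorem result {G : Type*} [Group G] [Finite G] {p : ℕ} [Fact p.Prime] : Cfsg.IsThompsonFactorizable p G ↔ Cfsg.IsThompsonFactorizable p (G ⧸ Cfsg.pPrimeCore p G) := by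
  classical
  have hK := Cfsg.Agent.Lib.Helper10.pPrimeCore_mem p G
  have hNc : (Nat.card (Cfsg.pPrimeCore p G)).Coprime p := hK.2
  have hs := QuotientGroup.mk'_surjective (Cfsg.pPrimeCore p G)
  have hKc : (Nat.card (QuotientGroup.mk' (Cfsg.pPrimeCore p G)).ker).Coprime p := by
    rw [QuotientGroup.ker_mk']; exact hNc
  have hinj : ∀ S : Sylow p G, ∀ x ∈ (S : Subgroup G),
      QuotientGroup.mk' (Cfsg.pPrimeCore p G) x = 1 → x = 1 := fun S x hx h1 =>
    Cfsg.Agent.Lib.Helper13.eq_of_map_eq_of_coprime _ hKc S.2 hx (one_mem _) (by rw [h1, map_one])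
  have hJ : ∀ S : Sylow p G,
      Cfsg.thompsonSubgroupOf p ((S : Subgroup G).map (QuotientGroup.mk' (Cfsg.pPrimeCore p G))) =
      (Cfsg.thompsonSubgroupOf p (S : Subgroup G)).map (QuotientGroup.mk' (Cfsg.pPrimeCore p G)) := by
    intro S
    exact Cfsg.Agent.Lib.Helper13.induced_map (Cfsg.Agent.Lib.Helper5.jE_char (p := p))
      (QuotientGroup.mk' (Cfsg.pPrimeCore p G)) (S : Subgroup G) S.2 (hinj S)
  have hZ : ∀ S : Sylow p G,
      ((S : Subgroup G).map (QuotientGroup.mk' (Cfsg.pPrimeCore p G))) ⊓ Subgroup.centralizer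
        (((S : Subgroup G).map (QuotientGroup.mk' (Cfsg.pPrimeCore p G)) : Subgroup _) : Set _) =
      ((S : Subgroup G) ⊓ Subgroup.centralizer ((S : Subgroup G) : Set G)).map
        (QuotientGroup.mk' (Cfsg.pPrimeCore p G)) := by
    intro S
    have := Cfsg.Agent.Lib.Helper13.induced_map (Cfsg.Agent.Lib.Helper5.zF_char (p := p))
      (QuotientGroup.mk' (Cfsg.pPrimeCore p G)) (S : Subgroup G) S.2 (hinj S)
    rwa [Cfsg.Agent.Lib.Helper5.iF_zF, Cfsg.Agent.Lib.Helper5.iF_zF] at this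
  have hΩ : ∀ S : Sylow p G,
      Cfsg.omegaOne p (((S : Subgroup G).map (QuotientGroup.mk' (Cfsg.pPrimeCore p G))) ⊓
        Subgroup.centralizer
        (((S : Subgroup G).map (QuotientGroup.mk' (Cfsg.pPrimeCore p G)) : Subgroup _) : Set _)) =
      (Cfsg.omegaOne p ((S : Subgroup G) ⊓ Subgroup.centralizer ((S : Subgroup G) : Set G))).map
        (QuotientGroup.mk' (Cfsg.pPrimeCore p G)) := by
    intro S
    rw [hZ]
    apply le_antisymm
    · unfold Cfsg.omegaOne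
      rw [Subgroup.closure_le]
      rintro _ ⟨⟨h, hh, rfl⟩, hy⟩
      refine Subgroup.mem_map_of_mem _ (Subgroup.subset_closure ⟨hh, ?_⟩)
      apply hinj S _ ((S : Subgroup G).pow_mem hh.1 p)
      rw [map_pow]; exact hy
    · exact Cfsg.Agent.Lib.Helper5.omegaOne_map_le _ _
  have hbot : Cfsg.pPrimeCore p (G ⧸ Cfsg.pPrimeCore p G) = ⊥ :=
    Cfsg.Agent.Lib.Helper5.pPrimeCore_quot_pPrimeCore
  constructor
  · intro hF T g'
    obtain ⟨S, hS⟩ := exists_sylow_map (Cfsg.pPrimeCore p G) T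
    obtain ⟨g, rfl⟩ := hs g'
    obtain ⟨x, hx, c, hc, n, hn, rfl⟩ := hF S g
    refine ⟨1, one_mem _, QuotientGroup.mk' _ c, ?_, QuotientGroup.mk' _ n, ?_, ?_⟩
    · rw [← hS, hΩ, Subgroup.mem_centralizer_iff]
      rintro _ ⟨z, hz, rfl⟩
      rw [← map_mul, ← map_mul, Subgroup.mem_centralizer_iff.mp hc z hz]
    · rw [← hS, hJ]
      exact Subgroup.le_normalizer_map _ ⟨n, hn, rfl⟩
    · have hx1 : QuotientGroup.mk' (Cfsg.pPrimeCore p G) x = 1 := by
        rw [← MonoidHom.mem_ker, QuotientGroup.ker_mk']; exact hx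
      rw [one_mul, map_mul, map_mul, hx1, one_mul]
  · intro hF S g
    obtain ⟨x', hx', c', hc', n', hn', h⟩ := hF (S.mapSurjective hs) (QuotientGroup.mk' _ g)
    rw [hbot, Subgroup.mem_bot] at hx'
    subst hx'
    rw [Sylow.coe_mapSurjective, hΩ] at hc'
    rw [Sylow.coe_mapSurjective, hJ] at hn'
    obtain ⟨c0, rfl⟩ := hs c'
    obtain ⟨n0, rfl⟩ := hs n'
    have hp1 : IsPGroup p ↥(Cfsg.omegaOne p ((S : Subgroup G) ⊓
        Subgroup.centralizer ((S : Subgroup G) : Set G))) :=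
      S.2.to_le ((Cfsg.Agent.Lib.Helper5.omegaOne_le _).trans inf_le_left)
    have hp2 : IsPGroup p ↥(Cfsg.thompsonSubgroupOf p (S : Subgroup G)) :=
      S.2.to_le (Cfsg.Agent.Lib.Helper13.induced_le (W := Cfsg.Agent.Lib.Helper5.jE p) (S : Subgroup G))
    obtain ⟨c, hc, hcc⟩ := Cfsg.Agent.Lib.Helper5.exists_mem_centralizer_of_quot hNc hp1 hc'
    obtain ⟨n, hn, hnn⟩ := Cfsg.Agent.Lib.Helper5.exists_mem_normalizer_of_quot hNc hp2 hn'
    refine ⟨g * (c * n)⁻¹, ?_, c, hc, n, hn, by group⟩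
    rw [← QuotientGroup.ker_mk' (Cfsg.pPrimeCore p G), MonoidHom.mem_ker, map_mul, map_inv, map_mul,
      hcc, hnn, h, one_mul, mul_inv_cancel]

end Cfsg.Agent.S0609
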