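import Cfsg.Statements.S0627
import Cfsg.Agent.Lib.Helper5.DK14

set_option autoImplicit false
open Cfsg

namespace Cfsg.Agent.S0627

/-- In a p-separable group with p at least 5, the normalizer of W(S) supplements the largest normal subgroup of order prime to p. -/
theorem result {G : Type*} [Group G] [Finite G] {p : ℕ} [Fact p.Prime] (hp : 5 ≤ p) (hsep : Cfsg.IsPSolvable p G) (S : Sylow p G) : Cfsg.pPrimeCore p G ⊔ Subgroup.normalizer (((Cfsg.stableNormalClosure p ↥(S : Subgroup G)).map (S : Subgroup G).subtype) : Set G) = ⊤ := by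
  open Cfsg.Agent.Lib.Helper5 in
  have hs := QuotientGroup.mk'_surjective (Cfsg.pPrimeCore p G)
  have hsol := isPSolvable_of_surjective _ hs hsep
  have hst := (qFree_of_isPSolvable hp hsol).actionPStable
  have hc := centralizer_pCore_le hsol pPrimeCore_quot_pPrimeCore
  have hn := ws_normal hst hc (S.mapSurjective hs)
  refine sup_normalizer_iF_eq_top ws_char S ?_
  have h1 : (Cfsg.inducedFunctor (Cfsg.stableNormalClosure p)
      ((S.mapSurjective hs : Sylow p (G ⧸ Cfsg.pPrimeCore p G)) :
        Subgroup (G ⧸ Cfsg.pPrimeCore p G))).Normal := hn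
  rwa [Sylow.coe_mapSurjective] at h1

end Cfsg.Agent.S0627
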