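import Cfsg.Statements.S0637
import Cfsg.Agent.S0128

set_option autoImplicit false
open Cfsg

namespace Cfsg.Agent.S0637

universe u

open Cfsg.Agent.Lib.Helper22.Class3 in
theorem pow_hom {W : Type*} [Group W] {p : ℕ} (hpp : p.Prime) (hp : 3 < p)
    (hcl : ⁅⁅commutator W, (⊤ : Subgroup W)⁆, (⊤ : Subgroup W)⁆ = ⊥)
    (hc : ∀ w g : W, w ^ p * g = g * w ^ p) (u v : W) : (u * v) ^ p = u ^ p * v ^ p := by
  obtain ⟨c, d, e, h, -, -, -⟩ := rel_of_class3 hcl u v
  have h2 : p ∣ p.choose 2 := hpp.dvd_choose_self (by norm_num) (by omega)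
  have h3 : p ∣ p.choose 3 := hpp.dvd_choose_self (by norm_num) hp
  have hd : d ^ p = 1 := by
    have := h.c_xpow p
    rw [hc u c] at this
    exact (mul_eq_left.mp this.symm)
  have he : e ^ p = 1 := by
    have := h.c_ypow p
    rw [hc v c] at this
    exact (mul_eq_left.mp this.symm)
  have hcp : c ^ p = 1 := by
    have := h.ypow_x p
    rw [hc v u, pow_eq_one_of_dvd he h2, mul_one] at this
    exact (mul_eq_left.mp this.symm)
  rw [h.mul_pow p, pow_eq_one_of_dvd hcp h2, pow_eq_one_of_dvd hd h3,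
    pow_eq_one_of_dvd he (Dvd.dvd.add h2 (Dvd.dvd.mul_left h3 2))]
  simp

theorem card_le_mul {R : Type*} [Group R] [Finite R] {p : ℕ} [Fact p.Prime] (hp : 3 < p)
    (T W : Subgroup R) (hTc : T ≤ Subgroup.center R) (hTp : Nat.card T = p)
    (hcl : ⁅⁅commutator ↥W, (⊤ : Subgroup ↥W)⁆, (⊤ : Subgroup ↥W)⁆ = ⊥)
    (hpow : ∀ w ∈ W, w ^ p ∈ T) :
    Nat.card W ≤ p * Nat.card ↥(Cfsg.omegaOne p (⊤ : Subgroup R)) := by
  have hpp : p.Prime := Fact.out
  have hc : ∀ w g : ↥W, w ^ p * g = g * w ^ p := by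
    intro w g
    apply Subtype.ext
    have := Subgroup.mem_center_iff.mp (hTc (hpow w w.2)) (g : R)
    simpa using this.symm
  let f : ↥W →* ↥T := MonoidHom.mk' (fun w => ⟨(w : R) ^ p, hpow w w.2⟩) (by
    intro a b
    apply Subtype.ext
    have := congrArg Subtype.val (pow_hom hpp hp hcl hc a b)
    simpa using this)
  have h1 : Nat.card f.ker * f.ker.index = Nat.card W := Subgroup.card_mul_index f.ker
  rw [Subgroup.index_ker] at h1
  have h2 : Nat.card f.range ≤ p := hTp ▸ Subgroup.card_le_card_group f.range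
  have h3 : Nat.card f.ker ≤ Nat.card ↥(Cfsg.omegaOne p (⊤ : Subgroup R)) := by
    apply Nat.card_le_card_of_injective
      (fun w : f.ker => (⟨((w : ↥W) : R), Subgroup.subset_closure ⟨Subgroup.mem_top _, by
        have := congrArg Subtype.val (MonoidHom.mem_ker.mp w.2)
        simpa [f] using this⟩⟩ : ↥(Cfsg.omegaOne p (⊤ : Subgroup R))))
    intro a b hab
    have := congrArg Subtype.val hab
    exact Subtype.ext (Subtype.ext this)
  rw [← h1, mul_comm]
  exact Nat.mul_le_mul h2 h3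

theorem card_comap_mk {R : Type*} [Group R] [Finite R] (T : Subgroup R) [T.Normal]
    (H : Subgroup (R ⧸ T)) :
    Nat.card (H.comap (QuotientGroup.mk' T)) = Nat.card T * Nat.card H := by
  have h1 := Subgroup.index_comap_of_surjective H (QuotientGroup.mk'_surjective T)
  have h2 := Subgroup.card_mul_index (H.comap (QuotientGroup.mk' T))
  have h3 := Subgroup.card_mul_index H
  have h4 := Subgroup.card_eq_card_quotient_mul_card_subgroup T
  rw [h1, h4, ← h3] at h2
  have hpos : 0 < H.index := Nat.pos_of_ne_zero Subgroup.index_ne_zero_of_finite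
  apply Nat.eq_of_mul_eq_mul_right hpos
  rw [h2]; ring

theorem class3_of_card_le {W : Type*} [Group W] [Finite W] {p : ℕ} [Fact p.Prime]
    (hW : IsPGroup p W) (hc : Nat.card W ≤ p ^ 4) :
    ⁅⁅commutator W, (⊤ : Subgroup W)⁆, (⊤ : Subgroup W)⁆ = ⊥ := by
  have hpp : p.Prime := Fact.out
  haveI : Group.IsNilpotent W := hW.isNilpotent
  obtain ⟨m, hm⟩ := IsPGroup.iff_card.mp hW
  have hm4 : m ≤ 4 := by
    rw [hm] at hc
    exact (Nat.pow_le_pow_iff_right hpp.one_lt).1 hc
  by_cases hm1 : 1 < m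
  · have hc3 : Group.nilpotencyClass W ≤ 3 :=
      (Cfsg.Agent.S0063.result p m hm hm1).trans (by omega)
    have h3 := Subgroup.lowerCentralSeries_eq_bot_iff_nilpotencyClass_le.mpr hc3
    rw [commutator_def]; exact h3
  · have hd : Nat.card W ∣ p := by
      rw [hm]
      calc p ^ m ∣ p ^ 1 := pow_dvd_pow p (by omega)
        _ = p := pow_one p
    haveI : IsCyclic W := isCyclic_of_card_dvd_prime hd
    have : commutator W = ⊥ := by
      rw [commutator_eq_bot_iff_center_eq_top, Subgroup.center_eq_top_iff]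
      infer_instance
    rw [this, Subgroup.commutator_bot_left, Subgroup.commutator_bot_left]

theorem class2_of_comm_mem {R : Type*} [Group R] (T W : Subgroup R) (hTc : T ≤ Subgroup.center R)
    (h : ∀ u ∈ W, ∀ v ∈ W, u * v * u⁻¹ * v⁻¹ ∈ T) :
    ⁅⁅commutator ↥W, (⊤ : Subgroup ↥W)⁆, (⊤ : Subgroup ↥W)⁆ = ⊥ := by
  have h1 : ⁅commutator ↥W, (⊤ : Subgroup ↥W)⁆ = ⊥ := by
    rw [Subgroup.commutator_eq_bot_iff_le_centralizer, Subgroup.coe_top, Subgroup.centralizer_univ,
      commutator_def, Subgroup.commutator_le]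
    intro u _ v _
    rw [Subgroup.mem_center_iff]
    intro g
    apply Subtype.ext
    have := Subgroup.mem_center_iff.mp (hTc (h u u.2 v v.2)) (g : R)
    simpa [commutatorElement_def] using this
  rw [h1, Subgroup.commutator_bot_left]

theorem omega_set {Q : Type*} [Group Q] (p : ℕ) :
    Cfsg.omegaOne p (⊤ : Subgroup Q) = Subgroup.closure {x : Q | x ^ p = 1} := by
  unfold Cfsg.omegaOne
  congr 1
  ext x
  simp

/-- the case of a central subgroup of order `p`. -/
theorem central_case {R : Type*} [Group R] [Finite R] {p : ℕ} [Fact p.Prime] (hp : 3 < p)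
    (hR : IsPGroup p R) (hO : Nat.card ↥(Cfsg.omegaOne p (⊤ : Subgroup R)) ≤ p ^ 2)
    (T : Subgroup R) [T.Normal] (hTc : T ≤ Subgroup.center R) (hTp : Nat.card T = p) :
    Nat.card ↥(Cfsg.omegaOne p (⊤ : Subgroup (R ⧸ T))) ≤ p ^ 2 := by
  have hpp : p.Prime := Fact.out
  have hQ : IsPGroup p (R ⧸ T) := hR.to_quotient T
  have hmem : ∀ w : R, (w : R ⧸ T) ^ p = 1 → w ^ p ∈ T := by
    intro w hw
    rw [← QuotientGroup.mk_pow, QuotientGroup.eq_one_iff] at hw
    exact hw
  have hrk : ∀ E : Subgroup (R ⧸ T), Cfsg.IsElementaryAbelian p E → Nat.card E ≤ p ^ 2 := by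
    intro E hE
    set W := E.comap (QuotientGroup.mk' T) with hW
    have hcl : ⁅⁅commutator ↥W, (⊤ : Subgroup ↥W)⁆, (⊤ : Subgroup ↥W)⁆ = ⊥ := by
      apply class2_of_comm_mem T W hTc
      intro u hu v hv
      rw [← QuotientGroup.eq_one_iff]
      have hcomm : (u : R ⧸ T) * (v : R ⧸ T) = (v : R ⧸ T) * (u : R ⧸ T) :=
        (Subgroup.le_centralizer_iff_isMulCommutative.mpr hE.1) hv _ hu
      simp only [QuotientGroup.mk_mul, QuotientGroup.mk_inv]
      rw [hcomm]
      group
    have h1 := card_le_mul hp T W hTc hTp hcl (fun w hw => hmem w (hE.2 _ hw))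
    rw [hW, card_comap_mk, hTp] at h1
    have h2 := Nat.le_of_mul_le_mul_left h1 hpp.pos
    exact h2.trans hO
  set Ω := Cfsg.omegaOne p (⊤ : Subgroup (R ⧸ T)) with hΩ
  have hexp : ∀ g ∈ Ω, g ^ p = 1 := by
    intro g hg
    rw [hΩ, omega_set] at hg
    exact Cfsg.Agent.S0128.result hp hQ hrk g hg
  have hc3 : Nat.card Ω ≤ p ^ 3 := Cfsg.Agent.S0128.card_le_cube (by omega) (hQ.to_subgroup Ω)
    (fun w => Subtype.ext (hexp w w.2)) (Cfsg.Agent.S0128.rank_sub hrk Ω)
  set W := Ω.comap (QuotientGroup.mk' T) with hW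
  have hWc : Nat.card W = p * Nat.card Ω := by rw [hW, card_comap_mk, hTp]
  have hcl : ⁅⁅commutator ↥W, (⊤ : Subgroup ↥W)⁆, (⊤ : Subgroup ↥W)⁆ = ⊥ := by
    apply class3_of_card_le (hR.to_subgroup W)
    rw [hWc]
    calc p * Nat.card Ω ≤ p * p ^ 3 := Nat.mul_le_mul_left p hc3
      _ = p ^ 4 := by ring
  have h1 := card_le_mul hp T W hTc hTp hcl (fun w hw => hmem w (hexp _ hw))
  rw [hWc] at h1
  exact (Nat.le_of_mul_le_mul_left h1 hpp.pos).trans hO

theorem iso_card {G H : Type*} [Group G] [Group H] (p : ℕ) (φ : G ≃* H) :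
    Nat.card ↥(Cfsg.omegaOne p (⊤ : Subgroup G)) = Nat.card ↥(Cfsg.omegaOne p (⊤ : Subgroup H)) := by
  have h1 : (Cfsg.omegaOne p (⊤ : Subgroup G)).map φ.toMonoidHom = Cfsg.omegaOne p (⊤ : Subgroup H) := by
    rw [omega_set, omega_set, MonoidHom.map_closure]
    congr 1
    ext y
    constructor
    · rintro ⟨x, hx, rfl⟩
      show (φ x) ^ p = 1
      rw [← map_pow, show x ^ p = 1 from hx, map_one]
    · intro hy
      refine ⟨φ.symm y, ?_, by simp⟩
      show (φ.symm y) ^ p = 1
      rw [← map_pow, show y ^ p = 1 from hy, map_one]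
  rw [← h1]
  exact Nat.card_congr (Subgroup.equivMapOfInjective _ φ.toMonoidHom φ.injective).toEquiv

theorem exists_central_ne_one {R : Type*} [Group R] [Finite R] [Group.IsNilpotent R] :
    ∀ (n : ℕ) (T : Subgroup R), T.Normal → Nat.card T ≤ n → T ≠ ⊥ →
      T ⊓ Subgroup.center R ≠ ⊥ := by
  intro n
  induction n with
  | zero =>
    intro T _ hc
    exact absurd (Nat.card_pos (α := T)) (by omega)
  | succ n ih =>
    intro T hTn hc hT
    haveI := hTn
    set K : Subgroup R := ⁅T, (⊤ : Subgroup R)⁆ with hK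
    have hKT : K ≤ T := Subgroup.commutator_le_left T ⊤
    have hKne : K ≠ T := Cfsg.Agent.S0129.comm_top_ne T hT
    by_cases hK0 : K = ⊥
    · have : T ≤ Subgroup.center R := by
        rw [hK, Subgroup.commutator_eq_bot_iff_le_centralizer, Subgroup.coe_top,
          Subgroup.centralizer_univ] at hK0
        exact hK0
      rw [inf_eq_left.mpr this]
      exact hT
    · have hlt : Nat.card K < Nat.card T := by
        by_contra hcon
        exact hKne (Subgroup.eq_of_le_of_card_ge hKT (not_lt.mp hcon))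
      have := ih K (Subgroup.commutator_normal T ⊤) (by omega) hK0
      intro h0
      apply this
      rw [eq_bot_iff, ← h0]
      exact inf_le_inf_right _ hKT

theorem exists_central_sub {R : Type*} [Group R] [Finite R] {p : ℕ} [Fact p.Prime]
    (hR : IsPGroup p R) (T : Subgroup R) (hTn : T.Normal) (hT : T ≠ ⊥) :
    ∃ T₁ : Subgroup R, T₁ ≤ T ∧ T₁ ≤ Subgroup.center R ∧ Nat.card T₁ = p := by
  have hpp : p.Prime := Fact.out
  haveI : Group.IsNilpotent R := hR.isNilpotent
  have h1 := exists_central_ne_one (Nat.card T) T hTn le_rfl hT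
  set Z := T ⊓ Subgroup.center R with hZ
  obtain ⟨k, hk⟩ := IsPGroup.iff_card.mp (hR.to_subgroup Z)
  have hk0 : k ≠ 0 := by
    intro h0
    rw [h0, pow_zero, Subgroup.card_eq_one] at hk
    exact h1 hk
  have hdvd : p ∣ Nat.card Z := by rw [hk]; exact dvd_pow_self p hk0
  obtain ⟨g, hg⟩ := exists_prime_orderOf_dvd_card' p hdvd
  refine ⟨Subgroup.zpowers (g : R), ?_, ?_, ?_⟩
  · exact Subgroup.zpowers_le.mpr g.2.1
  · exact Subgroup.zpowers_le.mpr g.2.2
  · rw [Nat.card_zpowers, Subgroup.orderOf_coe, hg]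

theorem main {p : ℕ} [Fact p.Prime] (hp : 3 < p) : ∀ (n : ℕ) (R : Type u) [Group R] [Finite R],
    Nat.card R ≤ n → IsPGroup p R → Nat.card ↥(Cfsg.omegaOne p (⊤ : Subgroup R)) ≤ p ^ 2 →
    ∀ (T : Subgroup R) [T.Normal], Nat.card ↥(Cfsg.omegaOne p (⊤ : Subgroup (R ⧸ T))) ≤ p ^ 2 := by
  have hpp : p.Prime := Fact.out
  intro n
  induction n with
  | zero =>
    intro R _ _ hc
    exact absurd (Nat.card_pos (α := R)) (by omega)
  | succ n ih =>
    intro R _ _ hc hR hO T hTn
    by_cases hT : T = ⊥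
    · subst hT
      rw [iso_card p (QuotientGroup.quotientBot (G := R))]
      exact hO
    · obtain ⟨T₁, hT₁T, hT₁c, hT₁p⟩ := exists_central_sub hR T hTn hT
      haveI : T₁.Normal := by
        constructor
        intro t ht g
        have := Subgroup.mem_center_iff.mp (hT₁c ht) g
        rw [this, mul_inv_cancel_right]
        exact ht
      have h1 := central_case hp hR hO T₁ hT₁c hT₁p
      have hlt : Nat.card (R ⧸ T₁) < Nat.card R := by
        have := Subgroup.card_eq_card_quotient_mul_card_subgroup T₁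
        rw [hT₁p] at this
        have hpos : 0 < Nat.card (R ⧸ T₁) := Nat.card_pos
        have := hpp.two_le
        nlinarith
      have h2 := ih (R ⧸ T₁) (by omega) (hR.to_quotient T₁) h1 (T.map (QuotientGroup.mk' T₁))
      rw [iso_card p (QuotientGroup.quotientQuotientEquivQuotient T₁ T hT₁T)] at h2
      exact h2

/-- For p greater than 3, the bound p² on the order of the subgroup generated by the elements of order dividing p passes from a p-group to all its quotients. -/
theorem result {R : Type*} [Group R] [Finite R] {p : ℕ} [Fact p.Prime] (hp : 3 < p) (hR : IsPGroup p R) (hO : Nat.card ↥(Cfsg.omegaOne p (⊤ : Subgroup R)) ≤ p ^ 2) (T : Subgroup R) [T.Normal] : Nat.card ↥(Cfsg.omegaOne p (⊤ : Subgroup (R ⧸ T))) ≤ p ^ 2 := by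
  exact main hp (Nat.card R) R le_rfl hR hO T

end Cfsg.Agent.S0637
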