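import Cfsg.Statements.S0639
import Cfsg.Agent.S0637
import Cfsg.Agent.S3977
import Cfsg.Agent.S0123
import Cfsg.Agent.S3807

set_option autoImplicit false
open Cfsg

namespace Cfsg.Agent.S0639

universe u

theorem normal_of_commutator_le {R : Type*} [Group R] (E : Subgroup R) (hE : commutator R ≤ E) :
    E.Normal := by
  constructor
  intro e he g
  have h1 := Subgroup.commutator_mem_commutator (Subgroup.mem_top g) (Subgroup.mem_top e)
  rw [← commutator_def, commutatorElement_def] at h1
  have := E.mul_mem (hE h1) he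
  simpa using this

/-- a non-cyclic `p`-group (`p` odd) with multiplicative `p`-power map has at least `p^2` solutions
of `x^p = 1`. -/
theorem card_ker_ge {Q : Type*} [Group Q] [Finite Q] {p : ℕ} [Fact p.Prime] (hp2 : p ≠ 2)
    (hQ : IsPGroup p Q) (g : Q →* Q) (hg : ∀ q, g q = q ^ p) (hnc : ¬ IsCyclic Q) :
    p ^ 2 ≤ Nat.card g.ker := by
  have hpp : p.Prime := Fact.out
  obtain ⟨j, hj⟩ := IsPGroup.iff_card.mp (hQ.to_subgroup g.ker)
  rw [hj]
  apply Nat.pow_le_pow_right hpp.pos
  by_contra hcon
  have hj1 : j ≤ 1 := by omega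
  apply hnc
  obtain ⟨m, hm⟩ := IsPGroup.iff_card.mp hQ
  by_cases hm1 : 1 < m
  · apply Cfsg.Agent.S3977.result p m 1 hpp hm le_rfl hm1 (Or.inl hp2)
    have key : ∀ H : Subgroup Q, Nat.card H = p ^ 1 → H = g.ker := by
      intro H hH
      have hle : H ≤ g.ker := by
        intro h hh
        rw [MonoidHom.mem_ker, hg]
        have := pow_card_eq_one' (G := H) (x := ⟨h, hh⟩)
        rw [hH, pow_one] at this
        exact congrArg Subtype.val this
      apply Subgroup.eq_of_le_of_card_ge hle
      rw [hH, hj]
      exact Nat.pow_le_pow_right hpp.pos hj1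
    intro H K hH hK
    rw [key H hH, key K hK]
  · have hd : Nat.card Q ∣ p := by
      rw [hm]
      calc p ^ m ∣ p ^ 1 := pow_dvd_pow p (by omega)
        _ = p := pow_one p
    exact isCyclic_of_card_dvd_prime hd

theorem lemmaP {R : Type*} [Group R] [Finite R] {p : ℕ} [Fact p.Prime] (hp2 : p ≠ 2)
    (hR : IsPGroup p R) (hmul : ∀ u v : R, (u * v) ^ p = u ^ p * v ^ p)
    (hO : Nat.card ↥(Cfsg.omegaOne p (⊤ : Subgroup R)) ≤ p ^ 2)
    (u₀ : R) (hu₀ : commutator R ≤ Subgroup.zpowers u₀) : Cfsg.IsMetacyclic R := by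
  classical
  have hpp : p.Prime := Fact.out
  haveI := Fintype.ofFinite R
  obtain ⟨u, hu, hmax⟩ := Finset.exists_max_image
    (Finset.univ.filter (fun u : R => commutator R ≤ Subgroup.zpowers u)) orderOf
    ⟨u₀, by simpa using hu₀⟩
  have hu' : commutator R ≤ Subgroup.zpowers u := by simpa using hu
  have hmax' : ∀ w : R, commutator R ≤ Subgroup.zpowers w → orderOf w ≤ orderOf u := by
    intro w hw
    exact hmax w (by simpa using hw)
  set M := Subgroup.zpowers u with hM
  haveI hMn : M.Normal := normal_of_commutator_le M hu'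
  refine ⟨M, hMn, inferInstance, ?_⟩
  by_contra hnc
  let g : (R ⧸ M) →* (R ⧸ M) := MonoidHom.mk' (fun q => q ^ p) (by
    intro a b
    obtain ⟨a, rfl⟩ := QuotientGroup.mk_surjective a
    obtain ⟨b, rfl⟩ := QuotientGroup.mk_surjective b
    rw [← QuotientGroup.mk_mul, ← QuotientGroup.mk_pow, hmul]
    simp)
  have hker := card_ker_ge hp2 (hR.to_quotient M) g (fun q => rfl) hnc
  set V := g.ker.comap (QuotientGroup.mk' M) with hV
  have hVc : Nat.card V = Nat.card M * Nat.card g.ker := Cfsg.Agent.S0637.card_comap_mk M g.ker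
  have hVM : ∀ v ∈ V, v ^ p ∈ M := by
    intro v hv
    have h1 : ((v : R ⧸ M)) ^ p = 1 := hv
    rw [← QuotientGroup.mk_pow, QuotientGroup.eq_one_iff] at h1
    exact h1
  let h : ↥V →* ↥M := MonoidHom.mk' (fun v => ⟨(v : R) ^ p, hVM v v.2⟩) (by
    intro a b
    apply Subtype.ext
    simpa using hmul (a : R) (b : R))
  have h1 : Nat.card h.ker * h.ker.index = Nat.card V := Subgroup.card_mul_index h.ker
  rw [Subgroup.index_ker] at h1
  have h3 : Nat.card h.ker ≤ Nat.card ↥(Cfsg.omegaOne p (⊤ : Subgroup R)) := by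
    apply Nat.card_le_card_of_injective
      (fun w : h.ker => (⟨((w : ↥V) : R), Subgroup.subset_closure ⟨Subgroup.mem_top _, by
        have := congrArg Subtype.val (MonoidHom.mem_ker.mp w.2)
        simpa [h] using this⟩⟩ : ↥(Cfsg.omegaOne p (⊤ : Subgroup R))))
    intro a b hab
    have := congrArg Subtype.val hab
    exact Subtype.ext (Subtype.ext this)
  have h4 : Nat.card M ≤ Nat.card h.range := by
    have h5 : Nat.card M * p ^ 2 ≤ p ^ 2 * Nat.card h.range := by
      calc Nat.card M * p ^ 2 ≤ Nat.card M * Nat.card g.ker := Nat.mul_le_mul_left _ hker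
        _ = Nat.card h.ker * Nat.card h.range := by rw [← hVc, h1]
        _ ≤ p ^ 2 * Nat.card h.range := Nat.mul_le_mul_right _ (h3.trans hO)
    rw [mul_comm] at h5
    exact Nat.le_of_mul_le_mul_left h5 (pow_pos hpp.pos 2)
  have h6 : h.range = ⊤ := Subgroup.eq_top_of_card_eq _
    (le_antisymm (Subgroup.card_le_card_group _) h4)
  have h7 : (⟨u, Subgroup.mem_zpowers u⟩ : ↥M) ∈ h.range := h6 ▸ Subgroup.mem_top _
  obtain ⟨v, hv⟩ := h7
  have hvu : (v : R) ^ p = u := congrArg Subtype.val hv
  have hle : M ≤ Subgroup.zpowers (v : R) := by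
    rw [hM, Subgroup.zpowers_le, ← hvu]
    exact Subgroup.npow_mem_zpowers _ _
  have hord := hmax' (v : R) (hu'.trans hle)
  by_cases hv1 : (v : R) = 1
  · have hu1 : u = 1 := by rw [← hvu, hv1, one_pow]
    have hall : ∀ w : R, w = 1 := by
      intro w
      have h8 : commutator R ≤ Subgroup.zpowers w := by
        refine hu'.trans ?_
        rw [hM, hu1, Subgroup.zpowers_one_eq_bot]
        exact bot_le
      have := hmax' w h8
      rw [hu1, orderOf_one] at this
      have hpos : 0 < orderOf w := orderOf_pos w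
      exact orderOf_eq_one_iff.mp (by omega)
    haveI : Subsingleton R := ⟨fun a b => by rw [hall a, hall b]⟩
    exact hnc inferInstance
  · obtain ⟨k, hk⟩ := (hR (v : R))
    have hdv : p ∣ orderOf (v : R) := by
      obtain ⟨j, hj, hjo⟩ := (Nat.dvd_prime_pow hpp).1 (orderOf_dvd_of_pow_eq_one hk)
      rw [hjo]
      apply dvd_pow_self
      intro h0
      rw [h0, pow_zero, orderOf_eq_one_iff] at hjo
      exact hv1 hjo
    have h9 := orderOf_pow_of_dvd hpp.ne_zero hdv
    rw [hvu] at h9
    have hpos : 0 < orderOf (v : R) := orderOf_pos _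
    have : orderOf (v : R) / p < orderOf (v : R) := Nat.div_lt_self hpos hpp.one_lt
    omega

theorem phi_range_gen {S : Type*} [Group S]
    (A : Subgroup S) (hAn : A.Normal) (hA : IsMulCommutative ↥A)
    {s : S} (hgen : ∀ D : Subgroup S, A ≤ D → s ∈ D → D = ⊤) :
    (Cfsg.Agent.S3807.phi A hAn hA s).range.map A.subtype = commutator S := by
  set N := (Cfsg.Agent.S3807.phi A hAn hA s).range.map A.subtype with hN
  have hc := Subgroup.le_centralizer_iff_isMulCommutative.mpr hA
  have hmem : ∀ a ∈ A, a * (s * a⁻¹ * s⁻¹) ∈ N :=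
    fun a ha => ⟨Cfsg.Agent.S3807.phi A hAn hA s ⟨a, ha⟩, ⟨⟨a, ha⟩, rfl⟩, rfl⟩
  have hNA : N ≤ A := Subgroup.map_subtype_le _
  have hform : ∀ n ∈ N, ∃ a ∈ A, n = a * (s * a⁻¹ * s⁻¹) := by
    rintro n ⟨_, ⟨a, rfl⟩, rfl⟩
    exact ⟨a, a.2, rfl⟩
  have hconj : ∀ g : S, g * s = s * g → ∀ n ∈ N, g * n * g⁻¹ ∈ N := by
    intro g hg n hn
    obtain ⟨a, ha, rfl⟩ := hform n hn
    have := hmem (g * a * g⁻¹) (hAn.conj_mem a ha g)
    convert this using 1
    have hg' : g⁻¹ * s⁻¹ = s⁻¹ * g⁻¹ := by rw [← mul_inv_rev, ← mul_inv_rev, hg]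
    calc g * (a * (s * a⁻¹ * s⁻¹)) * g⁻¹ = g * a * s * a⁻¹ * (s⁻¹ * g⁻¹) := by group
      _ = g * a * s * a⁻¹ * (g⁻¹ * s⁻¹) := by rw [hg']
      _ = g * a * (g⁻¹ * (g * s)) * a⁻¹ * g⁻¹ * s⁻¹ := by group
      _ = g * a * (g⁻¹ * (s * g)) * a⁻¹ * g⁻¹ * s⁻¹ := by rw [hg]
      _ = g * a * g⁻¹ * (s * (g * a * g⁻¹)⁻¹ * s⁻¹) := by group
  have hnorm : ∀ g : S, (∀ n ∈ N, g * n * g⁻¹ ∈ N) → (∀ n ∈ N, g⁻¹ * n * g⁻¹⁻¹ ∈ N) →
      g ∈ Subgroup.normalizer (N : Set S) := by
    intro g h1 h2
    rw [Subgroup.mem_normalizer_iff]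
    intro n
    constructor
    · exact h1 n
    · intro hn
      have := h2 _ hn
      simpa [mul_assoc] using this
  have hNn : N.Normal := by
    rw [← Subgroup.normalizer_eq_top_iff]
    refine hgen _ ?_ ?_
    · have hb : ∀ b ∈ A, ∀ n ∈ N, b * n * b⁻¹ ∈ N := by
        intro b hb n hn
        have h1 : n * b = b * n := hc hb n (hNA hn)
        have : b * n * b⁻¹ = n := by rw [← h1]; group
        rw [this]; exact hn
      intro b hb'
      exact hnorm b (hb b hb') (hb b⁻¹ (A.inv_mem hb'))
    · exact hnorm s (hconj s rfl) (hconj s⁻¹ (by group))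
  apply le_antisymm
  · intro n hn
    obtain ⟨a, ha, rfl⟩ := hform n hn
    have := Subgroup.commutator_mem_commutator (Subgroup.mem_top a) (Subgroup.mem_top s)
    rw [commutatorElement_def] at this
    rw [commutator_def]
    convert this using 1
    group
  · have hs_c : ∀ y : S, (y : S ⧸ N) * (s : S ⧸ N) = (s : S ⧸ N) * (y : S ⧸ N) := by
      have htop : (Subgroup.centralizer ({(s : S ⧸ N)} : Set (S ⧸ N))).comap (QuotientGroup.mk' N) = ⊤ := by
        refine hgen _ ?_ ?_
        · intro a ha
          rw [Subgroup.mem_comap, Subgroup.mem_centralizer_singleton_iff]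
          show (a : S ⧸ N) * (s : S ⧸ N) = (s : S ⧸ N) * (a : S ⧸ N)
          rw [← QuotientGroup.mk_mul, ← QuotientGroup.mk_mul, QuotientGroup.eq_iff_div_mem]
          have := hmem a ha
          convert this using 1
          rw [div_eq_mul_inv]
          group
        · rw [Subgroup.mem_comap, Subgroup.mem_centralizer_singleton_iff]
          rfl
      intro y
      have hy : y ∈ (Subgroup.centralizer ({(s : S ⧸ N)} : Set (S ⧸ N))).comap (QuotientGroup.mk' N) :=
        htop ▸ Subgroup.mem_top y
      rw [Subgroup.mem_comap, Subgroup.mem_centralizer_singleton_iff] at hy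
      exact hy
    have ha_c : ∀ a ∈ A, ∀ y : S, (y : S ⧸ N) * (a : S ⧸ N) = (a : S ⧸ N) * (y : S ⧸ N) := by
      intro a ha
      have htop : (Subgroup.centralizer ({(a : S ⧸ N)} : Set (S ⧸ N))).comap (QuotientGroup.mk' N) = ⊤ := by
        refine hgen _ ?_ ?_
        · intro b hb
          rw [Subgroup.mem_comap, Subgroup.mem_centralizer_singleton_iff]
          show (b : S ⧸ N) * (a : S ⧸ N) = (a : S ⧸ N) * (b : S ⧸ N)
          rw [← QuotientGroup.mk_mul, ← QuotientGroup.mk_mul, hc ha b hb]
        · rw [Subgroup.mem_comap, Subgroup.mem_centralizer_singleton_iff]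
          exact (hs_c a).symm
      intro y
      have hy : y ∈ (Subgroup.centralizer ({(a : S ⧸ N)} : Set (S ⧸ N))).comap (QuotientGroup.mk' N) :=
        htop ▸ Subgroup.mem_top y
      rw [Subgroup.mem_comap, Subgroup.mem_centralizer_singleton_iff] at hy
      exact hy
    have hall : ∀ x y : S, (y : S ⧸ N) * (x : S ⧸ N) = (x : S ⧸ N) * (y : S ⧸ N) := by
      have htop : (Subgroup.center (S ⧸ N)).comap (QuotientGroup.mk' N) = ⊤ := by
        refine hgen _ ?_ ?_
        · intro a ha
          rw [Subgroup.mem_comap, Subgroup.mem_center_iff]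
          intro q
          obtain ⟨y, rfl⟩ := QuotientGroup.mk_surjective q
          exact ha_c a ha y
        · rw [Subgroup.mem_comap, Subgroup.mem_center_iff]
          intro q
          obtain ⟨y, rfl⟩ := QuotientGroup.mk_surjective q
          exact hs_c y
      intro x y
      have hx : x ∈ (Subgroup.center (S ⧸ N)).comap (QuotientGroup.mk' N) := htop ▸ Subgroup.mem_top x
      rw [Subgroup.mem_comap, Subgroup.mem_center_iff] at hx
      exact hx y
    rw [commutator_def, Subgroup.commutator_le]
    intro x _ y _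
    rw [← QuotientGroup.eq_one_iff, commutatorElement_def]
    simp only [QuotientGroup.mk_mul, QuotientGroup.mk_inv]
    rw [hall y x]
    group


theorem main {p : ℕ} [Fact p.Prime] (hp : 3 < p) : ∀ (n : ℕ) (R : Type u) [Group R] [Finite R],
    Nat.card R ≤ n → IsPGroup p R → Nat.card ↥(Cfsg.omegaOne p (⊤ : Subgroup R)) ≤ p ^ 2 →
    Cfsg.IsMetacyclic R := by
  have hpp : p.Prime := Fact.out
  have hp2 : p ≠ 2 := by omega
  intro n
  induction n with
  | zero =>
    intro R _ _ hc
    exact absurd (Nat.card_pos (α := R)) (by omega)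
  | succ n ih =>
    intro R _ _ hc hR hO
    by_cases hab : commutator R = ⊥
    · apply lemmaP hp2 hR ?_ hO 1 (hab ▸ bot_le)
      intro u v
      have huv : Commute u v := by
        have h1 := Subgroup.commutator_mem_commutator (Subgroup.mem_top u) (Subgroup.mem_top v)
        rw [← commutator_def, hab, Subgroup.mem_bot, commutatorElement_def] at h1
        show u * v = v * u
        have : u * v = (u * v * u⁻¹ * v⁻¹) * (v * u) := by group
        rw [this, h1, one_mul]
      exact huv.mul_pow p
    · obtain ⟨T, hTle, hTc, hTp⟩ :=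
        Cfsg.Agent.S0637.exists_central_sub hR (commutator R) inferInstance hab
      haveI hTn : T.Normal := by
        constructor
        intro t ht g
        have := Subgroup.mem_center_iff.mp (hTc ht) g
        rw [this, mul_inv_cancel_right]
        exact ht
      have h1 := Cfsg.Agent.S0637.central_case hp hR hO T hTc hTp
      have hlt : Nat.card (R ⧸ T) < Nat.card R := by
        have := Subgroup.card_eq_card_quotient_mul_card_subgroup T
        rw [hTp] at this
        have hpos : 0 < Nat.card (R ⧸ T) := Nat.card_pos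
        have := hpp.two_le
        nlinarith
      obtain ⟨Nb, hNbn, hNbc, hQc⟩ := ih (R ⧸ T) (by omega) (hR.to_quotient T) h1
      haveI := hNbn
      set N := Nb.comap (QuotientGroup.mk' T) with hN
      haveI hNn : N.Normal := hNbn.comap _
      have hTN : T ≤ N := by
        intro t ht
        show ((t : R ⧸ T)) ∈ Nb
        rw [(QuotientGroup.eq_one_iff t).mpr ht]
        exact Nb.one_mem
      have hRN : IsCyclic (R ⧸ N) := by
        let ψ : (R ⧸ T) →* (R ⧸ N) := QuotientGroup.map T N (MonoidHom.id R) hTN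
        have hψ : ∀ r : R, ψ (r : R ⧸ T) = (r : R ⧸ N) := fun r => rfl
        let Ψ : ((R ⧸ T) ⧸ Nb) →* (R ⧸ N) := QuotientGroup.lift Nb ψ (by
          intro q hq
          obtain ⟨r, rfl⟩ := QuotientGroup.mk_surjective q
          rw [MonoidHom.mem_ker, hψ, QuotientGroup.eq_one_iff]
          exact hq)
        haveI := hQc
        apply isCyclic_of_surjective Ψ
        intro q
        obtain ⟨r, rfl⟩ := QuotientGroup.mk_surjective q
        exact ⟨((r : R ⧸ T) : (R ⧸ T) ⧸ Nb), rfl⟩
      by_cases hNc : IsCyclic N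
      · exact ⟨N, hNn, hNc, hRN⟩
      · obtain ⟨yb, hyb⟩ := hNbc.exists_generator
        obtain ⟨y, hy⟩ := QuotientGroup.mk_surjective (yb : R ⧸ T)
        have hyN : y ∈ N := by
          show (y : R ⧸ T) ∈ Nb
          rw [hy]; exact yb.2
        obtain ⟨xb, hxb⟩ := hRN.exists_generator
        obtain ⟨x, rfl⟩ := QuotientGroup.mk_surjective xb
        have hgen : ∀ D : Subgroup R, N ≤ D → x ∈ D → D = ⊤ := by
          intro D hND hxD
          rw [eq_top_iff]
          intro r _
          obtain ⟨k, hk⟩ := Subgroup.mem_zpowers_iff.mp (hxb (r : R ⧸ N))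
          rw [← QuotientGroup.mk_zpow, QuotientGroup.eq] at hk
          have := D.mul_mem (D.zpow_mem hxD k) (hND hk)
          simpa using this
        have hdecomp : ∀ n ∈ N, ∃ k : ℤ, (y ^ k)⁻¹ * n ∈ T := by
          intro n hn
          obtain ⟨k, hk⟩ := Subgroup.mem_zpowers_iff.mp (hyb ⟨(n : R ⧸ T), hn⟩)
          refine ⟨k, ?_⟩
          have hk' : (y : R ⧸ T) ^ k = (n : R ⧸ T) := by
            rw [hy]
            have := congrArg Subtype.val hk
            simpa using this
          rw [← QuotientGroup.mk_zpow, QuotientGroup.eq] at hk'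
          exact hk'
        have hcen : ∀ t ∈ T, ∀ g : R, Commute g t := fun t ht g => Subgroup.mem_center_iff.mp (hTc ht) g
        have hNab : IsMulCommutative ↥N := by
          rw [← Subgroup.le_centralizer_iff_isMulCommutative]
          intro a ha b hb
          obtain ⟨k, hk⟩ := hdecomp a ha
          obtain ⟨l, hl⟩ := hdecomp b hb
          have ha' : a = y ^ k * ((y ^ k)⁻¹ * a) := by group
          have hb' : b = y ^ l * ((y ^ l)⁻¹ * b) := by group
          have c1 : Commute (y ^ l) (y ^ k * ((y ^ k)⁻¹ * a)) :=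
            (Commute.zpow_zpow_self y l k).mul_right (hcen _ hk _)
          have c2 : Commute ((y ^ l)⁻¹ * b) (y ^ k * ((y ^ k)⁻¹ * a)) := (hcen _ hl _).symm
          have c3 := Commute.mul_left c1 c2
          rw [← ha', ← hb'] at c3
          exact c3
        have hTy : T ⊓ Subgroup.zpowers y = ⊥ := by
          by_contra hne
          apply hNc
          have hd : Nat.card ↥(T ⊓ Subgroup.zpowers y) ∣ p := hTp ▸ Subgroup.card_dvd_of_le inf_le_left
          rcases (Nat.dvd_prime hpp).1 hd with h | h
          · exact absurd (Subgroup.card_eq_one.mp h) hne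
          · have hTY : T ≤ Subgroup.zpowers y := by
              have : T ⊓ Subgroup.zpowers y = T :=
                Subgroup.eq_of_le_of_card_ge inf_le_left (by rw [h, hTp])
              exact inf_eq_left.mp this
            have hNY : N = Subgroup.zpowers y := by
              apply le_antisymm
              · intro n hn
                obtain ⟨k, hk⟩ := hdecomp n hn
                have := (Subgroup.zpowers y).mul_mem (Subgroup.zpow_mem_zpowers y k) (hTY hk)
                simpa using this
              · exact Subgroup.zpowers_le.mpr hyN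
            rw [hNY]; infer_instance
        set φ := Cfsg.Agent.S3807.phi N hNn hNab x with hφ
        have hrange := phi_range_gen N hNn hNab hgen
        set c : R := ((φ ⟨y, hyN⟩ : ↥N) : R) with hcdef
        have hcN : c ∈ N := (φ ⟨y, hyN⟩).2
        have hpowc : ∀ r ∈ commutator R, ∃ k : ℤ, r = c ^ k := by
          intro r hr
          rw [← hrange] at hr
          obtain ⟨_, ⟨n, rfl⟩, rfl⟩ := hr
          obtain ⟨k, hk⟩ := hdecomp n n.2
          refine ⟨k, ?_⟩
          set tt : ↥N := ⟨(y ^ k)⁻¹ * n, hTN hk⟩ with htt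
          have hn : n = (⟨y, hyN⟩ : ↥N) ^ k * tt := by
            apply Subtype.ext
            simp [htt]
          have hφt : φ tt = 1 := by
            apply Subtype.ext
            show (tt : R) * (x * (tt : R)⁻¹ * x⁻¹) = 1
            have h2 : Commute x (tt : R)⁻¹ := hcen _ (T.inv_mem hk) x
            rw [h2.eq]
            group
          have h3 : φ n = (φ ⟨y, hyN⟩) ^ k := by
            rw [hn, map_mul, map_zpow, hφt, mul_one]
          show ((φ n : ↥N) : R) = c ^ k
          rw [h3, hcdef]
          simp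
        have hTpow : ∀ t ∈ T, t ^ p = 1 := by
          intro t ht
          have := pow_card_eq_one' (G := T) (x := ⟨t, ht⟩)
          rw [hTp] at this
          exact congrArg Subtype.val this
        have hcT : c ∈ T := by
          obtain ⟨a, ha⟩ := hdecomp c hcN
          set t₀ := (y ^ a)⁻¹ * c with ht₀
          have hc' : c = y ^ a * t₀ := by rw [ht₀]; group
          have hTne : T ≠ ⊥ := by
            intro h
            rw [h] at hTp
            simp at hTp
            exact hpp.one_lt.ne hTp
          obtain ⟨t, htT, ht1⟩ : ∃ t : R, t ∈ T ∧ t ≠ 1 := by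
            obtain ⟨t, ht⟩ := Subgroup.ne_bot_iff_exists_ne_one.mp hTne
            exact ⟨(t : R), t.2, fun h => ht (Subtype.ext h)⟩
          obtain ⟨k, hk⟩ := hpowc t (hTle htT)
          have hck : c ^ k = (y ^ a) ^ k * t₀ ^ k := by
            rw [hc']
            exact (hcen t₀ ha (y ^ a)).mul_zpow k
          have hyk : (y ^ a) ^ k = 1 := by
            have h2 : (y ^ a) ^ k = t * (t₀ ^ k)⁻¹ := by
              rw [hk, hck]; group
            have h3 : (y ^ a) ^ k ∈ T ⊓ Subgroup.zpowers y := by
              refine ⟨?_, ?_⟩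
              · rw [h2]
                exact T.mul_mem htT (T.inv_mem (T.zpow_mem ha k))
              · exact (Subgroup.zpowers y).zpow_mem (Subgroup.zpow_mem_zpowers y a) k
            rw [hTy, Subgroup.mem_bot] at h3
            exact h3
          have hpk : ¬ (p : ℤ) ∣ k := by
            rintro ⟨m, rfl⟩
            apply ht1
            rw [hk, hck, hyk, one_mul, zpow_mul, zpow_natCast, hTpow t₀ ha, one_zpow]
          have hya : y ^ a = 1 := by
            by_contra hne
            obtain ⟨j, hj⟩ := hR (y ^ a)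
            obtain ⟨i, hi, hio⟩ := (Nat.dvd_prime_pow hpp).1 (orderOf_dvd_of_pow_eq_one hj)
            have hdv : p ∣ orderOf (y ^ a) := by
              rw [hio]
              apply dvd_pow_self
              intro h0
              rw [h0, pow_zero, orderOf_eq_one_iff] at hio
              exact hne hio
            have h4 : (orderOf (y ^ a) : ℤ) ∣ k := orderOf_dvd_iff_zpow_eq_one.mpr hyk
            exact hpk ((Int.natCast_dvd_natCast.mpr hdv).trans h4)
          rw [hc', hya, one_mul]
          exact ha
        have hR'T : commutator R ≤ T := by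
          intro r hr
          obtain ⟨k, hk⟩ := hpowc r hr
          rw [hk]
          exact T.zpow_mem hcT k
        have hcl2 : ⁅commutator R, (⊤ : Subgroup R)⁆ = ⊥ := by
          rw [Subgroup.commutator_eq_bot_iff_le_centralizer, Subgroup.coe_top, Subgroup.centralizer_univ]
          exact hR'T.trans hTc
        have hder : commutator R ≤ Subgroup.closure {x : R | x ^ p = 1} := by
          intro r hr
          exact Subgroup.subset_closure (hTpow r (hR'T hr))
        have hmul : ∀ u v : R, (u * v) ^ p = u ^ p * v ^ p :=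
          fun u v => Cfsg.Agent.S0123.result hR (Or.inl ⟨hp2, hcl2⟩) hder u v
        apply lemmaP hp2 hR hmul hO c
        intro r hr
        obtain ⟨k, hk⟩ := hpowc r hr
        rw [hk]
        exact Subgroup.zpow_mem_zpowers c k

/-- Huppert's criterion: for p greater than 3, a p-group whose elements of order dividing p generate a subgroup of order at most p² is metacyclic. -/
theorem result {R : Type*} [Group R] [Finite R] {p : ℕ} [Fact p.Prime] (hp : 3 < p) (hR : IsPGroup p R) (hO : Nat.card ↥(Cfsg.omegaOne p (⊤ : Subgroup R)) ≤ p ^ 2) : Cfsg.IsMetacyclic R := by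
  exact main hp (Nat.card R) R le_rfl hR hO

end Cfsg.Agent.S0639
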