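import Cfsg.Statements.S0647
import Cfsg.Agent.Lib.Helper5.Basic

set_option autoImplicit false
open Cfsg

namespace Cfsg.Agent.S0647

/-- For a nonempty family of maximal abelian subgroups of a finite group, the intersection of the family is the centre of the subgroup it generates, which is also the full centralizer of that subgroup. -/
theorem result {S : Type*} [Group S] [Finite S] (𝒜 : Set (Subgroup S)) (hne : 𝒜.Nonempty) (hab : ∀ A ∈ 𝒜, IsMulCommutative A) (hmax : ∀ A ∈ 𝒜, ∀ B : Subgroup S, IsMulCommutative B → A ≤ B → B = A) : sInf 𝒜 = sSup 𝒜 ⊓ Subgroup.centralizer ((sSup 𝒜 : Subgroup S) : Set S) ∧ sInf 𝒜 = Subgroup.centralizer ((sSup 𝒜 : Subgroup S) : Set S) := by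
  have h1 : Subgroup.centralizer ((sSup 𝒜 : Subgroup S) : Set S) ≤ sInf 𝒜 := by
    apply le_sInf
    intro A hA x hx
    have hxA : x ∈ Subgroup.centralizer (A : Set S) :=
      Subgroup.centralizer_le (show (A : Set S) ⊆ (sSup 𝒜 : Subgroup S) from le_sSup hA) hx
    have h2 := hmax A hA _ (Cfsg.Agent.Lib.Helper5.comm_sup_zpowers (hab A hA) hxA) le_sup_left
    rw [← h2]
    exact Subgroup.mem_sup_right (Subgroup.mem_zpowers x)
  have h2 : sInf 𝒜 ≤ Subgroup.centralizer ((sSup 𝒜 : Subgroup S) : Set S) := by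
    rw [Subgroup.le_centralizer_iff]
    apply sSup_le
    intro A hA y hy x hx
    haveI := hab A hA
    exact setLike_mul_comm ((sInf_le hA : sInf 𝒜 ≤ A) hx) hy
  have h3 : sInf 𝒜 ≤ sSup 𝒜 := by
    obtain ⟨A, hA⟩ := hne
    exact (sInf_le hA).trans (le_sSup hA)
  exact ⟨le_antisymm (le_inf h3 h2) (inf_le_right.trans h1), le_antisymm h2 h1⟩

end Cfsg.Agent.S0647
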