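import Cfsg.Statements.S0652
import Cfsg.Agent.Lib.Helper5.Glaub3

set_option autoImplicit false
open Cfsg

namespace Cfsg.Agent.S0652

/-- For odd p and D normal in the p-group S, the elementary abelian subgroups of D of largest order satisfy the replacement property for class-2 normal subgroups of S. -/
theorem result {S : Type*} [Group S] [Finite S] {p : ℕ} [Fact p.Prime] (hS : IsPGroup p S) (hp : p ≠ 2) (D : Subgroup S) [D.Normal] : ∀ (B : Subgroup S) [B.Normal], ⁅⁅B, B⁆, B⁆ = ⊥ → (∃ U ∈ (Set.image (fun A : Subgroup ↥D => A.map D.subtype) (Cfsg.maxElementaryAbelianSubgroups p ↥D)), ⁅B, B⁆ ≤ U ∧ ¬ B ≤ U) → ∃ A ∈ (Set.image (fun A : Subgroup ↥D => A.map D.subtype) (Cfsg.maxElementaryAbelianSubgroups p ↥D)), ⁅B, B⁆ ≤ A ∧ ¬ B ≤ A ∧ B ≤ Subgroup.normalizer (A : Set S) := by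
  intro B _ _ hex
  apply Cfsg.Agent.Lib.Helper5.repl hS hp D _ _ _ _ B hex
  · intro A hA
    exact ((Cfsg.Agent.Lib.Helper5.mem_image_maxElemAb_iff D A).mp hA).1
  · intro A hA
    exact ((Cfsg.Agent.Lib.Helper5.mem_image_maxElemAb_iff D A).mp hA).2.1.1
  · intro A hA T hTD hTc hcard hexp
    rw [Cfsg.Agent.Lib.Helper5.mem_image_maxElemAb_iff] at hA ⊢
    refine ⟨hTD, ⟨hTc, ?_⟩, fun C hC hCc => hcard ▸ hA.2.2 C hC hCc⟩
    have h1 : Monoid.exponent A ∣ p := by
      apply Monoid.exponent_dvd_of_forall_pow_eq_one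
      rintro ⟨a, ha⟩
      exact Subtype.ext (hA.2.1.2 a ha)
    intro x hx
    have h2 := (Monoid.exponent_dvd_iff_forall_pow_eq_one).mp (hexp.trans h1) ⟨x, hx⟩
    simpa using congrArg Subtype.val h2

end Cfsg.Agent.S0652
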