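import Cfsg.Statements.S0655
import Cfsg.Agent.Lib.Helper5.Thompson

set_option autoImplicit false
open Cfsg

namespace Cfsg.Agent.S0655

/-- In a p-group the intersection of all elementary abelian subgroups of largest order is the subgroup generated by the elements of order dividing p in the centre (equivalently the centralizer) of the elementary-version Thompson subgroup. -/
theorem result {S : Type*} [Group S] [Finite S] {p : ℕ} [Fact p.Prime] (hS : IsPGroup p S) : sInf (Cfsg.maxElementaryAbelianSubgroups p S) = Cfsg.omegaCenterThompson p S ∧ Cfsg.omegaCenterThompson p S = Cfsg.omegaOne p (Subgroup.centralizer (Cfsg.thompsonSubgroup p S : Set S)) := by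
  obtain ⟨A₀, hA₀⟩ := Cfsg.Agent.Lib.Helper5.maxElemAb_nonempty (G := S) (p := p)
  have h1 : sInf (Cfsg.maxElementaryAbelianSubgroups p S) ≤ Cfsg.omegaCenterThompson p S := by
    intro x hx
    apply Subgroup.subset_closure
    have hxA : ∀ A ∈ Cfsg.maxElementaryAbelianSubgroups p S, x ∈ A := fun A hA =>
      (sInf_le hA : sInf (Cfsg.maxElementaryAbelianSubgroups p S) ≤ A) hx
    refine ⟨⟨Cfsg.Agent.Lib.Helper5.le_thompson hA₀ (hxA A₀ hA₀), ?_⟩, hA₀.1.2 x (hxA A₀ hA₀)⟩
    have : Cfsg.thompsonSubgroup p S ≤ Subgroup.centralizer ({x} : Set S) := by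
      apply sSup_le
      intro A hA y hy
      rw [Subgroup.mem_centralizer_singleton_iff]
      haveI := hA.1.1
      exact setLike_mul_comm hy (hxA A hA)
    intro y hy
    have := this hy
    rw [Subgroup.mem_centralizer_singleton_iff] at this
    exact this
  have h2 : Cfsg.omegaCenterThompson p S ≤
      Cfsg.omegaOne p (Subgroup.centralizer (Cfsg.thompsonSubgroup p S : Set S)) := by
    apply Subgroup.closure_mono
    rintro x ⟨hx, hxp⟩
    exact ⟨hx.2, hxp⟩
  have h3 : Cfsg.omegaOne p (Subgroup.centralizer (Cfsg.thompsonSubgroup p S : Set S)) ≤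
      sInf (Cfsg.maxElementaryAbelianSubgroups p S) := by
    unfold Cfsg.omegaOne
    rw [Subgroup.closure_le]
    rintro x ⟨hx, hxp⟩
    rw [SetLike.mem_coe, Subgroup.mem_sInf]
    intro A hA
    apply Cfsg.Agent.Lib.Helper5.mem_of_maxElemAb hA hxp
    exact Subgroup.centralizer_le (show (A : Set S) ⊆ (Cfsg.thompsonSubgroup p S : Subgroup S) from
      Cfsg.Agent.Lib.Helper5.le_thompson hA) hx
  exact ⟨le_antisymm h1 (h2.trans h3), le_antisymm h2 (h3.trans h1)⟩

end Cfsg.Agent.S0655
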