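import Cfsg.Statements.S0656
import Cfsg.Agent.Lib.Helper5.DK11

set_option autoImplicit false
open Cfsg

namespace Cfsg.Agent.S0656

/-- For odd p, a faithful group on an elementary abelian p-group with no nontrivial normal p-subgroup in which some nontrivial p-element acts quadratically has a section isomorphic to SL(2, p). -/
theorem result {G : Type*} [Group G] [Finite G] {p : ℕ} [Fact p.Prime] (hp : p ≠ 2) (V H : Subgroup G) (hV : Cfsg.IsElementaryAbelian p V) (hHV : H ≤ Subgroup.normalizer (V : Set G)) (hf : H ⊓ Subgroup.centralizer (V : Set G) = ⊥) (hO : Cfsg.pCore p ↥H = ⊥) (x : G) (hxH : x ∈ H) (hx1 : x ≠ 1) (hxp : ∃ k : ℕ, orderOf x = p ^ k) (hq : ⁅⁅V, Subgroup.zpowers x⁆, Subgroup.zpowers x⁆ = ⊥) : ∃ (K L : Subgroup G) (hL : (L.subgroupOf K).Normal), K ≤ H ∧ Nonempty ((K ⧸ L.subgroupOf K) ≃* Matrix.SpecialLinearGroup (Fin 2) (ZMod p)) := by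
  by_contra hfree
  have hQ := Cfsg.Agent.Lib.Helper5.qFree_of_no_section hp H hfree
  obtain ⟨N, hN, hxN, hNp⟩ := hQ.stable_ext hp V H (Cfsg.Agent.Lib.Helper5.elemAb_isPGroup hV) hHV
    x hxH hq
  have hNpg : IsPGroup p N := by
    intro n
    obtain ⟨k, hk⟩ := hNp n.1 n.2
    refine ⟨k, ?_⟩
    have h1 : (n.1 : G) ^ (p ^ k) ∈ H ⊓ Subgroup.centralizer (V : Set G) :=
      ⟨H.pow_mem n.1.2 _, hk⟩
    rw [hf, Subgroup.mem_bot] at h1
    apply Subtype.ext
    apply Subtype.ext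
    simpa using h1
  have h2 := Cfsg.Agent.Lib.Helper5.le_pCore hN hNpg hxN
  rw [hO, Subgroup.mem_bot] at h2
  exact hx1 (congrArg Subtype.val h2)

end Cfsg.Agent.S0656
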