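import Cfsg.Statements.S0657
import Cfsg.Agent.Lib.Helper5.DK11

set_option autoImplicit false
open Cfsg

namespace Cfsg.Agent.S0657

/-- For odd p, a group that fails to be p-stable modulo its largest normal subgroup of order prime to p, and whose upper p-series does not stop there, has a section isomorphic to SL(2, p). -/
theorem result {G : Type*} [Group G] [Finite G] {p : ℕ} [Fact p.Prime] (hp : p ≠ 2) (hO : Cfsg.pPrimeCore p G < Cfsg.pPrimePCore p G) (hns : ¬ Cfsg.IsPStable p (G ⧸ Cfsg.pPrimeCore p G)) : ∃ (K L : Subgroup G) (hL : (L.subgroupOf K).Normal), K ≤ ⊤ ∧ Nonempty ((K ⧸ L.subgroupOf K) ≃* Matrix.SpecialLinearGroup (Fin 2) (ZMod p)) := by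
  by_contra hfree
  have hQ : Cfsg.Agent.Lib.Helper5.QFree p G := Cfsg.Agent.Lib.Helper5.qFree_of_sl2_free hp (by
    rintro ⟨K, L, hL, hN⟩
    exact hfree ⟨K, L, hL, le_top, hN⟩)
  have hQ' := hQ.of_surjective _ (QuotientGroup.mk'_surjective (Cfsg.pPrimeCore p G))
  apply hns
  refine ⟨(Fact.out : p.Prime).odd_of_ne_two hp, ?_, ?_⟩
  · intro h
    unfold Cfsg.pPrimePCore at hO
    rw [h] at hO
    have h1 : (⊥ : Subgroup (G ⧸ Cfsg.pPrimeCore p G)).comap
        (QuotientGroup.mk' (Cfsg.pPrimeCore p G)) = Cfsg.pPrimeCore p G :=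
      QuotientGroup.ker_mk' _
    rw [h1] at hO
    exact lt_irrefl _ hO
  · intro A P _ hP hAP _ _ hq
    rintro _ ⟨⟨a, haN⟩, ha, rfl⟩
    have ha' : a ∈ A := Subgroup.mem_subgroupOf.mp ha
    refine hQ'.normalizerPStable P hP a haN ?_
    rw [eq_bot_iff, ← hq]
    have hz : Subgroup.zpowers a ≤ A := by rw [Subgroup.zpowers_le]; exact ha'
    exact Subgroup.commutator_mono (Subgroup.commutator_mono le_rfl hz) hz

end Cfsg.Agent.S0657
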