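import Cfsg.Statements.S0658
import Cfsg.Agent.Lib.Helper5.ZJ3

set_option autoImplicit false
open Cfsg

namespace Cfsg.Agent.S0658

open Cfsg.Agent.Lib.Helper5 in
theorem zj_ne_bot {G : Type*} [Group G] [Finite G] {p : ℕ} [Fact p.Prime] (R : Subgroup G)
    (hR : IsPGroup p R) (hne : R ≠ ⊥) : Cfsg.centerThompsonAOf R ≠ ⊥ := by
  rw [centerThompsonAOf_eq_map]
  intro h
  rw [Subgroup.map_eq_bot_iff_of_injective _ R.subtype_injective] at h
  haveI : Nontrivial ↥R := (Subgroup.nontrivial_iff_ne_bot R).mpr hne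
  have h1 := IsPGroup.bot_lt_center hR
  have h2 : Subgroup.center ↥R ≤ sInf (Cfsg.maxAbelianSubgroups ↥R) := by
    apply le_sInf
    intro A hA z hz
    have hzA : z ∈ Subgroup.centralizer (A : Set ↥R) := by
      rw [Subgroup.mem_centralizer_iff]
      intro y _
      exact (Subgroup.mem_center_iff.mp hz y)
    have h3 := hA.2 _ (comm_sup_zpowers hA.1 hzA)
    have h4 : A = A ⊔ Subgroup.zpowers z := Subgroup.eq_of_le_of_card_ge le_sup_left h3
    rw [h4]
    exact Subgroup.mem_sup_right (Subgroup.mem_zpowers z)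
  rw [h] at h2
  exact absurd (lt_of_lt_of_le h1 h2) (lt_irrefl _)

open Cfsg.Agent.Lib.Helper5 in
theorem normalizer_le_zj {G : Type*} [Group G] [Finite G] (R : Subgroup G) :
    Subgroup.normalizer (R : Set G) ≤ Subgroup.normalizer (Cfsg.centerThompsonAOf R : Set G) := by
  rw [centerThompsonAOf_eq]
  exact normalizer_le_normalizer_sInf_maxQ (fun σ A hA => comm_map _ hA) R

theorem exists_conj_le_sylow {G : Type*} [Group G] [Finite G] {p : ℕ} [Fact p.Prime]
    (P : Sylow p G) (M U : Subgroup G) (hPM : (P : Subgroup G) ≤ M) (hUM : U ≤ M)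
    (hU : IsPGroup p U) : ∃ m ∈ M, U.map (MulAut.conj m).toMonoidHom ≤ (P : Subgroup G) := by
  obtain ⟨T₀, hT₀⟩ := (hU.comap_subtype (K := M)).exists_le_sylow
  obtain ⟨m, hm⟩ := MulAction.exists_smul_eq ↥M T₀ (P.subtype hPM)
  refine ⟨m, m.2, ?_⟩
  rintro _ ⟨u, hu, rfl⟩
  have h1 : (⟨u, hUM hu⟩ : ↥M) ∈ (T₀ : Subgroup ↥M) := hT₀ (Subgroup.mem_subgroupOf.mpr hu)
  have h2 : m * ⟨u, hUM hu⟩ * m⁻¹ ∈ ((m • T₀ : Sylow p ↥M) : Subgroup ↥M) :=
    ⟨_, h1, rfl⟩
  rw [hm] at h2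
  exact Subgroup.mem_subgroupOf.mp h2

/-- In a group of characteristic p type all of whose p-locals are p-stable (p odd), the normalizer of Z(J(P)) contains the normalizer of every nontrivial subgroup of the Sylow p-subgroup P. -/
theorem result {G : Type*} [Group G] [Finite G] {p : ℕ} [Fact p.Prime] (hp : p ≠ 2) (hloc : ∀ Q : Subgroup G, IsPGroup p Q → Q ≠ ⊥ → Cfsg.pPrimeCore p ↥(Subgroup.normalizer (Q : Set G)) = ⊥ ∧ Cfsg.IsPConstrained p ↥(Subgroup.normalizer (Q : Set G)) ∧ Cfsg.IsPStable p ↥(Subgroup.normalizer (Q : Set G))) (P : Sylow p G) (Q : Subgroup G) (hQP : Q ≤ (P : Subgroup G)) (hQ1 : Q ≠ ⊥) : Subgroup.normalizer (Q : Set G) ≤ Subgroup.normalizer (Cfsg.centerThompsonAOf ((P : Subgroup G)) : Set G) := by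
  obtain ⟨M, hM⟩ : ∃ M, M = Subgroup.normalizer (Cfsg.centerThompsonAOf ((P : Subgroup G)) : Set G) :=
    ⟨_, rfl⟩
  rw [← hM]
  have hPM : (P : Subgroup G) ≤ M := hM ▸ Subgroup.le_normalizer.trans (normalizer_le_zj _)
  have L1 : ∀ Q : Subgroup G, IsPGroup p Q → Q ≠ ⊥ →
      ∀ T₀ : Sylow p ↥(Subgroup.normalizer (Q : Set G)),
      Subgroup.normalizer (Q : Set G) ≤ Subgroup.normalizer (Cfsg.centerThompsonAOf
        ((T₀ : Subgroup ↥(Subgroup.normalizer (Q : Set G))).map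
          (Subgroup.normalizer (Q : Set G)).subtype) : Set G) := by
    intro Q hQ hQ1 T₀
    obtain ⟨hO, hC, hS⟩ := hloc Q hQ hQ1
    have hc' := (Cfsg.Agent.Lib.Helper5.isPConstrained_iff_of_pPrimeCore_eq_bot hO).mp hC
    have h := Cfsg.Agent.Lib.Helper5.zj_of_stable hp hO hc' hS T₀
    rw [Cfsg.Agent.Lib.Helper5.centerThompsonAOf_map _ _
      (by rw [Subgroup.ker_subtype, inf_bot_eq])]
    intro n hn
    apply Subgroup.le_normalizer_map
    refine ⟨⟨n, hn⟩, ?_, rfl⟩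
    rw [Subgroup.normalizer_eq_top_iff.mpr h]; trivial
  have key : ∀ k : ℕ, ∀ Q : Subgroup G, Q ≤ (P : Subgroup G) → Q ≠ ⊥ →
      Nat.card (P : Subgroup G) - Nat.card ↥((P : Subgroup G) ⊓ Subgroup.normalizer (Q : Set G)) = k →
      Subgroup.normalizer (Q : Set G) ≤ M := by
    intro k
    induction k using Nat.strong_induction_on with
    | _ k ih =>
    intro Q hQP hQ1 hk
    have hQp : IsPGroup p Q := P.2.to_le hQP
    obtain ⟨R, hR⟩ : ∃ R, R = (P : Subgroup G) ⊓ Subgroup.normalizer (Q : Set G) := ⟨_, rfl⟩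
    rw [← hR] at hk
    have IH' : ∀ Q' : Subgroup G, Q' ≤ (P : Subgroup G) → Q' ≠ ⊥ →
        Nat.card R < Nat.card ↥((P : Subgroup G) ⊓ Subgroup.normalizer (Q' : Set G)) →
        Subgroup.normalizer (Q' : Set G) ≤ M := by
      intro Q' h1 h2 h3
      have h4 : Nat.card ↥((P : Subgroup G) ⊓ Subgroup.normalizer (Q' : Set G)) ≤
          Nat.card (P : Subgroup G) := Subgroup.card_le_of_le inf_le_left
      exact ih _ (by omega) Q' h1 h2 rfl
    by_cases hPN : (P : Subgroup G) ≤ Subgroup.normalizer (Q : Set G)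
    · have h1 := L1 Q hQp hQ1 (P.subtype hPN)
      rw [Sylow.coe_subtype, Subgroup.map_subgroupOf_eq_of_le hPN, ← hM] at h1
      exact h1
    have hRP : R < (P : Subgroup G) := by
      rw [hR]
      exact lt_of_le_of_ne inf_le_left (fun h => hPN (inf_eq_left.mp h))
    have hRN : R ≤ Subgroup.normalizer (Q : Set G) := hR ▸ inf_le_right
    have hQR : Q ≤ R := hR ▸ le_inf hQP Subgroup.le_normalizer
    have hR1 : R ≠ ⊥ := fun h => hQ1 (eq_bot_iff.mpr (h ▸ hQR))
    have hRp : IsPGroup p R := P.2.to_le hRP.le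
    obtain ⟨x, hxP, hxN, hxR⟩ := Cfsg.Agent.Lib.Helper5.exists_mem_normalizer_not_mem
      (P.2.isNilpotent) hRP
    have hRlt : R < (P : Subgroup G) ⊓ Subgroup.normalizer (R : Set G) := by
      rw [SetLike.lt_iff_le_and_exists]
      exact ⟨le_inf hRP.le Subgroup.le_normalizer, x, Subgroup.mem_inf.mpr ⟨hxP, hxN⟩, hxR⟩
    have hNR : Subgroup.normalizer (R : Set G) ≤ M :=
      IH' R hRP.le hR1 (Cfsg.Agent.Lib.Helper5.card_lt_of_lt hRlt)
    obtain ⟨T₀, hT₀⟩ := (hRp.comap_subtype (K := Subgroup.normalizer (Q : Set G))).exists_le_sylow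
    obtain ⟨T, hT⟩ : ∃ T, T = (T₀ : Subgroup ↥(Subgroup.normalizer (Q : Set G))).map
          (Subgroup.normalizer (Q : Set G)).subtype := ⟨_, rfl⟩
    have hTp : IsPGroup p T := hT ▸ T₀.2.map _
    have hTN : T ≤ Subgroup.normalizer (Q : Set G) := hT ▸ Subgroup.map_subtype_le _
    have hRT : R ≤ T := by
      rw [hT, ← Subgroup.map_subgroupOf_eq_of_le hRN]
      exact Subgroup.map_mono hT₀
    have hL1 := L1 Q hQp hQ1 T₀
    rw [← hT] at hL1
    by_cases hTR : T ≤ R
    · have hTeq : T = R := le_antisymm hTR hRT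
      rw [hTeq] at hL1
      refine hL1.trans (IH' _ ?_ (zj_ne_bot R hRp hR1) ?_)
      · rw [Cfsg.Agent.Lib.Helper5.centerThompsonAOf_eq_map]
        exact (Subgroup.map_subtype_le _).trans hRP.le
      · exact lt_of_lt_of_le (Cfsg.Agent.Lib.Helper5.card_lt_of_lt hRlt)
          (Subgroup.card_le_of_le (inf_le_inf_left _ (normalizer_le_zj R)))
    have hRTlt : R < T := lt_of_le_of_ne hRT (fun h => hTR h.ge)
    obtain ⟨y, hyT, hyN, hyR⟩ := Cfsg.Agent.Lib.Helper5.exists_mem_normalizer_not_mem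
      (hTp.isNilpotent) hRTlt
    have hRU : R < T ⊓ Subgroup.normalizer (R : Set G) := by
      rw [SetLike.lt_iff_le_and_exists]
      exact ⟨le_inf hRT Subgroup.le_normalizer, y, Subgroup.mem_inf.mpr ⟨hyT, hyN⟩, hyR⟩
    obtain ⟨m, hmM, hm⟩ := exists_conj_le_sylow P M (T ⊓ Subgroup.normalizer (R : Set G)) hPM
      (inf_le_right.trans hNR) (hTp.to_le inf_le_left)
    have hQ' : Q.map (MulAut.conj m).toMonoidHom ≤ (P : Subgroup G) :=
      (Subgroup.map_mono (hQR.trans hRU.le)).trans hm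
    have hQ'1 : Q.map (MulAut.conj m).toMonoidHom ≠ ⊥ := by
      rw [Ne, Subgroup.map_eq_bot_iff_of_injective _ (MulAut.conj m).injective]
      exact hQ1
    have hcard : Nat.card R < Nat.card ↥((P : Subgroup G) ⊓
        Subgroup.normalizer ((Q.map (MulAut.conj m).toMonoidHom : Subgroup G) : Set G)) := by
      have h1 : (T ⊓ Subgroup.normalizer (R : Set G)).map (MulAut.conj m).toMonoidHom ≤
          (P : Subgroup G) ⊓
            Subgroup.normalizer ((Q.map (MulAut.conj m).toMonoidHom : Subgroup G) : Set G) :=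
        le_inf hm ((Subgroup.map_mono (inf_le_left.trans hTN)).trans (Subgroup.le_normalizer_map _))
      have h2 := Subgroup.card_le_of_le h1
      have h3 : Nat.card ((T ⊓ Subgroup.normalizer (R : Set G)).map (MulAut.conj m).toMonoidHom) =
          Nat.card ↥(T ⊓ Subgroup.normalizer (R : Set G)) :=
        Subgroup.card_map_of_injective (MulAut.conj m).injective
      have h4 := Cfsg.Agent.Lib.Helper5.card_lt_of_lt hRU
      omega
    have h5 := IH' _ hQ' hQ'1 hcard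
    intro n hn
    have h6 : m * n * m⁻¹ ∈ M := h5 (Subgroup.le_normalizer_map _ ⟨n, hn, rfl⟩)
    have e : n = m⁻¹ * (m * n * m⁻¹) * m := by group
    rw [e]
    exact mul_mem (mul_mem (inv_mem hmM) h6) hmM
  exact key _ Q hQP hQ1 rfl

end Cfsg.Agent.S0658
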