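import Cfsg.Statements.S0667
import Cfsg.Agent.Lib.Helper5.ZJ3
import Cfsg.Agent.S0632

set_option autoImplicit false
open Cfsg

namespace Cfsg.Agent.S0667

/-- Glauberman's Theorem in the p-constrained, p-stable vocabulary: for odd p such a group is the product of its largest normal subgroup of order prime to p with the normalizer of Z(J(P)), and Z(J(P)) is normal when that p'-subgroup is trivial. -/
theorem result {G : Type*} [Group G] [Finite G] {p : ℕ} [Fact p.Prime] (hp : p ≠ 2) (hc : Cfsg.IsPConstrained p G) (hs : Cfsg.IsPStable p G) (P : Sylow p G) : Cfsg.pPrimeCore p G ⊔ Subgroup.normalizer (Cfsg.centerThompsonAOf ((P : Subgroup G)) : Set G) = ⊤ ∧ (Cfsg.pPrimeCore p G = ⊥ → (Cfsg.centerThompsonAOf ((P : Subgroup G))).Normal) := by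
  have hN : (Nat.card (Cfsg.pPrimeCore p G)).Coprime p := Cfsg.Agent.Lib.Helper5.pPrimeCore_coprime
  have hs' := (Cfsg.Agent.S0632.result hs.2.1).mp hs
  have hc' := Cfsg.Agent.Lib.Helper5.isPConstrained_iff.mp hc
  have hsurj := QuotientGroup.mk'_surjective (Cfsg.pPrimeCore p G)
  have h1 := Cfsg.Agent.Lib.Helper5.zj_of_stable hp
    Cfsg.Agent.Lib.Helper5.pPrimeCore_quot_pPrimeCore hc' hs' (P.mapSurjective hsurj)
  rw [Sylow.coe_mapSurjective, Cfsg.Agent.Lib.Helper5.centerThompsonAOf_map _ _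
    (by rw [QuotientGroup.ker_mk']; exact Cfsg.Agent.Lib.Helper5.pgroup_inf_coprime_eq_bot P.2 hN)]
    at h1
  have hZP : Cfsg.centerThompsonAOf (P : Subgroup G) ≤ (P : Subgroup G) := by
    rw [Cfsg.Agent.Lib.Helper5.centerThompsonAOf_eq_map]
    exact Subgroup.map_subtype_le _
  have htop : Cfsg.pPrimeCore p G ⊔
      Subgroup.normalizer (Cfsg.centerThompsonAOf ((P : Subgroup G)) : Set G) = ⊤ := by
    rw [eq_top_iff]
    intro g _
    have hg : QuotientGroup.mk' (Cfsg.pPrimeCore p G) g ∈ Subgroup.normalizer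
        (((Cfsg.centerThompsonAOf (P : Subgroup G)).map (QuotientGroup.mk' (Cfsg.pPrimeCore p G)) :
          Subgroup (G ⧸ Cfsg.pPrimeCore p G)) : Set (G ⧸ Cfsg.pPrimeCore p G)) := by
      rw [Subgroup.normalizer_eq_top_iff.mpr h1]; trivial
    obtain ⟨h, hh, hhg⟩ := Cfsg.Agent.Lib.Helper5.exists_mem_normalizer_of_quot hN (P.2.to_le hZP) hg
    have e : g = (g * h⁻¹) * h := by group
    rw [e]
    refine Subgroup.mul_mem_sup ?_ hh
    rw [← QuotientGroup.ker_mk' (Cfsg.pPrimeCore p G), MonoidHom.mem_ker, map_mul, map_inv, hhg]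
    group
  refine ⟨htop, fun hbot => ?_⟩
  rw [hbot, bot_sup_eq] at htop
  exact Subgroup.normalizer_eq_top_iff.mp htop

end Cfsg.Agent.S0667
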