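import Cfsg.Statements.S1535
import Cfsg.Agent.Lib.Helper24.Coherence10
import Cfsg.Agent.S0033
import Cfsg.Agent.Lib.Helper25.NilpHall

set_option autoImplicit false
open Cfsg

namespace Cfsg.Agent.S1535

open scoped commutatorElement
open Cfsg.Agent.Lib.Helper7 Cfsg.Agent.Lib.Helper11 Cfsg.Agent.Lib.Helper24.Coh
  Cfsg.Agent.Lib.Helper24.Coh5 Cfsg.Agent.Lib.Helper24.Coh8 Cfsg.Agent.Lib.Helper24.Coh10

theorem nilp {N : Type*} [Group N] [Finite N] (H : Subgroup N) [hH : H.Normal] (hH1 : H ≠ ⊥)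
    (hH2 : H ≠ ⊤)
    (hC : ∀ h ∈ H, h ≠ 1 → Subgroup.centralizer ({h} : Set N) ≤ H) : Group.IsNilpotent H := by
  have hidx : H.index ≠ 1 := fun h => hH2 (Subgroup.index_eq_one.mp h)
  obtain ⟨q, hq, hqd⟩ := Nat.exists_prime_and_dvd hidx
  have : Fact q.Prime := ⟨hq⟩
  have hcard : q ∣ Nat.card (N ⧸ H) := hqd
  obtain ⟨ybar, hy⟩ := exists_prime_orderOf_dvd_card' (G := N ⧸ H) q hcard
  obtain ⟨y, rfl⟩ := QuotientGroup.mk_surjective ybar
  have hyH : y ∉ H := by
    intro h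
    have : (y : N ⧸ H) = 1 := (QuotientGroup.eq_one_iff y).mpr h
    rw [this, orderOf_one] at hy
    exact hq.one_lt.ne hy
  have hyq : y ^ q ∈ H := by
    rw [← QuotientGroup.eq_one_iff, QuotientGroup.mk_pow, ← hy, pow_orderOf_eq_one]
  have hyq1 : y ^ q = 1 := by
    by_contra hne
    apply hyH
    apply hC _ hyq hne
    rw [Subgroup.mem_centralizer_singleton_iff]
    rw [← pow_succ', ← pow_succ]
  have hfix : ∀ h : H, (MulAut.conjNormal y : MulAut H) h = h → h = 1 := by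
    intro h hh
    by_contra h1
    apply hyH
    apply hC h h.2 (fun e => h1 (Subtype.ext e))
    rw [Subgroup.mem_centralizer_singleton_iff]
    have h2 := congrArg Subtype.val hh
    rw [MulAut.conjNormal_apply] at h2
    calc y * (h : N) = y * h * y⁻¹ * y := by group
      _ = h * y := by rw [h2]
  have hne : ∃ h : H, h ≠ 1 := by
    by_contra hcon
    push Not at hcon
    apply hH1
    rw [Subgroup.eq_bot_iff_forall]
    intro x hx
    exact congrArg Subtype.val (hcon ⟨x, hx⟩)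
  have hord : orderOf (MulAut.conjNormal y : MulAut H) = q := by
    apply orderOf_eq_prime
    · rw [← map_pow, hyq1, map_one]
    · intro h1
      obtain ⟨h, hh⟩ := hne
      exact hh (hfix h (by rw [h1]; rfl))
  exact Cfsg.Agent.S0033.result (MulAut.conjNormal y : MulAut H) (fun h hh => hfix h hh) q hq hord

theorem comm_sup_ne {E : Type*} [Group E] [Group.IsSolvable E] (X : Subgroup E) [X.Normal]
    (hX : X ≠ ⊤) : commutator E ⊔ X ≠ ⊤ := by
  intro h
  have : Nontrivial (E ⧸ X) := QuotientGroup.nontrivial_iff.mpr hX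
  have h1 := Group.IsSolvable.commutator_lt_top_of_nontrivial (E ⧸ X)
  apply h1.ne
  have h2 : (commutator E ⊔ X).map (QuotientGroup.mk' X) = ⊤ := by
    rw [h, Subgroup.map_top_of_surjective _ (QuotientGroup.mk'_surjective X)]
  rw [Subgroup.map_sup, QuotientGroup.map_mk'_self, sup_bot_eq, commutator_def,
    Subgroup.map_commutator, Subgroup.map_top_of_surjective _ (QuotientGroup.mk'_surjective X)] at h2
  rw [commutator_def]; exact h2

theorem comm_sup_ne' {N : Type*} [Group N] (H X : Subgroup N) [X.Normal] [Group.IsSolvable H]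
    (hXH : X < H) : ⁅H, H⁆ ⊔ X ≠ H := by
  intro h
  have hX' : X.subgroupOf H ≠ ⊤ := by
    intro h1
    rw [Subgroup.subgroupOf_eq_top] at h1
    exact hXH.not_ge h1
  apply comm_sup_ne (X.subgroupOf H) hX'
  apply Subgroup.map_injective H.subtype_injective
  rw [Subgroup.map_sup, Subgroup.map_subtype_commutator, Subgroup.map_subgroupOf_eq_of_le hXH.le, h,
    ← MonoidHom.range_eq_map, Subgroup.range_subtype]

theorem hall_one {N : Type*} [Group N] [Finite N] (H : Subgroup N) [hH : H.Normal]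
    [Group.IsNilpotent H] {n k : ℕ} (hnk : n.Coprime k) (hcard : Nat.card H = n * k) :
    ∃ P : Subgroup N, P.Normal ∧ P ≤ H ∧ Nat.card P = n ∧ ∀ x, x ∈ P ↔ x ∈ H ∧ x ^ n = 1 := by
  obtain ⟨E1, hE1n, hE1c, hE1i⟩ :=
    Cfsg.Agent.Lib.Helper25.exists_normal_hall_of_nilpotent H hnk (by rw [hcard])
  have hmem := Cfsg.Agent.Lib.Helper25.mem_iff_pow_eq_one_of_hall E1 hnk hE1c hE1i
  have hm : ∀ x, x ∈ E1.map H.subtype ↔ x ∈ H ∧ x ^ n = 1 := by
    intro x
    constructor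
    · rintro ⟨y, hy, rfl⟩
      exact ⟨y.2, by have := congrArg Subtype.val ((hmem y).mp hy); simpa using this⟩
    · rintro ⟨hx, hx1⟩
      exact ⟨⟨x, hx⟩, (hmem _).mpr (Subtype.ext (by simpa using hx1)), rfl⟩
  refine ⟨E1.map H.subtype, ⟨fun x hx g => ?_⟩, fun x hx => ((hm x).mp hx).1, ?_, hm⟩
  · rw [hm] at *
    exact ⟨hH.conj_mem _ hx.1 g, by rw [conj_pow, hx.2]; group⟩
  · rw [Subgroup.card_map_of_injective H.subtype_injective]
    apply Nat.dvd_antisymm hE1c
    have h1 := E1.card_mul_index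
    rw [hcard] at h1
    have h2 : n ∣ Nat.card E1 * E1.index := by rw [h1]; exact Dvd.intro _ rfl
    exact (Nat.Coprime.coprime_dvd_right hE1i hnk).dvd_of_dvd_mul_right h2

theorem hall_pair {N : Type*} [Group N] [Finite N] (H : Subgroup N) [hH : H.Normal]
    [Group.IsNilpotent H] {n k : ℕ} (hnk : n.Coprime k) (hcard : Nat.card H = n * k) :
    ∃ P Q : Subgroup N, P.Normal ∧ Q.Normal ∧ P ≤ H ∧ Q ≤ H ∧ Nat.card P = n ∧ Nat.card Q = k ∧
      P ⊓ Q = ⊥ ∧ P ⊔ Q = H ∧ ∀ x ∈ P, ∀ y ∈ Q, x * y = y * x := by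
  obtain ⟨P, hPn, hPH, hPc, hPm⟩ := hall_one H hnk hcard
  obtain ⟨Q, hQn, hQH, hQc, hQm⟩ := hall_one H hnk.symm (by rw [hcard, mul_comm])
  have hdisj : P ⊓ Q = ⊥ := by
    rw [Subgroup.eq_bot_iff_forall]
    intro x hx
    have h1 := ((hPm x).mp hx.1).2
    have h2 := ((hQm x).mp hx.2).2
    have h3 := pow_gcd_eq_one.2 ⟨h1, h2⟩
    rwa [Nat.Coprime.gcd_eq_one hnk, pow_one] at h3
  refine ⟨P, Q, hPn, hQn, hPH, hQH, hPc, hQc, hdisj, ?_, ?_⟩
  · apply Subgroup.eq_of_le_of_card_ge (sup_le hPH hQH)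
    apply Nat.le_of_dvd Nat.card_pos
    rw [hcard]
    apply Nat.Coprime.mul_dvd_of_dvd_of_dvd hnk
    · rw [← hPc]; exact Subgroup.card_dvd_of_le le_sup_left
    · rw [← hQc]; exact Subgroup.card_dvd_of_le le_sup_right
  · intro x hx y hy
    exact Subgroup.commute_of_normal_of_disjoint P Q hPn hQn (disjoint_iff.mpr hdisj) x y hx hy

theorem arith5 {e c c' x z : ℕ} (hx : x = e * c + 1) (hm : z * x = e * c' + 1) (hz1 : z ≠ 1) :
    e + 1 ≤ z := by
  have hz0 : z ≠ 0 := by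
    rintro rfl
    simp at hm
  obtain ⟨w, rfl⟩ := Nat.exists_eq_succ_of_ne_zero hz0
  have hw0 : w ≠ 0 := by
    rintro rfl
    exact hz1 rfl
  have h1 : e * ((w + 1) * c) + w = e * c' := by
    subst hx
    have : (w + 1) * (e * c + 1) = e * ((w + 1) * c) + w + 1 := by ring
    have h2 : (w + 1) * (e * c + 1) = e * c' + 1 := hm
    omega
  have h2 : e ∣ w := (Nat.dvd_add_right (Dvd.intro _ rfl)).mp (h1 ▸ Dvd.intro _ rfl)
  have := Nat.le_of_dvd (Nat.pos_of_ne_zero hw0) h2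
  omega

section main

variable {N : Type*} [Group N] [Fintype N] (H : Subgroup N) [hH : H.Normal] [Fintype H]
  [Fintype (IrrCharacter H)] {G : Type*} [Group G] [Fintype G]

theorem split_index (hC : ∀ h ∈ H, h ≠ 1 → Subgroup.centralizer ({h} : Set N) ≤ H)
    (A T : Subgroup N) [A.Normal] [T.Normal] (hA : A ≤ H) (hT : T ≤ H)
    (h1 : ¬ T ≤ A) (h2 : A ⊔ T ≠ H) :
    ∃ x z, H.index + 1 ≤ x ∧ H.index + 1 ≤ z ∧ (A ⊔ T).relIndex H = x ∧
      A.relIndex H = x * z := by
  obtain ⟨c, hc⟩ := relIndex_congr H hC (A ⊔ T)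
  obtain ⟨c', hc'⟩ := relIndex_congr H hC A
  have hmul := Subgroup.relIndex_mul_relIndex A (A ⊔ T) H le_sup_left (sup_le hA hT)
  have hx1 : (A ⊔ T).relIndex H ≠ 1 := by
    intro h
    rw [Subgroup.relIndex_eq_one] at h
    exact h2 (le_antisymm (sup_le hA hT) h)
  have hz1 : A.relIndex (A ⊔ T) ≠ 1 := by
    intro h
    rw [Subgroup.relIndex_eq_one] at h
    exact h1 (le_sup_right.trans h)
  refine ⟨_, A.relIndex (A ⊔ T), ?_, ?_, rfl, by rw [← hmul, mul_comm]⟩
  · exact arith5 (x := 1) (c := 0) (by simp) (by rw [mul_one]; exact hc) hx1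
  · exact arith5 hc (by rw [hmul]; exact hc') hz1

theorem ineq_of (hC : ∀ h ∈ H, h ≠ 1 → Subgroup.centralizer ({h} : Set N) ≤ H)
    (A T : Subgroup N) [A.Normal] [T.Normal] (hA : A ≤ H) (hT : T ≤ H)
    (h1 : ¬ T ≤ A) (h2 : A ⊔ T ≠ H) :
    4 * H.index ^ 2 * (A ⊔ T).relIndex H < (A.relIndex H - 1) ^ 2 := by
  obtain ⟨x, z, hx, hz, e1, e2⟩ := split_index H hC A T hA hT h1 h2
  rw [e1, e2]
  exact arith4 hx hz (Nat.pos_of_ne_zero Subgroup.index_ne_zero_of_finite)

theorem base (hC : ∀ h ∈ H, h ≠ 1 → Subgroup.centralizer ({h} : Set N) ≤ H)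
    (hsolv : Group.IsSolvable H) (hH1 : H ≠ ⊥) (τ : (N → ℂ) → (G → ℂ))
    (hτ : IsLinearIsometryOn (zspanOn (inducedIrrAbove H ⊥) {1}ᶜ) τ)
    (hτ1 : ∀ α ∈ zspanOn (inducedIrrAbove H ⊥) {1}ᶜ, τ α 1 = 0)
    (hne : ⁅H, H⁆.relIndex H ≠ H.index + 1) :
    IsCoherent (inducedIrrAbove H ⁅H, H⁆) {1}ᶜ τ := by
  choose! d hd0 hd using (fun (φ : N → ℂ) (hφ : φ ∈ inducedIrrAbove H ⊥) =>
    irr_apply_one (above_irr H hC hφ))
  have hsub := above_subset H ⁅H, H⁆
  have hw := weight H hC d hd ⁅H, H⁆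
  have hdeg : ∀ φ ∈ SF H ⁅H, H⁆, φ 1 = (H.index : ℂ) := by
    intro φ hφ
    have hφ' : φ ∈ inducedIrrAbove H ⁅H, H⁆ := by rw [← coe_SF]; exact hφ
    obtain ⟨θ, h1, h2, h3, rfl⟩ := hφ'
    have h4 : θ 1 = 1 := Cfsg.Agent.Lib.Helper25.linear_of_abelian_mod_ker h1 (by
      intro x y
      apply h3
      have : ((x * y * x⁻¹ * y⁻¹ : H) : N) = ⁅(x : N), (y : N)⁆ := by
        rw [commutatorElement_def]; rfl
      rw [this]
      exact Subgroup.commutator_mem_commutator x.2 y.2)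
    rw [Cfsg.Agent.Lib.Helper25.indFun_one, h4, mul_one]
  have hdd : ∀ φ ∈ SF H ⁅H, H⁆, d φ = H.index := by
    intro φ hφ
    have h := hd φ (hsub (by rw [← coe_SF]; exact hφ))
    rw [hdeg φ hφ] at h
    exact_mod_cast h.symm
  rw [Finset.sum_congr rfl (fun φ hφ => by rw [hdd φ hφ]), Finset.sum_const, smul_eq_mul] at hw
  have he0 : 0 < H.index := Nat.pos_of_ne_zero Subgroup.index_ne_zero_of_finite
  have hr : (SF H ⁅H, H⁆).card * H.index + 1 = ⁅H, H⁆.relIndex H := by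
    apply Nat.eq_of_mul_eq_mul_left he0
    rw [← hw]; ring
  have hr1 : ⁅H, H⁆.relIndex H ≠ 1 := by
    intro h
    rw [Subgroup.relIndex_eq_one] at h
    exact comm_sup_ne' H ⊥ (bot_lt_iff_ne_bot.mpr hH1)
      (by rw [sup_bot_eq]; exact le_antisymm (Subgroup.commutator_le_left H H) h)
  have h2 : 2 ≤ (SF H ⁅H, H⁆).card := by
    by_contra hlt
    have h3 : (SF H ⁅H, H⁆).card = 0 ∨ (SF H ⁅H, H⁆).card = 1 := by omega
    rcases h3 with h3 | h3
    · rw [h3] at hr
      exact hr1 (by omega)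
    · rw [h3] at hr
      exact hne (by omega)
  rw [← coe_SF]
  have hsub' : (↑(SF H ⁅H, H⁆) : Set (N → ℂ)) ⊆ inducedIrrAbove H ⊥ := by rw [coe_SF]; exact hsub
  exact equal_degree_gen τ (SF H ⁅H, H⁆) (fun χ hχ => above_irr H hC (hsub' hχ))
    (isoOn_mono (zspanOn_mono hsub') hτ) (fun α hα => hτ1 α (zspanOn_mono hsub' hα)) h2
    (fun φ hφ ψ hψ => by rw [hdeg φ hφ, hdeg ψ hψ])

theorem main (hH1 : H ≠ ⊥) (hH2 : H ≠ ⊤)
    (hC : ∀ h ∈ H, h ≠ 1 → Subgroup.centralizer ({h} : Set N) ≤ H)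
    (he : Nat.card H ≠ H.index + 1) (τ : (N → ℂ) → (G → ℂ))
    (hτ : IsLinearIsometryOn (zspanOn (inducedIrrAbove H ⊥) {1}ᶜ) τ)
    (hτ1 : ∀ α ∈ zspanOn (inducedIrrAbove H ⊥) {1}ᶜ, τ α 1 = 0) :
    IsCoherent (inducedIrrAbove H ⊥) {1}ᶜ τ ∨ ∃ p : ℕ, p.Prime ∧ (∃ m : ℕ, Nat.card H = p ^ m) ∧
      ¬ IsMulCommutative H ∧ (⁅H, H⁆.subgroupOf H).index ≤ 4 * H.index ^ 2 + 1 := by
  have hnil := nilp H hH1 hH2 hC
  have hsolv : Group.IsSolvable H := inferInstance
  have he0 : 0 < H.index := Nat.pos_of_ne_zero Subgroup.index_ne_zero_of_finite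
  have hH'lt : ⁅H, H⁆ < H := lt_of_le_of_ne (Subgroup.commutator_le_left H H) (by
    have := comm_sup_ne' H ⊥ (bot_lt_iff_ne_bot.mpr hH1)
    rwa [sup_bot_eq] at this)
  by_cases hpp : ∃ p : ℕ, p.Prime ∧ ∃ m : ℕ, Nat.card H = p ^ m
  · obtain ⟨p, hp, m, hm⟩ := hpp
    by_cases hab : IsMulCommutative H
    · left
      have hbot : ⁅H, H⁆ = ⊥ := by
        rw [Subgroup.commutator_eq_bot_iff_le_centralizer]
        intro x hx
        rw [Subgroup.mem_centralizer_iff]
        intro y hy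
        exact congrArg Subtype.val (hab.is_comm.comm (⟨y, hy⟩ : H) ⟨x, hx⟩)
      have := base H hC hsolv hH1 τ hτ hτ1 (by rw [hbot, Subgroup.relIndex_bot_left]; exact he)
      rwa [hbot] at this
    · by_cases hle : (⁅H, H⁆.subgroupOf H).index ≤ 4 * H.index ^ 2 + 1
      · right
        exact ⟨p, hp, ⟨m, hm⟩, hab, hle⟩
      · left
        push Not at hle
        have hr : 4 * H.index ^ 2 + 2 ≤ ⁅H, H⁆.relIndex H := hle
        have hb := base H hC hsolv hH1 τ hτ hτ1 (by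
          intro h
          rw [h] at hr
          nlinarith)
        refine chain H hC hnil τ hτ hτ1 ⊥ ⊥ ⁅H, H⁆ bot_le hH'lt bot_le ?_ ?_ hb
        · intro x hx y hy
          rw [Subgroup.mem_bot] at hx
          subst hx
          simp
        · intro A hA _ hAle
          rw [sup_bot_eq]
          have h1 : ⁅H, H⁆.relIndex H ≤ A.relIndex H :=
            Nat.le_of_dvd (Nat.pos_of_ne_zero Subgroup.index_ne_zero_of_finite)
              (Subgroup.relIndex_dvd_of_le_left H hAle)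
          have := Cfsg.Agent.S1520.arith2 (e := H.index) (k := 1) one_pos (hr.trans h1)
          simpa using this
  · left
    have hcard1 : Nat.card H ≠ 1 := fun h => hH1 (Subgroup.card_eq_one.mp h)
    obtain ⟨p, hp, hpd⟩ := Nat.exists_prime_and_dvd hcard1
    have hc0 : Nat.card H ≠ 0 := Nat.card_pos.ne'
    obtain ⟨a, ha⟩ : ∃ a, a = (Nat.card H).factorization p := ⟨_, rfl⟩
    obtain ⟨k, hk⟩ : ∃ k, k = Nat.card H / p ^ a := ⟨_, rfl⟩
    have hnk : (p ^ a).Coprime k := by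
      rw [hk, ha]
      exact (Nat.coprime_ordCompl hp hc0).pow_left _
    have hmul : Nat.card H = p ^ a * k := by
      rw [hk, ha]
      exact (Nat.ordProj_mul_ordCompl_eq_self _ p).symm
    obtain ⟨P, Q, hPn, hQn, hPH, hQH, hPc, hQc, hdisj, hsup, hcomm⟩ := hall_pair H hnk hmul
    have hQ1 : Q ≠ ⊥ := by
      intro h
      apply hpp
      refine ⟨p, hp, a, ?_⟩
      rw [h, Subgroup.card_bot] at hQc
      rw [hmul, ← hQc, mul_one]
    have hP1 : P ≠ ⊥ := by
      intro h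
      rw [h, Subgroup.card_bot] at hPc
      have h1 : p ∣ p ^ a := by
        rw [ha]
        exact Nat.dvd_ordProj_of_dvd hc0 hp hpd
      rw [← hPc] at h1
      exact hp.one_lt.ne' (Nat.dvd_one.mp h1)
    have hQlt : Q < H := lt_of_le_of_ne hQH (by
      intro h
      apply hP1
      rw [← hdisj, h]
      exact (inf_eq_left.mpr hPH).symm)
    have hPlt : P < H := lt_of_le_of_ne hPH (by
      intro h
      apply hQ1
      rw [← hdisj, h]
      exact (inf_eq_right.mpr hQH).symm)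
    have hHQ := comm_sup_ne' H Q hQlt
    have hHP := comm_sup_ne' H P hPlt
    have hQnle : ¬ Q ≤ ⁅H, H⁆ := by
      intro h
      apply hHP
      apply le_antisymm (sup_le hH'lt.le hPH)
      exact hsup.ge.trans (sup_le le_sup_right (h.trans le_sup_left))
    have hPnle : ¬ P ≤ ⁅H, H⁆ := by
      intro h
      apply hHQ
      apply le_antisymm (sup_le hH'lt.le hQH)
      exact hsup.ge.trans (sup_le (h.trans le_sup_left) le_sup_right)
    obtain ⟨x, z, hx, hz, e1, e2⟩ := split_index H hC ⁅H, H⁆ P hH'lt.le hPH hPnle hHP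
    have hb := base H hC hsolv hH1 τ hτ hτ1 (by
      rw [e2]
      intro h
      nlinarith)
    have s1 : IsCoherent (inducedIrrAbove H ⁅Q, Q⁆) {1}ᶜ τ := by
      refine chain H hC hnil τ hτ hτ1 ⁅Q, Q⁆ Q ⁅H, H⁆ (Subgroup.commutator_mono hQH hQH) hH'lt hQH
        ?_ ?_ hb
      · intro x hx y hy
        have hy' : y ∈ (↑(P ⊔ Q) : Set N) := by rw [hsup]; exact hy
        rw [Subgroup.mul_normal] at hy'
        obtain ⟨a, ha, b, hb, rfl⟩ := Set.mem_mul.mp hy'
        have h1 := hcomm a ha x hx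
        have h2 : x * (a * b) * x⁻¹ * (a * b)⁻¹ = a * ⁅x, b⁆ * a⁻¹ := by
          rw [commutatorElement_def]
          calc x * (a * b) * x⁻¹ * (a * b)⁻¹ = (x * a) * b * x⁻¹ * b⁻¹ * a⁻¹ := by group
            _ = (a * x) * b * x⁻¹ * b⁻¹ * a⁻¹ := by rw [h1]
            _ = _ := by group
        rw [h2]
        exact (inferInstance : (⁅Q, Q⁆).Normal).conj_mem _
          (Subgroup.commutator_mem_commutator hx hb) a
      · intro A hA _ hAle
        exact ineq_of H hC A Q (hAle.trans hH'lt.le) hQH (fun h => hQnle (h.trans hAle))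
          (fun h => hHQ (le_antisymm (sup_le hH'lt.le hQH) (h.ge.trans (sup_le_sup_right hAle Q))))
    have hT1 : P ⊓ Subgroup.centralizer (H : Set N) ≠ ⊥ := by
      have : Fact p.Prime := ⟨hp⟩
      have : Nontrivial P := (Subgroup.nontrivial_iff_ne_bot P).mpr hP1
      have hPp : IsPGroup p P := IsPGroup.of_card hPc
      have := hPp.center_nontrivial
      obtain ⟨⟨z, hz⟩, hz1⟩ := exists_ne (1 : Subgroup.center P)
      intro hbot
      have hle : H ≤ Subgroup.centralizer {(z : N)} := by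
        refine hsup.ge.trans (sup_le ?_ ?_)
        · intro u hu
          rw [Subgroup.mem_centralizer_singleton_iff]
          exact congrArg Subtype.val (Subgroup.mem_center_iff.mp hz ⟨u, hu⟩)
        · intro u hu
          rw [Subgroup.mem_centralizer_singleton_iff]
          exact (hcomm z z.2 u hu).symm
      have hzT : (z : N) ∈ P ⊓ Subgroup.centralizer (H : Set N) := by
        refine Subgroup.mem_inf.mpr ⟨z.2, ?_⟩
        rw [Subgroup.mem_centralizer_iff]
        intro y hy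
        exact Subgroup.mem_centralizer_singleton_iff.mp (hle hy)
      rw [hbot, Subgroup.mem_bot] at hzT
      exact hz1 (Subtype.ext (Subtype.ext hzT))
    refine chain H hC hnil τ hτ hτ1 ⊥ (P ⊓ Subgroup.centralizer (H : Set N)) ⁅Q, Q⁆ bot_le
      (lt_of_le_of_lt (Subgroup.commutator_le_left Q Q) hQlt) (inf_le_left.trans hPH) ?_ ?_ s1
    · intro x hx y hy
      have := Subgroup.mem_centralizer_iff.mp hx.2 y hy
      rw [Subgroup.mem_bot, ← this]
      group
    · intro A hA _ hAle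
      have hAQ : A ≤ Q := hAle.trans (Subgroup.commutator_le_left Q Q)
      exact ineq_of H hC A (P ⊓ Subgroup.centralizer (H : Set N)) (hAQ.trans hQH)
        (inf_le_left.trans hPH)
        (fun h => hT1 (by rw [eq_bot_iff, ← hdisj]; exact le_inf inf_le_left (h.trans hAQ)))
        (fun h => hHP (le_antisymm (sup_le hH'lt.le hPH) (h.ge.trans
          (sup_le ((hAle.trans (Subgroup.commutator_mono hQH hQH)).trans le_sup_left)
            (inf_le_left.trans le_sup_right)))))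

end main


/-- Let N be a finite group with a proper nontrivial normal subgroup H such that every element commuting with a non-identity element of H lies in H (N is a Frobenius group with kernel H); let e be the index of H and suppose Nat.card H ≠ e + 1. Let S be the set of irreducible characters χ of N with χ h ≠ χ 1 for some h ∈ H, and τ a linear isometry on the integer combinations of S vanishing at 1, with values virtual characters of a finite group G vanishing at 1. Then (S, N minus 1, τ) is coherent, or there is a prime p with Nat.card H a power of p, H non-abelian and [H : [H,H]] ≤ 4e² + 1. -/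
theorem result {N : Type*} [Group N] [Fintype N] {G : Type*} [Group G] [Fintype G] (H : Subgroup N) [H.Normal] (hH1 : H ≠ ⊥) (hH2 : H ≠ ⊤) (hC : ∀ h ∈ H, h ≠ 1 → Subgroup.centralizer ({h} : Set N) ≤ H) (he : Nat.card H ≠ H.index + 1) (τ : (N → ℂ) → (G → ℂ)) (hτ : Cfsg.IsLinearIsometryOn (Cfsg.zspanOn {χ : N → ℂ | Cfsg.IsIrrCharacter N χ ∧ ∃ h ∈ H, χ h ≠ χ 1} {1}ᶜ) τ) (hτ1 : ∀ α ∈ Cfsg.zspanOn {χ : N → ℂ | Cfsg.IsIrrCharacter N χ ∧ ∃ h ∈ H, χ h ≠ χ 1} {1}ᶜ, τ α 1 = 0) : Cfsg.IsCoherent {χ : N → ℂ | Cfsg.IsIrrCharacter N χ ∧ ∃ h ∈ H, χ h ≠ χ 1} {1}ᶜ τ ∨ ∃ p : ℕ, p.Prime ∧ (∃ m : ℕ, Nat.card H = p ^ m) ∧ ¬ IsMulCommutative H ∧ (⁅H, H⁆.subgroupOf H).index ≤ 4 * H.index ^ 2 + 1 := by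
  classical
  have hfinI : Finite (IrrCharacter H) := Cfsg.Agent.Lib.Helper25.finite_irrCharacter
  haveI : Fintype (IrrCharacter H) := Fintype.ofFinite _
  rw [rel_eq H hC] at hτ hτ1 ⊢
  exact main H hH1 hH2 hC he τ hτ hτ1

end Cfsg.Agent.S1535
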