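import Cfsg.Statements.S0739
import Cfsg.Agent.Lib.Helper24.Zass5
import Cfsg.Agent.S1535
import Cfsg.Agent.S0740

set_option autoImplicit false
open Cfsg

namespace Cfsg.Agent.S0739

open Cfsg.Agent.Lib.Helper29.Zass Cfsg.Agent.Lib.Helper24.Zass3 Cfsg.Agent.Lib.Helper24.Zass4
  Cfsg.Agent.Lib.Helper24.Zass5

theorem Z2 {G : Type*} [Group G] [Finite G] (E : Subgroup G)
    (hcop : Nat.Coprime E.index (Nat.card E)) {A : Type*} [CommGroup A] [Finite A] (φ : E →* A)
    (hsurj : Function.Surjective φ) (hA : Nat.card A ≠ 1)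
    (hker : Nat.Coprime (Nat.card φ.ker) (Nat.card A)) (V : G →* A)
    (hV : ∀ y : E, V y = φ y ^ E.index) :
    ∃ q : ℕ, q.Prime ∧ q ∣ Nat.card E ∧
      ∃ N : Subgroup G, N.Normal ∧ N.index = q ^ (Nat.card G).factorization q := by
  have hcardE : Nat.card φ.ker * Nat.card A = Nat.card E := by
    have h1 := Subgroup.card_mul_index φ.ker
    rwa [Subgroup.index_ker, MonoidHom.range_eq_top.mpr hsurj, Subgroup.card_top] at h1
  obtain ⟨q, hq, hqA⟩ := Nat.exists_prime_and_dvd hA
  have hqE : q ∣ Nat.card E := by rw [← hcardE]; exact Dvd.dvd.mul_left hqA _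
  refine ⟨q, hq, hqE, ?_⟩
  have hA0 : Nat.card A ≠ 0 := Nat.card_pos.ne'
  obtain ⟨v, hv⟩ : ∃ v, v = (Nat.card A).factorization q := ⟨_, rfl⟩
  obtain ⟨r, hr⟩ : ∃ r, r = Nat.card A / q ^ v := ⟨_, rfl⟩
  have hrq : r.Coprime (q ^ v) := by
    rw [hr, hv]
    exact ((Nat.coprime_ordCompl hq hA0).pow_left _).symm
  have hmul : Nat.card A = r * q ^ v := by
    rw [hr, hv, mul_comm]
    exact (Nat.ordProj_mul_ordCompl_eq_self _ q).symm
  -- V is surjective
  have hcopA : (Nat.card A).Coprime E.index := by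
    apply Nat.Coprime.coprime_dvd_left _ hcop.symm
    rw [← hcardE]; exact Dvd.intro_left _ rfl
  have hVs : Function.Surjective V := by
    intro z
    obtain ⟨y, hy⟩ := hsurj ((powCoprime hcopA).symm z)
    refine ⟨y, ?_⟩
    rw [hV, hy]
    exact (powCoprime hcopA).apply_symm_apply z
  obtain ⟨P, hPn, -, hPc, hPm⟩ := Cfsg.Agent.S1535.hall_one (⊤ : Subgroup A) hrq
    (by rw [Subgroup.card_top]; exact hmul)
  refine ⟨P.comap V, hPn.comap V, ?_⟩
  rw [Subgroup.index_comap_of_surjective P hVs]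
  have h2 := Subgroup.card_mul_index P
  rw [hPc, hmul] at h2
  have hr0 : 0 < r := by
    rcases Nat.eq_zero_or_pos r with h | h
    · rw [h, zero_mul] at hmul
      exact absurd hmul hA0
    · exact h
  have h3 : P.index = q ^ v := Nat.eq_of_mul_eq_mul_left hr0 h2
  rw [h3]
  congr 1
  -- valuations
  have hG : Nat.card G = E.index * (Nat.card φ.ker * Nat.card A) := by
    rw [hcardE, mul_comm]; exact (Subgroup.card_mul_index E).symm
  have hq1 : ¬ q ∣ E.index := by
    intro h
    exact hq.one_lt.ne' (Nat.dvd_one.mp (hcop ▸ Nat.dvd_gcd h hqE))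
  have hq2 : ¬ q ∣ Nat.card φ.ker := by
    intro h
    exact hq.one_lt.ne' (Nat.dvd_one.mp (hker ▸ Nat.dvd_gcd h hqA))
  rw [hG, Nat.factorization_mul (Subgroup.index_ne_zero_of_finite)
    (Nat.mul_ne_zero Nat.card_pos.ne' hA0), Nat.factorization_mul Nat.card_pos.ne' hA0]
  simp only [Finsupp.add_apply]
  rw [Nat.factorization_eq_zero_of_not_dvd hq1, Nat.factorization_eq_zero_of_not_dvd hq2, hv]
  simp

theorem Z1 {X : Type*} [Group X] [Finite X] [IsZGroup X] (hodd : Odd (Nat.card X))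
    (τ : MulAut X) (hτ : τ * τ = 1) (y₀ : X) (hy₀ : τ y₀ = y₀) (hne : y₀ ≠ 1) :
    ∃ L : Subgroup X, L.Normal ∧ commutator X ≤ L ∧ (∀ y, y⁻¹ * τ y ∈ L) ∧ L ≠ ⊤ ∧
      Nat.Coprime (Nat.card L) L.index := by
  have hcard : Nat.card (Subgroup.zpowers τ) ∣ 2 := by
    rw [Nat.card_zpowers]
    apply orderOf_dvd_of_pow_eq_one
    rw [pow_two, hτ]
  have hcop : (Nat.card (Subgroup.zpowers τ)).Coprime (Nat.card X) :=
    Nat.Coprime.coprime_dvd_left hcard (Nat.coprime_two_left.mpr hodd)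
  obtain ⟨hcopF, -, hKn, hKF, hsup⟩ := Cfsg.Agent.S4117.result (G := X) (A := Subgroup.zpowers τ) hcop
    (fun p _ P => inferInstance)
  obtain ⟨K, hKdef⟩ : ∃ K, K =
    Subgroup.closure {y : X | ∃ (a : Subgroup.zpowers τ) (g : X), y = g⁻¹ * a • g} := ⟨_, rfl⟩
  rw [← hKdef] at hKn hKF hsup
  have hfix : y₀ ∈ MulAction.fixedPoints (Subgroup.zpowers τ) X := by
    intro a
    have h1 : Subgroup.zpowers τ ≤ MulAction.stabilizer (MulAut X) y₀ :=
      (Subgroup.zpowers_le).mpr hy₀
    exact h1 a.2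
  have hK : K ≠ ⊤ := by
    intro h
    have h1 : y₀ ∈ (K : Set X) ∩ MulAction.fixedPoints (Subgroup.zpowers τ) X :=
      ⟨by rw [h]; trivial, hfix⟩
    rw [hKF] at h1
    exact hne h1
  have hcl : Subgroup.closure (MulAction.fixedPoints (Subgroup.zpowers τ) X) =
      FixedPoints.subgroup (Subgroup.zpowers τ) X :=
    Subgroup.closure_eq (FixedPoints.subgroup (Subgroup.zpowers τ) X)
  rw [hcl] at hsup
  have hdisj : Disjoint K (FixedPoints.subgroup (Subgroup.zpowers τ) X) := by
    rw [Subgroup.disjoint_def]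
    intro x hx1 hx2
    have h1 : x ∈ (K : Set X) ∩ MulAction.fixedPoints (Subgroup.zpowers τ) X := ⟨hx1, hx2⟩
    rw [hKF] at h1
    exact h1
  have hcompl : Subgroup.IsComplement' K (FixedPoints.subgroup (Subgroup.zpowers τ) X) := by
    apply Subgroup.isComplement'_of_disjoint_and_mul_eq_univ hdisj
    rw [← Subgroup.normal_mul, hsup]
    rfl
  have hcm := hcompl.card_mul_card
  have hFc : Nat.card (MulAction.fixedPoints (Subgroup.zpowers τ) X : Set X) =
      Nat.card (FixedPoints.subgroup (Subgroup.zpowers τ) X) := rfl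
  rw [hFc, ← hcm, Nat.mul_div_cancel _ Nat.card_pos] at hcopF
  have hKidx : K.index = Nat.card (FixedPoints.subgroup (Subgroup.zpowers τ) X) := by
    have h1 := K.card_mul_index
    rw [← hcm] at h1
    exact Nat.eq_of_mul_eq_mul_left Nat.card_pos h1
  refine ⟨commutator X ⊔ K, inferInstance, le_sup_left, ?_, Cfsg.Agent.S1535.comm_sup_ne K hK, ?_⟩
  · intro y
    apply (le_sup_right : K ≤ commutator X ⊔ K)
    rw [hKdef]
    exact Subgroup.subset_closure ⟨⟨τ, Subgroup.mem_zpowers τ⟩, y, rfl⟩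
  · apply Nat.coprime_of_dvd
    intro q hq hq1 hq2
    have h1 : q ∣ Nat.card (FixedPoints.subgroup (Subgroup.zpowers τ) X) := by
      rw [← hKidx]
      exact hq2.trans (Subgroup.index_dvd_of_le le_sup_right)
    have h2 : q ∣ (commutator X).index := hq2.trans (Subgroup.index_dvd_of_le le_sup_left)
    have h3 : ¬ q ∣ Nat.card K := by
      intro h
      exact hq.one_lt.ne' (Nat.dvd_one.mp (hcopF ▸ Nat.dvd_gcd h1 h))
    have h4 : ¬ q ∣ Nat.card (commutator X) := by
      intro h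
      exact hq.one_lt.ne' (Nat.dvd_one.mp
        ((IsZGroup.coprime_commutator_index X) ▸ Nat.dvd_gcd h h2))
    have h5 : Nat.card ↥(commutator X ⊔ K) ∣ Nat.card (commutator X) * Nat.card K := by
      have h6 : K.relIndex (commutator X ⊔ K) * Nat.card K = Nat.card ↥(commutator X ⊔ K) := by
        have h7 := (K.subgroupOf (commutator X ⊔ K)).card_mul_index
        rw [Nat.card_congr (Subgroup.subgroupOfEquivOfLe
          (le_sup_right : K ≤ commutator X ⊔ K)).toEquiv, mul_comm] at h7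
        exact h7
      rw [Subgroup.relIndex_sup_right] at h6
      rw [← h6]
      exact Nat.mul_dvd_mul_right (Subgroup.index_dvd_card _) _
    rcases (Nat.Prime.dvd_mul hq).mp (hq1.trans h5) with h | h
    · exact h4 h
    · exact h3 h

variable {G Ω : Type*} [Group G] [MulAction G Ω]

theorem transfer_two [Finite G] [Fintype Ω]
    (hZ : Cfsg.IsZassenhausGroup G Ω) {a b : Ω} (hab : a ≠ b)
    {A : Type*} [CommGroup A]
    (φ : ↥(MulAction.stabilizer G a ⊓ MulAction.stabilizer G b : Subgroup G) →* A)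
    (hinv : ∀ g : G, g • a = b → g • b = a →
      ∀ y : ↥(MulAction.stabilizer G a ⊓ MulAction.stabilizer G b : Subgroup G),
      ∀ hy : g⁻¹ * (y : G) * g ∈ (MulAction.stabilizer G a ⊓ MulAction.stabilizer G b : Subgroup G),
      φ ⟨g⁻¹ * (y : G) * g, hy⟩ = φ y)
    (y : ↥(MulAction.stabilizer G a ⊓ MulAction.stabilizer G b : Subgroup G)) :
    MonoidHom.transfer φ (y : G) =
      φ y ^ (MulAction.stabilizer G a ⊓ MulAction.stabilizer G b : Subgroup G).index := by
  have aux : ∀ (z : ↥(MulAction.stabilizer G a ⊓ MulAction.stabilizer G b : Subgroup G)) (g₀ : G)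
      (hz : g₀⁻¹ * (z : G) * g₀ ∈ (MulAction.stabilizer G a ⊓ MulAction.stabilizer G b : Subgroup G)),
      φ ⟨g₀⁻¹ * (z : G) * g₀, hz⟩ = φ z := by
    intro z g₀ hz
    by_cases hz1 : z = 1
    · subst hz1
      congr 1
      exact Subtype.ext (by simp)
    · have hz1' : (z : G) ≠ 1 := fun h => hz1 (Subtype.ext h)
      have hga : (z : G) • (g₀ • a) = g₀ • a := by
        have h3 : (g₀⁻¹ * (z : G) * g₀) • a = a := hz.1
        rw [mul_smul, mul_smul, inv_smul_eq_iff] at h3
        exact h3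
      have hgb : (z : G) • (g₀ • b) = g₀ • b := by
        have h3 : (g₀⁻¹ * (z : G) * g₀) • b = b := hz.2
        rw [mul_smul, mul_smul, inv_smul_eq_iff] at h3
        exact h3
      rcases perm_pair hZ hz1' hab z.2.1 z.2.2 hga hgb with ⟨c1, c2⟩ | ⟨c1, c2⟩
      · have hg₀ : g₀ ∈ (MulAction.stabilizer G a ⊓ MulAction.stabilizer G b : Subgroup G) :=
          Subgroup.mem_inf.mpr ⟨c1, c2⟩
        have e1 : (⟨g₀⁻¹ * (z : G) * g₀, hz⟩ :
            ↥(MulAction.stabilizer G a ⊓ MulAction.stabilizer G b : Subgroup G)) =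
            (⟨g₀, hg₀⟩ : ↥(MulAction.stabilizer G a ⊓ MulAction.stabilizer G b : Subgroup G))⁻¹ * z
              * ⟨g₀, hg₀⟩ := rfl
        rw [e1, map_mul, map_mul, map_inv, mul_comm, mul_inv_cancel_left]
      · exact hinv g₀ c1 c2 z hz
  exact transfer_pow _ φ y (by
    intro k g₀ hk
    have hk' : g₀⁻¹ * ((y ^ k : ↥(MulAction.stabilizer G a ⊓ MulAction.stabilizer G b : Subgroup G)) : G)
        * g₀ ∈ (MulAction.stabilizer G a ⊓ MulAction.stabilizer G b : Subgroup G) := by
      simpa using hk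
    rw [← map_pow, ← aux (y ^ k) g₀ hk']
    congr 1)

open scoped IsMulCommutative


/-- In a finite Zassenhaus group whose two-point stabiliser `H = G_{a,b}` has odd order `d`, and which has no normal `q`-complement for any prime `q ∣ d`, `H` is cyclic, `C_G(H) = H`, and every element swapping `a` and `b` inverts each element of `H`. -/
theorem result {G Ω : Type*} [Group G] [Finite G] [MulAction G Ω] [Fintype Ω] (hZ : Cfsg.IsZassenhausGroup G Ω) {a b : Ω} (hab : a ≠ b) (hodd : Odd (Nat.card ↥(MulAction.stabilizer G a ⊓ MulAction.stabilizer G b))) (hnil : ∀ q : ℕ, q.Prime → q ∣ Nat.card ↥(MulAction.stabilizer G a ⊓ MulAction.stabilizer G b) → ¬ ∃ N : Subgroup G, N.Normal ∧ N.index = q ^ (Nat.card G).factorization q) : IsCyclic ↥(MulAction.stabilizer G a ⊓ MulAction.stabilizer G b) ∧ Subgroup.centralizer ((MulAction.stabilizer G a ⊓ MulAction.stabilizer G b : Subgroup G) : Set G) = MulAction.stabilizer G a ⊓ MulAction.stabilizer G b ∧ ∀ s : G, s • a = b → s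 • b = a → ∀ h ∈ MulAction.stabilizer G a ⊓ MulAction.stabilizer G b, s * h * s⁻¹ = h⁻¹ := by
  classical
  obtain ⟨t, ht2, h1, h2⟩ := (Cfsg.Agent.S0740.result hZ hab).1
  have htt : t * t = 1 := by rw [← pow_two, ← ht2, pow_orderOf_eq_one]
  have hz := zgroup_two hZ hab hodd
  have hti : t⁻¹ = t := inv_eq_of_mul_eq_one_left htt
  have hinvol : ∀ z : G, t * (t * z * t⁻¹) * t⁻¹ = z := by
    intro z
    calc t * (t * z * t⁻¹) * t⁻¹ = (t * t) * z * (t * t)⁻¹ := by group
      _ = z := by rw [htt]; group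
  let τ : MulAut ↥(MulAction.stabilizer G a ⊓ MulAction.stabilizer G b : Subgroup G) :=
    { toFun := fun z => ⟨t * z * t⁻¹, conj_mem_two (Or.inr ⟨h1, h2⟩) z.2⟩
      invFun := fun z => ⟨t * z * t⁻¹, conj_mem_two (Or.inr ⟨h1, h2⟩) z.2⟩
      left_inv := fun z => Subtype.ext (hinvol z)
      right_inv := fun z => Subtype.ext (hinvol z)
      map_mul' := fun x z => Subtype.ext (by
        show t * ((x : G) * z) * t⁻¹ = (t * x * t⁻¹) * (t * z * t⁻¹)
        group) }
  have hττ : τ * τ = 1 := by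
    ext z
    exact hinvol z
  have hfix : ∀ y, τ y = y → y = 1 := by
    intro y₀ hy₀
    by_contra hne
    obtain ⟨L, hLn, hLc, hLτ, hLtop, hLcop⟩ := Z1 hodd τ hττ y₀ hy₀ hne
    have : IsMulCommutative
        (↥(MulAction.stabilizer G a ⊓ MulAction.stabilizer G b : Subgroup G) ⧸ L) :=
      Subgroup.Normal.quotient_commutative_iff_commutator_le.mpr hLc
    have hinv : ∀ g : G, g • a = b → g • b = a →
        ∀ y : ↥(MulAction.stabilizer G a ⊓ MulAction.stabilizer G b : Subgroup G),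
        ∀ hy : g⁻¹ * (y : G) * g ∈ (MulAction.stabilizer G a ⊓ MulAction.stabilizer G b : Subgroup G),
        QuotientGroup.mk' L ⟨g⁻¹ * (y : G) * g, hy⟩ = QuotientGroup.mk' L y := by
      intro g hg1 hg2 z hz'
      have hm : t * g ∈ (MulAction.stabilizer G a ⊓ MulAction.stabilizer G b : Subgroup G) :=
        Subgroup.mem_inf.mpr ⟨by show (t * g) • a = a; rw [mul_smul, hg1, h2],
          by show (t * g) • b = b; rw [mul_smul, hg2, h1]⟩
      have e1 : (⟨g⁻¹ * (z : G) * g, hz'⟩ :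
          ↥(MulAction.stabilizer G a ⊓ MulAction.stabilizer G b : Subgroup G)) =
          (⟨t * g, hm⟩ : ↥(MulAction.stabilizer G a ⊓ MulAction.stabilizer G b : Subgroup G))⁻¹ * τ z *
            ⟨t * g, hm⟩ := Subtype.ext (by
        show g⁻¹ * (z : G) * g = (t * g)⁻¹ * (t * z * t⁻¹) * (t * g)
        group)
      have e2 : QuotientGroup.mk' L (τ z) = QuotientGroup.mk' L z :=
        (QuotientGroup.eq.mpr (hLτ z)).symm
      rw [e1, map_mul, map_mul, map_inv, mul_comm, mul_inv_cancel_left, e2]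
    have hV := transfer_two hZ hab (QuotientGroup.mk' L) hinv
    obtain ⟨q, hq, hqE, N, hNn, hNi⟩ := Z2 _ (coprime_index hZ hab hodd) (QuotientGroup.mk' L)
      (QuotientGroup.mk'_surjective L) (fun h => hLtop (Subgroup.index_eq_one.mp h))
      (by rw [QuotientGroup.ker_mk']; exact hLcop) (MonoidHom.transfer (QuotientGroup.mk' L)) hV
    exact hnil q hq hqE ⟨N, hNn, hNi⟩
  obtain ⟨x₀, hx₀1, hx₀a, hx₀b⟩ := exists_two_fix hZ hab
  have hx₀E : x₀ ∈ (MulAction.stabilizer G a ⊓ MulAction.stabilizer G b : Subgroup G) :=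
    Subgroup.mem_inf.mpr ⟨hx₀a, hx₀b⟩
  have hτ1 : τ ≠ 1 := by
    intro h
    have h3 : (⟨x₀, hx₀E⟩ : ↥(MulAction.stabilizer G a ⊓ MulAction.stabilizer G b : Subgroup G)) = 1 :=
      hfix _ (by rw [h]; rfl)
    exact hx₀1 (congrArg Subtype.val h3)
  have hord : orderOf τ = 2 := orderOf_eq_prime (by rw [pow_two, hττ]) hτ1
  obtain ⟨hcomm, hinvt⟩ := (Cfsg.Agent.S3375.result τ hord).1 hfix
  have hinvt' : ∀ y ∈ (MulAction.stabilizer G a ⊓ MulAction.stabilizer G b : Subgroup G),
      t * y * t⁻¹ = y⁻¹ := fun y hy => congrArg Subtype.val (hinvt ⟨y, hy⟩)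
  have hswap : ∀ s : G, s • a = b → s • b = a →
      ∀ y ∈ (MulAction.stabilizer G a ⊓ MulAction.stabilizer G b : Subgroup G),
      s * y * s⁻¹ = y⁻¹ := by
    intro s hs1 hs2 y hy
    have hm : t * s ∈ (MulAction.stabilizer G a ⊓ MulAction.stabilizer G b : Subgroup G) :=
      Subgroup.mem_inf.mpr ⟨by show (t * s) • a = a; rw [mul_smul, hs1, h2],
        by show (t * s) • b = b; rw [mul_smul, hs2, h1]⟩
    have h3 : (t * s) * y = y * (t * s) := congrArg Subtype.val (hcomm ⟨t * s, hm⟩ ⟨y, hy⟩)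
    have h4 : s = t * (t * s) := by rw [← mul_assoc, htt, one_mul]
    calc s * y * s⁻¹ = t * ((t * s) * y * (t * s)⁻¹) * t⁻¹ := by
          conv_lhs => rw [h4]
          group
      _ = t * y * t⁻¹ := by rw [h3]; group
      _ = y⁻¹ := hinvt' y hy
  refine ⟨?_, ?_, hswap⟩
  · let _ : CommGroup ↥(MulAction.stabilizer G a ⊓ MulAction.stabilizer G b : Subgroup G) :=
      { (inferInstance : Group ↥(MulAction.stabilizer G a ⊓ MulAction.stabilizer G b : Subgroup G))
        with mul_comm := hcomm }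
    have hn : Group.IsNilpotent ↥(MulAction.stabilizer G a ⊓ MulAction.stabilizer G b : Subgroup G) :=
      inferInstance
    exact inferInstance
  · apply le_antisymm
    · intro g hg
      have h3 : x₀ * g = g * x₀ := Subgroup.mem_centralizer_iff.mp hg x₀ hx₀E
      have hga : x₀ • (g • a) = g • a := by rw [← mul_smul, h3, mul_smul, hx₀a]
      have hgb : x₀ • (g • b) = g • b := by rw [← mul_smul, h3, mul_smul, hx₀b]
      rcases perm_pair hZ hx₀1 hab hx₀a hx₀b hga hgb with ⟨c1, c2⟩ | ⟨c1, c2⟩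
      · exact Subgroup.mem_inf.mpr ⟨c1, c2⟩
      · exfalso
        have h4 := hswap g c1 c2 x₀ hx₀E
        have h5 : g * x₀ * g⁻¹ = x₀ := by rw [← h3]; group
        rw [h5] at h4
        have h6 : x₀ ^ 2 = 1 := by
          rw [pow_two]
          nth_rewrite 1 [h4]
          group
        have h7 : orderOf x₀ ∣ 2 := orderOf_dvd_of_pow_eq_one h6
        have h8 : orderOf x₀ ∣
            Nat.card ↥(MulAction.stabilizer G a ⊓ MulAction.stabilizer G b : Subgroup G) :=
          Subgroup.orderOf_dvd_natCard _ hx₀E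
        have h9 : Odd (orderOf x₀) := hodd.of_dvd_nat h8
        have h10 : orderOf x₀ = 1 := by
          rcases (Nat.dvd_prime Nat.prime_two).mp h7 with h | h
          · exact h
          · rw [h] at h9
            exact absurd h9 (by decide)
        exact hx₀1 (orderOf_eq_one_iff.mp h10)
    · intro g hg
      rw [Subgroup.mem_centralizer_iff]
      intro y hy
      exact congrArg Subtype.val (hcomm ⟨y, hy⟩ ⟨g, hg⟩)

end Cfsg.Agent.S0739
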