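import Cfsg.Statements.S0801
import Cfsg.Agent.Lib.Helper5.DKX3

set_option autoImplicit false
open Cfsg

namespace Cfsg.Agent.S0801

/-- Let F be a finite field of odd characteristic and λ ≠ 0 an element generating F as a field. Then the lower and upper unitriangular matrices with off-diagonal entries 1 and λ generate SL_2(F), unless |F| = 9 and λ² = −1, in which case they generate a subgroup of order 120. -/
theorem result {F : Type*} [Field F] [Fintype F] (h2 : (2 : F) ≠ 0) (lam : F) (hlam : lam ≠ 0) (hgen : Subfield.closure ({lam} : Set F) = ⊤) : (Subgroup.closure {g : Matrix.SpecialLinearGroup (Fin 2) F | (g : Matrix (Fin 2) (Fin 2) F) = !![1, 0; 1, 1] ∨ (g : Matrix (Fin 2) (Fin 2) F) = !![1, lam; 0, 1]} = ⊤ ∧ ¬ (Fintype.card F = 9 ∧ lam ^ 2 = -1)) ∨ (Fintype.card F = 9 ∧ lam ^ 2 = -1 ∧ Nat.card ↥(Subgroup.closure {g : Matrix.SpecialLinearGroup (Fin 2) F | (g : Matrix (Fin 2) (Fin 2) F) = !![1, 0; 1, 1] ∨ (g : Matrix (Fin 2) (Fin 2) F) = !![1,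 lam; 0, 1]}) = 120) := by
  classical
  obtain ⟨p, hchar⟩ := CharP.exists F
  haveI := hchar
  haveI : Fact p.Prime := ⟨CharP.char_is_prime F p⟩
  have hp2 : p ≠ 2 := by
    rintro rfl
    apply h2
    exact_mod_cast CharP.cast_eq_zero F 2
  have hset : {g : Matrix.SpecialLinearGroup (Fin 2) F | (g : Matrix (Fin 2) (Fin 2) F) = !![1, 0; 1, 1] ∨
      (g : Matrix (Fin 2) (Fin 2) F) = !![1, lam; 0, 1]} =
      {Cfsg.Agent.Lib.Helper5.sL (1 : F), Cfsg.Agent.Lib.Helper5.tU lam} := by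
    ext g
    rw [Set.mem_setOf_eq, Set.mem_insert_iff, Set.mem_singleton_iff]
    constructor
    · rintro (h | h)
      · exact Or.inl (Subtype.ext h)
      · exact Or.inr (Subtype.ext h)
    · rintro (h | h)
      · exact Or.inl (by rw [h]; rfl)
      · exact Or.inr (by rw [h]; rfl)
  rw [hset]
  obtain ⟨H, hH⟩ : ∃ H : Subgroup (Matrix.SpecialLinearGroup (Fin 2) F),
    H = Subgroup.closure {Cfsg.Agent.Lib.Helper5.sL (1 : F), Cfsg.Agent.Lib.Helper5.tU lam} := ⟨_, rfl⟩
  have hs : Cfsg.Agent.Lib.Helper5.sL (1 : F) ∈ H := hH ▸ Subgroup.subset_closure (by simp)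
  have hl : Cfsg.Agent.Lib.Helper5.tU lam ∈ H := hH ▸ Subgroup.subset_closure (by simp)
  by_cases hex : Fintype.card F = 9 ∧ lam ^ 2 = -1
  · right
    obtain ⟨h9, hsq⟩ := hex
    have hp3 : p = 3 := by
      obtain ⟨n, hpp, hn⟩ := FiniteField.card F p
      rw [h9] at hn
      have h1 : p ∣ 3 ^ 2 := by
        have : p ∣ p ^ (n : ℕ) := dvd_pow_self p n.pos.ne'
        rw [← hn] at this
        exact this
      exact (Nat.prime_dvd_prime_iff_eq hpp Nat.prime_three).mp (hpp.dvd_of_dvd_pow h1)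
    subst hp3
    refine ⟨h9, hsq, ?_⟩
    rw [← hH]
    rcases Cfsg.Agent.Lib.Helper5.dickson_card (p := 3) hp2 H lam 1 hlam one_ne_zero hl hs with h | h
    · rw [inv_one, hH] at h
      exact absurd h (Cfsg.Agent.Lib.Helper5.tU_one_not_mem lam hsq)
    · exact h
  · left
    refine ⟨?_, hex⟩
    rw [← hH]
    rcases Cfsg.Agent.Lib.Helper5.dickson_dich hp2 H lam 1 hlam one_ne_zero hl hs with h | ⟨h3, h4⟩
    · rw [inv_one] at h
      exact Cfsg.Agent.Lib.Helper5.dickson_gen_top hp2 H lam hgen h hl hs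
    · exfalso
      subst h3
      rw [mul_one] at h4
      exact hex ⟨Cfsg.Agent.Lib.Helper5.card_nine_of_sq lam h4 hgen, h4⟩

end Cfsg.Agent.S0801
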