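import Cfsg.Statements.S0882
import Cfsg.Agent.Lib.Helper24.Zass5
import Cfsg.Agent.S0740

set_option autoImplicit false
open Cfsg

namespace Cfsg.Agent.S0882

open Cfsg.Agent.Lib.Helper29.Zass Cfsg.Agent.Lib.Helper24.Zass3 Cfsg.Agent.Lib.Helper24.Zass4
  Cfsg.Agent.Lib.Helper24.Zass5

theorem dihedral_conj {G : Type*} [Group G] (z s' : G) (hzz : z * z = 1) (hs's' : s' * s' = 1)
    (hodd : Odd (orderOf (z * s'))) : ∃ r : G, s' = r * z * r⁻¹ := by
  obtain ⟨w, hw⟩ : ∃ w, w = z * s' := ⟨_, rfl⟩
  rw [← hw] at hodd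
  obtain ⟨k, hk⟩ := hodd
  have hzi : z⁻¹ = z := inv_eq_of_mul_eq_one_left hzz
  have hs'i : s'⁻¹ = s' := inv_eq_of_mul_eq_one_left hs's'
  have hwi : w⁻¹ = s' * z := by rw [hw, mul_inv_rev, hzi, hs'i]
  have hconj : z * w * z⁻¹ = w⁻¹ := by
    rw [hwi, hw, hzi, ← mul_assoc, hzz, one_mul]
  have hconjk : z * w ^ k * z⁻¹ = (w ^ k)⁻¹ := by
    rw [← conj_pow, hconj, inv_pow]
  have hw2k : w ^ k * w ^ k = w⁻¹ := by
    apply eq_inv_of_mul_eq_one_left
    rw [← pow_add, ← pow_succ, show k + k + 1 = 2 * k + 1 by ring, ← hk, pow_orderOf_eq_one]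
  refine ⟨w ^ k, ?_⟩
  rw [← hconjk, hzi]
  calc s' = s' * z * z := by rw [mul_assoc, hzz, mul_one]
    _ = w ^ k * w ^ k * z := by rw [hw2k, hwi]
    _ = w ^ k * (z * z) * w ^ k * z := by rw [hzz, mul_one]
    _ = _ := by group

section

variable {G Ω : Type*} [Group G] [Finite G] [MulAction G Ω] [Fintype Ω]

theorem odd_of_fix_two (hZ : Cfsg.IsZassenhausGroup G Ω) {a b : Ω} (hab : a ≠ b)
    (hodd : Odd (Nat.card ↥(MulAction.stabilizer G a ⊓ MulAction.stabilizer G b : Subgroup G)))
    {c d : Ω} (hcd : c ≠ d) (w : G) (h1 : w • c = c) (h2 : w • d = d) : Odd (orderOf w) := by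
  have hmem : w ∈ (MulAction.stabilizer G c ⊓ MulAction.stabilizer G d : Subgroup G) :=
    Subgroup.mem_inf.mpr ⟨h1, h2⟩
  have h3 := Subgroup.orderOf_dvd_natCard _ hmem
  rw [card_two_eq hZ hab hcd] at h3
  exact hodd.of_dvd_nat h3

theorem sq_one {s : G} (hs : orderOf s = 2) : s * s = 1 := by
  rw [← pow_two, ← hs, pow_orderOf_eq_one]

theorem ne_one {s : G} (hs : orderOf s = 2) : s ≠ 1 := by
  intro h
  rw [h, orderOf_one] at hs
  exact absurd hs (by decide)

theorem invol_conj (hZ : Cfsg.IsZassenhausGroup G Ω) {a b : Ω} (hab : a ≠ b)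
    (hodd : Odd (Nat.card ↥(MulAction.stabilizer G a ⊓ MulAction.stabilizer G b : Subgroup G)))
    (s z : G) (hs : orderOf s = 2) (hz : orderOf z = 2) : IsConj s z := by
  have hss := sq_one hs
  have hzz := sq_one hz
  obtain ⟨c, hc⟩ := exists_moved hZ (ne_one hz)
  obtain ⟨d, hd⟩ := exists_moved hZ (ne_one hs)
  obtain ⟨g, hg1, hg2⟩ := two_trans hZ hd.symm hc.symm
  obtain ⟨s', hs'⟩ : ∃ s', s' = g * s * g⁻¹ := ⟨_, rfl⟩
  have hs's' : s' * s' = 1 := by
    rw [hs']
    calc g * s * g⁻¹ * (g * s * g⁻¹) = g * (s * s) * g⁻¹ := by group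
      _ = 1 := by rw [hss]; group
  have e1 : s' • c = z • c := by
    rw [hs', mul_smul, mul_smul, inv_smul_eq_iff.mpr hg1.symm, hg2]
  have e2 : s' • (z • c) = c := by
    rw [← e1, ← mul_smul, hs's', one_smul]
  have w1 : (z * s') • c = c := by rw [mul_smul, e1, ← mul_smul, hzz, one_smul]
  have w2 : (z * s') • (z • c) = z • c := by rw [mul_smul, e2]
  obtain ⟨r, hr⟩ := dihedral_conj z s' hzz hs's' (odd_of_fix_two hZ hab hodd hc.symm _ w1 w2)
  rw [isConj_iff]
  refine ⟨r⁻¹ * g, ?_⟩
  have h1 : z = r⁻¹ * s' * r := by rw [hr]; group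
  rw [h1, hs']
  group

end


/-- Let G be a finite simple Zassenhaus group on Ω with n = h + 1 points whose two-point stabilizer E has odd order e with 2e < h - 1. Then any two involutions of G are conjugate, and the number of involutions is e * (h + 1) if h is even and e * h if h is odd. -/
theorem result {G Ω : Type*} [Group G] [Finite G] [MulAction G Ω] [Fintype Ω] (hZ : Cfsg.IsZassenhausGroup G Ω) {a b : Ω} (hab : a ≠ b) [IsSimpleGroup G] (h e : ℕ) (hh : Fintype.card Ω = h + 1) (he : Nat.card ↥(MulAction.stabilizer G a ⊓ MulAction.stabilizer G b : Subgroup G) = e) (hodd : Odd e) (hlt : 2 * e < h - 1) : (∀ x y : G, orderOf x = 2 → orderOf y = 2 → IsConj x y) ∧ Nat.card {x : G // orderOf x = 2} = (if Even h then e * (h + 1) else e * h) := by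
  classical
  have := Fintype.ofFinite G
  have hodd' : Odd (Nat.card ↥(MulAction.stabilizer G a ⊓ MulAction.stabilizer G b : Subgroup G)) := by
    rw [he]; exact hodd
  refine ⟨fun x y hx hy => invol_conj hZ hab hodd' x y hx hy, ?_⟩
  have hA : ∀ c d : Ω, c ≠ d →
      (Finset.univ.filter (fun t : G => orderOf t = 2 ∧ t • c = d)).card = e := by
    intro c d hcd
    obtain ⟨t₀, ht₀, h1, h2⟩ := (Cfsg.Agent.S0740.result hZ hcd).1
    have htt := sq_one ht₀
    have hcardE := card_two_eq hZ hab hcd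
    have hoddE : Odd (Nat.card ↥(MulAction.stabilizer G c ⊓ MulAction.stabilizer G d : Subgroup G)) := by
      rw [hcardE]; exact hodd'
    rw [← he, ← hcardE, Nat.card_eq_fintype_card, ← Finset.card_univ]
    symm
    apply Finset.card_bij (fun (y : ↥(MulAction.stabilizer G c ⊓ MulAction.stabilizer G d :
      Subgroup G)) _ => t₀ * (y : G))
    · intro y _
      have hyc : (y : G) • c = c := y.2.1
      have hmv : (t₀ * (y : G)) • c = d := by rw [mul_smul, hyc, h1]
      refine Finset.mem_filter.mpr ⟨Finset.mem_univ _, ?_, hmv⟩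
      apply orderOf_eq_prime
      · have h3 := inverts hZ hcd hoddE t₀ htt h1 h2 y y.2
        have h4 : t₀ * (y : G) = (y : G)⁻¹ * t₀ := by
          rw [← h3]; group
        rw [pow_two]
        calc t₀ * (y : G) * (t₀ * (y : G)) = (y : G)⁻¹ * t₀ * (t₀ * (y : G)) := by rw [h4]
          _ = (y : G)⁻¹ * (t₀ * t₀) * (y : G) := by group
          _ = 1 := by rw [htt]; group
      · intro h
        rw [h, one_smul] at hmv
        exact hcd hmv
    · intro y _ y' _ h
      exact Subtype.ext (mul_left_cancel h)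
    · intro t ht
      obtain ⟨-, ht2, htc⟩ := Finset.mem_filter.mp ht
      have htd : t • d = c := by rw [← htc, ← mul_smul, sq_one ht2, one_smul]
      refine ⟨⟨t₀⁻¹ * t, Subgroup.mem_inf.mpr ⟨?_, ?_⟩⟩, Finset.mem_univ _, by
        show t₀ * (t₀⁻¹ * t) = t
        group⟩
      · show (t₀⁻¹ * t) • c = c
        rw [mul_smul, htc, inv_smul_eq_iff, h1]
      · show (t₀⁻¹ * t) • d = d
        rw [mul_smul, htd, inv_smul_eq_iff, h2]
  have hB : ∀ t : G, orderOf t = 2 → (Finset.univ.filter (fun c : Ω => t • c ≠ c)).card =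
      Fintype.card Ω - (if Even h then 1 else 0) := by
    intro t ht
    have h1 : Nat.card (MulAction.fixedBy Ω t) = (Finset.univ.filter (fun c : Ω => t • c = c)).card := by
      rw [Nat.card_eq_fintype_card]
      exact Fintype.card_of_subtype _ (fun x => by simp [MulAction.mem_fixedBy])
    have h2 : (Finset.univ.filter (fun c : Ω => t • c = c)).card +
        (Finset.univ.filter (fun c : Ω => t • c ≠ c)).card = Fintype.card Ω := by
      have h2' := Finset.card_filter_add_card_filter_not (s := (Finset.univ : Finset Ω))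
        (fun c : Ω => t • c = c)
      rw [Finset.card_univ] at h2'
      exact h2'
    have h3 := card_fixedBy_le hZ (ne_one ht)
    have h4 := card_fixedBy_modEq (Ω := Ω) (sq_one ht)
    rw [Nat.card_eq_fintype_card (α := Ω), hh] at h4
    have h5 : Nat.card (MulAction.fixedBy Ω t) ≠ 2 := by
      intro h
      obtain ⟨x, y, hxy, -⟩ := Nat.card_eq_two_iff.mp h
      have h6 := odd_of_fix_two hZ hab hodd' (fun h' => hxy (Subtype.ext h')) t x.2 y.2
      rw [ht] at h6
      exact absurd h6 (by decide)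
    have h7 : (Finset.univ.filter (fun c : Ω => t • c ≠ c)).card =
        Fintype.card Ω - Nat.card (MulAction.fixedBy Ω t) := by
      rw [h1]
      omega
    rw [h7]
    congr 1
    unfold Nat.ModEq at h4
    split_ifs with hev
    · obtain ⟨k, hk⟩ := hev
      omega
    · rw [Nat.not_even_iff_odd] at hev
      obtain ⟨k, hk⟩ := hev
      omega
  have hC : ∀ c : Ω, ((Finset.univ.filter (fun t : G => orderOf t = 2)).filter
      (fun t => t • c ≠ c)).card = (Fintype.card Ω - 1) * e := by
    intro c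
    rw [Finset.card_eq_sum_card_fiberwise (f := fun t : G => t • c)
      (t := (Finset.univ : Finset Ω).erase c) (by
        intro t ht
        exact Finset.mem_coe.mpr (Finset.mem_erase.mpr
          ⟨(Finset.mem_filter.mp (Finset.mem_coe.mp ht)).2, Finset.mem_univ _⟩))]
    rw [Finset.sum_congr rfl (g := fun _ => e) (by
      intro d hd
      have hdc : d ≠ c := (Finset.mem_erase.mp hd).1
      rw [← hA c d hdc.symm]
      congr 1
      ext t
      simp only [Finset.mem_filter, Finset.mem_univ, true_and]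
      constructor
      · rintro ⟨⟨h1, -⟩, h3⟩
        exact ⟨h1, h3⟩
      · rintro ⟨h1, h3⟩
        exact ⟨⟨h1, by rw [h3]; exact hdc⟩, h3⟩)]
    rw [Finset.sum_const, Finset.card_erase_of_mem (Finset.mem_univ _), Finset.card_univ,
      smul_eq_mul]
  have hD : (Finset.univ.filter (fun t : G => orderOf t = 2)).card *
      (Fintype.card Ω - (if Even h then 1 else 0)) = Fintype.card Ω * ((Fintype.card Ω - 1) * e) := by
    have h1 : ∑ t ∈ Finset.univ.filter (fun t : G => orderOf t = 2),
        (Finset.univ.filter (fun c : Ω => t • c ≠ c)).card =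
        (Finset.univ.filter (fun t : G => orderOf t = 2)).card *
      (Fintype.card Ω - (if Even h then 1 else 0)) := by
      rw [Finset.sum_congr rfl (fun t ht => hB t (Finset.mem_filter.mp ht).2), Finset.sum_const,
        smul_eq_mul]
    rw [← h1]
    have h2 : ∀ t : G, (Finset.univ.filter (fun c : Ω => t • c ≠ c)).card =
        ∑ c : Ω, (if t • c ≠ c then 1 else 0) := fun t => Finset.card_filter _ _
    simp only [h2]
    rw [Finset.sum_comm]
    have h3 : ∀ c : Ω, ∑ t ∈ Finset.univ.filter (fun t : G => orderOf t = 2),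
        (if t • c ≠ c then 1 else 0) = (Fintype.card Ω - 1) * e := by
      intro c
      rw [← hC c, Finset.card_filter]
    simp only [h3]
    rw [Finset.sum_const, Finset.card_univ, smul_eq_mul]
  have hcardI : Nat.card {x : G // orderOf x = 2} =
      (Finset.univ.filter (fun t : G => orderOf t = 2)).card := by
    rw [Nat.card_eq_fintype_card, Fintype.card_subtype]
  rw [hcardI]
  rw [hh] at hD
  have hh0 : 0 < h := by omega
  split_ifs with hev
  · rw [if_pos hev] at hD
    simp only [Nat.add_sub_cancel] at hD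
    apply Nat.eq_of_mul_eq_mul_right hh0
    rw [hD]
    ring
  · rw [if_neg hev] at hD
    simp only [Nat.add_sub_cancel, Nat.sub_zero] at hD
    apply Nat.eq_of_mul_eq_mul_right (show 0 < h + 1 by omega)
    rw [hD]
    ring

end Cfsg.Agent.S0882
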