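import Cfsg.Statements.S0883
import Cfsg.Agent.Lib.Helper29.Zass
import Cfsg.Agent.S1535

set_option autoImplicit false
open Cfsg

namespace Cfsg.Agent.S0883

open Cfsg.Agent.Lib.Helper29.Zass

/-- a normal subgroup, central in the nilpotent normal subgroup `H` of even order, with an
involution -/
theorem central_invol {N : Type*} [Group N] [Finite N] (H : Subgroup N) [hH : H.Normal]
    [Group.IsNilpotent H] (h2 : 2 ∣ Nat.card H) :
    ∃ T : Subgroup N, T.Normal ∧ T ≤ H ∧ T ≤ Subgroup.centralizer (H : Set N) ∧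
      ∃ z ∈ T, orderOf z = 2 := by
  have hp : Nat.Prime 2 := Nat.prime_two
  have hc0 : Nat.card H ≠ 0 := Nat.card_pos.ne'
  obtain ⟨a, ha⟩ : ∃ a, a = (Nat.card H).factorization 2 := ⟨_, rfl⟩
  obtain ⟨k, hk⟩ : ∃ k, k = Nat.card H / 2 ^ a := ⟨_, rfl⟩
  have hnk : (2 ^ a).Coprime k := by
    rw [hk, ha]
    exact (Nat.coprime_ordCompl hp hc0).pow_left _
  have hmul : Nat.card H = 2 ^ a * k := by
    rw [hk, ha]
    exact (Nat.ordProj_mul_ordCompl_eq_self _ 2).symm
  obtain ⟨P, Q, hPn, hQn, hPH, hQH, hPc, hQc, hdisj, hsup, hcomm⟩ :=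
    Cfsg.Agent.S1535.hall_pair H hnk hmul
  have hP1 : P ≠ ⊥ := by
    intro h
    rw [h, Subgroup.card_bot] at hPc
    have h1 : 2 ∣ 2 ^ a := by
      rw [ha]
      exact Nat.dvd_ordProj_of_dvd hc0 hp h2
    rw [← hPc] at h1
    exact absurd (Nat.dvd_one.mp h1) (by decide)
  have hT1 : P ⊓ Subgroup.centralizer (H : Set N) ≠ ⊥ := by
    have : Fact (Nat.Prime 2) := ⟨hp⟩
    have : Nontrivial P := (Subgroup.nontrivial_iff_ne_bot P).mpr hP1
    have hPp : IsPGroup 2 P := IsPGroup.of_card hPc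
    have := hPp.center_nontrivial
    obtain ⟨⟨z, hz⟩, hz1⟩ := exists_ne (1 : Subgroup.center P)
    intro hbot
    have hle : H ≤ Subgroup.centralizer {(z : N)} := by
      refine hsup.ge.trans (sup_le ?_ ?_)
      · intro u hu
        rw [Subgroup.mem_centralizer_singleton_iff]
        exact congrArg Subtype.val (Subgroup.mem_center_iff.mp hz ⟨u, hu⟩)
      · intro u hu
        rw [Subgroup.mem_centralizer_singleton_iff]
        exact (hcomm z z.2 u hu).symm
    have hzT : (z : N) ∈ P ⊓ Subgroup.centralizer (H : Set N) := by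
      refine Subgroup.mem_inf.mpr ⟨z.2, ?_⟩
      rw [Subgroup.mem_centralizer_iff]
      intro y hy
      exact Subgroup.mem_centralizer_singleton_iff.mp (hle hy)
    rw [hbot, Subgroup.mem_bot] at hzT
    exact hz1 (Subtype.ext (Subtype.ext hzT))
  refine ⟨P ⊓ Subgroup.centralizer (H : Set N), inferInstance, inf_le_left.trans hPH, inf_le_right,
    ?_⟩
  have hd : Nat.card ↥(P ⊓ Subgroup.centralizer (H : Set N)) ∣ 2 ^ a := by
    rw [← hPc]
    exact Subgroup.card_dvd_of_le inf_le_left
  obtain ⟨i, -, hi⟩ := (Nat.dvd_prime_pow hp).mp hd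
  have hi0 : i ≠ 0 := by
    rintro rfl
    rw [pow_zero] at hi
    exact hT1 (Subgroup.card_eq_one.mp hi)
  have h2T : 2 ∣ Nat.card ↥(P ⊓ Subgroup.centralizer (H : Set N)) := by
    rw [hi]
    exact dvd_pow_self 2 hi0
  have : Fact (Nat.Prime 2) := ⟨hp⟩
  obtain ⟨z, hz⟩ := exists_prime_orderOf_dvd_card' (G := ↥(P ⊓ Subgroup.centralizer (H : Set N))) 2 h2T
  exact ⟨z, z.2, by rw [← hz]; exact (Subgroup.orderOf_coe z)⟩


/-- Let G be a finite simple Zassenhaus group on Ω with h + 1 points whose two-point stabilizer E has odd order e with 2e < h - 1, and let H be the subgroup of the stabilizer of a consisting of the identity and the elements fixing no point other than a (given here as a subgroup of the stabilizer of order one less than the number of points whose non-identity elements fix only a; it is the Frobenius kernel of the stabilizer). If a non-identity element u of H is a product of two involutions of G, then u is an involution. -/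
theorem result {G Ω : Type*} [Group G] [Finite G] [MulAction G Ω] [Fintype Ω] (hZ : Cfsg.IsZassenhausGroup G Ω) {a b : Ω} (hab : a ≠ b) [IsSimpleGroup G] (h e : ℕ) (hh : Fintype.card Ω = h + 1) (he : Nat.card ↥(MulAction.stabilizer G a ⊓ MulAction.stabilizer G b : Subgroup G) = e) (hodd : Odd e) (hlt : 2 * e < h - 1) (H : Subgroup G) (hHa : H ≤ MulAction.stabilizer G a) (hHcard : Nat.card H + 1 = Fintype.card Ω) (hHfix : ∀ u ∈ H, u ≠ 1 → ∀ c : Ω, u • c = c → c = a) (u : G) (hu : u ∈ H) (hu1 : u ≠ 1) (x y : G) (hx : orderOf x = 2) (hy : orderOf y = 2) (hxy : x * y = u) : orderOf u = 2 := by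
  obtain ⟨K, hKa, hKn, hKm, hKc⟩ := exists_kernel hZ a
  have hHK : H = K := by
    apply Subgroup.eq_of_le_of_card_ge
    · intro g hg
      rw [hKm]
      refine ⟨hHa hg, ?_⟩
      by_cases h1 : g = 1
      · left; exact h1
      · right; exact hHfix g hg h1
    · rw [Nat.card_eq_fintype_card (α := Ω)] at hKc
      omega
  subst hHK
  have hodd2 : ∀ c d : Ω, c ≠ d → ∀ w : G, w • c = c → w • d = d → Odd (orderOf w) := by
    intro c d hcd w h1 h2
    obtain ⟨g, hg1, hg2⟩ := two_trans hZ hcd hab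
    have hmem : g * w * g⁻¹ ∈ (MulAction.stabilizer G a ⊓ MulAction.stabilizer G b : Subgroup G) := by
      refine Subgroup.mem_inf.mpr ⟨?_, ?_⟩
      · show (g * w * g⁻¹) • a = a
        rw [← hg1, mul_smul, mul_smul, inv_smul_smul, h1]
      · show (g * w * g⁻¹) • b = b
        rw [← hg2, mul_smul, mul_smul, inv_smul_smul, h2]
    have h3 : orderOf (g * w * g⁻¹) ∣ e := by
      rw [← he]
      exact Subgroup.orderOf_dvd_natCard _ hmem
    rw [orderOf_conj] at h3
    exact hodd.of_dvd_nat h3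
  have hinvH : ∀ s : G, orderOf s = 2 → s • a = a → s ∈ H := by
    intro s hs hsa
    rw [hKm]
    refine ⟨hsa, Or.inr ?_⟩
    intro c hc
    by_contra hca
    have := hodd2 a c (Ne.symm hca) s hsa hc
    rw [hs] at this
    exact absurd this (by decide)
  have hsq : ∀ s : G, orderOf s = 2 → s * s = 1 := by
    intro s hs
    rw [← pow_two, ← hs, pow_orderOf_eq_one]
  have hx2 := hsq x hx
  have hy2 := hsq y hy
  have hua : u • a = a := hHa hu
  have hxa : x • a = a := by
    apply hHfix u hu hu1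
    have hxi : x⁻¹ = x := inv_eq_of_mul_eq_one_left hx2
    have hyi : y⁻¹ = y := inv_eq_of_mul_eq_one_left hy2
    have h1 : u * x = x * u⁻¹ := by
      rw [← hxy, mul_inv_rev, hxi, hyi, mul_assoc]
    rw [← mul_smul, h1, mul_smul, inv_smul_eq_iff.mpr hua.symm]
  have hya : y • a = a := by
    have : y = x * u := by rw [← hxy, ← mul_assoc, hx2, one_mul]
    rw [this, mul_smul, hua, hxa]
  have hxH := hinvH x hx hxa
  have hyH := hinvH y hy hya
  have hH'n : (H.subgroupOf (MulAction.stabilizer G a)).Normal := ⟨fun k hk g => by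
    rw [Subgroup.mem_subgroupOf] at hk ⊢
    exact hKn g g.2 k hk⟩
  have hH1 : H.subgroupOf (MulAction.stabilizer G a) ≠ ⊥ := by
    intro h
    have h3 : (⟨u, hHa hu⟩ : MulAction.stabilizer G a) ∈ H.subgroupOf (MulAction.stabilizer G a) := hu
    rw [h, Subgroup.mem_bot] at h3
    exact hu1 (congrArg Subtype.val h3)
  have hH2 : H.subgroupOf (MulAction.stabilizer G a) ≠ ⊤ := by
    intro h
    obtain ⟨g, hg, h1, h2⟩ := exists_two_fix hZ hab
    have h3 : (⟨g, h1⟩ : MulAction.stabilizer G a) ∈ H.subgroupOf (MulAction.stabilizer G a) := by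
      rw [h]; trivial
    have h4 : g ∈ H := h3
    exact hab (hHfix g h4 hg b h2).symm
  have hC : ∀ h ∈ H.subgroupOf (MulAction.stabilizer G a), h ≠ 1 →
      Subgroup.centralizer ({h} : Set (MulAction.stabilizer G a)) ≤
        H.subgroupOf (MulAction.stabilizer G a) := by
    intro h hh h1 g hg
    rw [Subgroup.mem_centralizer_singleton_iff] at hg
    rw [Subgroup.mem_subgroupOf, hKm]
    refine ⟨g.2, ?_⟩
    by_cases hg1 : (g : G) = 1
    · left; exact hg1
    right
    intro c hc
    by_contra hca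
    have hh1 : (h : G) ≠ 1 := fun e => h1 (Subtype.ext e)
    have hcomm : (g : G) * h = h * g := congrArg Subtype.val hg
    have h3 : (g : G) • ((h : G) • c) = (h : G) • c := by rw [← mul_smul, hcomm, mul_smul, hc]
    rcases fix_two hZ hg1 (Ne.symm hca) g.2 hc h3 with h4 | h4
    · apply hca
      have h5 : (h : G) • c = (h : G) • a := by
        rw [h4]; exact (h.2 : (h : G) • a = a).symm
      exact smul_left_cancel _ h5
    · exact hca (hHfix h hh hh1 c h4)
  have hnil := Cfsg.Agent.S1535.nilp (H.subgroupOf (MulAction.stabilizer G a)) hH1 hH2 hC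
  have h2dvd : 2 ∣ Nat.card (H.subgroupOf (MulAction.stabilizer G a)) := by
    have hxa' : x ∈ MulAction.stabilizer G a := hxa
    have hxH' : (⟨x, hxa'⟩ : MulAction.stabilizer G a) ∈ H.subgroupOf (MulAction.stabilizer G a) :=
      hxH
    have h3 : orderOf (⟨⟨x, hxa'⟩, hxH'⟩ : H.subgroupOf (MulAction.stabilizer G a)) = 2 := by
      rw [← hx, Subgroup.orderOf_mk, Subgroup.orderOf_mk]
    rw [← h3]
    exact orderOf_dvd_natCard _
  obtain ⟨T, hTn, hTH, hTc, z, hzT, hz2⟩ :=
    central_invol (H.subgroupOf (MulAction.stabilizer G a)) h2dvd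
  have hz2' : orderOf (z : G) = 2 := by rw [← hz2]; exact Subgroup.orderOf_coe z
  have hzz := hsq (z : G) hz2'
  have hz1 : (z : G) ≠ 1 := by
    intro h
    rw [h, orderOf_one] at hz2'
    exact absurd hz2' (by decide)
  have hzH : (z : G) ∈ H := hTH hzT
  have key : ∀ s : G, orderOf s = 2 → ∀ hs : s • a = a, (⟨s, hs⟩ : MulAction.stabilizer G a) ∈ T := by
    intro s hs2 hs
    have hss := hsq s hs2
    have hsH := hinvH s hs2 hs
    have hs1 : s ≠ 1 := by
      intro h
      rw [h, orderOf_one] at hs2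
      exact absurd hs2 (by decide)
    have hzb : (z : G) • b ≠ b := fun h => hab (hHfix _ hzH hz1 b h).symm
    have hsb : s • b ≠ b := fun h => hab (hHfix _ hsH hs1 b h).symm
    obtain ⟨g, hg1, hg2⟩ := two_trans hZ hsb.symm hzb.symm
    obtain ⟨s', hs'⟩ : ∃ s', s' = g * s * g⁻¹ := ⟨_, rfl⟩
    have hs's' : s' * s' = 1 := by
      rw [hs']
      calc g * s * g⁻¹ * (g * s * g⁻¹) = g * (s * s) * g⁻¹ := by group
        _ = 1 := by rw [hss]; group
    have e1 : s' • b = (z : G) • b := by
      rw [hs', mul_smul, mul_smul, inv_smul_eq_iff.mpr hg1.symm, hg2]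
    have e2 : s' • ((z : G) • b) = b := by
      rw [← e1, ← mul_smul, hs's', one_smul]
    obtain ⟨w, hw⟩ : ∃ w, w = (z : G) * s' := ⟨_, rfl⟩
    have w1 : w • b = b := by rw [hw, mul_smul, e1, ← mul_smul, hzz, one_smul]
    have w2 : w • ((z : G) • b) = (z : G) • b := by rw [hw, mul_smul, e2]
    obtain ⟨k, hk⟩ := hodd2 b ((z : G) • b) hzb.symm w w1 w2
    have hzi : (z : G)⁻¹ = z := inv_eq_of_mul_eq_one_left hzz
    have hs'i : s'⁻¹ = s' := inv_eq_of_mul_eq_one_left hs's'
    have hwi : w⁻¹ = s' * z := by rw [hw, mul_inv_rev, hzi, hs'i]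
    have hconj : (z : G) * w * (z : G)⁻¹ = w⁻¹ := by
      rw [hwi, hw, hzi, ← mul_assoc, hzz, one_mul]
    have hconjk : (z : G) * w ^ k * (z : G)⁻¹ = (w ^ k)⁻¹ := by
      rw [← conj_pow, hconj, inv_pow]
    have hw2k : w ^ k * w ^ k = w⁻¹ := by
      apply eq_inv_of_mul_eq_one_left
      rw [← pow_add, ← pow_succ, show k + k + 1 = 2 * k + 1 by ring, ← hk, pow_orderOf_eq_one]
    have hs'eq : s' = w ^ k * (z : G) * (w ^ k)⁻¹ := by
      rw [← hconjk, hzi]
      calc s' = s' * z * z := by rw [mul_assoc, hzz, mul_one]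
        _ = w ^ k * w ^ k * z := by rw [hw2k, hwi]
        _ = w ^ k * (z * z) * w ^ k * z := by rw [hzz, mul_one]
        _ = _ := by group
    obtain ⟨r, hr⟩ : ∃ r, r = g⁻¹ * w ^ k := ⟨_, rfl⟩
    have hsr : s = r * (z : G) * r⁻¹ := by
      have h1 : s = g⁻¹ * s' * g := by rw [hs']; group
      rw [h1, hs'eq, hr]
      group
    have hra : r • a = a := by
      apply hHfix s hsH hs1
      rw [hsr, mul_smul, mul_smul, inv_smul_smul, (z.2 : (z : G) • a = a)]
    have h5 : (⟨s, hs⟩ : MulAction.stabilizer G a) =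
        (⟨r, hra⟩ : MulAction.stabilizer G a) * z * (⟨r, hra⟩ : MulAction.stabilizer G a)⁻¹ :=
      Subtype.ext hsr
    rw [h5]
    exact hTn.conj_mem z hzT _
  have hxT := key x hx hxa
  have hcomm : x * y = y * x := by
    have h1 := Subgroup.mem_centralizer_iff.mp (hTc hxT) ⟨y, hya⟩ hyH
    exact (congrArg Subtype.val h1).symm
  apply orderOf_eq_prime _ hu1
  rw [← hxy, pow_two]
  calc x * y * (x * y) = x * (y * x) * y := by group
    _ = x * (x * y) * y := by rw [hcomm]
    _ = (x * x) * (y * y) := by group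
    _ = 1 := by rw [hx2, hy2, one_mul]

end Cfsg.Agent.S0883
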