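import Cfsg.Statements.S0884
import Cfsg.Agent.S0882
import Cfsg.Agent.S0883
import Cfsg.Agent.Lib.Helper25.BrauerPerm

set_option autoImplicit false
open Cfsg

namespace Cfsg.Agent.S0884

open Cfsg.Agent.Lib.Helper29.Zass Cfsg.Agent.Lib.Helper24.Zass3 Cfsg.Agent.Lib.Helper24.Zass4
  Cfsg.Agent.Lib.Helper24.Zass5

section count

variable {G : Type*} [Group G] [Fintype G]

/-- the number of ways of writing `g` as a product of two involutions -/
noncomputable def beta (g : G) : ℕ :=
  ((Finset.univ.filter (fun t : G => orderOf t = 2)).filter (fun t => orderOf (t⁻¹ * g) = 2)).card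

theorem sum_beta : ∑ g : G, beta g =
    (Finset.univ.filter (fun t : G => orderOf t = 2)).card *
      (Finset.univ.filter (fun t : G => orderOf t = 2)).card := by
  unfold beta
  simp only [Finset.card_filter (fun t : G => orderOf (t⁻¹ * _) = 2)]
  rw [Finset.sum_comm]
  have h1 : ∀ t : G, ∑ g : G, (if orderOf (t⁻¹ * g) = 2 then 1 else 0) =
      (Finset.univ.filter (fun t : G => orderOf t = 2)).card := by
    intro t
    rw [← Finset.card_filter]
    apply Finset.card_equiv (Equiv.mulLeft t⁻¹)
    intro g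
    simp
  simp only [h1]
  rw [Finset.sum_const, smul_eq_mul]

theorem beta_one : beta (1 : G) = (Finset.univ.filter (fun t : G => orderOf t = 2)).card := by
  unfold beta
  congr 1
  apply Finset.filter_true_of_mem
  intro t ht
  rw [mul_one, orderOf_inv]
  exact (Finset.mem_filter.mp ht).2

theorem inverts_of_mem {t g : G} (ht : orderOf t = 2) (htg : orderOf (t⁻¹ * g) = 2) :
    t * g * t⁻¹ = g⁻¹ := by
  have h1 : t * t = 1 := Cfsg.Agent.S0882.sq_one ht
  have h2 : t⁻¹ * g * (t⁻¹ * g) = 1 := Cfsg.Agent.S0882.sq_one htg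
  have hti : t⁻¹ = t := inv_eq_of_mul_eq_one_left h1
  rw [hti] at h2 ⊢
  apply eq_inv_of_mul_eq_one_left
  calc t * g * t * g = t * g * (t * g) := by group
    _ = 1 := h2

theorem beta_le (g : G) : beta g ≤ Nat.card (Subgroup.centralizer ({g} : Set G)) := by
  classical
  unfold beta
  rcases ((Finset.univ.filter (fun t : G => orderOf t = 2)).filter
    (fun t => orderOf (t⁻¹ * g) = 2)).eq_empty_or_nonempty with h | ⟨t₀, ht₀⟩
  · rw [h]; simp
  · have hc : Nat.card (Subgroup.centralizer ({g} : Set G)) =
        (Finset.univ.filter (fun x : G => x ∈ Subgroup.centralizer ({g} : Set G))).card := by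
      rw [Nat.card_eq_fintype_card, Fintype.card_subtype]
    rw [hc]
    obtain ⟨h1, h2⟩ := Finset.mem_filter.mp ht₀
    have h0 := inverts_of_mem (Finset.mem_filter.mp h1).2 h2
    apply Finset.card_le_card_of_injOn (fun t => t * t₀⁻¹)
    · intro t ht
      obtain ⟨h3, h4⟩ := Finset.mem_filter.mp (Finset.mem_coe.mp ht)
      have h5 := inverts_of_mem (Finset.mem_filter.mp h3).2 h4
      refine Finset.mem_coe.mpr (Finset.mem_filter.mpr ⟨Finset.mem_univ _, ?_⟩)
      rw [Subgroup.mem_centralizer_singleton_iff]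
      have h6 : t₀⁻¹ * g * t₀ = g⁻¹ := by
        calc t₀⁻¹ * g * t₀ = t₀⁻¹ * (g⁻¹)⁻¹ * t₀ := by rw [inv_inv]
          _ = t₀⁻¹ * (t₀ * g * t₀⁻¹)⁻¹ * t₀ := by rw [h0]
          _ = g⁻¹ := by group
      have h7 : t * g⁻¹ * t⁻¹ = g := by
        calc t * g⁻¹ * t⁻¹ = (t * g * t⁻¹)⁻¹ := by group
          _ = g := by rw [h5, inv_inv]
      calc t * t₀⁻¹ * g = t * (t₀⁻¹ * g * t₀) * t₀⁻¹ := by group
        _ = (t * g⁻¹ * t⁻¹) * (t * t₀⁻¹) := by rw [h6]; group
        _ = g * (t * t₀⁻¹) := by rw [h7]
    · intro t _ t' _ h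
      exact mul_right_cancel h

end count


/-- Let G be a finite simple Zassenhaus group on Ω with h + 1 points whose two-point stabilizer E has odd order e with 2e < h - 1, and let H be the subgroup of the stabilizer of a consisting of the identity and the elements fixing no point other than a (given here as a subgroup of the stabilizer of order one less than the number of points whose non-identity elements fix only a; it is the Frobenius kernel of the stabilizer). Then at least e conjugacy classes of G contain no element of H. -/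
theorem result {G Ω : Type*} [Group G] [Finite G] [MulAction G Ω] [Fintype Ω] (hZ : Cfsg.IsZassenhausGroup G Ω) {a b : Ω} (hab : a ≠ b) [IsSimpleGroup G] (h e : ℕ) (hh : Fintype.card Ω = h + 1) (he : Nat.card ↥(MulAction.stabilizer G a ⊓ MulAction.stabilizer G b : Subgroup G) = e) (hodd : Odd e) (hlt : 2 * e < h - 1) (H : Subgroup G) (hHa : H ≤ MulAction.stabilizer G a) (hHcard : Nat.card H + 1 = Fintype.card Ω) (hHfix : ∀ u ∈ H, u ≠ 1 → ∀ c : Ω, u • c = c → c = a) : e ≤ Nat.card {C : ConjClasses G // ∀ g : G, ConjClasses.mk g = C → g ∉ H} := by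
  classical
  have := Fintype.ofFinite G
  have : Fintype (ConjClasses G) := Fintype.ofFinite _
  obtain ⟨hconj, hI⟩ := Cfsg.Agent.S0882.result hZ hab h e hh he hodd hlt
  obtain ⟨Inv, hInv⟩ : ∃ Inv, Inv = Finset.univ.filter (fun t : G => orderOf t = 2) := ⟨_, rfl⟩
  have hIcard : Inv.card = if Even h then e * (h + 1) else e * h := by
    rw [← hI, hInv, Nat.card_eq_fintype_card, Fintype.card_subtype]
  obtain ⟨TF, hTF⟩ : ∃ TF, TF = Finset.univ.filter
    (fun C : ConjClasses G => ∀ g : G, ConjClasses.mk g = C → g ∉ H) := ⟨_, rfl⟩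
  have hT : Nat.card {C : ConjClasses G // ∀ g : G, ConjClasses.mk g = C → g ∉ H} = TF.card := by
    rw [hTF, Nat.card_eq_fintype_card, Fintype.card_subtype]
  rw [hT]
  have hG : Nat.card G = (h + 1) * h * e := by
    rw [card_group hZ hab, hh, he]
    simp
  have h3 : ∀ g : G, g ≠ 1 → beta g ≠ 0 → ConjClasses.mk g ∈ TF ∨ orderOf g = 2 := by
    intro g hg1 hb
    by_cases hgT : ConjClasses.mk g ∈ TF
    · left; exact hgT
    right
    rw [hTF, Finset.mem_filter] at hgT
    push Not at hgT
    obtain ⟨u, hu1, hu2⟩ := hgT (Finset.mem_univ _)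
    obtain ⟨k, hk⟩ := isConj_iff.mp (ConjClasses.mk_eq_mk_iff_isConj.mp hu1)
    unfold beta at hb
    obtain ⟨t, ht⟩ := Finset.card_pos.mp (Nat.pos_of_ne_zero hb)
    obtain ⟨ht1, ht2⟩ := Finset.mem_filter.mp ht
    have ht1' := (Finset.mem_filter.mp ht1).2
    have hu_ne : u ≠ 1 := by
      rintro rfl
      apply hg1
      rw [← hk]
      group
    have hc : ∀ s : G, orderOf (k⁻¹ * s * k) = orderOf s := by
      intro s
      have h5 := orderOf_conj k⁻¹ s
      rwa [inv_inv] at h5
    have h6 := Cfsg.Agent.S0883.result hZ hab h e hh he hodd hlt H hHa hHcard hHfix u hu2 hu_ne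
      (k⁻¹ * t * k) (k⁻¹ * (t⁻¹ * g) * k) (by rw [hc, ht1']) (by rw [hc, ht2]) (by
        rw [← hk]; group)
    rw [← hk, orderOf_conj]
    exact h6
  have hsum := sum_beta (G := G)
  rw [← hInv] at hsum
  have hb1 : beta (1 : G) = Inv.card := by rw [beta_one, hInv]
  have hsplit : ∑ g : G, beta g = beta (1 : G) + ∑ g ∈ Finset.univ.erase (1 : G), beta g :=
    (Finset.add_sum_erase _ _ (Finset.mem_univ _)).symm
  have hclass : ∀ C : ConjClasses G, ∑ g ∈ Finset.univ.filter (fun g : G => ConjClasses.mk g = C),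
      Nat.card (Subgroup.centralizer ({g} : Set G)) = Nat.card G := by
    intro C
    have h5 := Cfsg.Agent.Lib.Helper25.sum_card_centralizer_of_class C
    exact_mod_cast h5
  have hTsum : ∑ g ∈ Finset.univ.filter (fun g : G => ConjClasses.mk g ∈ TF),
      Nat.card (Subgroup.centralizer ({g} : Set G)) = TF.card * Nat.card G := by
    rw [← Finset.sum_fiberwise_of_maps_to (s := Finset.univ.filter
      (fun g : G => ConjClasses.mk g ∈ TF)) (t := TF) (g := ConjClasses.mk)
      (fun x hx => (Finset.mem_filter.mp hx).2)]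
    rw [Finset.sum_congr rfl (g := fun _ => Nat.card G) ?_, Finset.sum_const, smul_eq_mul]
    intro C hC
    rw [← hclass C]
    apply Finset.sum_congr _ (fun _ _ => rfl)
    ext g
    simp only [Finset.mem_filter, Finset.mem_univ, true_and]
    constructor
    · rintro ⟨-, h⟩
      exact h
    · intro h
      exact ⟨h ▸ hC, h⟩
  have hInvsum : ∑ g ∈ Inv, Nat.card (Subgroup.centralizer ({g} : Set G)) ≤ Nat.card G := by
    rcases Inv.eq_empty_or_nonempty with h0 | ⟨t₀, ht₀⟩
    · rw [h0]; simp
    · rw [← hclass (ConjClasses.mk t₀)]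
      apply le_of_eq
      apply Finset.sum_congr _ (fun _ _ => rfl)
      rw [hInv] at ht₀ ⊢
      have ht₀' := (Finset.mem_filter.mp ht₀).2
      ext g
      simp only [Finset.mem_filter, Finset.mem_univ, true_and]
      constructor
      · intro hg
        exact ConjClasses.mk_eq_mk_iff_isConj.mpr (hconj g t₀ hg ht₀')
      · intro hg
        obtain ⟨k, hk⟩ := isConj_iff.mp (ConjClasses.mk_eq_mk_iff_isConj.mp hg)
        rw [← orderOf_conj k g, hk]
        exact ht₀'
  have he1 : e ≠ 1 := by
    intro h1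
    obtain ⟨g, hg, h5, h6⟩ := exists_two_fix hZ hab
    have h7 := Subgroup.card_eq_one.mp (he.trans h1)
    have hgE : g ∈ (MulAction.stabilizer G a ⊓ MulAction.stabilizer G b : Subgroup G) :=
      Subgroup.mem_inf.mpr ⟨h5, h6⟩
    rw [h7, Subgroup.mem_bot] at hgE
    exact hg hgE
  have he0 : 0 < e := hodd.pos
  by_contra hlt'
  push Not at hlt'
  by_cases hev : Even h
  · rw [if_pos hev] at hIcard
    have hpt : ∀ g ∈ Finset.univ.erase (1 : G), beta g ≤
        (if ConjClasses.mk g ∈ TF then Nat.card (Subgroup.centralizer ({g} : Set G)) else 0) +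
        (if orderOf g = 2 then Nat.card (Subgroup.centralizer ({g} : Set G)) else 0) := by
      intro g hg
      have hg1 := (Finset.mem_erase.mp hg).1
      by_cases hb : beta g = 0
      · rw [hb]; exact Nat.zero_le _
      rcases h3 g hg1 hb with h5 | h5
      · rw [if_pos h5]; exact le_add_right (beta_le g)
      · rw [if_pos h5]; exact le_add_left (beta_le g)
    have hbound : ∑ g ∈ Finset.univ.erase (1 : G), beta g ≤ TF.card * Nat.card G + Nat.card G := by
      calc ∑ g ∈ Finset.univ.erase (1 : G), beta g ≤ ∑ g ∈ Finset.univ.erase (1 : G),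
            ((if ConjClasses.mk g ∈ TF then Nat.card (Subgroup.centralizer ({g} : Set G)) else 0) +
            (if orderOf g = 2 then Nat.card (Subgroup.centralizer ({g} : Set G)) else 0)) :=
            Finset.sum_le_sum hpt
        _ ≤ ∑ g : G,
            ((if ConjClasses.mk g ∈ TF then Nat.card (Subgroup.centralizer ({g} : Set G)) else 0) +
            (if orderOf g = 2 then Nat.card (Subgroup.centralizer ({g} : Set G)) else 0)) :=
            Finset.sum_le_sum_of_subset (Finset.erase_subset _ _)
        _ = ∑ g ∈ Finset.univ.filter (fun g : G => ConjClasses.mk g ∈ TF),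
              Nat.card (Subgroup.centralizer ({g} : Set G)) +
            ∑ g ∈ Inv, Nat.card (Subgroup.centralizer ({g} : Set G)) := by
            rw [Finset.sum_add_distrib, ← Finset.sum_filter, ← Finset.sum_filter, hInv]
        _ ≤ _ := by rw [hTsum]; exact Nat.add_le_add_left hInvsum _
    rw [hsplit, hb1, hIcard] at hsum
    have h8 : (TF.card + 1) * ((h + 1) * h * e) ≤ e * ((h + 1) * h * e) :=
      Nat.mul_le_mul_right _ hlt'
    rw [hG] at hbound
    have h9 : (e * (h + 1)) * (e * (h + 1)) ≤ (e * (h + 1)) * (1 + h * e) := by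
      calc (e * (h + 1)) * (e * (h + 1)) = e * (h + 1) + ∑ g ∈ Finset.univ.erase (1 : G), beta g :=
            hsum.symm
        _ ≤ e * (h + 1) + (TF.card * ((h + 1) * h * e) + (h + 1) * h * e) :=
            Nat.add_le_add_left hbound _
        _ = e * (h + 1) + (TF.card + 1) * ((h + 1) * h * e) := by ring
        _ ≤ e * (h + 1) + e * ((h + 1) * h * e) := Nat.add_le_add_left h8 _
        _ = _ := by ring
    have h10 := Nat.le_of_mul_le_mul_left h9 (by positivity)
    have h11 : e ≤ 1 := by nlinarith
    omega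
  · rw [if_neg hev] at hIcard
    have hInvT : ∀ g : G, orderOf g = 2 → ConjClasses.mk g ∈ TF := by
      intro g hg
      rw [hTF]
      refine Finset.mem_filter.mpr ⟨Finset.mem_univ _, ?_⟩
      intro u hu huH
      obtain ⟨k, hk⟩ := isConj_iff.mp (ConjClasses.mk_eq_mk_iff_isConj.mp hu)
      have hu2 : orderOf u = 2 := by rw [← orderOf_conj k u, hk]; exact hg
      have h5 : orderOf (⟨u, huH⟩ : H) = 2 := by rw [Subgroup.orderOf_mk]; exact hu2
      have h6 := orderOf_dvd_natCard (⟨u, huH⟩ : H)
      rw [h5] at h6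
      apply hev
      rw [even_iff_two_dvd]
      have h7 : Nat.card H = h := by omega
      rwa [h7] at h6
    have hpt : ∀ g ∈ Finset.univ.erase (1 : G), beta g ≤
        (if ConjClasses.mk g ∈ TF then Nat.card (Subgroup.centralizer ({g} : Set G)) else 0) := by
      intro g hg
      have hg1 := (Finset.mem_erase.mp hg).1
      by_cases hb : beta g = 0
      · rw [hb]; exact Nat.zero_le _
      rcases h3 g hg1 hb with h5 | h5
      · rw [if_pos h5]; exact beta_le g
      · rw [if_pos (hInvT g h5)]; exact beta_le g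
    have hbound : ∑ g ∈ Finset.univ.erase (1 : G), beta g ≤ TF.card * Nat.card G := by
      calc ∑ g ∈ Finset.univ.erase (1 : G), beta g ≤ ∑ g ∈ Finset.univ.erase (1 : G),
            (if ConjClasses.mk g ∈ TF then Nat.card (Subgroup.centralizer ({g} : Set G)) else 0) :=
            Finset.sum_le_sum hpt
        _ ≤ ∑ g : G,
            (if ConjClasses.mk g ∈ TF then Nat.card (Subgroup.centralizer ({g} : Set G)) else 0) :=
            Finset.sum_le_sum_of_subset (Finset.erase_subset _ _)
        _ = _ := by rw [← Finset.sum_filter, hTsum]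
    rw [hsplit, hb1, hIcard] at hsum
    rw [hG] at hbound
    obtain ⟨f, rfl⟩ : ∃ f, e = f + 1 := ⟨e - 1, by omega⟩
    have h8 : TF.card * ((h + 1) * h * (f + 1)) ≤ f * ((h + 1) * h * (f + 1)) :=
      Nat.mul_le_mul_right _ (by omega)
    have h9 : ((f + 1) * h) * ((f + 1) * h) ≤ ((f + 1) * h) * (1 + f * (h + 1)) := by
      calc ((f + 1) * h) * ((f + 1) * h) =
            (f + 1) * h + ∑ g ∈ Finset.univ.erase (1 : G), beta g := hsum.symm
        _ ≤ (f + 1) * h + TF.card * ((h + 1) * h * (f + 1)) := Nat.add_le_add_left hbound _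
        _ ≤ (f + 1) * h + f * ((h + 1) * h * (f + 1)) := Nat.add_le_add_left h8 _
        _ = _ := by ring
    have hh0 : 0 < h := by omega
    have h10 := Nat.le_of_mul_le_mul_left h9 (by positivity)
    have h11 : h ≤ f + 1 := by nlinarith
    omega

end Cfsg.Agent.S0884
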