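import Cfsg.Statements.S1129
import Cfsg.Agent.Lib.Helper9.RankOne5
import Cfsg.Agent.S1128
import Cfsg.Agent.S0033

set_option autoImplicit false
open Cfsg

namespace Cfsg.Agent.S1129

open Cfsg.Agent.Lib.Helper9 MulAction

/-- `K` contains a non-identity element when there are two commuting involutions -/
theorem exists_K_ne_one {G Ω : Type*} [Group G] [Finite G] [MulAction G Ω] {a : Ω} {t : G} {Q : Subgroup G}
    (hS : Cfsg.IsRankOneSetup G Ω a t Q)
    (h2 : ∃ x y : G, x ≠ 1 ∧ y ≠ 1 ∧ x ≠ y ∧ x * x = 1 ∧ y * y = 1 ∧ x * y = y * x) :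
    ∃ k ∈ Cfsg.invertedBy (MulAction.stabilizer G a ⊓ MulAction.stabilizer G (t • a)) t, k ≠ 1 := by
  obtain ⟨x, y, hx1, hy1, hxy, hxx, hyy, hcomm⟩ := h2
  obtain ⟨c, hc⟩ := RO.invol_fix_exists hS hxx
  have hyc : y • c = c := RO.comm_fix hS hx1 hxx hc hcomm.symm
  obtain ⟨g, hg⟩ := RO.trans hS c a
  have key : ∀ z : G, z ≠ 1 → z * z = 1 → z • c = c →
      g * z * g⁻¹ ∈ Cfsg.involutionsIn (MulAction.stabilizer G a : Set G) := by
    intro z hz1 hzz hzc
    refine ⟨?_, ?_, ?_⟩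
    · show g * z * g⁻¹ ∈ stabilizer G a
      rw [mem_stabilizer_iff, ← hg, mul_smul, mul_smul, inv_smul_smul, hzc]
    · intro h
      apply hz1
      calc z = g⁻¹ * (g * z * g⁻¹) * g := by group
        _ = 1 := by rw [h]; group
    · calc g * z * g⁻¹ * (g * z * g⁻¹) = g * (z * z) * g⁻¹ := by group
        _ = 1 := by rw [hzz]; group
  obtain ⟨k, hk, hkk⟩ := RO.K_trans hS (key x hx1 hxx hc) (key y hy1 hyy hyc)
  refine ⟨k, hk, ?_⟩
  rintro rfl
  apply hxy
  have : g * x * g⁻¹ = g * y * g⁻¹ := by simpa using hkk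
  exact mul_left_cancel (mul_right_cancel this)

theorem K_pow {G : Type*} [Group G] {D : Subgroup G} {t k : G} (hk : k ∈ Cfsg.invertedBy D t) (n : ℕ) :
    k ^ n ∈ Cfsg.invertedBy D t := by
  obtain ⟨h1, h2⟩ := hk
  refine ⟨D.pow_mem h1 n, ?_⟩
  show t * k ^ n * t⁻¹ = (k ^ n)⁻¹
  have h2' : t * k * t⁻¹ = k⁻¹ := h2
  rw [← conj_pow, h2', inv_pow]


/-- In the rank-one set-up (`G` finite and doubly transitive on `Ω`, `t` an involution moving `a`, `Q` normal in `G_a` with `G_a = Q D`, `Q ⊓ D = 1` for the two-point stabiliser `D = G_a ⊓ G_{t • a}`, `|Q|` even, `|D|` odd), with the action faithful and `G` containing two distinct commuting involutions: `Q` is nilpotent. -/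
theorem result {G Ω : Type*} [Group G] [Finite G] [MulAction G Ω] [FaithfulSMul G Ω] {a : Ω} {t : G} {Q : Subgroup G}
    (hS : Cfsg.IsRankOneSetup G Ω a t Q)
    (h2 : ∃ x y : G, x ≠ 1 ∧ y ≠ 1 ∧ x ≠ y ∧ x * x = 1 ∧ y * y = 1 ∧ x * y = y * x) :
    Group.IsNilpotent Q := by
  obtain ⟨k, hk, hk1⟩ := exists_K_ne_one hS h2
  have hn1 : orderOf k ≠ 1 := by rwa [Ne, orderOf_eq_one_iff]
  set p := (orderOf k).minFac with hp
  have hpp : p.Prime := Nat.minFac_prime hn1
  set k' := k ^ (orderOf k / p) with hk'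
  have hk'ord : orderOf k' = p := orderOf_pow_orderOf_div (orderOf_pos k).ne' (Nat.minFac_dvd _)
  have hk'K : k' ∈ Cfsg.invertedBy (MulAction.stabilizer G a ⊓ MulAction.stabilizer G (t • a)) t :=
    K_pow hk _
  have hk'1 : k' ≠ 1 := by
    intro h
    rw [h, orderOf_one] at hk'ord
    exact hpp.one_lt.ne hk'ord
  have hfpf := Cfsg.Agent.S1128.fpf hS k' hk'K hk'1
  have hk'N : k' ∈ Subgroup.normalizer (Q : Set G) :=
    RO.Ga_le_normalizer hS (Subgroup.mem_inf.1 hk'K.1).1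
  set φ : Q ≃* Q := Q.normalizerMonoidHom ⟨k', hk'N⟩ with hφ
  have hφapp : ∀ q : Q, ((φ q : Q) : G) = k' * q * k'⁻¹ := by
    intro q
    rfl
  have hfix : ∀ q : Q, φ q = q → q = 1 := by
    intro q hq
    have h1 : k' * q * k'⁻¹ = q := by rw [← hφapp, hq]
    have h3 : (q : G) ∈ Q ⊓ Subgroup.centralizer {k'} := by
      refine Subgroup.mem_inf.2 ⟨q.2, ?_⟩
      rw [Subgroup.mem_centralizer_singleton_iff]
      calc (q : G) * k' = (k' * q * k'⁻¹) * k' := by rw [h1]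
        _ = k' * q := by group
    rw [hfpf, Subgroup.mem_bot] at h3
    exact Subtype.ext h3
  apply Cfsg.Agent.S0033.result φ hfix p hpp
  haveI : Fact p.Prime := ⟨hpp⟩
  apply orderOf_eq_prime
  · rw [hφ, ← map_pow]
    have : (⟨k', hk'N⟩ : Subgroup.normalizer (Q : Set G)) ^ p = 1 := by
      apply Subtype.ext
      show k' ^ p = 1
      rw [← hk'ord, pow_orderOf_eq_one]
    rw [this, map_one]
  · intro h
    obtain ⟨s, hsQ, hs1, -⟩ := RO.exists_invol hS
    apply hs1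
    have := hfix ⟨s, hsQ⟩ (by rw [h]; rfl)
    exact congrArg Subtype.val this

end Cfsg.Agent.S1129
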