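import Cfsg.Statements.S1130
import Cfsg.Agent.Lib.Helper9.RankOne5
import Cfsg.Agent.S1129
import Cfsg.Agent.Lib.Helper10.Fitting

set_option autoImplicit false
open Cfsg

namespace Cfsg.Agent.S1130

open Cfsg.Agent.Lib.Helper9 MulAction

/-- a nilpotent group of even order has a central involution -/
theorem exists_central_invol {K : Type*} [Group K] [Finite K] (hK : Group.IsNilpotent K)
    (heven : Even (Nat.card K)) : ∃ z ∈ Subgroup.center K, z ≠ 1 ∧ z * z = 1 := by
  obtain ⟨P⟩ : Nonempty (Sylow 2 K) := inferInstance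
  have q := (Group.isNilpotent_of_finite_tfae (G := K)).out 0 3
  have hPn : (P : Subgroup K).Normal := q.1 hK 2 inferInstance P
  have hP1 : (P : Subgroup K) ≠ ⊥ := by
    intro h
    have h1 := P.card_eq_multiplicity
    rw [h, Subgroup.card_bot] at h1
    have h2 : (Nat.card K).factorization 2 = 0 := by
      by_contra h3
      have : 2 ^ 1 ≤ 2 ^ (Nat.card K).factorization 2 := Nat.pow_le_pow_right (by norm_num) (by omega)
      omega
    rcases (Nat.factorization_eq_zero_iff _ _).1 h2 with h3 | h3 | h3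
    · exact h3 Nat.prime_two
    · exact h3 (even_iff_two_dvd.1 heven)
    · exact Nat.card_pos.ne' h3
  have h1 := Cfsg.Agent.Lib.Helper10.normal_inf_center_ne_bot (P : Subgroup K) hPn hP1
  have hp : IsPGroup 2 ↥((P : Subgroup K) ⊓ Subgroup.center K) := P.isPGroup'.to_le inf_le_left
  haveI : Nontrivial ↥((P : Subgroup K) ⊓ Subgroup.center K) :=
    (Subgroup.nontrivial_iff_ne_bot _).2 h1
  obtain ⟨n, hn⟩ := hp.exists_card_eq
  have hn0 : n ≠ 0 := by
    rintro rfl
    rw [pow_zero] at hn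
    have := Finite.one_lt_card (α := ↥((P : Subgroup K) ⊓ Subgroup.center K))
    omega
  obtain ⟨z, hz⟩ := exists_prime_orderOf_dvd_card' (G := ↥((P : Subgroup K) ⊓ Subgroup.center K)) 2
    (by rw [hn]; exact dvd_pow_self 2 hn0)
  refine ⟨z, (Subgroup.mem_inf.1 z.2).2, ?_, ?_⟩
  · intro h
    have : z = 1 := Subtype.ext h
    rw [this, orderOf_one] at hz
    omega
  · exact congrArg Subtype.val (mul_self_of_orderOf_two hz)

theorem central {G Ω : Type*} [Group G] [Finite G] [MulAction G Ω] [FaithfulSMul G Ω] {a : Ω} {t : G} {Q : Subgroup G}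
    (hS : Cfsg.IsRankOneSetup G Ω a t Q)
    (h2 : ∃ x y : G, x ≠ 1 ∧ y ≠ 1 ∧ x ≠ y ∧ x * x = 1 ∧ y * y = 1 ∧ x * y = y * x) :
    ∀ s ∈ Cfsg.involutionsIn (MulAction.stabilizer G a : Set G), s ∈ Q ∧ ∀ x ∈ Q, s * x = x * s := by
  obtain ⟨z, hzc, hz1, hzz⟩ := exists_central_invol (Cfsg.Agent.S1129.result hS h2) hS.even_card
  rw [Subgroup.mem_center_iff] at hzc
  have hz : (z : G) ∈ Cfsg.involutionsIn (MulAction.stabilizer G a : Set G) :=
    ⟨hS.le z.2, fun h => hz1 (Subtype.ext h), congrArg Subtype.val hzz⟩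
  intro s hs
  refine ⟨RO.invol_mem_Q hS hs.1 hs.2.2, ?_⟩
  obtain ⟨k, hk, rfl⟩ := RO.K_trans hS hz hs
  intro x hx
  have hka := (Subgroup.mem_inf.1 hk.1).1
  have h1 : k * x * k⁻¹ ∈ Q := hS.conj_mem k hka x hx
  have h3 : (k * x * k⁻¹) * (z : G) = (z : G) * (k * x * k⁻¹) := congrArg Subtype.val (hzc ⟨_, h1⟩)
  calc k⁻¹ * (z : G) * k * x = k⁻¹ * ((z : G) * (k * x * k⁻¹)) * k := by group
    _ = k⁻¹ * ((k * x * k⁻¹) * (z : G)) * k := by rw [h3]
    _ = x * (k⁻¹ * (z : G) * k) := by group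


/-- In the rank-one set-up (`G` finite and doubly transitive on `Ω`, `t` an involution moving `a`, `Q` normal in `G_a` with `G_a = Q D`, `Q ⊓ D = 1` for the two-point stabiliser `D = G_a ⊓ G_{t • a}`, `|Q|` even, `|D|` odd), with the action faithful and `G` containing two distinct commuting involutions: the involutions of `G_a` lie in `Z(Q)`, and together with `1` they are closed under multiplication (so form an elementary abelian 2-subgroup). -/
theorem result {G Ω : Type*} [Group G] [Finite G] [MulAction G Ω] [FaithfulSMul G Ω] {a : Ω} {t : G} {Q : Subgroup G}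
    (hS : Cfsg.IsRankOneSetup G Ω a t Q)
    (h2 : ∃ x y : G, x ≠ 1 ∧ y ≠ 1 ∧ x ≠ y ∧ x * x = 1 ∧ y * y = 1 ∧ x * y = y * x) :
    (∀ s ∈ Cfsg.involutionsIn (MulAction.stabilizer G a : Set G), s ∈ Q ∧ ∀ x ∈ Q, s * x = x * s) ∧
      ∀ s ∈ Cfsg.involutionsIn (MulAction.stabilizer G a : Set G), ∀ s' ∈ Cfsg.involutionsIn (MulAction.stabilizer G a : Set G),
        s * s' = 1 ∨ s * s' ∈ Cfsg.involutionsIn (MulAction.stabilizer G a : Set G) := by
  have hc := central hS h2
  refine ⟨hc, ?_⟩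
  intro s hs s' hs'
  by_cases h : s * s' = 1
  · exact Or.inl h
  · right
    refine ⟨Subgroup.mul_mem _ hs.1 hs'.1, h, ?_⟩
    have h1 := (hc s hs).2 s' (hc s' hs').1
    calc s * s' * (s * s') = s * (s' * s) * s' := by group
      _ = s * (s * s') * s' := by rw [h1]
      _ = (s * s) * (s' * s') := by group
      _ = 1 := by rw [hs.2.2, hs'.2.2, one_mul]

end Cfsg.Agent.S1130
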