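import Cfsg.Statements.S1135
import Cfsg.Agent.Lib.Helper9.RankOne5
import Cfsg.Agent.S1130

set_option autoImplicit false
open Cfsg

namespace Cfsg.Agent.S1135

open Cfsg.Agent.Lib.Helper9 MulAction

section
variable {G Ω : Type*} [Group G] [Finite G] [MulAction G Ω] [FaithfulSMul G Ω] {a : Ω} {t : G} {Q : Subgroup G}

theorem conj_ne_one {g z : G} (hz : z ≠ 1) : g * z * g⁻¹ ≠ 1 := by
  intro h
  apply hz
  calc z = g⁻¹ * (g * z * g⁻¹) * g := by group
    _ = 1 := by rw [h]; group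

theorem conj_mul_self {g z : G} (hz : z * z = 1) : g * z * g⁻¹ * (g * z * g⁻¹) = 1 := by
  calc g * z * g⁻¹ * (g * z * g⁻¹) = g * (z * z) * g⁻¹ := by group
    _ = 1 := by rw [hz]; group

/-- an involution `z` fixing `g₀ • a` commutes with `g₀ Q g₀⁻¹` -/
theorem comm_conj_Q (hS : Cfsg.IsRankOneSetup G Ω a t Q)
    (h2 : ∃ x y : G, x ≠ 1 ∧ y ≠ 1 ∧ x ≠ y ∧ x * x = 1 ∧ y * y = 1 ∧ x * y = y * x)
    {z g₀ q : G} (hz1 : z ≠ 1) (hzz : z * z = 1) (hzc : z • (g₀ • a) = g₀ • a) (hq : q ∈ Q) :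
    z * (g₀ * q * g₀⁻¹) = (g₀ * q * g₀⁻¹) * z := by
  have hJ : g₀⁻¹ * z * g₀⁻¹⁻¹ ∈ Cfsg.involutionsIn (MulAction.stabilizer G a : Set G) := by
    refine ⟨?_, conj_ne_one hz1, conj_mul_self hzz⟩
    show _ ∈ stabilizer G a
    rw [mem_stabilizer_iff, inv_inv, mul_smul, mul_smul, hzc, inv_smul_smul]
  have h1 := (Cfsg.Agent.S1130.central hS h2 _ hJ).2 q hq
  rw [inv_inv] at h1
  calc z * (g₀ * q * g₀⁻¹) = g₀ * (g₀⁻¹ * z * g₀ * q) * g₀⁻¹ := by group
    _ = g₀ * (q * (g₀⁻¹ * z * g₀)) * g₀⁻¹ := by rw [h1]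
    _ = _ := by group

theorem comm_of_same_fix (hS : Cfsg.IsRankOneSetup G Ω a t Q)
    (h2 : ∃ x y : G, x ≠ 1 ∧ y ≠ 1 ∧ x ≠ y ∧ x * x = 1 ∧ y * y = 1 ∧ x * y = y * x)
    {z w : G} (hz1 : z ≠ 1) (hzz : z * z = 1) (hww : w * w = 1) {c : Ω} (hzc : z • c = c)
    (hwc : w • c = c) : z * w = w * z := by
  obtain ⟨g₀, rfl⟩ := RO.trans hS a c
  have hw : g₀⁻¹ * w * g₀ ∈ Q := by
    apply RO.invol_mem_Q hS
    · rw [mem_stabilizer_iff, mul_smul, mul_smul, hwc, inv_smul_smul]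
    · have := conj_mul_self (g := g₀⁻¹) hww
      rwa [inv_inv] at this
  have := comm_conj_Q hS h2 hz1 hzz hzc hw
  have e : g₀ * (g₀⁻¹ * w * g₀) * g₀⁻¹ = w := by group
  rwa [e] at this

end


/-- In the rank-one set-up (`G` finite and doubly transitive on `Ω`, `t` an involution moving `a`, `Q` normal in `G_a` with `G_a = Q D`, `Q ⊓ D = 1` for the two-point stabiliser `D = G_a ⊓ G_{t • a}`, `|Q|` even, `|D|` odd), with the action faithful and `G` containing two distinct commuting involutions: if `x = u v` with `u, v` involutions and `x² ≠ 1`, then `x` is conjugate to `u' t` for some involution `u'` of `G_a`, and `|C_G(x)|` is odd. -/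
theorem result {G Ω : Type*} [Group G] [Finite G] [MulAction G Ω] [FaithfulSMul G Ω] {a : Ω} {t : G} {Q : Subgroup G}
    (hS : Cfsg.IsRankOneSetup G Ω a t Q)
    (h2 : ∃ x y : G, x ≠ 1 ∧ y ≠ 1 ∧ x ≠ y ∧ x * x = 1 ∧ y * y = 1 ∧ x * y = y * x)
    (u v : G) (hu1 : u ≠ 1) (hu2 : u * u = 1) (hv1 : v ≠ 1) (hv2 : v * v = 1) (hx : (u * v) * (u * v) ≠ 1) :
    (∃ g : G, ∃ u' ∈ Cfsg.involutionsIn (MulAction.stabilizer G a : Set G), g * (u * v) * g⁻¹ = u' * t) ∧
      Odd (Nat.card ↥(Subgroup.centralizer {u * v})) := by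
  have htt := hS.mul_self
  have hui : u⁻¹ = u := inv_eq_self_of_mul_self hu2
  have hvi : v⁻¹ = v := inv_eq_self_of_mul_self hv2
  obtain ⟨cu, hcu⟩ := RO.invol_fix_exists hS hu2
  have hvcu : v • cu ≠ cu := by
    intro h
    apply hx
    have := comm_of_same_fix hS h2 hu1 hu2 hv2 hcu h
    calc u * v * (u * v) = u * (v * u) * v := by group
      _ = u * (u * v) * v := by rw [this]
      _ = (u * u) * (v * v) := by group
      _ = 1 := by rw [hu2, hv2, one_mul]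
  constructor
  · obtain ⟨g₁, hg₁⟩ := RO.invol_conj hS hv1 hv2 hS.ne_one htt
    obtain ⟨c₀, hc₀⟩ := RO.invol_fix_exists hS htt
    have hc₀a : c₀ ≠ a := by
      rintro rfl
      exact RO.b_ne hS hc₀
    have hne : g₁ • cu ≠ c₀ := by
      intro h
      apply hvcu
      have h1 : (g₁ * v * g₁⁻¹) • (g₁ • cu) = g₁ • cu := by rw [hg₁, h, hc₀]
      rw [mul_smul, mul_smul, inv_smul_smul] at h1
      exact smul_left_cancel g₁ h1
    obtain ⟨g₀, rfl⟩ := RO.trans hS a c₀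
    have h1 : g₀⁻¹ • (g₁ • cu) ≠ a := fun h => hne (by rw [← h, smul_inv_smul])
    have h1' : g₀⁻¹ • a ≠ a := fun h => hc₀a (by
      conv_lhs => rw [← h]
      rw [smul_inv_smul])
    obtain ⟨q, hq, hqc⟩ := RO.Q_trans hS h1 h1'
    have hcomm := comm_conj_Q hS h2 hS.ne_one htt hc₀ hq
    set h := g₀ * q * g₀⁻¹ with hh
    refine ⟨h * g₁, h * (g₁ * u * g₁⁻¹) * h⁻¹, ⟨?_, conj_ne_one (conj_ne_one hu1),
      conj_mul_self (conj_mul_self hu2)⟩, ?_⟩
    · show _ ∈ stabilizer G a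
      have e1 : h • (g₁ • cu) = a := by
        rw [hh, mul_smul, mul_smul, hqc, smul_inv_smul]
      have e0 : h⁻¹ • a = g₁ • cu := by rw [inv_smul_eq_iff, e1]
      have e3 : (g₁ * u * g₁⁻¹) • (g₁ • cu) = g₁ • cu := by
        rw [mul_smul, mul_smul, inv_smul_smul, hcu]
      rw [mem_stabilizer_iff, mul_smul, mul_smul, e0, e3, e1]
    · have e2 : h * t * h⁻¹ = t := by rw [← hcomm]; group
      calc h * g₁ * (u * v) * (h * g₁)⁻¹ = h * (g₁ * u * g₁⁻¹) * h⁻¹ * (h * (g₁ * v * g₁⁻¹) * h⁻¹) := by group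
        _ = _ := by rw [hg₁, e2]
  · by_contra hodd
    rw [Nat.not_odd_iff_even, even_iff_two_dvd] at hodd
    obtain ⟨z, hz⟩ := exists_prime_orderOf_dvd_card' (G := ↥(Subgroup.centralizer {u * v})) 2 hodd
    have hz1 : (z : G) ≠ 1 := by
      intro h
      have : z = 1 := Subtype.ext h
      rw [this, orderOf_one] at hz
      omega
    have hzz : (z : G) * z = 1 := congrArg Subtype.val (mul_self_of_orderOf_two hz)
    have hzx : (z : G) * (u * v) = (u * v) * z := Subgroup.mem_centralizer_singleton_iff.1 z.2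
    by_cases hzc : (z : G) • cu = cu
    · -- x fixes cu, so v fixes cu
      have h1 : (u * v) • cu = cu := RO.comm_fix hS hz1 hzz hzc hzx.symm
      apply hvcu
      rw [mul_smul] at h1
      calc v • cu = u • (u • (v • cu)) := by rw [← mul_smul u u, hu2, one_smul]
        _ = cu := by rw [h1, hcu]
    · obtain ⟨j, hj⟩ := RO.odd_order_mul hS hu1 hu2 hz1 hzz hcu hzc
      have hc := odd_conj hu2 hzz hj
      -- u inverts x, z centralizes x
      have hux : u * (u * v) * u⁻¹ = (u * v)⁻¹ := by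
        rw [mul_inv_rev, hui, hvi, ← mul_assoc, hu2, one_mul]
      have hzx' : (z : G) * (u * v) * (z : G)⁻¹ = u * v := by rw [hzx]; group
      have huz : (u * z) * (u * v) * (u * z)⁻¹ = (u * v)⁻¹ := by
        calc (u * z) * (u * v) * (u * z)⁻¹ = u * ((z : G) * (u * v) * (z : G)⁻¹) * u⁻¹ := by group
          _ = _ := by rw [hzx', hux]
      have huz' : (u * z) * (u * v)⁻¹ * (u * z)⁻¹ = u * v := by
        calc (u * z) * (u * v)⁻¹ * (u * z)⁻¹ = ((u * z) * (u * v) * (u * z)⁻¹)⁻¹ := by group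
          _ = _ := by rw [huz, inv_inv]
      have hpow : ∀ i : ℕ, ((u * z) ^ i * (u * v) * ((u * z) ^ i)⁻¹ = u * v ∧
          (u * z) ^ i * (u * v)⁻¹ * ((u * z) ^ i)⁻¹ = (u * v)⁻¹) ∨
          ((u * z) ^ i * (u * v) * ((u * z) ^ i)⁻¹ = (u * v)⁻¹ ∧
          (u * z) ^ i * (u * v)⁻¹ * ((u * z) ^ i)⁻¹ = u * v) := by
        intro i
        induction i with
        | zero => left; simp
        | succ i ih =>
          have e : ∀ y : G, (u * z) ^ (i + 1) * y * ((u * z) ^ (i + 1))⁻¹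
              = (u * z) * ((u * z) ^ i * y * ((u * z) ^ i)⁻¹) * (u * z)⁻¹ := by
            intro y; rw [pow_succ', mul_inv_rev]; simp only [mul_assoc]
          rcases ih with ⟨h1, h2⟩ | ⟨h1, h2⟩
          · right; rw [e, e, h1, h2]; exact ⟨huz, huz'⟩
          · left; rw [e, e, h1, h2]; exact ⟨huz', huz⟩
      set g := (u * (z : G)) ^ j with hg
      have hginv : ∀ y w : G, g * y * g⁻¹ = w → g⁻¹ * w * g = y := by
        intro y w h; rw [← h]; group
      have key : (z : G) * (u * v) * (z : G)⁻¹ = (u * v)⁻¹ := by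
        rw [← hc]
        have e : g * u * g⁻¹ * (u * v) * (g * u * g⁻¹)⁻¹ = g * (u * (g⁻¹ * (u * v) * g) * u⁻¹) * g⁻¹ := by
          group
        rw [e]
        have hux' : u * (u * v)⁻¹ * u⁻¹ = u * v := by
          calc u * (u * v)⁻¹ * u⁻¹ = (u * (u * v) * u⁻¹)⁻¹ := by group
            _ = _ := by rw [hux, inv_inv]
        rcases hpow j with ⟨h1, h2⟩ | ⟨h1, h2⟩
        · rw [hginv _ _ h1, hux, h2]
        · rw [hginv _ _ h2, hux', h1]
      apply hx
      rw [hzx'] at key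
      calc u * v * (u * v) = (u * v)⁻¹ * (u * v) := by rw [← key]
        _ = 1 := inv_mul_cancel _

end Cfsg.Agent.S1135
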