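import Cfsg.Statements.S1154
import Cfsg.Agent.Lib.Helper8.Ree19

set_option autoImplicit false
open Cfsg

namespace Cfsg.Agent.S1154

/-- In the small Ree group ²G₂(q), q = 3^(2m+1) with m ≥ 1, realised as G¹ inside the Chevalley group G₂ over the field with q elements (θ the 3^m-th power map), with `U¹ = G¹ ∩ U` (U the positive unipotent subgroup of the ambient G₂): `U¹` has exactly `q² - 1` elements of order 3. -/
theorem result {K : Type*} [Field K] [Fintype K] {m : ℕ} (hm : 1 ≤ m) (hK : Fintype.card K = 3 ^ (2 * m + 1)) :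
    Nat.card {u : ↥(Cfsg.Lie.chevG2.posUnipotent K ⊓ Cfsg.Lie.twistedG2 K (3 ^ m)) // orderOf u = 3} = (3 ^ (2 * m + 1)) ^ 2 - 1 := by
  obtain ⟨hc, φ, -, hφ, e⟩ := Cfsg.Agent.Lib.Helper8.setup_ree hK
  rw [e, Cfsg.Agent.Lib.Helper8.card_order3 φ Cfsg.Agent.Lib.Helper8.G2_isoR1_inj hφ, hK]

end Cfsg.Agent.S1154
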