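import Cfsg.Statements.S1249
import Cfsg.Agent.Lib.Helper9.Basic

set_option autoImplicit false
open Cfsg

namespace Cfsg.Agent.S1249

/-- Let P and Q be Sylow p-subgroups of the finite group G both containing the subgroup A. If A is strongly closed in P, then A is strongly closed in Q. -/
theorem result {G : Type*} [Group G] [Finite G] {p : ℕ} [Fact p.Prime] (P Q : Sylow p G) (A : Subgroup G) (hAQ : A ≤ Q) (hA : Cfsg.IsStronglyClosed A (P : Subgroup G)) : Cfsg.IsStronglyClosed A (Q : Subgroup G) := by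
  obtain ⟨g, hg⟩ := Cfsg.Agent.Lib.Helper9.sylow_conj P Q
  refine ⟨hAQ, ?_⟩
  have h1 : ∀ x ∈ (A : Set G), g⁻¹ * x * g⁻¹⁻¹ ∈ (A : Set G) := by
    intro x hx
    have h2 : g⁻¹ * x * g ∈ P := (hg x).1 (hAQ hx)
    have := hA.2 x hx g⁻¹ (by rw [inv_inv]; exact h2)
    exact this
  have h3 := Cfsg.Agent.Lib.Helper9.conj_inv_mem_of_forall (A : Set G) g⁻¹ h1
  intro x hx h hxQ
  have h4 : g⁻¹ * (h * x * h⁻¹) * g ∈ P := (hg _).1 hxQ
  have h5 : (g⁻¹ * h) * x * (g⁻¹ * h)⁻¹ ∈ A := by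
    apply hA.2 x hx
    have e : (g⁻¹ * h) * x * (g⁻¹ * h)⁻¹ = g⁻¹ * (h * x * h⁻¹) * g := by simp [mul_assoc]
    rw [e]; exact h4
  have h6 := h3 _ h5
  have e : g⁻¹⁻¹ * ((g⁻¹ * h) * x * (g⁻¹ * h)⁻¹) * g⁻¹ = h * x * h⁻¹ := by simp [mul_assoc]
  rw [e] at h6
  exact h6

end Cfsg.Agent.S1249
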