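import Cfsg.Statements.S1250
import Cfsg.Agent.Lib.Helper9.Basic

set_option autoImplicit false
open Cfsg

namespace Cfsg.Agent.S1250

/-- Let S be a Sylow p-subgroup of the finite group G, A ≤ S strongly closed in S, and N a normal subgroup. Then the image of A in G ⧸ N is strongly closed in the image of S (which is a Sylow p-subgroup of G ⧸ N). -/
theorem result {G : Type*} [Group G] [Finite G] {p : ℕ} [Fact p.Prime] (S : Sylow p G) (A : Subgroup G) (hA : Cfsg.IsStronglyClosed A (S : Subgroup G)) (N : Subgroup G) [N.Normal] : Cfsg.IsStronglyClosed (A.map (QuotientGroup.mk' N)) ((S : Subgroup G).map (QuotientGroup.mk' N)) := by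
  refine ⟨Subgroup.map_mono hA.1, ?_⟩
  rintro _ ⟨x, hx, rfl⟩ gbar hmem
  obtain ⟨g, rfl⟩ := QuotientGroup.mk'_surjective N gbar
  obtain ⟨s, hs, hsy⟩ := hmem
  set y := g * x * g⁻¹ with hy
  have hsy' : (QuotientGroup.mk' N) s = (QuotientGroup.mk' N) y := by
    rw [hsy]; simp [hy]
  have hsn : s⁻¹ * y ∈ N := by
    have := (QuotientGroup.eq (s := N) (a := s) (b := y)).1 hsy'
    exact this
  set M : Subgroup G := (S : Subgroup G) ⊔ N with hM
  have hyM : y ∈ M := by
    have : y = s * (s⁻¹ * y) := by simp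
    rw [this]
    exact Subgroup.mul_mem _ (Subgroup.mem_sup_left hs) (Subgroup.mem_sup_right hsn)
  have hxp : IsPGroup p (Subgroup.zpowers x) :=
    S.isPGroup'.to_le (by
      rw [Subgroup.zpowers_le]; exact hA.1 hx)
  have hyp : IsPGroup p (Subgroup.zpowers y) := by
    have : Subgroup.zpowers y = (Subgroup.zpowers x).map (MulAut.conj g).toMonoidHom := by
      rw [MonoidHom.map_zpowers]; simp [hy, MulAut.conj_apply]
    rw [this]; exact hxp.map _
  have hle : (S : Subgroup G) ≤ M := le_sup_left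
  obtain ⟨m, hm⟩ := Cfsg.Agent.Lib.Helper9.exists_conj_le_sylow ((Subgroup.zpowers y).subgroupOf M)
    hyp.comap_subtype (S.subtype hle)
  have h1 : (m : G) * y * (m : G)⁻¹ ∈ (S : Subgroup G) := by
    have := hm ⟨y, hyM⟩ (by simp [Subgroup.mem_subgroupOf])
    have h2 : m * ⟨y, hyM⟩ * m⁻¹ ∈ ((S.subtype hle : Sylow p M) : Subgroup M) := this
    rw [Sylow.coe_subtype, Subgroup.mem_subgroupOf] at h2
    simpa using h2
  have hmM : (m : G) ∈ ((S : Subgroup G) ⊔ N : Subgroup G) := m.2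
  rw [← SetLike.mem_coe, Subgroup.mul_normal] at hmM
  obtain ⟨s', hs', n', hn', hmm⟩ := hmM
  have h3 : n' * y * n'⁻¹ ∈ (S : Subgroup G) := by
    have h4 := Subgroup.mul_mem _ (Subgroup.mul_mem _ (Subgroup.inv_mem _ hs') h1) hs'
    have e : s'⁻¹ * ((m : G) * y * (m : G)⁻¹) * s' = n' * y * n'⁻¹ := by
      rw [← hmm]; simp [mul_assoc]
    rw [e] at h4; exact h4
  have h5 : (n' * g) * x * (n' * g)⁻¹ ∈ A := by
    apply hA.2 x hx
    have e : (n' * g) * x * (n' * g)⁻¹ = n' * y * n'⁻¹ := by simp [hy, mul_assoc]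
    rw [e]; exact h3
  refine ⟨_, h5, ?_⟩
  have hn1 : (QuotientGroup.mk' N) n' = 1 := by
    rw [← MonoidHom.mem_ker, QuotientGroup.ker_mk']; exact hn'
  simp only [map_mul, map_inv, hn1, one_mul]

end Cfsg.Agent.S1250
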