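import Cfsg.Statements.S1251
import Cfsg.Agent.Lib.Helper9.ZStar
import Cfsg.Agent.Lib.Helper9.SupNorm
import Cfsg.Agent.Lib.Helper5.Card

set_option autoImplicit false
open Cfsg

namespace Cfsg.Agent.S1251

open Cfsg.Agent.Lib.Helper9 Cfsg.Agent.Lib.Helper26


/-- Let S be a Sylow 2-subgroup of the finite group G and A ≤ S strongly closed in S. If H is a subgroup normalized by A with no nontrivial normal subgroup of odd order and A ∩ H = 1, then A ≤ C_G(H). -/
theorem result {G : Type*} [Group G] [Finite G] (S : Sylow 2 G) (A : Subgroup G) (hA : Cfsg.IsStronglyClosed A (S : Subgroup G)) (H : Subgroup G) (hAH : A ≤ Subgroup.normalizer (H : Set G)) (hO : Cfsg.oddCore ↥H = ⊥) (hdisj : A ⊓ H = ⊥) : A ≤ Subgroup.centralizer (H : Set G) := by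
  haveI : Fact (Nat.Prime 2) := ⟨Nat.prime_two⟩
  obtain ⟨hAS, hAcl⟩ := hA
  have hA2 : IsPGroup 2 A := S.isPGroup'.to_le hAS
  set M := A ⊔ H with hM
  have hAM : A ≤ M := le_sup_left
  have hHM : H ≤ M := le_sup_right
  have hMN : M ≤ Subgroup.normalizer (H : Set G) := sup_le hAH Subgroup.le_normalizer
  -- Sylow 2-subgroup T of M containing A
  have hA2' : IsPGroup 2 (A.subgroupOf M) := hA2.of_equiv (Subgroup.subgroupOfEquivOfLe hAM).symm
  obtain ⟨PM, hPM⟩ := hA2'.exists_le_sylow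
  set T : Subgroup G := (PM : Subgroup M).map M.subtype with hT
  have hT2 : IsPGroup 2 T := PM.isPGroup'.map _
  have hTM : T ≤ M := by rintro _ ⟨y, -, rfl⟩; exact y.2
  have hAT : A ≤ T := fun x hx => ⟨⟨x, hAM hx⟩, hPM (Subgroup.mem_subgroupOf.mpr hx), rfl⟩
  have hTsyl : SylIn 2 T M := by
    refine ⟨PM, ?_⟩
    rw [hT, Subgroup.subgroupOf, Subgroup.comap_map_eq_self_of_injective M.subtype_injective]
  -- A is strongly closed in T
  obtain ⟨u, hu⟩ := exists_conj_le_sylow T hT2 S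
  have huA : ∀ x ∈ A, u * x * u⁻¹ ∈ A := fun x hx => hAcl x hx u (hu x (hAT hx))
  have huA' := conj_inv_mem_of_forall (A : Set G) u huA
  have hcl : ∀ x ∈ A, ∀ g : G, g * x * g⁻¹ ∈ T → g * x * g⁻¹ ∈ A := by
    intro x hx g hg
    have h1 := hu _ hg
    have h2 : u * (g * x * g⁻¹) * u⁻¹ = (u * g) * x * (u * g)⁻¹ := by simp [mul_assoc]
    rw [h2] at h1
    have h3 := huA' _ (hAcl x hx _ h1)
    rw [← h2] at h3
    simpa [mul_assoc] using h3
  -- the key: conjugation by H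
  have hkey : ∀ x ∈ A, ∀ h ∈ H, h * x * h⁻¹ ∈ T → h * x * h⁻¹ = x := by
    intro x hx h hh hT'
    have h1 := hcl x hx h hT'
    have h2 : h * x * h⁻¹ * x⁻¹ ∈ A := A.mul_mem h1 (A.inv_mem hx)
    have h3 : h * x * h⁻¹ * x⁻¹ ∈ H := by
      have := (Subgroup.mem_normalizer_iff.mp (hAH hx) h⁻¹).mp (H.inv_mem hh)
      have h4 := H.mul_mem hh this
      simpa [mul_assoc] using h4
    have h5 : h * x * h⁻¹ * x⁻¹ ∈ A ⊓ H := ⟨h2, h3⟩
    rw [hdisj, Subgroup.mem_bot] at h5
    exact mul_inv_eq_one.mp h5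
  set R := T ⊓ H with hR
  have hRsyl : SylIn 2 R H := SylIn.inf_of_normal hTM hTsyl hHM hMN
  have hRcard := (sylIn_iff_card (inf_le_right : R ≤ H)).mp hRsyl
  intro a ha
  set Za := Subgroup.zpowers a with hZa
  have hZaA : Za ≤ A := by rw [hZa, Subgroup.zpowers_le]; exact ha
  have hZaH : Za ≤ Subgroup.normalizer (H : Set G) := hZaA.trans hAH
  set L := H ⊔ Za with hL
  set Ta := R ⊔ Za with hTa
  have hZaR : Za ≤ Subgroup.normalizer (R : Set G) := by
    intro x hx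
    rw [Subgroup.mem_normalizer_iff]
    have hc : ∀ r ∈ R, x * r * x⁻¹ = r := by
      intro r hr
      have h1 := hkey x (hZaA hx) r hr.2 (T.mul_mem (T.mul_mem hr.1 (hAT (hZaA hx))) (T.inv_mem hr.1))
      calc x * r * x⁻¹ = (r * x * r⁻¹) * r * x⁻¹ := by rw [h1]
        _ = r := by simp [mul_assoc]
    intro r
    constructor
    · intro hr; rw [hc r hr]; exact hr
    · intro hr
      have h2 := hc _ hr
      have h3 : x * r * x⁻¹ = r := mul_left_cancel (mul_right_cancel h2)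
      rwa [h3] at hr
  have hTaL : Ta ≤ L := sup_le (inf_le_right.trans le_sup_left) le_sup_right
  have hTaT : Ta ≤ T := sup_le inf_le_left (hZaA.trans hAT)
  have hbot1 : Za ⊓ H = ⊥ := by
    rw [eq_bot_iff, ← hdisj]; exact inf_le_inf_right _ hZaA
  have hbot2 : Za ⊓ R = ⊥ := by
    rw [eq_bot_iff, ← hbot1]; exact inf_le_inf_left _ inf_le_right
  have hcL : Nat.card L = Nat.card Za * Nat.card H := by
    have := Cfsg.Agent.Lib.Helper5.card_sup_mul_card_inf Za H hZaH
    rw [hbot1, Subgroup.card_bot, mul_one, sup_comm] at this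
    exact this
  have hcTa : Nat.card Ta = Nat.card Za * Nat.card R := by
    have := Cfsg.Agent.Lib.Helper5.card_sup_mul_card_inf Za R hZaR
    rw [hbot2, Subgroup.card_bot, mul_one, sup_comm] at this
    exact this
  obtain ⟨k, hk⟩ := IsPGroup.iff_card.mp (hA2.to_le hZaA)
  have hTasyl : SylIn 2 Ta L := by
    rw [sylIn_iff_card hTaL, hcTa, hcL, hk, hRcard,
      Nat.factorization_mul (by positivity) (Nat.card_pos.ne'), Nat.Prime.factorization_pow Nat.prime_two]
    simp [pow_add]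
  obtain ⟨SL, hSL⟩ := hTasyl
  have haL : a ∈ L := le_sup_right (a := H) (Subgroup.mem_zpowers a)
  have hmemSL : ∀ x : L, x ∈ SL ↔ (x : G) ∈ Ta := by
    intro x
    change x ∈ (SL : Subgroup L) ↔ _
    rw [hSL, Subgroup.mem_subgroupOf]
  have hiso : ∀ x ∈ Za.subgroupOf L, ∀ g : L, g * x * g⁻¹ ∈ SL → g * x * g⁻¹ = x := by
    intro x hx g hg
    rw [hmemSL] at hg
    rw [Subgroup.mem_subgroupOf] at hx
    obtain ⟨h, hh, y, hy, hgy⟩ := (mem_sup_of_le_normalizer hZaH).mp g.2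
    apply Subtype.ext
    change (g : G) * x * (g : G)⁻¹ = x
    have hg' : (g : G) * x * (g : G)⁻¹ ∈ Ta := hg
    have hyx : y * (x : G) * y⁻¹ = x := by
      obtain ⟨i, rfl⟩ := Subgroup.mem_zpowers_iff.mp hy
      obtain ⟨j, hj⟩ := Subgroup.mem_zpowers_iff.mp hx
      rw [← hj, ← zpow_add, add_comm, zpow_add]; simp
    have h1 : (g : G) * x * (g : G)⁻¹ = h * x * h⁻¹ := by
      rw [← hgy]
      calc h * y * x * (h * y)⁻¹ = h * (y * x * y⁻¹) * h⁻¹ := by simp [mul_assoc]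
        _ = _ := by rw [hyx]
    rw [h1] at hg' ⊢
    exact hkey x (hZaA hx) h hh (hTaT hg')
  have hZS : Za.subgroupOf L ≤ SL := by
    intro x hx
    apply (hmemSL x).mpr
    exact le_sup_right (a := R) (Subgroup.mem_subgroupOf.mp hx)
  have hZc : ∀ x ∈ Za.subgroupOf L, ∀ s ∈ SL, x * s = s * x := by
    intro x hx s hs
    have h1 := hiso x hx s (SL.mul_mem (SL.mul_mem hs (hZS hx)) (SL.inv_mem hs))
    calc x * s = s * x * s⁻¹ * s := by rw [h1]
      _ = s * x := by simp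
  have hz := gen_zstar SL (Za.subgroupOf L) hZS hZc hiso ⟨a, haL⟩
    (Subgroup.mem_subgroupOf.mpr (Subgroup.mem_zpowers a))
  -- the odd core of L meets H trivially
  set D : Subgroup H := ((Cfsg.oddCore L).map L.subtype).subgroupOf H with hD
  have hHL : H ≤ L := le_sup_left
  have hDn : D.Normal := by
    refine ⟨?_⟩
    intro x hx h
    rw [hD, Subgroup.mem_subgroupOf] at hx ⊢
    obtain ⟨y, hy, hyx⟩ := hx
    refine ⟨⟨h, hHL h.2⟩ * y * ⟨h, hHL h.2⟩⁻¹, oddCore_normal.conj_mem y hy _, ?_⟩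
    change (h : G) * (y : G) * (h : G)⁻¹ = h * x * (h : G)⁻¹
    have : (y : G) = x := hyx
    rw [this]
  have hDc : (Nat.card D).Coprime 2 := by
    have h1 : Nat.card D ∣ Nat.card (Cfsg.oddCore L) := by
      have h2 : D.map H.subtype ≤ (Cfsg.oddCore L).map L.subtype := by
        rintro _ ⟨x, hx, rfl⟩
        exact Subgroup.mem_subgroupOf.mp hx
      have h3 := Subgroup.card_dvd_of_le h2
      rwa [Subgroup.card_map_of_injective H.subtype_injective,
        Subgroup.card_map_of_injective L.subtype_injective] at h3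
    exact Nat.Coprime.coprime_dvd_left h1 (Cfsg.Agent.Lib.Helper10.pPrimeCore_coprime 2 L)
  have hDbot : D = ⊥ := by
    rw [eq_bot_iff, ← hO]
    exact Cfsg.Agent.Lib.Helper10.le_pPrimeCore hDn hDc
  rw [Subgroup.mem_centralizer_iff]
  intro h hh
  have h1 := hz ⟨h, hHL hh⟩
  have h2 : a * h * a⁻¹ * h⁻¹ ∈ H := by
    have := (Subgroup.mem_normalizer_iff.mp (hAH ha) h).mp hh
    exact H.mul_mem this (H.inv_mem hh)
  have h3 : (⟨a * h * a⁻¹ * h⁻¹, h2⟩ : H) ∈ D := by
    rw [hD, Subgroup.mem_subgroupOf]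
    exact ⟨_, h1, rfl⟩
  rw [hDbot, Subgroup.mem_bot] at h3
  have h4 : a * h * a⁻¹ * h⁻¹ = 1 := congrArg Subtype.val h3
  have h5 : a * h * a⁻¹ = h := mul_inv_eq_one.mp h4
  calc h * a = a * h * a⁻¹ * a := by rw [h5]
    _ = a * h := by simp

end Cfsg.Agent.S1251
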