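import Cfsg.Statements.S1254
import Mathlib
import Cfsg.Agent.Lib.Helper14.MaxClassSub
import Cfsg.Agent.Lib.Lead.PRes
-- import your own Cfsg.Agent.* helpers here

set_option autoImplicit false
open Cfsg

namespace Cfsg.Agent.S1254

open Cfsg.Agent.Lib.Helper14

/-- with a normal complement `K` to `S`, normalizers of subgroups of `S` factorize -/
theorem forward {X : Type*} [Group X] (S K U : Subgroup X) [K.Normal]
    (hc : K.IsComplement' S) (hUS : U ≤ S) :
    Subgroup.normalizer (U : Set X) ≤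
      Subgroup.centralizer (U : Set X) ⊔ (S ⊓ Subgroup.normalizer (U : Set X)) := by
  intro x hx
  obtain ⟨⟨⟨k, hk⟩, ⟨s, hs⟩⟩, hks, -⟩ := hc.existsUnique x
  change k * s = x at hks
  have hdisj : ∀ y : X, y ∈ K → y ∈ S → y = 1 := fun y h1 h2 =>
    Subgroup.disjoint_def.mp hc.disjoint h1 h2
  have key : ∀ u ∈ U, x * u * x⁻¹ = s * u * s⁻¹ ∧ k * (s * u * s⁻¹) = (s * u * s⁻¹) * k := by
    intro u hu
    have h1 : x * u * x⁻¹ ∈ U := (Subgroup.mem_normalizer_iff.mp hx u).mp hu
    obtain ⟨v, hv⟩ : ∃ v, v = s * u * s⁻¹ := ⟨_, rfl⟩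
    have hvS : v ∈ S := by
      rw [hv]; exact S.mul_mem (S.mul_mem hs (hUS hu)) (S.inv_mem hs)
    have h2 : x * u * x⁻¹ = k * v * k⁻¹ := by rw [← hks, hv]; group
    have h3 : k * v * k⁻¹ * v⁻¹ ∈ K := by
      have : k * v * k⁻¹ * v⁻¹ = k * (v * k⁻¹ * v⁻¹) := by group
      rw [this]
      exact K.mul_mem hk (‹K.Normal›.conj_mem _ (K.inv_mem hk) v)
    have h4 : k * v * k⁻¹ * v⁻¹ ∈ S := by
      rw [← h2]; exact S.mul_mem (hUS h1) (S.inv_mem hvS)
    have h5 := hdisj _ h3 h4
    have h6 : k * v * k⁻¹ = v := by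
      calc k * v * k⁻¹ = k * v * k⁻¹ * v⁻¹ * v := by group
        _ = v := by rw [h5, one_mul]
    rw [← hv]
    refine ⟨by rw [h2, h6], ?_⟩
    calc k * v = k * v * k⁻¹ * k := by group
      _ = v * k := by rw [h6]
  have hsN : s ∈ Subgroup.normalizer (U : Set X) := by
    rw [Subgroup.mem_normalizer_iff]
    intro u
    constructor
    · intro hu
      rw [← (key u hu).1]
      exact (Subgroup.mem_normalizer_iff.mp hx u).mp hu
    · intro hw
      have hxi : x⁻¹ ∈ Subgroup.normalizer (U : Set X) := Subgroup.inv_mem _ hx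
      have hu0 : x⁻¹ * (s * u * s⁻¹) * x⁻¹⁻¹ ∈ U := (Subgroup.mem_normalizer_iff.mp hxi _).mp hw
      have h1 := (key _ hu0).1
      have h2 : x * (x⁻¹ * (s * u * s⁻¹) * x⁻¹⁻¹) * x⁻¹ = s * u * s⁻¹ := by group
      rw [h2] at h1
      have h3 : u = x⁻¹ * (s * u * s⁻¹) * x⁻¹⁻¹ := by
        have := mul_left_cancel (mul_right_cancel h1)
        exact this
      rw [h3]; exact hu0
  have hkC : k ∈ Subgroup.centralizer (U : Set X) := by
    rw [Subgroup.mem_centralizer_iff]
    intro u hu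
    have hsi : s⁻¹ ∈ Subgroup.normalizer (U : Set X) := Subgroup.inv_mem _ hsN
    have hu0 : s⁻¹ * u * s⁻¹⁻¹ ∈ U := (Subgroup.mem_normalizer_iff.mp hsi _).mp hu
    have h1 := (key _ hu0).2
    have h2 : s * (s⁻¹ * u * s⁻¹⁻¹) * s⁻¹ = u := by group
    rw [h2] at h1
    exact h1.symm
  rw [← hks]
  exact Subgroup.mul_mem _ (Subgroup.mem_sup_left hkC) (Subgroup.mem_sup_right ⟨hs, hsN⟩)

/-- Let X be a finite group whose Sylow 2-subgroup S is dihedral (of order at least 4). Then X has a normal 2-complement if and only if, for every Klein four-subgroup U ≤ S, the normalizer N_X(U) is generated by C_X(U) and N_S(U). -/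
theorem result {X : Type*} [Group X] [Finite X] (S : Sylow 2 X) (m : ℕ) (hm : 2 ≤ m) (eS : (S : Subgroup X) ≃* DihedralGroup m) : Cfsg.HasNormalPComplement 2 X ↔ ∀ U : Subgroup X, U ≤ S → IsKleinFour U → Subgroup.normalizer (U : Set X) = Subgroup.centralizer (U : Set X) ⊔ ((S : Subgroup X) ⊓ Subgroup.normalizer (U : Set X)) := by
  have : Fact (Nat.Prime 2) := ⟨Nat.prime_two⟩
  have : NeZero m := ⟨by omega⟩
  have hD2 : IsPGroup 2 (DihedralGroup m) := S.2.of_equiv eS
  have hsc : SelfCent (S : Subgroup X) :=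
    SelfCent.of_injective eS.toMonoidHom eS.injective (selfCent_dihedral m hD2)
  rw [Cfsg.Agent.Lib.Lead.hasNormalPComplement_iff S]
  constructor
  · rintro ⟨K, hK, hc⟩ U hUS -
    apply le_antisymm (forward S K U hc hUS)
    exact sup_le (Subgroup.centralizer_le_normalizer _) inf_le_right
  · intro h
    by_contra hno
    obtain ⟨Q, hQS, hQ, g, hgN, hgo, hgC⟩ := SelfCent.exists_odd_action S hsc hno
    rcases hQ with hQ | ⟨⟨eQ⟩⟩
    · have hN := h Q hQS hQ
      apply hgC
      have h1 : (Subgroup.centralizer (Q : Set X)).subgroupOf (Subgroup.normalizer (Q : Set X)) ⊔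
          ((S : Subgroup X) ⊓ Subgroup.normalizer (Q : Set X)).subgroupOf
            (Subgroup.normalizer (Q : Set X)) = ⊤ := by
        rw [← Subgroup.subgroupOf_sup (Subgroup.centralizer_le_normalizer _) inf_le_right, ← hN,
          Subgroup.subgroupOf_self]
      have h2 : Q.normalizerMonoidHom ⟨g, hgN⟩ ∈
          (⊤ : Subgroup (Subgroup.normalizer (Q : Set X))).map Q.normalizerMonoidHom :=
        ⟨_, Subgroup.mem_top _, rfl⟩
      rw [← h1, Subgroup.map_sup, ← Subgroup.normalizerMonoidHom_ker,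
        (Subgroup.map_eq_bot_iff _).mpr le_rfl, bot_sup_eq] at h2
      obtain ⟨s, hs, hsg⟩ := h2
      rw [SetLike.mem_coe, Subgroup.mem_subgroupOf] at hs
      obtain ⟨k, hk⟩ := (IsPGroup.iff_orderOf.mp S.2) ⟨s, hs.1⟩
      rw [Subgroup.orderOf_mk, Subgroup.orderOf_coe] at hk
      have h3 : orderOf (Q.normalizerMonoidHom ⟨g, hgN⟩) ∣ orderOf g := by
        have := orderOf_map_dvd Q.normalizerMonoidHom (⟨g, hgN⟩ : Subgroup.normalizer (Q : Set X))
        rwa [Subgroup.orderOf_mk] at this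
      have h4 : orderOf (Q.normalizerMonoidHom ⟨g, hgN⟩) ∣ 2 ^ k := by
        rw [← hsg, ← hk]
        exact orderOf_map_dvd Q.normalizerMonoidHom s
      have h5 : Nat.Coprime (orderOf g) (2 ^ k) :=
        Nat.Coprime.pow_right k (Nat.coprime_two_right.mpr hgo)
      have h6 := orderOf_eq_one_iff.mp (Nat.eq_one_of_dvd_coprimes h5 h3 h4)
      have h7 : (⟨g, hgN⟩ : Subgroup.normalizer (Q : Set X)) ∈ Q.normalizerMonoidHom.ker := h6
      rw [Subgroup.normalizerMonoidHom_ker, Subgroup.mem_subgroupOf] at h7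
      exact h7
    · exact no_q8_in_dihedral m
        (eS.toMonoidHom.comp ((Subgroup.inclusion hQS).comp eQ.symm.toMonoidHom))
        (eS.injective.comp ((Subgroup.inclusion_injective hQS).comp eQ.symm.injective))

end Cfsg.Agent.S1254
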