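import Cfsg.Statements.S1255
import Mathlib
import Cfsg.Agent.S0107
import Cfsg.Agent.S0221
import Cfsg.Agent.Lib.Lead.PRes
import Cfsg.Agent.Lib.Helper14.MaxClassSub
import Cfsg.Agent.Lib.Helper14.PGroupRel
-- import your own Cfsg.Agent.* helpers here

set_option autoImplicit false
open Cfsg

namespace Cfsg.Agent.S1255

open Cfsg.Agent.Lib.Helper14

theorem klein_transitive {G : Type*} [Group G] (Q : Subgroup G) (hQ : IsKleinFour Q) (g : G)
    (hgN : g ∈ Subgroup.normalizer (Q : Set G)) (hgo : Odd (orderOf g))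
    (hgC : g ∉ Subgroup.centralizer (Q : Set G)) (a b : G) (ha : a ∈ Q) (hb : b ∈ Q)
    (ha1 : a ≠ 1) (hb1 : b ≠ 1) : ∃ c : G, c * a * c⁻¹ = b := by
  have hfix : ∀ z ∈ Q, z ≠ 1 → g * z * g⁻¹ ≠ z := fun z hz hz1 h =>
    hgC (klein_fix Q hQ g hgN hgo z hz hz1 h)
  have hN : ∀ z ∈ Q, g * z * g⁻¹ ∈ Q := fun z hz => (Subgroup.mem_normalizer_iff.mp hgN z).mp hz
  have hne1 : ∀ z, z ≠ 1 → g * z * g⁻¹ ≠ 1 := by
    intro z hz h
    apply hz
    have : z = g⁻¹ * (g * z * g⁻¹) * g := by group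
    rw [this, h]; group
  have hsq : ∀ u ∈ Q, u * u = 1 := by
    intro u hu
    have h1 : (⟨u, hu⟩ : Q) ^ 2 = 1 := by
      rw [← hQ.exponent_two]; exact Monoid.pow_exponent_eq_one _
    have := congrArg Subtype.val h1
    rw [← pow_two]; exact this
  have hcomm : ∀ u ∈ Q, ∀ v ∈ Q, u * v = v * u := by
    intro u hu v hv
    have h1 := hsq _ (Q.mul_mem hu hv)
    calc u * v = u * (u * v * (u * v)) * v := by rw [h1, mul_one]
      _ = (u * u) * (v * u) * (v * v) := by group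
      _ = v * u := by rw [hsq u hu, hsq v hv, one_mul, mul_one]
  obtain ⟨a1, ha1d⟩ : ∃ a1, a1 = g * a * g⁻¹ := ⟨_, rfl⟩
  obtain ⟨a2, ha2d⟩ : ∃ a2, a2 = g * a1 * g⁻¹ := ⟨_, rfl⟩
  have ha1Q : a1 ∈ Q := ha1d ▸ hN a ha
  have ha2Q : a2 ∈ Q := ha2d ▸ hN a1 ha1Q
  have h11 : a1 ≠ 1 := ha1d ▸ hne1 a ha1
  have h21 : a2 ≠ 1 := ha2d ▸ hne1 a1 h11
  have h10 : a1 ≠ a := ha1d ▸ hfix a ha ha1
  have h2_1 : a2 ≠ a1 := ha2d ▸ hfix a1 ha1Q h11
  have h20 : a2 ≠ a := by
    intro h
    apply hfix (a * a1) (Q.mul_mem ha ha1Q)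
    · intro h1
      apply h10
      calc a1 = (a * a) * a1 := by rw [hsq a ha, one_mul]
        _ = a * (a * a1) := by group
        _ = a := by rw [h1, mul_one]
    · calc g * (a * a1) * g⁻¹ = (g * a * g⁻¹) * (g * a1 * g⁻¹) := by group
        _ = a1 * a := by rw [← ha1d, ← ha2d, h]
        _ = a * a1 := hcomm _ ha1Q _ ha
  by_cases hba : b = a
  · exact ⟨1, by simp [hba]⟩
  by_cases hba1 : b = a1
  · exact ⟨g, by rw [hba1, ha1d]⟩
  refine ⟨g * g, ?_⟩
  have e1 := IsKleinFour.eq_mul_of_ne_all (x := (⟨a, ha⟩ : Q)) (y := ⟨a1, ha1Q⟩) (z := ⟨b, hb⟩)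
    (fun h => ha1 (congrArg Subtype.val h)) (fun h => h11 (congrArg Subtype.val h))
    (fun h => h10 (congrArg Subtype.val h).symm) (fun h => hb1 (congrArg Subtype.val h))
    (fun h => hba (congrArg Subtype.val h)) (fun h => hba1 (congrArg Subtype.val h))
  have e2 := IsKleinFour.eq_mul_of_ne_all (x := (⟨a, ha⟩ : Q)) (y := ⟨a1, ha1Q⟩) (z := ⟨a2, ha2Q⟩)
    (fun h => ha1 (congrArg Subtype.val h)) (fun h => h11 (congrArg Subtype.val h))
    (fun h => h10 (congrArg Subtype.val h).symm) (fun h => h21 (congrArg Subtype.val h))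
    (fun h => h20 (congrArg Subtype.val h)) (fun h => h2_1 (congrArg Subtype.val h))
  have e3 : b = a2 := congrArg Subtype.val (e1.trans e2.symm)
  rw [e3, ha2d, ha1d]; group

theorem orderOf_conj' {G : Type*} [Group G] (g a : G) : orderOf (g * a * g⁻¹) = orderOf a := by
  have := (MulAut.conj g).orderOf_eq a
  rwa [MulAut.conj_apply] at this

theorem all_conj {X : Type*} [Group X] [Finite X] (S : Sylow 2 X) (z0 : X)
    (h : ∀ s ∈ S, orderOf s = 2 → ∃ c : X, c * s * c⁻¹ = z0) :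
    ∀ a b : X, orderOf a = 2 → orderOf b = 2 → IsConj a b := by
  have : Fact (Nat.Prime 2) := ⟨Nat.prime_two⟩
  have key : ∀ a : X, orderOf a = 2 → IsConj a z0 := by
    intro a ha
    have h1 : a ^ 2 ^ 1 = 1 := by rw [pow_one, ← ha]; exact pow_orderOf_eq_one a
    obtain ⟨g, hg⟩ := exists_conj_mem_sylow S (Subgroup.zpowers a) (isPGroup_zpowers h1)
    obtain ⟨c, hc⟩ := h _ (hg a (Subgroup.mem_zpowers a)) (by rw [orderOf_conj', ha])
    rw [isConj_iff]
    exact ⟨c * g, by rw [← hc]; group⟩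
  intro a b ha hb
  exact (key a ha).trans (key b hb).symm

theorem dih_facts {X : Type*} [Group X] [Finite X] (S : Sylow 2 X) (m : ℕ) (hm : 2 ≤ m)
    (eS : (S : Subgroup X) ≃* DihedralGroup m) :
    (∃ z0 ∈ S, orderOf z0 = 2 ∧ (∀ s ∈ S, s * z0 = z0 * s)) ∧
    (∃ s1 ∈ S, ∃ s2 ∈ S, orderOf s1 = 2 ∧ orderOf s2 = 2 ∧ s1 ≠ s2) ∧
    (∀ H : Subgroup X, (∀ s ∈ S, orderOf s = 2 → s ∈ H) → (S : Subgroup X) ≤ H) := by
  have : Fact (Nat.Prime 2) := ⟨Nat.prime_two⟩
  have : NeZero m := ⟨by omega⟩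
  let ι : DihedralGroup m →* X := (S : Subgroup X).subtype.comp eS.symm.toMonoidHom
  have hι : Function.Injective ι := by
    intro a b hab
    exact eS.symm.injective (Subtype.ext hab)
  have hιS : ∀ d, ι d ∈ S := fun d => (eS.symm d).2
  have hrange : ∀ t ∈ (S : Subgroup X), ∃ d, ι d = t := by
    intro t ht
    exact ⟨eS ⟨t, ht⟩, by simp [ι]⟩
  have hord : ∀ d, orderOf (ι d) = orderOf d := fun d => orderOf_injective ι hι d
  refine ⟨?_, ?_, ?_⟩
  · have hne : (⊤ : Subgroup (S : Subgroup X)) ≠ ⊥ := by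
      intro h
      have h1 : Nat.card (S : Subgroup X) = 1 := by
        rw [← Subgroup.card_top, h, Subgroup.card_bot]
      rw [Nat.card_congr eS.toEquiv, DihedralGroup.nat_card] at h1
      omega
    obtain ⟨z, -, hz1, hzc, hz2⟩ := exists_central_order_p 2 S.2 ⊤ hne
    refine ⟨z.1, z.2, ?_, ?_⟩
    · rw [Subgroup.orderOf_coe]
      exact orderOf_eq_prime hz2 hz1
    · intro s hs
      have := Subgroup.mem_center_iff.mp hzc ⟨s, hs⟩
      exact congrArg Subtype.val this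
  · refine ⟨ι (DihedralGroup.sr 0), hιS _, ι (DihedralGroup.sr 1), hιS _, ?_, ?_, ?_⟩
    · rw [hord, DihedralGroup.orderOf_sr]
    · rw [hord, DihedralGroup.orderOf_sr]
    · intro h
      have h1 := hι h
      rw [DihedralGroup.sr.injEq] at h1
      have : Fact (1 < m) := ⟨by omega⟩
      exact zero_ne_one h1
  · intro H hH x hx
    obtain ⟨d, rfl⟩ := hrange x hx
    have hsr : ∀ i, ι (DihedralGroup.sr i) ∈ H := fun i =>
      hH _ (hιS _) (by rw [hord, DihedralGroup.orderOf_sr])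
    cases d with
    | r i =>
      have : (DihedralGroup.r i : DihedralGroup m) = DihedralGroup.sr 0 * DihedralGroup.sr i := by
        rw [DihedralGroup.sr_mul_sr, sub_zero]
      rw [this, map_mul]
      exact H.mul_mem (hsr _) (hsr _)
    | sr i => exact hsr i

theorem klein_of_pair {X : Type*} [Group X] (S : Subgroup X) (z0 s : X) (hz0 : z0 ∈ S) (hs : s ∈ S)
    (hz : orderOf z0 = 2) (hso : orderOf s = 2) (hne : s ≠ z0) (hc : s * z0 = z0 * s) :
    ∃ U : Subgroup X, U ≤ S ∧ IsKleinFour U ∧ z0 ∈ U ∧ s ∈ U := by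
  have hz2 : z0 ^ 2 = 1 := by rw [← hz]; exact pow_orderOf_eq_one z0
  have hs2 : s ^ 2 = 1 := by rw [← hso]; exact pow_orderOf_eq_one s
  have hs1 : s ≠ 1 := by
    rintro rfl
    rw [orderOf_one] at hso; omega
  have hV : ∀ v ∈ Subgroup.zpowers z0, v = 1 ∨ v = z0 := by
    rintro v ⟨k, rfl⟩
    rcases Int.even_or_odd' k with ⟨j, rfl | rfl⟩
    · left
      change z0 ^ (2 * j) = 1
      rw [zpow_mul, zpow_ofNat, hz2, one_zpow]
    · right
      change z0 ^ (2 * j + 1) = z0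
      rw [zpow_add, zpow_mul, zpow_ofNat, hz2, one_zpow, one_mul, zpow_one]
  obtain ⟨W, hVW, hsW, hcard, hexp, hW⟩ := Cfsg.Agent.S0221.adjoin (Subgroup.zpowers z0)
    (by
      intro v hv
      rcases hV v hv with rfl | rfl
      · exact one_pow 2
      · exact hz2) s hs2
    (by
      intro h
      rcases hV s h with h | h
      · exact hs1 h
      · exact hne h)
    (by
      intro v hv
      rcases hV v hv with rfl | rfl
      · simp
      · exact hc)
  rw [Nat.card_zpowers, hz] at hcard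
  refine ⟨W, ?_, ⟨hcard, ?_⟩, hVW (Subgroup.mem_zpowers z0), hsW⟩
  · intro w hw
    have hVS : Subgroup.zpowers z0 ≤ S := Subgroup.zpowers_le.mpr hz0
    rcases hW w hw with h | h
    · exact hVS h
    · have := S.mul_mem (S.inv_mem hs) (hVS h)
      rwa [inv_mul_cancel_left] at this
  · have h1 : Monoid.exponent W ∣ 2 := Monoid.exponent_dvd_of_forall_pow_eq_one (by
      rintro ⟨w, hw⟩
      exact Subtype.ext (hexp w hw))
    rcases (Nat.dvd_prime Nat.prime_two).mp h1 with h | h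
    · exfalso
      rw [Monoid.exp_eq_one_iff] at h
      have := Nat.card_of_subsingleton (1 : W)
      omega
    · exact h

theorem exists_odd_of_three {X : Type*} [Group X] [Finite X] (U : Subgroup X)
    (h3 : 3 ∣ (Subgroup.centralizer (U : Set X)).relIndex (Subgroup.normalizer (U : Set X))) :
    ∃ g ∈ Subgroup.normalizer (U : Set X), Odd (orderOf g) ∧
      g ∉ Subgroup.centralizer (U : Set X) := by
  have : Fact (Nat.Prime 3) := ⟨Nat.prime_three⟩
  by_contra hcon
  push Not at hcon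
  obtain ⟨T⟩ : Nonempty (Sylow 3 (Subgroup.normalizer (U : Set X))) := inferInstance
  have hT : (T : Subgroup _) ≤
      (Subgroup.centralizer (U : Set X)).subgroupOf (Subgroup.normalizer (U : Set X)) := by
    intro t ht
    rw [Subgroup.mem_subgroupOf]
    apply hcon _ t.2
    obtain ⟨k, hk⟩ := (IsPGroup.iff_orderOf.mp T.2) ⟨t, ht⟩
    rw [Subgroup.orderOf_mk] at hk
    rw [Subgroup.orderOf_coe, hk]; exact Odd.pow (by decide)
  have h1 := Subgroup.index_dvd_of_le hT
  exact T.not_dvd_index (h3.trans h1)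

theorem caseA {X : Type*} [Group X] [Finite X] (S : Sylow 2 X) (m : ℕ) (hm : 2 ≤ m)
    (eS : (S : Subgroup X) ≃* DihedralGroup m)
    (hall : ∀ a b : X, orderOf a = 2 → orderOf b = 2 → IsConj a b) :
    (∀ H : Subgroup X, H.index ≠ 2) ∧ (∀ z : X, ¬ Cfsg.IsIsolatedInvolution z) := by
  have : Fact (Nat.Prime 2) := ⟨Nat.prime_two⟩
  obtain ⟨⟨z0, hz0S, hz0, hz0c⟩, ⟨s1, hs1S, s2, hs2S, hs1, hs2, hne⟩, hgen⟩ := dih_facts S m hm eS
  obtain ⟨s, hsS, hso, hsz⟩ : ∃ s ∈ S, orderOf s = 2 ∧ s ≠ z0 := by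
    by_cases h : s1 = z0
    · exact ⟨s2, hs2S, hs2, fun h2 => hne (h.trans h2.symm)⟩
    · exact ⟨s1, hs1S, hs1, h⟩
  have hz2 : z0 * z0 = 1 := by rw [← pow_two, ← hz0]; exact pow_orderOf_eq_one z0
  have hs2' : s * s = 1 := by rw [← pow_two, ← hso]; exact pow_orderOf_eq_one s
  constructor
  · intro H hH
    have hn : H.Normal := Subgroup.normal_of_index_eq_two hH
    obtain ⟨t, htH, hto⟩ : ∃ t ∈ H, orderOf t = 2 := by
      by_cases h1 : z0 ∈ H
      · exact ⟨z0, h1, hz0⟩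
      by_cases h2 : s ∈ H
      · exact ⟨s, h2, hso⟩
      refine ⟨s * z0, ?_, ?_⟩
      · rw [Subgroup.mul_mem_iff_of_index_two hH]
        exact ⟨fun h => absurd h h2, fun h => absurd h h1⟩
      · apply orderOf_eq_prime
        · rw [pow_two]
          calc s * z0 * (s * z0) = s * z0 * (z0 * s) := by rw [hz0c s hsS]
            _ = s * (z0 * z0) * s := by group
            _ = 1 := by rw [hz2, mul_one, hs2']
        · intro h
          apply hsz
          calc s = s * z0 * z0 := by rw [mul_assoc, hz2, mul_one]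
            _ = z0 := by rw [h, one_mul]
    have hSH : (S : Subgroup X) ≤ H := by
      apply hgen
      intro u _ huo
      obtain ⟨c, hc⟩ := isConj_iff.mp (hall t u hto huo)
      rw [← hc]
      exact hn.conj_mem t htH c
    have h1 := Subgroup.index_dvd_of_le hSH
    rw [hH] at h1
    exact S.not_dvd_index h1
  · rintro z ⟨hzo, hz⟩
    obtain ⟨c, hc⟩ := isConj_iff.mp (hall z z0 hzo hz0)
    obtain ⟨d, hd⟩ := isConj_iff.mp (hall z s hzo hso)
    have h1 : Commute z ((c⁻¹ * d) * z * (c⁻¹ * d)⁻¹) := by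
      have h2 : (c⁻¹ * d) * z * (c⁻¹ * d)⁻¹ = c⁻¹ * s * c := by rw [← hd]; group
      have h3 : z = c⁻¹ * z0 * c := by rw [← hc]; group
      rw [h2]
      change z * (c⁻¹ * s * c) = c⁻¹ * s * c * z
      rw [h3]
      calc c⁻¹ * z0 * c * (c⁻¹ * s * c) = c⁻¹ * (z0 * s) * c := by group
        _ = c⁻¹ * (s * z0) * c := by rw [hz0c s hsS]
        _ = c⁻¹ * s * c * (c⁻¹ * z0 * c) := by group
    have h4 := hz _ h1
    apply hsz
    rw [← hd, ← hc]
    calc d * z * d⁻¹ = c * ((c⁻¹ * d) * z * (c⁻¹ * d)⁻¹) * c⁻¹ := by group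
      _ = c * z * c⁻¹ := by rw [h4]

theorem caseB {X : Type*} [Group X] [Finite X] (S : Sylow 2 X) (m : ℕ) (hm : 2 ≤ m)
    (eS : (S : Subgroup X) ≃* DihedralGroup m)
    (hB : ∀ U : Subgroup X, U ≤ S → IsKleinFour U →
      (Subgroup.centralizer (U : Set X)).relIndex (Subgroup.normalizer (U : Set X)) =
        (if Nat.card S = 4 then 3 else 6)) :
    ∀ a b : X, orderOf a = 2 → orderOf b = 2 → IsConj a b := by
  obtain ⟨⟨z0, hz0S, hz0, hz0c⟩, -, -⟩ := dih_facts S m hm eS
  apply all_conj S z0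
  intro s hs hso
  by_cases hsz : s = z0
  · exact ⟨1, by simp [hsz]⟩
  obtain ⟨U, hUS, hU, hzU, hsU⟩ := klein_of_pair S z0 s hz0S hs hz0 hso hsz (hz0c s hs)
  have h3 : 3 ∣ (Subgroup.centralizer (U : Set X)).relIndex (Subgroup.normalizer (U : Set X)) := by
    rw [hB U hUS hU]; split_ifs <;> norm_num
  obtain ⟨g, hgN, hgo, hgC⟩ := exists_odd_of_three U h3
  refine klein_transitive U hU g hgN hgo hgC s z0 hsU hzU ?_ ?_
  · rintro rfl
    rw [orderOf_one] at hso; omega
  · rintro rfl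
    rw [orderOf_one] at hz0; omega

theorem caseC {X : Type*} [Group X] [Finite X] (S : Sylow 2 X) (m : ℕ) (hm : 2 ≤ m)
    (eS : (S : Subgroup X) ≃* DihedralGroup m) (hno : ∀ H : Subgroup X, H.index ≠ 2) :
    ∀ a b : X, orderOf a = 2 → orderOf b = 2 → IsConj a b := by
  have : Fact (Nat.Prime 2) := ⟨Nat.prime_two⟩
  have : NeZero m := ⟨by omega⟩
  have hres : Cfsg.pResidual 2 X = ⊤ := by
    by_contra hne
    have hn := Cfsg.Agent.Lib.Lead.pResidual_normal (G := X) 2
    have hp := Cfsg.Agent.Lib.Lead.isPGroup_quotient_pResidual (G := X) 2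
    obtain ⟨k, hk⟩ := hp.exists_card_eq
    have hk0 : k ≠ 0 := by
      rintro rfl
      rw [pow_zero] at hk
      exact hne (Subgroup.index_eq_one.mp hk)
    obtain ⟨j, rfl⟩ : ∃ j, k = j + 1 := ⟨k - 1, by omega⟩
    obtain ⟨K, hK⟩ := Sylow.exists_subgroup_card_pow_prime (G := X ⧸ Cfsg.pResidual 2 X) 2 (n := j)
      (by rw [hk]; exact pow_dvd_pow 2 (by omega))
    apply hno (K.comap (QuotientGroup.mk' _))
    rw [Subgroup.index_comap_of_surjective _ (QuotientGroup.mk'_surjective _)]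
    have h1 := K.card_mul_index
    rw [hK, hk, pow_succ] at h1
    exact Nat.eq_of_mul_eq_mul_left (by positivity) h1
  have hcard : Nat.card (S : Subgroup X) = 2 * m := by
    rw [Nat.card_congr eS.toEquiv, DihedralGroup.nat_card]
  obtain ⟨n, hn⟩ := S.2.exists_card_eq
  obtain ⟨j, rfl⟩ : ∃ j, m = 2 ^ j := by
    have hn0 : n ≠ 0 := by
      rintro rfl
      rw [pow_zero] at hn; omega
    refine ⟨n - 1, ?_⟩
    obtain ⟨i, rfl⟩ : ∃ i, n = i + 1 := ⟨n - 1, by omega⟩
    rw [hcard, pow_succ] at hn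
    simp only [Nat.add_sub_cancel]
    omega
  by_cases hj : 2 ≤ j
  · intro a b ha hb
    rw [isConj_iff]
    exact Cfsg.Agent.S0107.result S j hj ⟨eS⟩ hres a b ha hb
  · have hj1 : j = 1 := by
      have : j ≠ 0 := by
        rintro rfl
        rw [pow_zero] at hm; omega
      omega
    subst hj1
    rw [pow_one] at hcard
    have hD2 : IsPGroup 2 (DihedralGroup (2 ^ 1)) := S.2.of_equiv eS
    have hsc : SelfCent (S : Subgroup X) :=
      SelfCent.of_injective eS.toMonoidHom eS.injective (selfCent_dihedral _ hD2)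
    have hnoc : ¬ ∃ N : Subgroup X, N.Normal ∧ N.IsComplement' (S : Subgroup X) := by
      rintro ⟨N, hN, hc⟩
      have h1 : N.index = 2 ^ 2 := by rw [hc.symm.index_eq_card, hcard]; norm_num
      have h2 : IsPGroup 2 (X ⧸ N) := IsPGroup.of_card h1
      have h3 := Cfsg.Agent.Lib.Lead.pResidual_le_of_isPGroup_quotient N h2
      rw [hres, top_le_iff] at h3
      rw [h3, Subgroup.index_top] at h1
      omega
    obtain ⟨Q, hQS, hQ, g, hgN, hgo, hgC⟩ := SelfCent.exists_odd_action S hsc hnoc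
    have hQ4 : IsKleinFour Q := by
      rcases hQ with hQ | ⟨⟨eQ⟩⟩
      · exact hQ
      · exfalso
        exact no_q8_in_dihedral _
          (eS.toMonoidHom.comp ((Subgroup.inclusion hQS).comp eQ.symm.toMonoidHom))
          (eS.injective.comp ((Subgroup.inclusion_injective hQS).comp eQ.symm.injective))
    have hQeq : Q = S := by
      apply Subgroup.eq_of_le_of_card_ge hQS
      rw [hcard, hQ4.card_four]
    obtain ⟨⟨z0, hz0S, hz0, hz0c⟩, -, -⟩ := dih_facts S _ hm eS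
    apply all_conj S z0
    intro s hs hso
    refine klein_transitive Q hQ4 g hgN hgo hgC s z0 (hQeq ▸ hs) (hQeq ▸ hz0S) ?_ ?_
    · rintro rfl
      rw [orderOf_one] at hso; omega
    · rintro rfl
      rw [orderOf_one] at hz0; omega

/-- Let X be a finite group whose Sylow 2-subgroup S is dihedral of order 2m ≥ 4. Then X has no subgroup of index 2 and no isolated involution if and only if either all involutions of X are conjugate, or for every Klein four-subgroup U ≤ S the index |N_X(U) : C_X(U)| equals 3 when |S| = 4 and equals 6 when |S| > 4. -/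
theorem result {X : Type*} [Group X] [Finite X] (S : Sylow 2 X) (m : ℕ) (hm : 2 ≤ m) (eS : (S : Subgroup X) ≃* DihedralGroup m) : ((∀ H : Subgroup X, H.index ≠ 2) ∧ (∀ z : X, ¬ Cfsg.IsIsolatedInvolution z)) ↔ ((∀ a b : X, orderOf a = 2 → orderOf b = 2 → IsConj a b) ∨ (∀ U : Subgroup X, U ≤ S → IsKleinFour U → (Subgroup.centralizer (U : Set X)).relIndex (Subgroup.normalizer (U : Set X)) = (if Nat.card S = 4 then 3 else 6))) := by
  constructor
  · rintro ⟨h1, -⟩
    left
    exact caseC S m hm eS h1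
  · rintro (h | h)
    · exact caseA S m hm eS h
    · exact caseA S m hm eS (caseB S m hm eS h)

end Cfsg.Agent.S1255
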