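import Cfsg.Statements.S1292
import Cfsg.Agent.Lib.Helper10.CharP

set_option autoImplicit false
open Cfsg
open Cfsg.Agent.Lib.Helper10

namespace Cfsg.Agent.S1292

/-- Let G be a finite group such that F*(C_G(t)) = O_2(C_G(t)) for every involution t. Then F*(N_G(T)) = O_2(N_G(T)) for every nontrivial 2-subgroup T of G. -/
theorem result {G : Type*} [Group G] [Finite G] (h : ∀ t : G, orderOf t = 2 → Cfsg.generalizedFittingSubgroup ↥(Subgroup.centralizer ({t} : Set G)) = Cfsg.pCore 2 ↥(Subgroup.centralizer ({t} : Set G))) (T : Subgroup G) (hT : IsPGroup 2 ↥T) (hT1 : T ≠ ⊥) : Cfsg.generalizedFittingSubgroup ↥(Subgroup.normalizer (T : Set G)) = Cfsg.pCore 2 ↥(Subgroup.normalizer (T : Set G)) := by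
  obtain ⟨t, htT, htc, ht2⟩ := exists_central_orderOf_eq hT hT1
  have hC : CharPT 2 ↥(Subgroup.centralizer ({t} : Set G)) :=
    charPT_iff_genFitting_eq.mpr (h t ht2)
  have hTC : T ≤ Subgroup.centralizer ({t} : Set G) := by
    intro s hs
    rw [Subgroup.mem_centralizer_singleton_iff]
    exact htc s hs
  have h1 := charPT_normalizer hC (T.subgroupOf (Subgroup.centralizer ({t} : Set G)))
    hT.comap_subtype
  rw [← charPT_iff_genFitting_eq]
  apply charPT_of_pE_le ((Subgroup.centralizer ({t} : Set G)).subgroupOf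
    (Subgroup.normalizer (T : Set G)))
  · intro k hk
    rw [Subgroup.mem_subgroupOf, Subgroup.mem_centralizer_singleton_iff]
    have hTn : (T.subgroupOf (Subgroup.normalizer (T : Set G))).Normal := inferInstance
    have := pE_commute_normal_pGroup hTn hT.comap_subtype hk
      (r := ⟨t, Subgroup.le_normalizer htT⟩) (Subgroup.mem_subgroupOf.mpr htT)
    exact congrArg Subtype.val this
  · rw [← Subgroup.subgroupOf_normalizer_eq hTC] at h1
    exact charPT_of_mulEquiv (subgroupOfSwap _ _) h1

end Cfsg.Agent.S1292
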