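import Cfsg.Statements.S1323
-- import your own Cfsg.Agent.* helpers here
import Mathlib
import Cfsg.Agent.Lib.Helper10.Basic

set_option autoImplicit false
open Cfsg

namespace Cfsg.Agent.S1323


open Equiv Equiv.Perm
open scoped commutatorElement

variable {α : Type*} [Fintype α] [DecidableEq α]

/-- Even permutations fixing `T` pointwise. -/
def fixOn (T : Finset α) : Subgroup (alternatingGroup α) where
  carrier := {g | ∀ x ∈ T, (g : Perm α) x = x}
  one_mem' := by intro x _; rfl
  mul_mem' := by
    intro a b ha hb x hx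
    show (a : Perm α) ((b : Perm α) x) = x
    rw [hb x hx, ha x hx]
  inv_mem' := by
    intro a ha x hx
    show (a : Perm α)⁻¹ x = x
    rw [Perm.inv_eq_iff_eq]; exact (ha x hx).symm

theorem mem_fixOn (T : Finset α) (g : alternatingGroup α) :
    g ∈ fixOn T ↔ ∀ x ∈ T, (g : Perm α) x = x := Iff.rfl

/-- A three-cycle as an element of the alternating group. -/
def c3 (x a b : α) (hxa : x ≠ a) (hxb : x ≠ b) : alternatingGroup α :=
  ⟨swap x a * swap x b, by
    rw [mem_alternatingGroup, Perm.sign_mul, sign_swap hxa, sign_swap hxb]; rfl⟩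

theorem c3_apply_self (x a b : α) (hxa : x ≠ a) (hxb : x ≠ b) (hab : a ≠ b) :
    ((c3 x a b hxa hxb : alternatingGroup α) : Perm α) x = b := by
  show (swap x a * swap x b) x = b
  rw [Perm.mul_apply, swap_apply_left, swap_apply_of_ne_of_ne hxb.symm hab.symm]

theorem c3_apply_of_ne (x a b : α) (hxa : x ≠ a) (hxb : x ≠ b) (z : α) (hzx : z ≠ x) (hza : z ≠ a)
    (hzb : z ≠ b) : ((c3 x a b hxa hxb : alternatingGroup α) : Perm α) z = z := by
  show (swap x a * swap x b) z = z
  rw [Perm.mul_apply, swap_apply_of_ne_of_ne hzx hzb, swap_apply_of_ne_of_ne hzx hza]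

theorem c3_mem_fixOn (T : Finset α) (x a b : α) (hxa : x ≠ a) (hxb : x ≠ b) (hx : x ∉ T) (ha : a ∉ T)
    (hb : b ∉ T) : c3 x a b hxa hxb ∈ fixOn T := by
  intro z hz
  exact c3_apply_of_ne x a b hxa hxb z (fun h => hx (h ▸ hz)) (fun h => ha (h ▸ hz))
    (fun h => hb (h ▸ hz))

theorem pick2 (S : Finset α) (hS : 4 ≤ S.card) (x y : α) :
    ∃ a ∈ S, ∃ b ∈ S, a ≠ b ∧ a ≠ x ∧ a ≠ y ∧ b ≠ x ∧ b ≠ y := by
  have h0 : 1 < (S \ {x, y}).card := by
    have h1 := Finset.le_card_sdiff ({x, y} : Finset α) S
    have h2 : ({x, y} : Finset α).card ≤ 2 := Finset.card_le_two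
    omega
  obtain ⟨a, ha, b, hb, hab⟩ := Finset.one_lt_card.mp h0
  simp only [Finset.mem_sdiff, Finset.mem_insert, Finset.mem_singleton, not_or] at ha hb
  exact ⟨a, ha.1, b, hb.1, hab, ha.2.1, ha.2.2, hb.2.1, hb.2.2⟩

theorem cent_le (T : Finset α) (h : 4 ≤ Tᶜ.card) :
    Subgroup.centralizer (fixOn T : Set (alternatingGroup α)) ≤ fixOn Tᶜ := by
  intro g hg x hx
  by_contra hne
  obtain ⟨a, ha, b, hb, hab, hax, hay, hbx, hby⟩ := pick2 Tᶜ h x ((g : Perm α) x)
  have hc : c3 x a b hax.symm hbx.symm ∈ fixOn T :=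
    c3_mem_fixOn T x a b _ _ (by simpa using hx) (by simpa using ha) (by simpa using hb)
  have h1 := Subgroup.mem_centralizer_iff.mp hg _ hc
  have h2 := congrArg (fun k : alternatingGroup α => (k : Perm α) x) h1
  simp only [Subgroup.coe_mul, Perm.mul_apply] at h2
  rw [c3_apply_self x a b _ _ hab, c3_apply_of_ne x a b _ _ _ hne hay.symm hby.symm] at h2
  exact hbx ((g : Perm α).injective h2).symm

theorem le_cent (T : Finset α) :
    fixOn Tᶜ ≤ Subgroup.centralizer (fixOn T : Set (alternatingGroup α)) := by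
  intro g hg
  rw [Subgroup.mem_centralizer_iff]
  intro h hh
  apply Subtype.ext
  show (h : Perm α) * g = g * h
  have hd : Perm.Disjoint (h : Perm α) (g : Perm α) := by
    intro x
    by_cases hx : x ∈ T
    · left; exact hh x hx
    · right; exact hg x (by simpa using hx)
  exact hd.commute.eq

theorem cent_eq (T : Finset α) (h : 4 ≤ Tᶜ.card) :
    Subgroup.centralizer (fixOn T : Set (alternatingGroup α)) = fixOn Tᶜ :=
  le_antisymm (cent_le T h) (le_cent T)

theorem norm_cent {G : Type*} [Group G] (H : Subgroup G) :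
    Subgroup.normalizer (H : Set G) ≤
      Subgroup.normalizer (Subgroup.centralizer (H : Set G) : Set G) := by
  intro g hg
  rw [Subgroup.mem_normalizer_iff] at hg ⊢
  intro c
  constructor
  · intro hc
    rw [Subgroup.mem_centralizer_iff] at hc ⊢
    intro h hh
    have h1 : g⁻¹ * h * g ∈ H := by
      rw [hg]
      have : g * (g⁻¹ * h * g) * g⁻¹ = h := by group
      rw [this]; exact hh
    have h2 := hc _ h1
    calc h * (g * c * g⁻¹) = g * ((g⁻¹ * h * g) * c) * g⁻¹ := by group
      _ = g * (c * (g⁻¹ * h * g)) * g⁻¹ := by rw [h2]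
      _ = g * c * g⁻¹ * h := by group
  · intro hc
    rw [Subgroup.mem_centralizer_iff] at hc ⊢
    intro h hh
    have h1 : g * h * g⁻¹ ∈ H := (hg h).mp hh
    have h2 := hc _ h1
    have h3 : g * (h * c) * g⁻¹ = g * (c * h) * g⁻¹ := by
      calc g * (h * c) * g⁻¹ = (g * h * g⁻¹) * (g * c * g⁻¹) := by group
        _ = (g * c * g⁻¹) * (g * h * g⁻¹) := h2
        _ = g * (c * h) * g⁻¹ := by group
    exact mul_left_cancel (mul_right_cancel h3)

theorem mem_norm_of_pres (T : Finset α) (g : alternatingGroup α)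
    (h : ∀ x, x ∈ T ↔ (g : Perm α) x ∈ T) :
    g ∈ Subgroup.normalizer (fixOn T : Set (alternatingGroup α)) := by
  rw [Subgroup.mem_normalizer_iff]
  intro k
  constructor
  · intro hk x hx
    show (g : Perm α) ((k : Perm α) ((g : Perm α)⁻¹ x)) = x
    have h1 : (g : Perm α)⁻¹ x ∈ T := by rw [h]; simpa using hx
    rw [hk _ h1]; simp
  · intro hk x hx
    have h1 := hk _ ((h x).mp hx)
    have h2 : (g : Perm α) ((k : Perm α) ((g : Perm α)⁻¹ ((g : Perm α) x))) = (g : Perm α) x := h1
    rw [show (g : Perm α)⁻¹ ((g : Perm α) x) = x from by simp] at h2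
    exact (g : Perm α).injective h2

theorem supp_eq (D : Finset α) (hD : D.card = 4) (t : alternatingGroup α) (ht : t ∈ fixOn Dᶜ)
    (ho : orderOf t = 2) : (t : Perm α).support = D := by
  have hsub : (t : Perm α).support ⊆ D := by
    intro x hx
    by_contra hxD
    exact (Perm.mem_support.mp hx) (ht x (by simpa using hxD))
  have ho' : orderOf (t : Perm α) = 2 := by rw [Subgroup.orderOf_coe]; exact ho
  have hsign : Perm.sign (t : Perm α) = 1 := mem_alternatingGroup.mp t.2
  apply Finset.eq_of_subset_of_card_le hsub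
  rw [hD]
  by_contra hlt
  push Not at hlt
  interval_cases hc : (t : Perm α).support.card
  · rw [Perm.card_support_eq_zero] at hc
    rw [hc, orderOf_one] at ho'
    omega
  · exact Perm.card_support_ne_one _ hc
  · have h1 := (Perm.card_support_eq_two.mp hc).sign_eq
    rw [hsign] at h1
    exact absurd h1 (by decide)
  · have h1 := (card_support_eq_three_iff.mp hc).orderOf
    omega

theorem even_card (D : Finset α) (hD : D.card = 4) : Even (Nat.card ↥(fixOn Dᶜ)) := by
  obtain ⟨a, s, ha, rfl, hs⟩ := Finset.card_eq_succ.mp hD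
  obtain ⟨b, c, d, hbc, hbd, hcd, rfl⟩ := Finset.card_eq_three.mp hs
  simp only [Finset.mem_insert, Finset.mem_singleton, not_or] at ha
  obtain ⟨hab, hac, had⟩ := ha
  have hmem : swap a b * swap c d ∈ alternatingGroup α := by
    rw [mem_alternatingGroup, Perm.sign_mul, sign_swap hab, sign_swap hcd]; rfl
  have htf : (⟨swap a b * swap c d, hmem⟩ : alternatingGroup α) ∈
      fixOn (insert a ({b, c, d} : Finset α))ᶜ := by
    intro x hx
    simp only [Finset.mem_compl, Finset.mem_insert, Finset.mem_singleton, not_or] at hx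
    show (swap a b * swap c d) x = x
    rw [Perm.mul_apply, swap_apply_of_ne_of_ne hx.2.2.1 hx.2.2.2, swap_apply_of_ne_of_ne hx.1 hx.2.1]
  have ho : orderOf (⟨⟨swap a b * swap c d, hmem⟩, htf⟩ :
      ↥(fixOn (insert a ({b, c, d} : Finset α))ᶜ)) = 2 := by
    apply orderOf_eq_prime
    · apply Subtype.ext
      apply Subtype.ext
      show (swap a b * swap c d) ^ 2 = 1
      have hcomm : Commute (swap a b) (swap c d) :=
        (Perm.disjoint_swap_swap (by simp [hab, hac, had, hbc, hbd, hcd])).commute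
      rw [hcomm.mul_pow, pow_two, pow_two, swap_mul_self, swap_mul_self, one_mul]
    · intro h
      have h1 := congrArg (fun k : ↥(fixOn (insert a ({b, c, d} : Finset α))ᶜ) =>
        ((k : alternatingGroup α) : Perm α) a) h
      have h2 : (swap a b * swap c d) a = a := h1
      rw [Perm.mul_apply, swap_apply_of_ne_of_ne hac had, swap_apply_left] at h2
      exact hab h2.symm
  rw [even_iff_two_dvd, ← ho]
  exact orderOf_dvd_natCard _

theorem qs (D : Finset α) (h5 : 5 ≤ Dᶜ.card) : Cfsg.IsQuasisimple ↥(fixOn D) := by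
  have hrange : (alternatingGroup.ofSubtype Dᶜ).range = fixOn D := by
    ext k
    rw [alternatingGroup.mem_range_ofSubtype_iff, mem_fixOn]
    constructor
    · intro h x hx
      by_contra hne
      have h1 := h (Perm.mem_support.mpr hne)
      rw [Finset.mem_compl] at h1
      exact h1 hx
    · intro h x hx
      rw [Finset.mem_compl]
      intro hxD
      exact (Perm.mem_support.mp hx) (h x hxD)
  have e1 : alternatingGroup ↥Dᶜ ≃* (alternatingGroup.ofSubtype Dᶜ).range :=
    MonoidHom.ofInjective alternatingGroup.ofSubtype_injective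
  have e2 : (alternatingGroup.ofSubtype Dᶜ).range ≃* fixOn D := MulEquiv.subgroupCongr hrange
  apply Cfsg.Agent.Lib.Helper10.isQuasisimple_of_mulEquiv (e1.trans e2)
  have hcard : 5 ≤ Nat.card ↥Dᶜ := by
    rw [Nat.card_eq_fintype_card, Fintype.card_coe]; exact h5
  have hs := alternatingGroup.isSimpleGroup hcard
  have hnt : Nontrivial (alternatingGroup ↥Dᶜ) := hs.toNontrivial
  apply Cfsg.Agent.Lib.Helper10.isQuasisimple_of_normal_central
  · rw [Group.isPerfect_def]
    rcases (inferInstance : (commutator (alternatingGroup ↥Dᶜ)).Normal).eq_bot_or_eq_top with h | h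
    · exfalso
      rw [commutator_eq_bot_iff] at h
      have := alternatingGroup.isMulCommutative_iff_card_le_three.mp h
      omega
    · exact h
  · intro N hN hne
    rcases hN.eq_bot_or_eq_top with h | h
    · rw [h]; exact bot_le
    · exact absurd h hne

theorem main (D : Finset α) (hD : D.card = 4) (hα : 9 ≤ Fintype.card α) :
    Cfsg.IsStandardSubgroup (fixOn D) := by
  have hDc : Dᶜ.card = Fintype.card α - 4 := by rw [Finset.card_compl, hD]
  have h5 : 5 ≤ Dᶜ.card := by omega
  have hC : Subgroup.centralizer (fixOn D : Set (alternatingGroup α)) = fixOn Dᶜ :=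
    cent_eq D (by omega)
  have hL : Subgroup.centralizer (fixOn Dᶜ : Set (alternatingGroup α)) = fixOn D := by
    have h1 := cent_eq Dᶜ (by rw [compl_compl]; omega)
    rwa [compl_compl] at h1
  refine ⟨qs D h5, ?_, ?_, ?_⟩
  · rw [hC]
    refine ⟨even_card D hD, ?_⟩
    intro g hg
    by_contra hodd
    rw [Nat.not_odd_iff_even] at hodd
    obtain ⟨t, ht⟩ := exists_prime_orderOf_dvd_card' 2 hodd.two_dvd
    have ht1 : (t : alternatingGroup α) ∈ fixOn Dᶜ := t.2.1
    obtain ⟨s, hs, hst⟩ := t.2.2
    have hot : orderOf (t : alternatingGroup α) = 2 := by rw [Subgroup.orderOf_coe]; exact ht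
    have hos : orderOf s = 2 := by
      rw [← hot, ← hst]
      exact (orderOf_injective _ (MulAut.conj g).injective s).symm
    have h3 := supp_eq D hD _ ht1 hot
    have h4 := supp_eq D hD s hs hos
    have h6 : ((t : alternatingGroup α) : Perm α) = (g : Perm α) * s * (g : Perm α)⁻¹ := by
      rw [← hst]; rfl
    rw [h6, Perm.support_conj, h4] at h3
    apply hg
    apply mem_norm_of_pres
    intro x
    simp only [Finset.mem_compl, not_iff_not]
    constructor
    · intro hx
      rw [← h3]
      exact Finset.mem_map_of_mem _ hx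
    · intro hx
      rw [← h3] at hx
      obtain ⟨y, hy, hyx⟩ := Finset.mem_map.mp hx
      have h7 := (g : Perm α).injective hyx
      exact h7 ▸ hy
  · intro g _ hbot
    rw [Subgroup.commutator_comm, Subgroup.commutator_eq_bot_iff_le_centralizer, hC] at hbot
    obtain ⟨x, hx, hgx⟩ : ∃ x ∈ Dᶜ, (g : Perm α) x ∈ Dᶜ := by
      by_contra hcon
      push Not at hcon
      have h1 : Dᶜ.card ≤ D.card :=
        Finset.card_le_card_of_injOn (g : Perm α) (fun x hx => by simpa using hcon x hx)
          ((g : Perm α).injective.injOn)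
      omega
    obtain ⟨a, ha, b, hb, hab, hax, _, hbx, _⟩ := pick2 Dᶜ (by omega) x x
    have hl : c3 x a b hax.symm hbx.symm ∈ fixOn D :=
      c3_mem_fixOn D x a b _ _ (by simpa using hx) (by simpa using ha) (by simpa using hb)
    have h1 := hbot (Subgroup.mem_map_of_mem _ hl) _ hgx
    have h2 : (g : Perm α) (((c3 x a b hax.symm hbx.symm : alternatingGroup α) : Perm α)
        ((g : Perm α)⁻¹ ((g : Perm α) x))) = (g : Perm α) x := h1
    rw [show (g : Perm α)⁻¹ ((g : Perm α) x) = x from by simp, c3_apply_self x a b _ _ hab] at h2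
    exact hbx ((g : Perm α).injective h2)
  · rw [hC]
    apply le_antisymm
    · have h1 := norm_cent (fixOn D)
      rwa [hC] at h1
    · have h1 := norm_cent (fixOn Dᶜ)
      rwa [hL] at h1

/-- For n ≥ 9, the subgroup of the alternating group on Fin n fixing each of the points 0, 1, 2, 3 is a standard subgroup. -/
theorem result (n : ℕ) (h4 : 4 ≤ n) (hn : 9 ≤ n) : Cfsg.IsStandardSubgroup (⨅ i : Fin 4, MulAction.stabilizer ↥(alternatingGroup (Fin n)) (Fin.castLE h4 i : Fin n)) := by
  have key : (⨅ i : Fin 4, MulAction.stabilizer ↥(alternatingGroup (Fin n))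
      (Fin.castLE h4 i : Fin n)) = fixOn ((Finset.univ : Finset (Fin 4)).map (Fin.castLEEmb h4)) := by
    ext g
    simp only [Subgroup.mem_iInf, MulAction.mem_stabilizer_iff, mem_fixOn, Finset.mem_map,
      Finset.mem_univ, true_and]
    constructor
    · rintro h _ ⟨i, rfl⟩
      exact h i
    · intro h i
      exact h _ ⟨i, rfl⟩
  rw [key]
  apply main
  · simp
  · simpa using hn

end Cfsg.Agent.S1323
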