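import Cfsg.Statements.S1339
import Cfsg.Agent.Lib.Helper10.CharP

set_option autoImplicit false
open Cfsg

namespace Cfsg.Agent.S1339

open Cfsg.Agent.Lib.Helper10 Subgroup

theorem genFit_of_selfcent {A : Type*} [Group A] [Finite A] {p : ℕ} [Fact p.Prime]
    (Q : Subgroup A) (hn : Q.Normal) (hQ : IsPGroup p Q)
    (hC : Subgroup.centralizer (Q : Set A) ≤ Q) :
    Cfsg.generalizedFittingSubgroup A = Cfsg.pCore p A := by
  rw [← charPT_iff_genFitting_eq]
  constructor
  · rw [eq_bot_iff, layer_le_iff]
    intro L hL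
    exfalso
    have h1 : ⁅L, Q⁆ = ⊥ := component_commutator_solvable hL (isSolvable_of_isPGroup' hQ)
      (by rw [Subgroup.normalizer_eq_top]; exact le_top)
    have h2 : L ≤ Q := (Subgroup.commutator_eq_bot_iff_le_centralizer.mp h1).trans hC
    exact qs_not_isSolvable hL.2 (isSolvable_of_isPGroup' (hQ.to_le h2))
  · have hdisj : Disjoint (Cfsg.pPrimeCore p A) Q := by
      apply disjoint_of_coprime_natCard
      obtain ⟨n, hn⟩ := IsPGroup.iff_card.mp hQ
      rw [hn]
      exact Nat.Coprime.pow_right _ (pPrimeCore_coprime p A)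
    have h1 : Cfsg.pPrimeCore p A ≤ centralizer (Q : Set A) := by
      intro y hy
      rw [mem_centralizer_iff]
      intro r hr
      exact (commute_of_normal_of_disjoint _ _ inferInstance hn hdisj y r hy hr).eq.symm
    exact le_bot_iff.mp (hdisj.le_bot.trans' (le_inf le_rfl (h1.trans hC)))

open Matrix

theorem f2 {F : Type*} [Field F] [Fintype F] (hF : Fintype.card F = 2) (a : F) : a = 0 ∨ a = 1 := by
  have h := FiniteField.pow_card a
  rw [hF] at h
  have h2 : a * (a - 1) = 0 := by linear_combination h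
  rcases mul_eq_zero.mp h2 with h | h
  · exact Or.inl h
  · exact Or.inr (by linear_combination h)

theorem f2_add {F : Type*} [Field F] [Fintype F] (hF : Fintype.card F = 2) (a : F) : a + a = 0 := by
  have h1 : (1 : F) + 1 = 0 := by
    rcases f2 hF ((1 : F) + 1) with h | h
    · exact h
    · exfalso
      have : (1 : F) = 0 := by linear_combination h
      exact one_ne_zero this
  linear_combination a * h1

theorem cent_facts {F : Type*} [Field F] [Fintype F] (hF : Fintype.card F = 2) {n : ℕ}
    (i j : Fin n) (g : Matrix (Fin n) (Fin n) F) (hdet : g.det = 1)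
    (hc : g * Matrix.transvection i j 1 = Matrix.transvection i j 1 * g) :
    (∀ a, g a i = if a = i then 1 else 0) ∧ (∀ b, g j b = if b = j then 1 else 0) := by
  have hc' : g * Matrix.single i j 1 = Matrix.single i j 1 * g := by
    unfold Matrix.transvection at hc
    rw [mul_add, add_mul, mul_one, one_mul] at hc
    exact add_left_cancel hc
  have e1 : ∀ a, a ≠ i → g a i = 0 := by
    intro a ha
    have := congrFun (congrFun hc' a) j
    rw [Matrix.mul_single_apply_same, Matrix.single_mul_apply_of_ne _ _ _ _ _ ha] at this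
    simpa using this
  have e2 : ∀ b, b ≠ j → g j b = 0 := by
    intro b hb
    have := congrFun (congrFun hc' i) b
    rw [Matrix.single_mul_apply_same, Matrix.mul_single_apply_of_ne _ _ _ _ _ hb] at this
    simpa using this.symm
  have e3 : g i i = g j j := by
    have := congrFun (congrFun hc' i) j
    rw [Matrix.single_mul_apply_same, Matrix.mul_single_apply_same] at this
    simpa using this
  have e4 : g i i = 1 := by
    rcases f2 hF (g i i) with h | h
    · exfalso
      have : g.det = 0 := by
        apply Matrix.det_eq_zero_of_column_eq_zero i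
        intro a
        by_cases ha : a = i
        · rw [ha]; exact h
        · exact e1 a ha
      rw [hdet] at this
      exact one_ne_zero this
    · exact h
  constructor
  · intro a
    by_cases ha : a = i
    · rw [if_pos ha, ha]; exact e4
    · rw [if_neg ha]; exact e1 a ha
  · intro b
    by_cases hb : b = j
    · rw [if_pos hb, hb, ← e3]; exact e4
    · rw [if_neg hb]; exact e2 b hb

def InC {F : Type*} [Field F] {n : ℕ} (i j : Fin n) (g : Matrix (Fin n) (Fin n) F) : Prop :=
  (∀ a, g a i = if a = i then 1 else 0) ∧ (∀ b, g j b = if b = j then 1 else 0)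

def InQ {F : Type*} [Field F] {n : ℕ} (i j : Fin n) (g : Matrix (Fin n) (Fin n) F) : Prop :=
  ∀ v : Fin n → F, v j = 0 → ∀ a, a ≠ i → (g *ᵥ v) a = v a

section
variable {F : Type*} [Field F] {n : ℕ} {i j : Fin n}

theorem InC.row {g : Matrix (Fin n) (Fin n) F} (h : InC i j g) (v : Fin n → F) :
    (g *ᵥ v) j = v j := by
  simp [Matrix.mulVec, dotProduct, h.2]

theorem InC.col {g : Matrix (Fin n) (Fin n) F} (h : InC i j g) :
    g *ᵥ Pi.single i 1 = Pi.single i 1 := by
  rw [Matrix.mulVec_single_one]
  funext a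
  simp [Matrix.col, h.1, Pi.single_apply]

theorem InQ.decomp {g : Matrix (Fin n) (Fin n) F} (h : InQ i j g) (v : Fin n → F) (hv : v j = 0) :
    ∃ c : F, g *ᵥ v = v + c • Pi.single i 1 := by
  refine ⟨(g *ᵥ v) i - v i, ?_⟩
  funext a
  by_cases ha : a = i
  · subst ha
    simp
  · simp [h v hv a ha, ha]

theorem InQ.mul {g h : Matrix (Fin n) (Fin n) F} (hh : InC i j h) (hg : InQ i j g)
    (hq : InQ i j h) : InQ i j (g * h) := by
  intro v hv a ha
  rw [← Matrix.mulVec_mulVec, hg _ (by rw [hh.row, hv]) a ha, hq v hv a ha]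

theorem InQ.inv {g g' : Matrix (Fin n) (Fin n) F} (hgg : g * g' = 1) (hh : InC i j g')
    (hg : InQ i j g) : InQ i j g' := by
  intro v hv a ha
  have h1 := hg (g' *ᵥ v) (by rw [hh.row, hv]) a ha
  rw [Matrix.mulVec_mulVec, hgg, Matrix.one_mulVec] at h1
  exact h1.symm

theorem InQ.conj {g x x' : Matrix (Fin n) (Fin n) F} (hxx : x * x' = 1) (hx : InC i j x)
    (hx' : InC i j x') (hg : InQ i j g) : InQ i j (x * g * x') := by
  intro v hv a ha
  obtain ⟨c, hc⟩ := hg.decomp (x' *ᵥ v) (by rw [hx'.row, hv])
  rw [← Matrix.mulVec_mulVec, ← Matrix.mulVec_mulVec, hc, Matrix.mulVec_add, Matrix.mulVec_smul,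
    hx.col, Matrix.mulVec_mulVec, hxx, Matrix.one_mulVec]
  simp [ha]

theorem InQ.pow4 (h2 : ∀ a : F, a + a = 0) {g : Matrix (Fin n) (Fin n) F} (hc : InC i j g)
    (hg : InQ i j g) : g * g * (g * g) = 1 := by
  have hA : ∀ v : Fin n → F, ∃ c : F, (g * g) *ᵥ v = v + c • Pi.single i 1 := by
    intro v
    obtain ⟨c, hc'⟩ := hg.decomp (g *ᵥ v - v) (by simp [hc.row])
    refine ⟨c, ?_⟩
    rw [Matrix.mulVec_sub] at hc'
    rw [← Matrix.mulVec_mulVec]
    have : g *ᵥ g *ᵥ v = g *ᵥ v + (g *ᵥ v - v + c • Pi.single i 1) := by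
      rw [← hc']; abel
    rw [this]
    funext a
    simp only [Pi.add_apply, Pi.sub_apply]
    linear_combination h2 ((g *ᵥ v) a) - h2 (v a)
  have hB : (g * g) *ᵥ Pi.single i 1 = Pi.single i 1 := by
    rw [← Matrix.mulVec_mulVec, hc.col, hc.col]
  apply Matrix.mulVec_injective
  funext v
  obtain ⟨c, hc'⟩ := hA v
  rw [← Matrix.mulVec_mulVec, hc', Matrix.mulVec_add, Matrix.mulVec_smul, hB, hc',
    Matrix.one_mulVec]
  funext a
  simp only [Pi.add_apply]
  linear_combination h2 ((c • Pi.single i (1 : F) : Fin n → F) a)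

theorem InQ.transv (k : Fin n) : InQ i j (Matrix.transvection i k (1 : F)) := by
  intro v _ a ha
  unfold Matrix.transvection
  rw [Matrix.add_mulVec, Matrix.one_mulVec]
  simp [Matrix.mulVec, dotProduct, Ne.symm ha]

theorem InQ.of_comm {g : Matrix (Fin n) (Fin n) F} (hii : g i i = 1)
    (hc : ∀ k, k ≠ i → g * Matrix.transvection i k 1 = Matrix.transvection i k 1 * g) :
    InQ i j g := by
  have hrow : ∀ k, k ≠ i → ∀ b, g k b = if b = k then 1 else 0 := by
    intro k hk b
    have hc' : g * Matrix.single i k 1 = Matrix.single i k 1 * g := by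
      have := hc k hk
      unfold Matrix.transvection at this
      rw [mul_add, add_mul, mul_one, one_mul] at this
      exact add_left_cancel this
    have := congrFun (congrFun hc' i) b
    rw [Matrix.single_mul_apply_same] at this
    by_cases hb : b = k
    · subst hb
      rw [Matrix.mul_single_apply_same, hii] at this
      simpa using this.symm
    · rw [Matrix.mul_single_apply_of_ne _ _ _ _ _ hb] at this
      simpa [hb] using this.symm
  intro v _ a ha
  simp [Matrix.mulVec, dotProduct, hrow a ha]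

theorem transv_comm {k : Fin n} (hk : k ≠ i) (hj : j ≠ i) :
    Matrix.transvection i k (1 : F) * Matrix.transvection i j 1 =
      Matrix.transvection i j 1 * Matrix.transvection i k 1 := by
  unfold Matrix.transvection
  rw [add_mul, mul_add, mul_add, add_mul, mul_add, mul_add,
    Matrix.single_mul_single_of_ne _ _ _ _ hk, Matrix.single_mul_single_of_ne _ _ _ _ hj]
  simp only [one_mul, mul_one]
  abel

end

/-- Let F be a field with 2 elements, n ≥ 3, and t ∈ SL(n, F) a transvection (t = 1 + E_{ij}, i ≠ j). Then the generalized Fitting subgroup of C(t) is O_2(C(t)). -/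
theorem result {F : Type*} [Field F] [Fintype F] [DecidableEq F] (hF : Fintype.card F = 2) (n : ℕ) (hn : 3 ≤ n) (i j : Fin n) (hij : i ≠ j) (t : Matrix.SpecialLinearGroup (Fin n) F) (ht : (t : Matrix (Fin n) (Fin n) F) = Matrix.transvection i j 1) : Cfsg.generalizedFittingSubgroup ↥(Subgroup.centralizer ({t} : Set (Matrix.SpecialLinearGroup (Fin n) F))) = Cfsg.pCore 2 ↥(Subgroup.centralizer ({t} : Set (Matrix.SpecialLinearGroup (Fin n) F))) := by
  have h2 := f2_add hF
  have hInC : ∀ x : ↥(Subgroup.centralizer ({t} : Set (Matrix.SpecialLinearGroup (Fin n) F))),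
      InC i j x.1.1 := by
    intro x
    have hx := Subgroup.mem_centralizer_singleton_iff.mp x.2
    apply cent_facts hF i j x.1.1 x.1.2
    have := congrArg Subtype.val hx
    rw [← ht]
    exact this
  let Q : Subgroup ↥(Subgroup.centralizer ({t} : Set (Matrix.SpecialLinearGroup (Fin n) F))) :=
    { carrier := {x | InQ i j x.1.1}
      one_mem' := by
        intro v _ a _
        show ((1 : Matrix (Fin n) (Fin n) F) *ᵥ v) a = v a
        rw [Matrix.one_mulVec]
      mul_mem' := fun {x y} hx hy => InQ.mul (hInC y) hx hy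
      inv_mem' := fun {x} hx => InQ.inv (g := x.1.1) (g' := (x⁻¹).1.1) (by
        have : x * x⁻¹ = 1 := mul_inv_cancel x
        exact congrArg (fun z => z.1.1) this) (hInC x⁻¹) hx }
  have hQn : Q.Normal := ⟨fun x hx y => InQ.conj (g := x.1.1) (x := y.1.1) (x' := (y⁻¹).1.1) (by
        have : y * y⁻¹ = 1 := mul_inv_cancel y
        exact congrArg (fun z => z.1.1) this) (hInC y) (hInC y⁻¹) hx⟩
  have hQp : IsPGroup 2 Q := by
    rintro ⟨x, hx⟩
    refine ⟨2, ?_⟩
    apply Subtype.ext
    apply Subtype.ext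
    apply Subtype.ext
    have := InQ.pow4 h2 (hInC x) hx
    show x.1.1 ^ (2 ^ 2) = 1
    rw [← this]
    norm_num [pow_succ, mul_assoc]
  have hQc : Subgroup.centralizer (Q : Set _) ≤ Q := by
    intro x hx
    apply InQ.of_comm (by rw [(hInC x).1 i, if_pos rfl])
    intro k hk
    obtain ⟨T, hT⟩ : ∃ T : Matrix.SpecialLinearGroup (Fin n) F, T.1 = Matrix.transvection i k 1 :=
      ⟨⟨Matrix.transvection i k 1, Matrix.det_transvection_of_ne _ _ hk.symm _⟩, rfl⟩
    have hmem : T ∈ Subgroup.centralizer ({t} : Set (Matrix.SpecialLinearGroup (Fin n) F)) := by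
      rw [Subgroup.mem_centralizer_singleton_iff]
      apply Subtype.ext
      show T.1 * t.1 = t.1 * T.1
      rw [ht, hT]
      exact transv_comm hk hij.symm
    have hTQ : (⟨T, hmem⟩ : ↥(Subgroup.centralizer ({t} : Set _))) ∈ Q := by
      show InQ i j T.1
      rw [hT]
      exact InQ.transv k
    have h := Subgroup.mem_centralizer_iff.mp hx ⟨T, hmem⟩ hTQ
    rw [← hT]
    exact (congrArg (fun z => z.1.1) h).symm
  have : Fact (Nat.Prime 2) := ⟨Nat.prime_two⟩
  exact genFit_of_selfcent Q hQn hQp hQc

end Cfsg.Agent.S1339
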