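import Cfsg.Statements.S1340
import Cfsg.Agent.Lib.Helper10.GLComp

set_option autoImplicit false
open Cfsg

namespace Cfsg.Agent.S1340

/-- Let F be a finite field of odd order and n ≥ 3 with (n, |F|) ≠ (3, 3). Then GL(n, F) has a non-central involution t such that C(t) / O(C(t)) has a component. -/
theorem result {F : Type*} [Field F] [Fintype F] [DecidableEq F] (hF : Odd (Fintype.card F)) (n : ℕ) (hn : 3 ≤ n) (h33 : ¬ (n = 3 ∧ Fintype.card F = 3)) : ∃ t : Matrix.GeneralLinearGroup (Fin n) F, orderOf t = 2 ∧ t ∉ Subgroup.center (Matrix.GeneralLinearGroup (Fin n) F) ∧ Cfsg.HasComponent (↥(Subgroup.centralizer ({t} : Set (Matrix.GeneralLinearGroup (Fin n) F))) ⧸ Cfsg.oddCore ↥(Subgroup.centralizer ({t} : Set (Matrix.GeneralLinearGroup (Fin n) F)))) := by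
  obtain ⟨m, rfl⟩ : ∃ m, n = 1 + m := ⟨n - 1, by omega⟩
  have h2 : (2 : F) ≠ 0 := Ring.two_ne_zero (fun h => by
    have h3 := FiniteField.even_card_of_char_two h
    obtain ⟨k, hk⟩ := hF
    omega)
  have hm : 2 ≤ m := by omega
  have h23 : ¬ (m = 2 ∧ Fintype.card F = 3) := fun h => h33 ⟨by omega, h.2⟩
  obtain ⟨t, K, h1, h2', h3, h4, ⟨e5⟩, h6⟩ := Lib.Helper10.GLComp.transport
    (Units.mapEquiv (Matrix.reindexAlgEquiv F F (finSumFinEquiv (m := 1) (n := m))).toMulEquiv)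
    (Lib.Helper10.GLComp.exists_S (F := F) m h2 hm)
  exact ⟨t, h1, h2', Lib.Helper10.GLComp.hasComponent_of t K h3 h4
    (Lib.Helper10.isQuasisimple_of_mulEquiv e5 (Lib.Helper10.GLComp.sl_qs hF m hm h23)) h6⟩

end Cfsg.Agent.S1340
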