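import Cfsg.Statements.S1465
import Cfsg.Agent.Lib.Helper5.QP5
import Cfsg.Agent.Lib.Helper5.PConstrained
import Cfsg.Agent.Lib.Helper1.Fitting

set_option autoImplicit false
open Cfsg

namespace Cfsg.Agent.S1465

/-- Let p be an odd prime, G a solvable group of odd order, P a normal p-subgroup of G, and X the subgroup generated by a family of abelian p-subgroups of G each normalized by P. Then the image of X in G/C_G(P) lies in O_p(G/C_G(P)); and if O_{p'}(G) = 1 and O_p(G) ∩ C_G(P) ≤ P then X ≤ O_p(G). -/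
theorem result {G : Type*} [Group G] [Finite G] [Group.IsSolvable G] (hodd : Odd (Nat.card G)) (p : ℕ) [Fact p.Prime] (hp : p ≠ 2) (P : Subgroup G) [P.Normal] (hP : IsPGroup p P)
    (S : Set (Subgroup G)) (hS : ∀ B ∈ S, IsMulCommutative B ∧ IsPGroup p B ∧ P ≤ Subgroup.normalizer (B : Set G)) :
    (sSup S).map (QuotientGroup.mk' (Subgroup.centralizer (P : Set G))) ≤ Cfsg.pCore p (G ⧸ Subgroup.centralizer (P : Set G)) ∧
      (Cfsg.pPrimeCore p G = ⊥ → Cfsg.pCore p G ⊓ Subgroup.centralizer (P : Set G) ≤ P → sSup S ≤ Cfsg.pCore p G) := by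
  have part1 : (sSup S).map (QuotientGroup.mk' (Subgroup.centralizer (P : Set G))) ≤
      Cfsg.pCore p (G ⧸ Subgroup.centralizer (P : Set G)) := by
    rw [Subgroup.map_le_iff_le_comap]
    apply sSup_le
    intro B hB b hb
    obtain ⟨hBc, hBp, hPB⟩ := hS B hB
    rw [Subgroup.mem_comap]
    refine (Cfsg.Agent.Lib.Helper5.qFree_of_odd hp hodd).stable P hP b ?_
    have hz : Subgroup.zpowers b ≤ B := (Subgroup.zpowers_le).mpr hb
    have h1 : ⁅P, Subgroup.zpowers b⁆ ≤ B := by
      rw [Subgroup.commutator_le]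
      intro v hv c hc
      have hcB := hz hc
      have := (Subgroup.mem_normalizer_iff.mp (hPB hv) c).mp hcB
      rw [commutatorElement_def]
      exact B.mul_mem this (B.inv_mem hcB)
    rw [eq_bot_iff, Subgroup.commutator_le]
    intro v hv c hc
    rw [Subgroup.mem_bot, commutatorElement_eq_one_iff_mul_comm]
    exact congrArg Subtype.val (hBc.is_comm.comm ⟨v, h1 hv⟩ ⟨c, hz hc⟩)
  refine ⟨part1, ?_⟩
  intro hO hC
  obtain ⟨C, hCdef⟩ : ∃ C, C = Subgroup.centralizer (P : Set G) := ⟨_, rfl⟩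
  haveI hCn : C.Normal := by rw [hCdef]; infer_instance
  have hO' : Cfsg.pPrimeCore p C = ⊥ := by
    haveI := Cfsg.Agent.Lib.Helper5.pPrimeCore_characteristic (p := p) (G := C)
    have h1 : (Cfsg.pPrimeCore p C).map C.subtype ≤ Cfsg.pPrimeCore p G := by
      apply Cfsg.Agent.Lib.Helper5.le_pPrimeCore inferInstance
      rw [Subgroup.card_map_of_injective C.subtype_injective]
      exact Cfsg.Agent.Lib.Helper5.pPrimeCore_coprime
    rw [hO, le_bot_iff] at h1
    exact (Subgroup.map_eq_bot_iff_of_injective _ C.subtype_injective).mp h1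
  have h2 : (Cfsg.pCore p C).map C.subtype ≤ P := by
    haveI := Cfsg.Agent.Lib.Helper5.pCore_characteristic (p := p) (G := C)
    refine le_trans (le_inf ?_ ?_) hC
    · apply Cfsg.Agent.Lib.Helper5.le_pCore inferInstance
      exact Cfsg.Agent.Lib.Helper5.pCore_isPGroup.map _
    · rw [← hCdef]
      exact Subgroup.map_subtype_le _
  have h3 := Cfsg.Agent.Lib.Helper1.centralizer_pCore_le (G := C) p hO'
  have h4 : IsPGroup p C := by
    have h5 : (⊤ : Subgroup C) ≤ Cfsg.pCore p C := by
      refine le_trans ?_ h3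
      intro c _
      rw [Subgroup.mem_centralizer_iff]
      intro x hx
      apply Subtype.ext
      have hxP : (x : G) ∈ P := h2 (Subgroup.mem_map_of_mem C.subtype hx)
      have hc : (c : G) ∈ Subgroup.centralizer (P : Set G) := hCdef ▸ c.2
      exact (Subgroup.mem_centralizer_iff.mp hc) _ hxP
    exact (Cfsg.Agent.Lib.Helper5.pCore_isPGroup.to_le h5).of_equiv Subgroup.topEquiv
  subst hCdef
  rw [Subgroup.map_le_iff_le_comap] at part1
  refine part1.trans (Cfsg.Agent.Lib.Helper5.le_pCore inferInstance ?_)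
  apply Cfsg.Agent.Lib.Helper5.pCore_isPGroup.comap_of_ker_isPGroup
  rw [QuotientGroup.ker_mk']
  exact h4

end Cfsg.Agent.S1465
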