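import Cfsg.Statements.S1457
import Cfsg.Agent.S1465
import Cfsg.Agent.Lib.Helper5.PPrimeQuot

set_option autoImplicit false
open Cfsg

namespace Cfsg.Agent.S1457

/-- Let G be a solvable group of odd order, p a prime, S a Sylow p-subgroup of G and A an abelian subgroup of S normal in S. Then A ≤ O_{p',p}(G). -/
theorem result {G : Type*} [Group G] [Finite G] [Group.IsSolvable G] (hodd : Odd (Nat.card G)) (p : ℕ) [Fact p.Prime] (S : Sylow p G) (A : Subgroup G) (hA : A ≤ (S : Subgroup G)) (hAc : IsMulCommutative A)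
    (hAn : (S : Subgroup G) ≤ Subgroup.normalizer (A : Set G)) :
    A ≤ Cfsg.pPrimePCore p G := by
  by_cases hp : p = 2
  · subst hp
    have h1 : Nat.card (S : Subgroup G) = 1 := by
      obtain ⟨n, hn⟩ := IsPGroup.iff_card.mp S.2
      rcases n with _ | n
      · simpa using hn
      · exfalso
        have h2 : 2 ∣ Nat.card G :=
          (hn ▸ dvd_pow_self 2 (Nat.succ_ne_zero n)).trans (Subgroup.card_subgroup_dvd_card _)
        exact (Nat.not_even_iff_odd.mpr hodd) (even_iff_two_dvd.mpr h2)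
    have h2 : (S : Subgroup G) = ⊥ := Subgroup.card_eq_one.mp h1
    exact (hA.trans h2.le).trans bot_le
  obtain ⟨N, hN⟩ : ∃ N, N = Cfsg.pPrimeCore p G := ⟨_, rfl⟩
  haveI hNn : N.Normal := by rw [hN]; infer_instance
  have hs := QuotientGroup.mk'_surjective N
  have hodd' : Odd (Nat.card (G ⧸ N)) := by
    have h1 : Nat.card (G ⧸ N) ∣ Nat.card G := Subgroup.card_quotient_dvd_card N
    exact Odd.of_dvd_nat hodd h1
  have hQS : Cfsg.pCore p (G ⧸ N) ≤ (S : Subgroup G).map (QuotientGroup.mk' N) :=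
    Cfsg.Agent.Lib.Helper5.pCore_le_sylow (S.mapSurjective hs)
  have key := (Cfsg.Agent.S1465.result hodd' p hp (Cfsg.pCore p (G ⧸ N))
    Cfsg.Agent.Lib.Helper5.pCore_isPGroup {A.map (QuotientGroup.mk' N)} (by
      intro B hB
      rw [Set.mem_singleton_iff] at hB
      subst hB
      refine ⟨?_, (S.2.to_le hA).map _, ?_⟩
      · refine ⟨⟨?_⟩⟩
        rintro ⟨_, a, ha, rfl⟩ ⟨_, b, hb, rfl⟩
        apply Subtype.ext
        show QuotientGroup.mk' N a * QuotientGroup.mk' N b =
          QuotientGroup.mk' N b * QuotientGroup.mk' N a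
        rw [← map_mul, ← map_mul]
        exact congrArg _ (congrArg Subtype.val (hAc.is_comm.comm ⟨a, ha⟩ ⟨b, hb⟩))
      · refine hQS.trans ((Subgroup.map_mono hAn).trans ?_)
        exact Subgroup.le_normalizer_map _)).2 (by
      subst hN
      exact Cfsg.Agent.Lib.Helper5.pPrimeCore_quot_pPrimeCore) inf_le_left
  rw [sSup_singleton, Subgroup.map_le_iff_le_comap] at key
  subst hN
  exact key

end Cfsg.Agent.S1457
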