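import Cfsg.Statements.S1458
import Cfsg.Agent.Lib.Helper5.QP5
import Cfsg.Agent.Lib.Helper5.ZJE
import Cfsg.Agent.Lib.Helper1.Fitting

set_option autoImplicit false
open Cfsg

namespace Cfsg.Agent.S1458

/-- Let G be a solvable group of odd order, p a prime and S a Sylow p-subgroup of G. Then the subgroup generated by the centre of the Thompson subgroup of S and O_{p'}(G) is normal in G. -/
theorem result {G : Type*} [Group G] [Finite G] [Group.IsSolvable G] (hodd : Odd (Nat.card G)) (p : ℕ) [Fact p.Prime] (S : Sylow p G) :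
    (Cfsg.centerThompsonOf p (S : Subgroup G) ⊔ Cfsg.pPrimeCore p G).Normal := by
  open Cfsg.Agent.Lib.Helper5 in
  by_cases hp : p = 2
  · subst hp
    have h1 : Nat.card (S : Subgroup G) = 1 := by
      obtain ⟨n, hn⟩ := IsPGroup.iff_card.mp S.2
      rcases n with _ | n
      · simpa using hn
      · exfalso
        have h2 : 2 ∣ Nat.card G :=
          (hn ▸ dvd_pow_self 2 (Nat.succ_ne_zero n)).trans (Subgroup.card_subgroup_dvd_card _)
        exact (Nat.not_even_iff_odd.mpr hodd) (even_iff_two_dvd.mpr h2)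
    have h2 : (S : Subgroup G) = ⊥ := Subgroup.card_eq_one.mp h1
    have h3 : Cfsg.centerThompsonOf 2 (S : Subgroup G) = ⊥ := by
      rw [eq_bot_iff, ← iF_zjF, ← h2]
      exact iF_le _
    rw [h3, bot_sup_eq]
    infer_instance
  obtain ⟨N, hN⟩ : ∃ N, N = Cfsg.pPrimeCore p G := ⟨_, rfl⟩
  haveI hNn : N.Normal := by rw [hN]; infer_instance
  have hNc : (Nat.card N).Coprime p := hN ▸ pPrimeCore_coprime
  have hs := QuotientGroup.mk'_surjective N
  have hodd' : Odd (Nat.card (G ⧸ N)) := by
    have h1 : Nat.card (G ⧸ N) ∣ Nat.card G := Subgroup.card_quotient_dvd_card N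
    exact Odd.of_dvd_nat hodd h1
  have hO : Cfsg.pPrimeCore p (G ⧸ N) = ⊥ := by
    subst hN
    exact pPrimeCore_quot_pPrimeCore
  have hc := Cfsg.Agent.Lib.Helper1.centralizer_pCore_le (G := G ⧸ N) p hO
  have hfree : QFree p (G ⧸ N) := qFree_of_odd hp hodd'
  have h1 := zje_normal hp hc (S.mapSurjective hs) (fun V _ hV a _ hq => hfree.stable V hV a hq)
  rw [← iF_zjF, Sylow.coe_mapSurjective, iF_map zjF_char _ S.2
    (by rw [QuotientGroup.ker_mk']; exact pgroup_inf_coprime_eq_bot S.2 hNc), iF_zjF] at h1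
  have h2 := h1.comap (QuotientGroup.mk' N)
  rw [Subgroup.comap_map_eq, QuotientGroup.ker_mk'] at h2
  rw [← hN]
  exact h2

end Cfsg.Agent.S1458
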