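import Cfsg.Statements.S1468
import Cfsg.Agent.Lib.Helper18.Puig
import Cfsg.Agent.S1465
import Cfsg.Agent.Lib.Helper1.Fitting
import Mathlib

set_option autoImplicit false
open Cfsg

namespace Cfsg.Agent.S1468

open Subgroup Cfsg.Agent.Lib.Helper18.Puig in
theorem key {G : Type*} [Group G] [Finite G] [Group.IsSolvable G] (hodd : Odd (Nat.card G)) (p : ℕ)
    [Fact p.Prime] (hp : p ≠ 2) (hO : Cfsg.pPrimeCore p G = ⊥) (S : Sylow p G) (n : ℕ) :
    seq (S : Subgroup G) (2 * n) ≤ seq (Cfsg.pCore p G) (2 * n) ∧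
      seq (Cfsg.pCore p G) (2 * n + 1) ≤ seq (S : Subgroup G) (2 * n + 1) := by
  set T := Cfsg.pCore p G with hT
  have hTn : T.Normal := Cfsg.Agent.Lib.Helper1.pCore_normal p
  have hTp : IsPGroup p T := Cfsg.Agent.Lib.Helper1.pCore_isPGroup p
  have hTS : T ≤ (S : Subgroup G) := by
    rw [hT, Cfsg.Agent.Lib.Helper1.pCore_eq_iInf_sylow]
    exact iInf_le _ S
  induction n with
  | zero => exact ⟨le_rfl, LL_mono hTS _⟩
  | succ n ih =>
    obtain ⟨a, b⟩ := ih
    have c : seq (S : Subgroup G) (2 * (n + 1)) ≤ seq T (2 * (n + 1)) := by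
      show LL (S : Subgroup G) (seq (S : Subgroup G) (2 * n + 1)) ≤ LL T (seq T (2 * n + 1))
      refine (LL_anti _ b).trans ?_
      set P := seq T (2 * n + 1) with hP
      have hPn : P.Normal := by
        rw [← normalizer_eq_top_iff, eq_top_iff]
        refine le_trans ?_ (normalizer_le_normalizer_seq T (2 * n + 1))
        rw [normalizer_eq_top_iff.2 hTn]
      have hPp : IsPGroup p P := hTp.to_le (seq_le T _)
      apply sSup_le
      rintro A ⟨hAS, hA, hAn⟩
      have h1 := (Cfsg.Agent.S1465.result hodd p hp P hPp {A}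
        (by rintro B rfl; exact ⟨hA, S.2.to_le hAS, hAn⟩)).2 hO
        (centralizer_seq_le p T hTp _ (by omega))
      rw [sSup_singleton] at h1
      exact le_LL h1 hA hAn
    refine ⟨c, ?_⟩
    show LL T (seq T (2 * (n + 1))) ≤ LL (S : Subgroup G) (seq (S : Subgroup G) (2 * (n + 1)))
    exact (LL_anti T c).trans (LL_mono hTS _)

/-- Let p be an odd prime, G a solvable group of odd order with O_{p'}(G) = 1, S a Sylow p-subgroup and T = O_p(G). Then, viewing the Puig subgroups of S and of T inside G, L_*(S) ≤ L_*(T) ≤ L(T) ≤ L(S). -/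
theorem result {G : Type*} [Group G] [Finite G] [Group.IsSolvable G] (hodd : Odd (Nat.card G)) (p : ℕ) [Fact p.Prime] (hp : p ≠ 2) (hO : Cfsg.pPrimeCore p G = ⊥) (S : Sylow p G) :
    (Cfsg.puigLower ↥(S : Subgroup G)).map (S : Subgroup G).subtype ≤ (Cfsg.puigLower ↥(Cfsg.pCore p G)).map (Cfsg.pCore p G).subtype ∧
      (Cfsg.puigLower ↥(Cfsg.pCore p G)).map (Cfsg.pCore p G).subtype ≤ (Cfsg.puigSubgroup ↥(Cfsg.pCore p G)).map (Cfsg.pCore p G).subtype ∧
      (Cfsg.puigSubgroup ↥(Cfsg.pCore p G)).map (Cfsg.pCore p G).subtype ≤ (Cfsg.puigSubgroup ↥(S : Subgroup G)).map (S : Subgroup G).subtype := by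
  open Subgroup Cfsg.Agent.Lib.Helper18.Puig in
  obtain ⟨k, hk⟩ := exists_stable (S : Subgroup G)
  obtain ⟨k', hk'⟩ := exists_stable (Cfsg.pCore p G)
  have h := key hodd p hp hO S (max k k')
  rw [(hk _ (le_max_left _ _)).1, (hk _ (le_max_left _ _)).2, (hk' _ (le_max_right _ _)).1,
    (hk' _ (le_max_right _ _)).2] at h
  exact ⟨h.1, Lo_le_Up _, h.2⟩

end Cfsg.Agent.S1468
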