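import Cfsg.Statements.S1469
import Cfsg.Agent.Lib.Helper18.Puig
import Cfsg.Agent.Lib.Helper18.AlmostSimpleSyl
import Cfsg.Agent.S1465
import Cfsg.Agent.S1468
import Cfsg.Agent.Lib.Helper1.Fitting
import Cfsg.Agent.Lib.Helper5.PPrimeQuot
import Cfsg.Agent.Lib.Helper13.PPrimeP
import Mathlib

set_option autoImplicit false
open Cfsg

namespace Cfsg.Agent.S1469

open Subgroup in
theorem normalizer_le_ZZ {G : Type*} [Group G] (X : Subgroup G) :
    normalizer (X : Set G) ≤ normalizer ((X ⊓ centralizer (X : Set G) : Subgroup G) : Set G) := by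
  rw [le_normalizer_iff]
  intro g hg z hz
  obtain ⟨hz1, hz2⟩ := mem_inf.1 hz
  refine mem_inf.2 ⟨(mem_normalizer_iff.1 hg z).1 hz1, ?_⟩
  rw [mem_centralizer_iff]
  intro x hx
  have h1 : g⁻¹ * x * g ∈ X := by
    have := (mem_normalizer_iff.1 (inv_mem hg) x).1 hx
    simpa using this
  have h2 := mem_centralizer_iff.1 hz2 _ h1
  calc x * (g * z * g⁻¹) = g * ((g⁻¹ * x * g) * z) * g⁻¹ := by group
    _ = g * (z * (g⁻¹ * x * g)) * g⁻¹ := by rw [h2]
    _ = g * z * g⁻¹ * x := by group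

open Subgroup in
theorem center_map {G : Type*} [Group G] (R : Subgroup G) (X : Subgroup R) :
    ((center X).map X.subtype).map R.subtype =
      X.map R.subtype ⊓ centralizer ((X.map R.subtype : Subgroup G) : Set G) := by
  ext g
  constructor
  · rintro ⟨_, ⟨z, hz, rfl⟩, rfl⟩
    refine mem_inf.2 ⟨⟨z.1, z.2, rfl⟩, ?_⟩
    rw [mem_centralizer_iff]
    rintro _ ⟨y, hy, rfl⟩
    have := mem_center_iff.1 hz ⟨y, hy⟩
    exact congrArg (fun t => t.1.1) this
  · intro h
    obtain ⟨⟨x, hx, rfl⟩, hc⟩ := mem_inf.1 h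
    refine ⟨x, ⟨⟨x, hx⟩, ?_, rfl⟩, rfl⟩
    show (⟨x, hx⟩ : X) ∈ center X
    rw [mem_center_iff]
    intro y
    exact Subtype.ext (Subtype.ext (mem_centralizer_iff.1 hc y.1.1 ⟨y.1, y.2, rfl⟩))

open Subgroup Cfsg.Agent.Lib.Helper18.Puig in
theorem partA {G : Type*} [Group G] [Finite G] [Group.IsSolvable G] (hodd : Odd (Nat.card G))
    (p : ℕ) [Fact p.Prime] (hp : p ≠ 2) (hO : Cfsg.pPrimeCore p G = ⊥) (S : Sylow p G) :
    (Up (S : Subgroup G) ⊓ centralizer (Up (S : Subgroup G) : Set G)).Normal := by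
  set T := Cfsg.pCore p G with hT
  have hTn : T.Normal := Cfsg.Agent.Lib.Helper1.pCore_normal p
  have hTp : IsPGroup p T := Cfsg.Agent.Lib.Helper1.pCore_isPGroup p
  have hTS : T ≤ (S : Subgroup G) := by
    rw [hT, Cfsg.Agent.Lib.Helper1.pCore_eq_iInf_sylow]
    exact iInf_le _ S
  obtain ⟨h1, h2, h3⟩ := Cfsg.Agent.S1468.result hodd p hp hO S
  change Lo (S : Subgroup G) ≤ Lo T at h1
  change Lo T ≤ Up T at h2
  change Up T ≤ Up (S : Subgroup G) at h3
  set L := Up (S : Subgroup G) with hL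
  set V := Up T ⊓ centralizer (Up T : Set G) with hV
  set W := L ⊓ centralizer (L : Set G) with hW
  have hab : ∀ X : Subgroup G, IsMulCommutative (X ⊓ centralizer (X : Set G) : Subgroup G) := by
    intro X
    rw [comm_iff]
    intro a ha b hb
    exact mem_centralizer_iff.1 (mem_inf.1 hb).2 a (mem_inf.1 ha).1
  have hVn : V.Normal := by
    rw [← normalizer_eq_top_iff, eq_top_iff]
    refine le_trans ?_ (normalizer_le_ZZ (Up T))
    refine le_trans ?_ (normalizer_le_normalizer_Up T)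
    rw [normalizer_eq_top_iff.2 hTn]
  have hVLo : V ≤ Lo (S : Subgroup G) := by
    rw [← LL_Up (S : Subgroup G)]
    exact le_LL (inf_le_left.trans ((Up_le T).trans hTS)) (hab _) le_normalizer_of_normal
  have hNW : normalizer (L : Set G) ≤ normalizer (W : Set G) := normalizer_le_ZZ L
  have hWLo : W ≤ Lo (S : Subgroup G) := by
    rw [← LL_Up (S : Subgroup G)]
    exact le_LL (inf_le_left.trans (Up_le _)) (hab _) (le_normalizer.trans hNW)
  have hWV : W ≤ V := le_inf (hWLo.trans (h1.trans h2)) (inf_le_right.trans (centralizer_le h3))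
  have hVp : IsPGroup p V := hTp.to_le (inf_le_left.trans (Up_le T))
  have key := (Cfsg.Agent.S1465.result hodd p hp V hVp
    {A | A ≤ (S : Subgroup G) ∧ IsMulCommutative A ∧ Lo (S : Subgroup G) ≤ normalizer (A : Set G)}
    (by rintro B ⟨hB1, hB2, hB3⟩; exact ⟨hB2, S.2.to_le hB1, hVLo.trans hB3⟩)).1
  have key' : L.map (QuotientGroup.mk' (centralizer (V : Set G))) ≤
      Cfsg.pCore p (G ⧸ centralizer (V : Set G)) := by
    rw [hL, ← LL_Lo (S : Subgroup G)]; exact key
  set C := centralizer (V : Set G) with hC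
  set K := (Cfsg.pCore p (G ⧸ C)).comap (QuotientGroup.mk' C) with hK
  have hKn : K.Normal := (Cfsg.Agent.Lib.Helper1.pCore_normal p).comap _
  have hLK : L ≤ K := map_le_iff_le_comap.1 key'
  have hS : (S : Subgroup G) ≤ normalizer (W : Set G) :=
    (le_normalizer.trans (normalizer_le_normalizer_Up (S : Subgroup G))).trans hNW
  have hCW : C ≤ normalizer (W : Set G) :=
    (centralizer_le hWV).trans (centralizer_le_normalizer _)
  have hKW : K ≤ normalizer (W : Set G) := by
    intro k hk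
    have h4 : QuotientGroup.mk' C k ∈ Cfsg.pCore p (G ⧸ C) := hk
    rw [Cfsg.Agent.Lib.Helper1.pCore_eq_iInf_sylow] at h4
    have h5 := (mem_iInf.1 h4) (S.mapSurjective (QuotientGroup.mk'_surjective C))
    rw [Sylow.coe_mapSurjective] at h5
    obtain ⟨s, hs, hsk⟩ := h5
    have h6 : s⁻¹ * k ∈ C := QuotientGroup.eq.1 hsk
    have h7 : k = s * (s⁻¹ * k) := by group
    rw [h7]; exact mul_mem (hS hs) (hCW h6)
  have hfr := Cfsg.Agent.Lib.Helper18.sup_normalizer_inf_eq_top K S
  have hN2 : normalizer (((S : Subgroup G) ⊓ K : Subgroup G) : Set G) ≤ normalizer (W : Set G) := by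
    have h6 : Up ((S : Subgroup G) ⊓ K) = L := Up_eq_of_le (le_inf (Up_le _) hLK) inf_le_left
    calc normalizer (((S : Subgroup G) ⊓ K : Subgroup G) : Set G)
        ≤ normalizer (Up ((S : Subgroup G) ⊓ K) : Set G) := normalizer_le_normalizer_Up _
      _ = normalizer (L : Set G) := by rw [h6]
      _ ≤ normalizer (W : Set G) := hNW
  rw [← normalizer_eq_top_iff, eq_top_iff, ← hfr]
  exact sup_le hKW hN2

/-- Let p be an odd prime, G a solvable group of odd order and S a Sylow p-subgroup, and let Z be the centre of the Puig subgroup L(S), viewed inside G. Then G is generated by O_{p'}(G) and N_G(Z); and if O_{p'}(G) = 1 then Z is normal in G. -/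
theorem result {G : Type*} [Group G] [Finite G] [Group.IsSolvable G] (hodd : Odd (Nat.card G)) (p : ℕ) [Fact p.Prime] (hp : p ≠ 2) (S : Sylow p G) :
    Cfsg.pPrimeCore p G ⊔ Subgroup.normalizer ((((Subgroup.center ↥(Cfsg.puigSubgroup ↥(S : Subgroup G))).map (Cfsg.puigSubgroup ↥(S : Subgroup G)).subtype).map (S : Subgroup G).subtype : Subgroup G) : Set G) = ⊤ ∧
      (Cfsg.pPrimeCore p G = ⊥ → (((Subgroup.center ↥(Cfsg.puigSubgroup ↥(S : Subgroup G))).map (Cfsg.puigSubgroup ↥(S : Subgroup G)).subtype).map (S : Subgroup G).subtype).Normal) := by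
  open Subgroup Cfsg.Agent.Lib.Helper18.Puig in
  rw [center_map]
  change Cfsg.pPrimeCore p G ⊔ normalizer ((Up (S : Subgroup G) ⊓
      centralizer (Up (S : Subgroup G) : Set G) : Subgroup G) : Set G) = ⊤ ∧
    (Cfsg.pPrimeCore p G = ⊥ → (Up (S : Subgroup G) ⊓
      centralizer (Up (S : Subgroup G) : Set G)).Normal)
  refine ⟨?_, fun hO => partA hodd p hp hO S⟩
  set N := Cfsg.pPrimeCore p G with hN
  have hNn : N.Normal := Cfsg.Agent.Lib.Helper1.pPrimeCore_normal p
  set π := QuotientGroup.mk' N with hπ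
  have hsurj : Function.Surjective π := QuotientGroup.mk'_surjective N
  have hoddq : Odd (Nat.card (G ⧸ N)) :=
    hodd.of_dvd_nat (Subgroup.card_quotient_dvd_card N)
  have hinj1 : ∀ x ∈ (S : Subgroup G), π x = 1 → x = 1 := by
    intro x hx h
    have h1 : x ∈ N := (QuotientGroup.eq_one_iff x).1 h
    have h2 : x ∈ (S : Subgroup G) ⊓ N := mem_inf.2 ⟨hx, h1⟩
    rw [Cfsg.Agent.Lib.Helper13.disjoint_pGroup_coprime S.2
      (Cfsg.Agent.Lib.Helper1.pPrimeCore_coprime p)] at h2
    exact h2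
  have hinj : ∀ x ∈ (S : Subgroup G), ∀ y ∈ (S : Subgroup G), π x = π y → x = y := by
    intro x hx y hy h
    have := hinj1 (x * y⁻¹) (mul_mem hx (inv_mem hy)) (by rw [map_mul, map_inv, h, mul_inv_cancel])
    exact mul_inv_eq_one.1 this
  have hA := partA hoddq p hp Cfsg.Agent.Lib.Helper5.pPrimeCore_quot_pPrimeCore
    (S.mapSurjective hsurj)
  rw [Sylow.coe_mapSurjective, ← map_Up π (S : Subgroup G) hinj1] at hA
  set L := Up (S : Subgroup G) with hL
  set W := L ⊓ centralizer (L : Set G) with hW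
  have hLS : L ≤ (S : Subgroup G) := Up_le _
  have hWmap : W.map π = L.map π ⊓ centralizer ((L.map π : Subgroup (G ⧸ N)) : Set (G ⧸ N)) := by
    apply le_antisymm
    · rintro _ ⟨w, hw, rfl⟩
      obtain ⟨hw1, hw2⟩ := mem_inf.1 hw
      refine mem_inf.2 ⟨⟨w, hw1, rfl⟩, ?_⟩
      rw [mem_centralizer_iff]
      rintro _ ⟨y, hy, rfl⟩
      rw [← map_mul, ← map_mul, mem_centralizer_iff.1 hw2 y hy]
    · intro y hy
      obtain ⟨⟨x, hx, rfl⟩, hc⟩ := mem_inf.1 hy
      refine ⟨x, mem_inf.2 ⟨hx, ?_⟩, rfl⟩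
      rw [mem_centralizer_iff]
      intro z hz
      apply hinj _ (mul_mem (hLS hz) (hLS hx)) _ (mul_mem (hLS hx) (hLS hz))
      rw [map_mul, map_mul]
      exact mem_centralizer_iff.1 hc _ ⟨z, hz, rfl⟩
  rw [← hWmap] at hA
  set M := (W.map π).comap π with hM
  have hMn : M.Normal := hA.comap π
  have hSM : (S : Subgroup G) ⊓ M = W := by
    apply le_antisymm
    · intro x hx
      obtain ⟨hx1, hx2⟩ := mem_inf.1 hx
      obtain ⟨w, hw, hwx⟩ := hx2
      have := hinj w (hLS (mem_inf.1 hw).1) x hx1 hwx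
      rwa [← this]
    · exact le_inf (inf_le_left.trans hLS) (le_comap_map _ _)
  have hfr := Cfsg.Agent.Lib.Helper18.sup_normalizer_inf_eq_top M S
  rw [hSM] at hfr
  have hMle : M ≤ N ⊔ normalizer (W : Set G) := by
    rw [hM, comap_map_eq, QuotientGroup.ker_mk']
    exact sup_le (le_normalizer.trans le_sup_right) le_sup_left
  rw [eq_top_iff, ← hfr]
  exact sup_le hMle le_sup_right

end Cfsg.Agent.S1469
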