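import Cfsg.Statements.S1474
import Mathlib
import Cfsg.Agent.Lib.Helper15.FrobCenter2
import Cfsg.Agent.Lib.Helper15.Thompson2
import Cfsg.Agent.Lib.Helper10.Fitting
import Cfsg.Agent.Lib.Helper10.Basic
import Cfsg.Agent.Lib.Helper5.Card
import Cfsg.Agent.Lib.Helper2.GrpNil

set_option autoImplicit false
open Cfsg

namespace Cfsg.Agent.S1474

open Cfsg.Agent.Lib.Helper15
open Pointwise

theorem fittingHall_mem {G : Type*} [Group G] [Finite G] :
    (Cfsg.fittingHall G).Normal ∧ Group.IsNilpotent (Cfsg.fittingHall G) ∧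
      (Nat.card (Cfsg.fittingHall G)).Coprime (Cfsg.fittingHall G).index := by
  apply Cfsg.Agent.Lib.Helper10.sSup_mem_of_sup_closed
    {N : Subgroup G | N.Normal ∧ Group.IsNilpotent N ∧ (Nat.card N).Coprime N.index}
  · exact ⟨⊥, inferInstance, inferInstance, by simp⟩
  · rintro A ⟨hA1, hA2, hA3⟩ B ⟨hB1, hB2, hB3⟩
    refine ⟨inferInstance, Cfsg.Agent.Lib.Helper10.isNilpotent_sup A B hA1 hB1 hA2 hB2, ?_⟩
    have h1 : Nat.card ↥(A ⊔ B) ∣ Nat.card A * Nat.card B := by
      have := Cfsg.Agent.Lib.Helper5.card_sup_mul_card_inf A B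
        (by rw [Subgroup.normalizer_eq_top]; exact le_top)
      exact Dvd.intro _ this
    apply Nat.Coprime.coprime_dvd_left h1
    apply Nat.Coprime.mul_left
    · exact Nat.Coprime.coprime_dvd_right (Subgroup.index_dvd_of_le le_sup_left) hA3
    · exact Nat.Coprime.coprime_dvd_right (Subgroup.index_dvd_of_le le_sup_right) hB3

theorem isNilpotent_of_le {G : Type*} [Group G] {H K : Subgroup G} (h : H ≤ K)
    (hK : Group.IsNilpotent K) : Group.IsNilpotent H :=
  Group.nilpotent_of_mulEquiv (Subgroup.subgroupOfEquivOfLe h)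

theorem aux {G : Type*} [Group G] [Finite G] (hCN : Cfsg.IsCNGroup G) (hnn : ¬ Group.IsNilpotent G)
    (p : ℕ) [Fact p.Prime] (P : Sylow p G)
    (hP1 : (P : Subgroup G) ≠ ⊥) (hPn : (P : Subgroup G).Normal) (F : Subgroup G) [hFn : F.Normal]
    (hFnil : Group.IsNilpotent F) (hFcop : (Nat.card F).Coprime F.index)
    (hmax : ∀ N : Subgroup G, N.Normal → Group.IsNilpotent N → (Nat.card N).Coprime N.index → N ≤ F) :
    F ≠ ⊥ ∧ F ≠ ⊤ ∧
      (∃ E : Subgroup G, Subgroup.IsComplement' F E ∧ Cfsg.IsFrobeniusComplement E ∧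
        ∀ e ∈ E, e ≠ 1 → F ⊓ Subgroup.centralizer ({e} : Set G) = ⊥) ∧
      Group.IsNilpotent (G ⧸ F) := by
  have hPF : (P : Subgroup G) ≤ F := hmax P hPn P.2.isNilpotent P.card_coprime_index
  have hF1 : F ≠ ⊥ := ne_bot_of_le_ne_bot hP1 hPF
  have hF2 : F ≠ ⊤ := by
    intro e
    apply hnn
    rw [e] at hFnil
    exact Group.nilpotent_of_mulEquiv Subgroup.topEquiv
  obtain ⟨E, hE⟩ := Subgroup.exists_right_complement'_of_coprime hFcop
  have hEne : E ≠ ⊥ := by
    intro e
    rw [e, Subgroup.isComplement'_bot_right] at hE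
    exact hF2 hE
  have hEcop : (Nat.card E).Coprime (Nat.card F) := by
    rw [← hE.symm.index_eq_card]; exact hFcop.symm
  have hEF : E ≤ Subgroup.normalizer (F : Set G) := by
    rw [Subgroup.normalizer_eq_top]; exact le_top
  have hcomm : ∀ g u v : G, g ≠ 1 → u * g = g * u → v * g = g * v →
      (orderOf u).Coprime (orderOf v) → u * v = v * u := by
    intro g u v hg hu hv hco
    have hnil := hCN g hg
    have hu' : u ∈ Subgroup.centralizer ({g} : Set G) := Subgroup.mem_centralizer_singleton_iff.mpr hu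
    have hv' : v ∈ Subgroup.centralizer ({g} : Set G) := Subgroup.mem_centralizer_singleton_iff.mpr hv
    have := Cfsg.Agent.Lib.Helper2.commute_of_coprime_of_isNilpotent
      (x := (⟨u, hu'⟩ : Subgroup.centralizer ({g} : Set G))) (y := ⟨v, hv'⟩)
      (by rw [Subgroup.orderOf_mk, Subgroup.orderOf_mk]; exact hco)
    exact congrArg Subtype.val this.eq
  have hordF : ∀ f ∈ F, orderOf f ∣ Nat.card F := by
    intro f hf
    have := orderOf_dvd_natCard (⟨f, hf⟩ : F)
    rwa [Subgroup.orderOf_mk] at this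
  have hordE : ∀ f ∈ E, orderOf f ∣ Nat.card E := by
    intro f hf
    have := orderOf_dvd_natCard (⟨f, hf⟩ : E)
    rwa [Subgroup.orderOf_mk] at this
  have hfpf : ∀ e ∈ E, e ≠ 1 → F ⊓ Subgroup.centralizer {e} = ⊥ := by
    intro e he he1
    by_contra hne
    obtain ⟨x, hx⟩ := Subgroup.ne_bot_iff_exists_ne_one.mp hne
    obtain ⟨x, hxm⟩ := x
    have hx1 : x ≠ 1 := fun h => hx (Subtype.ext h)
    obtain ⟨hxF, hxC⟩ := Subgroup.mem_inf.mp hxm
    rw [Subgroup.mem_centralizer_singleton_iff] at hxC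
    -- a central element of `F`
    have hZ := Cfsg.Agent.Lib.Helper10.normal_inf_center_ne_bot (K := F) ⊤ inferInstance
      (by
        intro h
        apply hF1
        rw [eq_bot_iff]
        intro f hf
        have : (⟨f, hf⟩ : F) ∈ (⊤ : Subgroup F) := trivial
        rw [h, Subgroup.mem_bot] at this
        exact congrArg Subtype.val this)
    obtain ⟨z, hz⟩ := Subgroup.ne_bot_iff_exists_ne_one.mp hZ
    obtain ⟨z, hzm⟩ := z
    have hz1 : (z : G) ≠ 1 := fun h => hz (Subtype.ext (Subtype.ext h))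
    have hzc := Subgroup.mem_center_iff.mp (Subgroup.mem_inf.mp hzm).2
    have hzF : ∀ f ∈ F, f * (z : G) = z * f := fun f hf => congrArg Subtype.val (hzc ⟨f, hf⟩)
    have hcoE : ∀ f ∈ F, (orderOf e).Coprime (orderOf f) := fun f hf =>
      Nat.Coprime.coprime_dvd_left (hordE e he) (Nat.Coprime.coprime_dvd_right (hordF f hf) hEcop)
    have hez : e * (z : G) = z * e :=
      hcomm x e z hx1 hxC.symm (hzF x hxF).symm (hcoE z z.2)
    have heF : ∀ f ∈ F, e * f = f * e := fun f hf => hcomm z e f hz1 hez (hzF f hf) (hcoE f hf)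
    -- the centraliser of `F`
    have hCn : (Subgroup.centralizer (F : Set G)).Normal := inferInstance
    have hCz : Subgroup.centralizer (F : Set G) ≤ Subgroup.centralizer ({(z : G)} : Set G) :=
      Subgroup.centralizer_le (by
        intro y hy
        rw [Set.mem_singleton_iff] at hy
        rw [hy]; exact z.2)
    have hCnil : Group.IsNilpotent (Subgroup.centralizer (F : Set G)) :=
      isNilpotent_of_le hCz (hCN z hz1)
    have heC : e ∈ Subgroup.centralizer (F : Set G) := by
      rw [Subgroup.mem_centralizer_iff]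
      intro f hf
      exact (heF f hf).symm
    have hoe : orderOf e ≠ 1 := fun h => he1 (orderOf_eq_one_iff.mp h)
    obtain ⟨q, hqdef⟩ : ∃ q, q = (orderOf e).minFac := ⟨_, rfl⟩
    have hq : q.Prime := hqdef ▸ Nat.minFac_prime hoe
    have hqe : q ∣ orderOf e := hqdef ▸ Nat.minFac_dvd _
    have := Fact.mk hq
    have hqF : ¬ q ∣ Nat.card F := by
      intro h
      have h1 : q ∣ Nat.gcd (Nat.card E) (Nat.card F) := Nat.dvd_gcd (hqe.trans (hordE e he)) h
      rw [hEcop] at h1
      exact hq.one_lt.ne' (Nat.dvd_one.mp h1)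
    obtain ⟨e', he'def⟩ : ∃ e', e' = e ^ (orderOf e / q) := ⟨_, rfl⟩
    have he'o : orderOf e' = q := by
      rw [he'def]; exact orderOf_pow_orderOf_div (orderOf_pos e).ne' hqe
    have he'C : e' ∈ Subgroup.centralizer (F : Set G) := by
      rw [he'def]; exact Subgroup.pow_mem _ heC _
    have he'1 : e' ≠ 1 := by
      intro h; rw [h, orderOf_one] at he'o; exact hq.one_lt.ne he'o
    have hzp : IsPGroup q (Subgroup.zpowers e') := by
      apply IsPGroup.of_card (n := 1)
      rw [Nat.card_zpowers, he'o, pow_one]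
    obtain ⟨Q, hQ⟩ := hzp.exists_le_sylow
    have he'Q : e' ∈ Q := hQ (Subgroup.mem_zpowers e')
    have hQnil : Group.IsNilpotent (Q : Subgroup G) := Q.2.isNilpotent
    have hY := Cfsg.Agent.Lib.Helper10.normal_inf_center_ne_bot (K := (Q : Subgroup G))
      ((Subgroup.centralizer (F : Set G)).subgroupOf Q) inferInstance
      (by
        intro h
        have : (⟨e', he'Q⟩ : (Q : Subgroup G)) ∈ (Subgroup.centralizer (F : Set G)).subgroupOf Q :=
          Subgroup.mem_subgroupOf.mpr he'C
        rw [h, Subgroup.mem_bot] at this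
        exact he'1 (congrArg Subtype.val this))
    obtain ⟨y, hy⟩ := Subgroup.ne_bot_iff_exists_ne_one.mp hY
    obtain ⟨y, hym⟩ := y
    have hy1 : (y : G) ≠ 1 := fun h => hy (Subtype.ext (Subtype.ext h))
    obtain ⟨hyC, hyZ⟩ := Subgroup.mem_inf.mp hym
    rw [Subgroup.mem_subgroupOf, Subgroup.mem_centralizer_iff] at hyC
    have hyZ' := Subgroup.mem_center_iff.mp hyZ
    have hQC : (Q : Subgroup G) ≤ Subgroup.centralizer (F : Set G) := by
      intro u hu
      rw [Subgroup.mem_centralizer_iff]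
      intro f hf
      obtain ⟨k, hk⟩ := (IsPGroup.iff_orderOf.mp Q.2) ⟨u, hu⟩
      rw [Subgroup.orderOf_mk] at hk
      apply hcomm y f u hy1 (hyC f hf) (congrArg Subtype.val (hyZ' ⟨u, hu⟩))
      rw [hk]
      apply Nat.Coprime.pow_right
      exact Nat.Coprime.coprime_dvd_left (hordF f hf) ((Nat.Prime.coprime_iff_not_dvd hq).mpr hqF).symm
    have hQn : (Q : Subgroup G).Normal := by
      apply sylow_normal_of_le_normal q Q _ hCn hQC
      rw [← Subgroup.normal_subgroupOf_iff_le_normalizer hQC, ← Sylow.coe_subtype Q hQC]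
      exact ((Group.isNilpotent_of_finite_tfae
        (G := Subgroup.centralizer (F : Set G))).out 0 3 rfl rfl).mp hCnil q inferInstance _
    have hQF := hmax Q hQn hQnil Q.card_coprime_index
    apply hqF
    rw [← he'o]
    exact hordF e' (hQF he'Q)
  refine ⟨hF1, hF2, ⟨E, hE, (frob_of_fpf F E hE hF1 hEne hfpf).1, hfpf⟩, ?_⟩
  obtain ⟨z, hzE, hz1, hzc⟩ := exists_central_of_fpf E F hF1 hEne hEF hfpf
  have hEnil : Group.IsNilpotent E := by
    apply isNilpotent_of_le _ (hCN z hz1)
    intro a ha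
    rw [Subgroup.mem_centralizer_singleton_iff]
    exact hzc a ha
  apply Group.nilpotent_of_surjective ((QuotientGroup.mk' F).comp E.subtype)
  intro g
  obtain ⟨g, rfl⟩ := QuotientGroup.mk'_surjective F g
  have h1 : g ∈ (F : Set G) * (E : Set G) := by
    rw [hE.mul_eq]; trivial
  obtain ⟨f, hf, e, he, rfl⟩ := h1
  refine ⟨⟨e, he⟩, ?_⟩
  simp only [MonoidHom.comp_apply, Subgroup.subtype_apply, map_mul]
  have : (QuotientGroup.mk' F) f = 1 := (QuotientGroup.eq_one_iff f).mpr hf
  rw [this, one_mul]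

/-- Let G be a finite group in which every non-identity element has nilpotent centralizer, not itself nilpotent, and having a nontrivial normal Sylow p-subgroup for some prime p. Let H be the largest normal nilpotent Hall subgroup of G. Then H is a nontrivial proper normal subgroup with a complement E that is a Frobenius complement in G (no non-identity element of E centralizes a non-identity element of H), and G/H is nilpotent. -/
theorem result {G : Type*} [Group G] [Finite G] (hCN : Cfsg.IsCNGroup G) (hnn : ¬ Group.IsNilpotent G) (p : ℕ) [Fact p.Prime] (P : Sylow p G)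
    (hP1 : (P : Subgroup G) ≠ ⊥) (hPn : (P : Subgroup G).Normal) :
    Cfsg.fittingHall G ≠ ⊥ ∧ Cfsg.fittingHall G ≠ ⊤ ∧
      (∃ E : Subgroup G, Subgroup.IsComplement' (Cfsg.fittingHall G) E ∧ Cfsg.IsFrobeniusComplement E ∧
        ∀ e ∈ E, e ≠ 1 → Cfsg.fittingHall G ⊓ Subgroup.centralizer ({e} : Set G) = ⊥) ∧
      Group.IsNilpotent (G ⧸ Cfsg.fittingHall G) := by
  obtain ⟨hFn, hFnil, hFcop⟩ := fittingHall_mem (G := G)
  exact aux hCN hnn p P hP1 hPn (Cfsg.fittingHall G) hFnil hFcop
    (fun N h1 h2 h3 => le_sSup ⟨h1, h2, h3⟩)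

end Cfsg.Agent.S1474
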