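import Cfsg.Statements.S1475
import Mathlib
import Cfsg.Agent.Lib.Helper15.FrobCenter2
import Cfsg.Agent.S0003
import Cfsg.Agent.Lib.Helper1.Basic

set_option autoImplicit false
open Cfsg

namespace Cfsg.Agent.S1475

open Cfsg.Agent.Lib.Helper15

/-- Let G be a finite solvable group such that the order of every element is a prime power (1 included). Then at most two distinct primes divide the order of G. -/
theorem result {G : Type*} [Group G] [Finite G] [Group.IsSolvable G] (h : ∀ g : G, IsPrimePow (orderOf g) ∨ g = 1) :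
    (Nat.card G).primeFactors.card ≤ 2 := by
  classical
  by_cases hG : Nontrivial G
  swap
  · rw [not_nontrivial_iff_subsingleton] at hG
    have : Nat.card G = 1 := Nat.card_eq_one_iff_unique.mpr ⟨hG, ⟨1⟩⟩
    rw [this]; simp
  obtain ⟨p, hp, N, hchar, hNp, hNne, -⟩ := Cfsg.Agent.Lib.Helper1.exists_char_pSubgroup_of_solvable G
  have := Fact.mk hp
  have hNn : N.Normal := inferInstance
  obtain ⟨a, m, hm, hcard⟩ := Nat.exists_eq_pow_mul_and_not_dvd (Nat.card_pos (α := G)).ne' p hp.ne_one
  have hcop : m.Coprime (p ^ a) :=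
    (Nat.Coprime.pow_left a ((Nat.Prime.coprime_iff_not_dvd hp).mpr hm)).symm
  obtain ⟨H, hH⟩ := Cfsg.Agent.S0003.result m (p ^ a) (by rw [hcard, mul_comm]) hcop
  -- mixed orders are impossible
  have hmix : ∀ x y : G, x * y = y * x → (orderOf x).Coprime (orderOf y) → x = 1 ∨ y = 1 := by
    intro x y hxy hco
    by_contra hcon
    push Not at hcon
    have h1 : orderOf (x * y) = orderOf x * orderOf y :=
      Commute.orderOf_mul_eq_mul_orderOf_of_coprime hxy hco
    have hx : orderOf x ≠ 1 := fun e => hcon.1 (orderOf_eq_one_iff.mp e)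
    have hy : orderOf y ≠ 1 := fun e => hcon.2 (orderOf_eq_one_iff.mp e)
    rcases h (x * y) with h2 | h2
    · rw [h1] at h2
      exact not_isPrimePow_mul_of_coprime hco hx hy h2
    · rw [h2, orderOf_one] at h1
      exact hx (Nat.eq_one_of_mul_eq_one_right h1.symm)
  by_cases hH1 : H = ⊥
  · have hm1 : m = 1 := by rw [← hH, hH1, Subgroup.card_bot]
    rw [hcard, hm1, mul_one]
    by_cases ha : a = 0
    · rw [ha]; simp
    · rw [Nat.primeFactors_prime_pow ha hp]; simp
  have hHN : H ≤ Subgroup.normalizer (N : Set G) := by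
    rw [Subgroup.normalizer_eq_top]; exact le_top
  have hordH : ∀ x ∈ H, (orderOf x).Coprime p := by
    intro x hx
    have h1 : orderOf x ∣ m := by
      have := orderOf_dvd_natCard (⟨x, hx⟩ : H)
      rwa [Subgroup.orderOf_mk, hH] at this
    exact Nat.Coprime.coprime_dvd_left h1 ((Nat.Prime.coprime_iff_not_dvd hp).mpr hm).symm
  have hf : ∀ x ∈ H, x ≠ 1 → N ⊓ Subgroup.centralizer {x} = ⊥ := by
    intro x hx hx1
    rw [eq_bot_iff]
    intro n hn
    obtain ⟨hnN, hnC⟩ := Subgroup.mem_inf.mp hn
    rw [Subgroup.mem_centralizer_singleton_iff] at hnC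
    obtain ⟨k, hk⟩ := (IsPGroup.iff_orderOf.mp hNp) ⟨n, hnN⟩
    rw [Subgroup.orderOf_mk] at hk
    rcases hmix n x hnC (by rw [hk]; exact (Nat.Coprime.pow_right k (hordH x hx)).symm) with h1 | h1
    · exact h1
    · exact absurd h1 hx1
  obtain ⟨z, hzH, hz1, hzc⟩ := exists_central_of_fpf H N hNne hH1 hHN hf
  obtain ⟨q, k, hq, hk, hqk⟩ := (isPrimePow_nat_iff _).mp ((h z).resolve_right hz1)
  have hsub : (Nat.card G).primeFactors ⊆ {p, q} := by
    intro r hr
    have hrp : r.Prime := Nat.prime_of_mem_primeFactors hr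
    have hrd : r ∣ Nat.card G := Nat.dvd_of_mem_primeFactors hr
    rw [hcard] at hrd
    simp only [Finset.mem_insert, Finset.mem_singleton]
    rcases (Nat.Prime.dvd_mul hrp).mp hrd with h1 | h1
    · left
      exact (Nat.prime_dvd_prime_iff_eq hrp hp).mp (hrp.dvd_of_dvd_pow h1)
    · right
      have := Fact.mk hrp
      obtain ⟨x, hx⟩ := exists_prime_orderOf_dvd_card' (G := H) r (by rw [hH]; exact h1)
      have hxo : orderOf (x : G) = r := by rw [Subgroup.orderOf_coe]; exact hx
      by_contra hrq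
      have hco : (orderOf (x : G)).Coprime (orderOf z) := by
        rw [hxo, ← hqk]
        exact Nat.Coprime.pow_right k ((Nat.coprime_primes hrp hq).mpr hrq)
      rcases hmix (x : G) z (hzc x x.2) hco with h2 | h2
      · rw [h2, orderOf_one] at hxo
        exact hrp.one_lt.ne hxo
      · exact hz1 h2
  exact (Finset.card_le_card hsub).trans Finset.card_le_two

end Cfsg.Agent.S1475
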