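import Cfsg.Statements.S1477
import Mathlib
import Cfsg.Agent.Lib.Helper15.CNGroup
import Cfsg.Agent.Lib.Helper15.Kegel1

set_option autoImplicit false
open Cfsg

namespace Cfsg.Agent.S1477

/-- Let G be a finite group in which every non-identity element has nilpotent centralizer, and H a nilpotent subgroup not properly contained in any nilpotent subgroup. Then the order of H is coprime to its index; if the order of H is not a prime power then H ∩ gHg⁻¹ = 1 whenever gHg⁻¹ ≠ H; and if H ∩ gHg⁻¹ = 1 whenever gHg⁻¹ ≠ H, then C_G(x) ≤ H for every non-identity x ∈ H. -/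
theorem result {G : Type*} [Group G] [Finite G] (hCN : Cfsg.IsCNGroup G) (H : Subgroup G) (hH : Group.IsNilpotent H)
    (hmax : ∀ L : Subgroup G, Group.IsNilpotent L → H ≤ L → L = H) :
    (Nat.card H).Coprime H.index ∧
      (¬ IsPrimePow (Nat.card H) → Nat.card H ≠ 1 → ∀ g : G, H.map (MulAut.conj g).toMonoidHom ≠ H → H ⊓ H.map (MulAut.conj g).toMonoidHom = ⊥) ∧
      ((∀ g : G, H.map (MulAut.conj g).toMonoidHom ≠ H → H ⊓ H.map (MulAut.conj g).toMonoidHom = ⊥) → ∀ x ∈ H, x ≠ 1 → Subgroup.centralizer ({x} : Set G) ≤ H) := by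
  -- commuting of coprime prime-power elements in a nilpotent subgroup
  have hcomm : ∀ (M : Subgroup G), Group.IsNilpotent M → ∀ a ∈ M, ∀ b ∈ M,
      (orderOf a).Coprime (orderOf b) → a * b = b * a := by
    intro M hM a ha b hb hcop
    have hc : Commute (⟨a, ha⟩ : M) ⟨b, hb⟩ :=
      Cfsg.Agent.Lib.Helper2.commute_of_coprime_of_isNilpotent
        (by rw [Subgroup.orderOf_mk, Subgroup.orderOf_mk]; exact hcop)
    exact congrArg Subtype.val hc
  -- a power of prime order
  have hpow : ∀ x : G, x ≠ 1 → ∃ (p : ℕ) (m : ℕ), p.Prime ∧ orderOf (x ^ m) = p := by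
    intro x hx
    have h1 : orderOf x ≠ 1 := fun e => hx (orderOf_eq_one_iff.mp e)
    have hp := Nat.minFac_prime h1
    refine ⟨(orderOf x).minFac, orderOf x / (orderOf x).minFac, hp, ?_⟩
    have hdvd : orderOf x / (orderOf x).minFac ∣ orderOf x :=
      Nat.div_dvd_of_dvd (Nat.minFac_dvd _)
    have hne : orderOf x / (orderOf x).minFac ≠ 0 := by
      intro e
      rw [e] at hdvd
      exact (orderOf_pos x).ne' (Nat.eq_zero_of_zero_dvd hdvd)
    rw [orderOf_pow_of_dvd hne hdvd]
    exact Nat.div_div_self (Nat.minFac_dvd _) (orderOf_pos x).ne'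
  have hdvdH : ∀ w ∈ H, orderOf w ∣ Nat.card H := by
    intro w hw
    have := orderOf_dvd_natCard (⟨w, hw⟩ : H)
    rwa [Subgroup.orderOf_mk] at this
  have hsm : ∀ (p : ℕ) [Fact p.Prime] (S : Sylow p G) (g y : G),
      y ∈ ((g • S : Sylow p G) : Subgroup G) ↔ g⁻¹ * y * g ∈ (S : Subgroup G) := by
    intro p _ S g y
    rw [Sylow.coe_subgroup_smul, Cfsg.Agent.Lib.Helper15.mem_conj_smul_iff]
  refine ⟨Cfsg.Agent.Lib.Helper15.cn_coprime_index hCN H hH hmax, ?_, ?_⟩
  · intro hnpp hne1 g hg
    by_contra hbot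
    obtain ⟨x, hx, hx1⟩ : ∃ x ∈ H ⊓ H.map (MulAut.conj g).toMonoidHom, x ≠ 1 := by
      by_contra h
      push Not at h
      exact hbot ((Subgroup.eq_bot_iff_forall _).mpr h)
    obtain ⟨p, m, hp, hxo⟩ := hpow x hx1
    have hx' : x ^ m ∈ H ⊓ H.map (MulAut.conj g).toMonoidHom := Subgroup.pow_mem _ hx m
    obtain ⟨x', hx'def⟩ : ∃ x', x' = x ^ m := ⟨_, rfl⟩
    rw [← hx'def] at hx' hxo
    obtain ⟨q, hq, hqp, hqH⟩ : ∃ r : ℕ, r.Prime ∧ r ≠ p ∧ r ∣ Nat.card H := by
      by_contra h
      push Not at h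
      apply hnpp
      have h1 : Nat.card H = p ^ (Nat.card H).primeFactorsList.length := by
        apply Nat.eq_prime_pow_of_unique_prime_dvd Nat.card_pos.ne'
        intro d hd hdN
        by_contra hdq
        exact h d hd hdq hdN
      rw [isPrimePow_nat_iff]
      refine ⟨p, _, hp, ?_, h1.symm⟩
      rw [Nat.pos_iff_ne_zero]
      intro e
      rw [e, pow_zero] at h1
      exact hne1 h1
    have := Fact.mk hq
    obtain ⟨S, hS⟩ := Cfsg.Agent.Lib.Helper15.cn_exists_sylow_le hCN H hH hmax q hqH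
    have hx'1 : x' ≠ 1 := by
      intro e
      rw [e, orderOf_one] at hxo
      exact hp.one_lt.ne hxo
    have hM := hCN x' hx'1
    have hcopS : ∀ s ∈ (S : Subgroup G), ∀ w : G, orderOf w = p →
        (orderOf s).Coprime (orderOf w) := by
      intro s hs w hw
      obtain ⟨j, hj⟩ := (IsPGroup.iff_orderOf.mp S.2) ⟨s, hs⟩
      rw [Subgroup.orderOf_mk] at hj
      rw [hj, hw]
      exact Nat.Coprime.pow_left _ ((Nat.coprime_primes hq hp).mpr hqp)
    have h1 : (S : Subgroup G) ≤ Subgroup.centralizer ({x'} : Set G) := by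
      intro s hs
      rw [Subgroup.mem_centralizer_singleton_iff]
      exact hcomm H hH s (hS hs) x' hx'.1 (hcopS s hs x' hxo)
    obtain ⟨h, hhH, hhx⟩ := hx'.2
    simp only [MulEquiv.coe_toMonoidHom, MulAut.conj_apply] at hhx
    have hho : orderOf h = p := by
      have := (MulAut.conj g).orderOf_eq h
      rw [MulAut.conj_apply, hhx, hxo] at this
      exact this.symm
    have h2 : ((g • S : Sylow q G) : Subgroup G) ≤ Subgroup.centralizer ({x'} : Set G) := by
      intro s hs
      rw [hsm] at hs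
      rw [Subgroup.mem_centralizer_singleton_iff]
      have h3 := hcomm H hH _ (hS hs) h hhH (hcopS _ hs h hho)
      rw [← hhx]
      calc s * (g * h * g⁻¹) = g * ((g⁻¹ * s * g) * h) * g⁻¹ := by group
        _ = g * (h * (g⁻¹ * s * g)) * g⁻¹ := by rw [h3]
        _ = g * h * g⁻¹ * s := by group
    have h3 := Cfsg.Agent.Lib.Helper15.sylow_eq_of_le_nilpotent _ hM q S (g • S) h1 h2
    have h4 := Cfsg.Agent.Lib.Helper15.cn_conj_eq hCN H H hH hmax hH hmax q S
      (S.ne_bot_of_dvd_card (hqH.trans (Subgroup.card_subgroup_dvd_card H))) hS g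
      (by rw [← h3]; exact hS)
    exact hg h4.symm
  · intro hTI x hxH hx1
    obtain ⟨p, m, hp, hxo⟩ := hpow x hx1
    have hx'H : x ^ m ∈ H := Subgroup.pow_mem _ hxH m
    have hle : Subgroup.centralizer ({x} : Set G) ≤ Subgroup.centralizer ({x ^ m} : Set G) := by
      intro c hc
      rw [Subgroup.mem_centralizer_singleton_iff] at hc ⊢
      exact ((show Commute c x from hc).pow_right m).eq
    refine hle.trans ?_
    obtain ⟨x', hx'def⟩ : ∃ x', x' = x ^ m := ⟨_, rfl⟩
    rw [← hx'def] at hx'H hxo ⊢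
    have hx'1 : x' ≠ 1 := by
      intro e
      rw [e, orderOf_one] at hxo
      exact hp.one_lt.ne hxo
    have hM := hCN x' hx'1
    intro c hcM
    by_contra hcH
    obtain ⟨q, k, y, hq, hyc, hyH, hyo⟩ :=
      Cfsg.Agent.Lib.Helper15.exists_primePow_notMem H _ c rfl hcH
    have hyM : y ∈ Subgroup.centralizer ({x'} : Set G) := (Subgroup.zpowers_le.mpr hcM) hyc
    have := Fact.mk hp
    have hpH : p ∣ Nat.card H := hxo ▸ hdvdH x' hx'H
    obtain ⟨S, hS⟩ := Cfsg.Agent.Lib.Helper15.cn_exists_sylow_le hCN H hH hmax p hpH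
    have hSne : (S : Subgroup G) ≠ ⊥ :=
      S.ne_bot_of_dvd_card (hpH.trans (Subgroup.card_subgroup_dvd_card H))
    by_cases hqp : q = p
    · subst hqp
      have hyx : y * x' = x' * y := by
        rw [Subgroup.mem_centralizer_singleton_iff] at hyM
        exact hyM
      have hPy : IsPGroup q (Subgroup.zpowers y) := by
        rw [IsPGroup.iff_card]
        exact ⟨k, by rw [Nat.card_zpowers, hyo]⟩
      have hPx : IsPGroup q (Subgroup.zpowers x') := by
        rw [IsPGroup.iff_card]
        exact ⟨1, by rw [Nat.card_zpowers, hxo, pow_one]⟩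
      have hnorm : Subgroup.zpowers y ≤ Subgroup.normalizer (Subgroup.zpowers x' : Set G) := by
        rw [Subgroup.zpowers_le]
        apply Cfsg.Agent.Lib.Helper15.mem_normalizer_of_forall_conj_mem
        intro w hw
        obtain ⟨n, rfl⟩ := Subgroup.mem_zpowers_iff.mp hw
        have : y * x' ^ n * y⁻¹ = x' ^ n := by
          rw [((show Commute y x' from hyx).zpow_right n).eq, mul_inv_cancel_right]
        rw [this]
        exact hw
      have hsup := IsPGroup.to_sup_of_normal_right' hPy hPx hnorm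
      obtain ⟨S', hS'⟩ := hsup.exists_le_sylow
      obtain ⟨g, hg⟩ := MulAction.exists_smul_eq G S S'
      have hS'H : (S' : Subgroup G) ≤ H.map (MulAut.conj g).toMonoidHom := by
        intro s hs
        rw [← hg, hsm] at hs
        refine ⟨g⁻¹ * s * g, hS hs, ?_⟩
        simp only [MulEquiv.coe_toMonoidHom, MulAut.conj_apply]
        group
      have hyS' : y ∈ (S' : Subgroup G) := hS' (Subgroup.mem_sup_left (Subgroup.mem_zpowers y))
      have hxS' : x' ∈ (S' : Subgroup G) := hS' (Subgroup.mem_sup_right (Subgroup.mem_zpowers x'))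
      by_cases hgH : H.map (MulAut.conj g).toMonoidHom = H
      · exact hyH (hgH ▸ hS'H hyS')
      · have h5 := hTI g hgH
        have h6 : x' ∈ H ⊓ H.map (MulAut.conj g).toMonoidHom := ⟨hx'H, hS'H hxS'⟩
        rw [h5, Subgroup.mem_bot] at h6
        exact hx'1 h6
    · obtain ⟨z, hzS, hz1, hzc⟩ :=
        Cfsg.Agent.Lib.Helper15.exists_center_ne_one p (S : Subgroup G) S.2 hSne
      have hCz := Cfsg.Agent.Lib.Helper15.cn_centralizer_eq hCN H hH hmax p S hS z hzS hz1 hzc
      have hzM : z ∈ Subgroup.centralizer ({x'} : Set G) := by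
        rw [← hCz, Subgroup.mem_centralizer_singleton_iff] at hx'H
        rw [Subgroup.mem_centralizer_singleton_iff]
        exact hx'H.symm
      obtain ⟨j, hj⟩ := (IsPGroup.iff_orderOf.mp S.2) ⟨z, hzS⟩
      rw [Subgroup.orderOf_mk] at hj
      apply hyH
      rw [← hCz, Subgroup.mem_centralizer_singleton_iff]
      apply hcomm _ hM y hyM z hzM
      rw [hyo, hj]
      exact Nat.Coprime.pow _ _ ((Nat.coprime_primes hq hp).mpr hqp)

end Cfsg.Agent.S1477
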