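import Cfsg.Statements.S1551
import Cfsg.Agent.Lib.Helper3.SxTrBase
import Cfsg.Agent.Lib.Helper3.SylTab

set_option autoImplicit false
open scoped Pointwise
open Cfsg

namespace Cfsg.Agent.S1551


open Cfsg.Agent.Lib.Helper3 Cfsg.Agent.Lib.Helper3.Syl
open scoped Pointwise

set_option maxRecDepth 100000

def wsK : List (List ℕ) := [[4, 1, 0, 4, 0, 2, 0, 4, 4, 1, 3, 2, 0, 0, 0, 2, 2, 3, 4, 0, 0, 4, 3, 4, 0, 4, 3, 3, 3, 2, 3, 3],
  [4, 4, 0, 1, 3, 2, 2, 3, 2, 1, 0, 4, 3, 4, 3, 3, 4, 4, 0, 2, 0, 2, 2, 0, 4, 0, 0, 4, 0, 0, 4, 0, 2],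
  [3, 3, 3, 3, 4, 0, 2, 2, 2, 2, 3, 3, 2, 2, 0, 2, 2, 3, 2, 0, 0, 0, 2, 2, 3, 4, 0],
  [1, 3, 2, 2, 1, 3, 3, 4, 0, 1, 3, 4, 4, 3, 4, 0, 0, 0, 2, 0, 4, 4, 3, 4, 0, 4, 0, 0, 0, 2, 0, 4, 4, 3],
  [3, 2, 0, 4, 1, 0, 2, 3, 4, 4, 4, 4, 0, 0, 2, 0, 4, 0, 2, 0, 4, 4, 3, 3, 3, 4],
  [4, 4, 0, 1, 3, 2, 2, 3, 2, 1, 0, 4, 3, 4, 3, 3, 4, 4, 0, 2, 0, 2, 2, 0, 4, 0, 0, 4, 0, 0, 4, 0, 2],
  [3, 3, 3, 3, 4, 0, 2, 2, 2, 2, 3, 3, 2, 2, 0, 2, 2, 3, 2, 0, 0, 0, 2, 2, 3, 4, 0],
  [0, 0, 0, 2, 0, 0, 0, 0, 4, 1, 0, 0, 1, 3, 4, 3, 4, 3, 4, 1, 4, 0, 4, 4, 3, 2, 2, 0, 0, 4, 0]]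
def gtK : List ℕ := [219927859056116318714438919114556418,
  596654750537752186788767474980520034,
  984778822338565988800583747246260322,
  596691512867891758627622519549462625,
  721187359010261112599443861430960193,
  216349438384655693385911377578723331]
def tabsK : List ℕ := [984818244535754528103549039458486304,
  219927859056116318714438919114556418,
  596654750537752186788767474980520034,
  984778822338565988800583747246260322,
  596691512867891758627622519549462625,
  721187359010261112599443861430960193,
  216349438384655693385911377578723331,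
  714698224992095160392432169783430208,
  220131672262730592394930279575227456,
  967899747471594139052015980648598562,
  593967222329907279187428339195347042,
  610923273895167233206661634261518433,
  596693935057177821627616253167372320,
  216237885372098809117865988413555714,
  594054690913236819002859734329001056,
  984494993506995446824501697166969890,
  220203093973732933416674371235219553,
  596573471576463452784693798393447426,
  721265923637707385844196286616634464,
  216034622818285673560592301263162402,
  610649461593716816512104421633623136,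
  984768805696648565168223095730798627,
  596644497134941753607244197319999523,
  236804127160390447245680973556254723,
  720985927588192943280619741234890755,
  714491598279222785337596717859603523,
  735538121081885229971598402105936960,
  718669933655395818617309656247271489,
  216315094222721439057161149613178945,
  963928513454334454235815800521949219,
  964040067063924792159518968634149922,
  714493857181316391711283615801377794,
  735264308207530293471426883138715713,
  216031257977568192633985706410183681,
  721269757000026622558066059189945411,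
  721299871671296116366023415110306850,
  967619909883089312568116912360357953,
  984490757400711034068282643818023937,
  594058443642639447269110080197362755,
  222808941315343168920901544778468353,
  590194376689636539997207365242913888,
  967934250094538009460443685707646048,
  963721886883755259286232606933354528,
  593770854087813340775841408049317920,
  970536727766998909909314540580962339,
  610969893475593196873798893604765731,
  222726544147190334260542594776860675,
  610648355879924810700000282071368706,
  216355609761152920457125869333252193,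
  593976047059214753531552528636936257,
  984808937590098638349893495561422851,
  714809777892805161461571615019073601,
  718388515578486850668874540922211392,
  216033676012960494084133565066415168,
  594089035075171086001361236049005602,
  220121809236599362611927091125488641,
  967618328686711528613702481940119587,
  596572353935438013790207072067978336,
  984696424929063628813077091117499488,
  721306518506250190611245536676711488,
  714816266283523465081313520786669603,
  220249872005799339215523101720772643,
  967821578972493389614186654934796291,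
  610963881031741312530500398477312065,
  984493570779031949311940273457105984,
  596369103765684697927344644209806400,
  237118467371839156807759020658002978,
  714687808069978514226414409217018881,
  735263361518283243837670669351452707,
  718590893673028235109316201847784544,
  216236450368699366686339520931103840,
  964046079391748131510436802311785536,
  970417568954804955689277646245465122,
  610850734554775369751251064736189474,
  220209277253334662128322717451061251,
  984815583728714982482776485708957793,
  610929774537142965928995792890136579,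
  718582466469944612485300561041687619,
  237005796249794535809706350826586177,
  970499966350631336865513127433832480,
  590082823201212687055568089769838689,
  984687521771906074924029827437560899,
  714779504765739530547128581499226144,
  735467570877421557717355722545563745,
  222845703532239223438123665586226178,
  735585295266475675969640825324930050,
  718704040149994179040361174647474179,
  237077939913529313915718470018892802,
  963999459811322166689252172815762434,
  593773272239244812550696710191450209,
  963724541796079739577660339071748193,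
  964005960569326444406218723988407392,
  610972711791184720857040928538394722,
  963926920586958842458237145070010433,
  735544779611966063586436943194360866,
  216357873600481717532560151321610272,
  721178456433366701745969262992851042,
  967812279691448225500382947153381408,
  735466135757943985445378463747835907,
  216227626219662118351051565874283587,
  237127377951804563922728501298400257,
  721309179197215149166510279720242177,
  237083964748895272577784402785928288,
  714818689285165176928702861026558050,
  222718116131712103283380056249960480,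
  590081864028601535078832172504745987,
  596563053841991157773532231016383555,
  964048898635769892387945499611696129,
  594097469710726884127915119936080897,
  735587559802120952862548468252542019,
  222848521963869917746636076779308099,
  589876195687847248275933451517984866,
  590160428656047795653833323935960098,
  222521510211855271950402112419037282,
  963918492803612076772893908740898914,
  970489553582408451241520087716333665,
  593774219508801047736054035214534659,
  222839690624156282810028779282433120,
  222525271186131768351644677919834177,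
  970419003377944797416007289508236352,
  610852327538179526512203113674345536,
  222805584129557923538772899940797474,
  714495437681356446129256717152748640,
  718663433593729272021488522959585315,
  216308435576562475613130816267288611,
  963725647625900290370886141026011139,
  219925044865404335602496549529060419,
  967893722055968579688671553496583232,
  596650522434538768998273248546357313,
  984774989556509895158315093313290305,
  721188318763181450703677936390701091,
  714775275269861278383392636205565955,
  718592487236741577996782032018048002,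
  714697106770760535845077733481647138,
  596366844051235442731031181682347009,
  220252532000447816943241873487593570,
  967940737788918583555002505573270530,
  967822696497490284625099006276536417,
  596370684846033937895932968552107042,
  720984505556567175869139205777000545,
  721259740474183785966444176344187906,
  714769250550573448545230539064346721,
  735579123773900319066982810218726496,
  589880432606533354242052417613037633,
  970496212808827015390348001173080067,
  220130712625888383113333441500810274,
  984697383985646236816231033716442114,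
  718385860550087782304118187552214017,
  970538992418718774876113737513730146,
  590201022944281428117183060208878594,
  222728137594825547317550033949165665,
  718389620711969670352213924049325090,
  236802546544272263994796768615204961,
  594048031802846799838671813098963970,
  970215741404391251045574791881884768,
  220243225286923393801945485003554881,
  219929281203820214946304960363562080,
  596685025057482640558496592663971843,
  970530556970761283540645141951905857,
  718712872302102422341373956619077664,
  970212376795805237283018220920374339,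
  970214794018806470866570206668489730,
  590154244912215009648582300077689920,
  589879009994598400705324699663532067,
  222524165936570818835595172700553251,
  222799083951813247101234376597343296,
  237006914355051031521897952444481571,
  718710053174155249512425182101244001,
  237124955646479331605848821893991488,
  594095205987437257352418895810563136,
  593977481598383140254181163184226339,
  216318847532394293368276183264821346,
  610842305959026912152763103302454273,
  610933131142657984725827468219484192,
  610645700039170093514306231153460291,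
  967903976387209248756639995823983617,
  718673291653575672363843854276788322,
  236800286945862178090600553424980000,
  720981692062171673584743151055243296,
  967616069900692509306086327477895266,
  967943160906634882443693203669386307,
  237088193432378916389358651429618755,
  970408745037899174542809581725223937,
  220213109803259289183002082616117280,
  735260944179207422204995828047708258,
  590203682822890736552221651864912963,
  964009317987243155104936468951336003,
  735548533734033527546468929854573569,
  590072960059042287979885064796342304,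
  590164260625702196097460789311507457,
  236996496736617905827622674440945762,
  735457312421301346770266117170628640]
def parK : List (ℕ × ℕ) := [(0, 0), (0, 0), (0, 1), (0, 2), (0, 3), (0, 4), (0, 5), (1, 1), (1, 2), (1, 3), (1, 5), (2, 0), (2, 2), (2, 3), (2, 4), (2, 5), (3, 0), (3, 3), (3, 4), (3, 5), (4, 0), (4, 1), (4, 2), (5, 1), (5, 2), (5, 3), (5, 5), (6, 1), (6, 2), (6, 4), (7, 0), (7, 2), (7, 3), (7, 4), (7, 5), (8, 0), (8, 3), (8, 4), (8, 5), (9, 0), (9, 1), (9, 2), (10, 1), (10, 2), (11, 1), (11, 2), (11, 3), (12, 0), (12, 3), (12, 4), (12, 5), (13, 0), (13, 1), (13, 2), (14, 2), (14, 3), (14, 5), (15, 1), (15, 2), (15, 4), (16, 1), (16, 2), (16, 3), (17, 0), (17, 1), (17, 2), (18, 1), (18, 3), (18, 5), (19, 1), (19, 2), (19, 4), (20, 1), (20, 2), (21, 0), (21, 2), (22, 0), (23, 0), (23, 2), (23, 3), (23, 5), (24, 0), (24, 3), (24, 5), (26, 1), (26, 2), (27, 2), (27, 4), (28, 4), (29, 1), (29, 2), (30, 2), (30, 3), (31, 0), (31, 3), (31, 4), (31, 5), (32, 0), (32, 2), (33, 2), (34, 1), (34, 2), (35, 1), (35, 3), (36, 0), (36, 1),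 (37, 1), (38, 1), (38, 2), (39, 1), (39, 2), (40, 0), (40, 2), (41, 0), (42, 2), (44, 2), (45, 0), (45, 3), (46, 2), (47, 1), (47, 2), (47, 3), (48, 0), (48, 1), (48, 2), (49, 1), (49, 3), (49, 5), (50, 1), (50, 2), (50, 4), (51, 2), (52, 2), (53, 0), (54, 0), (54, 3), (54, 5), (56, 2), (57, 2), (58, 4), (59, 2), (60, 2), (60, 3), (62, 1), (63, 1), (64, 0), (64, 2), (66, 0), (66, 3), (66, 5), (68, 1), (69, 2), (69, 4), (71, 1), (72, 2), (74, 2), (75, 0), (75, 3), (76, 1), (78, 0), (78, 3), (78, 4), (78, 5), (80, 2), (83, 1), (84, 2), (86, 4), (86, 5), (87, 2), (88, 1), (89, 2), (91, 0), (91, 3), (92, 2), (93, 3), (94, 0), (95, 1), (96, 1), (96, 2), (97, 2), (98, 0), (100, 2), (102, 3), (103, 1), (104, 1), (105, 0), (107, 2), (109, 2), (111, 2), (112, 0), (112, 3), (113, 1)]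
def wsN : List (List ℕ) := [[4, 4, 0, 1, 3, 2, 2, 3, 2, 1, 0, 4, 3, 4, 3, 3, 4, 4, 0, 2, 0, 2, 2, 0, 4, 0, 0, 4, 0, 0, 4, 0, 2],
  [3, 3, 3, 3, 4, 0, 2, 2, 2, 2, 3, 3, 2, 2, 0, 2, 2, 3, 2, 0, 0, 0, 2, 2, 3, 4, 0],
  [0, 2, 1, 3, 2, 3, 4, 3, 2, 3, 4, 0, 0, 4, 3, 3, 3, 4, 4, 1, 4, 3, 4, 3, 4, 3],
  [3, 3, 4, 0, 2, 2, 0, 1, 3, 4, 3, 2, 0, 0, 4, 4, 0, 4, 3, 3, 4, 4, 0, 0, 2, 0, 4, 0, 0],
  [2, 1, 0, 2, 1, 3, 4, 3, 3, 3, 2, 3, 2, 3, 4, 3, 2, 2, 2, 2, 0, 4, 0, 0, 4, 0, 0, 4, 0, 2],
  [2, 0, 0, 4, 3, 4, 0, 0, 2, 2, 3, 4, 0, 4, 3, 4, 3, 4, 3]]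
def gtN : List ℕ := [596654750537752186788767474980520034,
  984778822338565988800583747246260322,
  216031257977568192633985706410183681,
  236996496736617905827622674440945762,
  590164260625702196097460789311507457,
  970212376795805237283018220920374339]
def tabsN : List ℕ := [984818244535754528103549039458486304,
  596654750537752186788767474980520034,
  984778822338565988800583747246260322,
  216031257977568192633985706410183681,
  236996496736617905827622674440945762,
  590164260625702196097460789311507457,
  970212376795805237283018220920374339,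
  596693935057177821627616253167372320,
  718582466469944612485300561041687619,
  720981692062171673584743151055243296,
  967943160906634882443693203669386307,
  610842305959026912152763103302454273,
  216227626219662118351051565874283587,
  236800286945862178090600553424980000,
  590203682822890736552221651864912963,
  970408745037899174542809581725223937,
  964009317987243155104936468951336003,
  735457312421301346770266117170628640,
  220252532000447816943241873487593570,
  714491598279222785337596717859603523,
  222808941315343168920901544778468353,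
  593967222329907279187428339195347042,
  718385860550087782304118187552214017,
  721178456433366701745969262992851042,
  967903976387209248756639995823983617,
  610645700039170093514306231153460291,
  594097469710726884127915119936080897,
  222521510211855271950402112419037282,
  714779504765739530547128581499226144,
  220121809236599362611927091125488641,
  735587559802120952862548468252542019,
  963721886883755259286232606933354528,
  964048898635769892387945499611696129,
  735260944179207422204995828047708258,
  220213109803259289183002082616117280,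
  714687808069978514226414409217018881,
  222848521963869917746636076779308099,
  593770854087813340775841408049317920,
  610972711791184720857040928538394722,
  967812279691448225500382947153381408,
  721269757000026622558066059189945411,
  718712872302102422341373956619077664,
  594058443642639447269110080197362755,
  222718116131712103283380056249960480,
  714818689285165176928702861026558050,
  219925044865404335602496549529060419,
  735548533734033527546468929854573569,
  963918492803612076772893908740898914,
  970499966350631336865513127433832480,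
  589876195687847248275933451517984866,
  237127377951804563922728501298400257,
  216318847532394293368276183264821346,
  610933131142657984725827468219484192,
  967616069900692509306086327477895266,
  721309179197215149166510279720242177,
  718673291653575672363843854276788322,
  596366844051235442731031181682347009,
  970538992418718774876113737513730146,
  590072960059042287979885064796342304,
  237088193432378916389358651429618755,
  216357873600481717532560151321610272,
  984687521771906074924029827437560899,
  596563053841991157773532231016383555,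
  984490757400711034068282643818023937]
def parN : List (ℕ × ℕ) := [(0, 0), (0, 0), (0, 1), (0, 2), (0, 3), (0, 4), (0, 5), (1, 1), (1, 2), (1, 3), (1, 4), (1, 5), (2, 2), (2, 3), (2, 4), (2, 5), (3, 3), (3, 4), (3, 5), (4, 4), (4, 5), (5, 5), (7, 2), (7, 3), (7, 4), (7, 5), (8, 3), (8, 4), (8, 5), (9, 4), (9, 5), (10, 5), (12, 3), (12, 4), (12, 5), (13, 4), (13, 5), (14, 5), (16, 4), (16, 5), (17, 5), (19, 5), (22, 3), (22, 4), (22, 5), (23, 4), (23, 5), (24, 5), (26, 4), (26, 5), (27, 5), (29, 5), (32, 4), (32, 5), (33, 5), (35, 5), (38, 5), (42, 4), (42, 5), (43, 5), (45, 5), (48, 5), (52, 5), (57, 5)]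
def sw (a b : ℕ) : List ℕ :=
  if (a = 15 ∧ b = 5264) ∨ (a = 5264 ∧ b = 15) then [0, 0, 0, 0, 4, 3, 3, 3, 4, 0, 4, 3, 3, 3, 3, 2, 3, 3, 3, 3, 3, 3, 2, 3, 4, 0, 2, 2, 0, 2, 2] else
  if (a = 15 ∧ b = 622848) ∨ (a = 622848 ∧ b = 15) then [2, 2, 3, 2, 1, 3, 3, 3, 4, 4, 0, 0, 0, 0, 4, 0, 0, 0, 0, 2, 3, 4, 3, 2, 0, 4, 0, 4, 0, 2] else
  if (a = 15 ∧ b = 3416064) ∨ (a = 3416064 ∧ b = 15) then [3, 3, 2, 1, 3, 4, 0, 4, 3, 4, 1, 3, 2, 0, 4, 4, 3, 3, 3, 4, 3, 4, 0, 0, 0, 4, 3, 3, 3, 2, 0] else
  if (a = 15 ∧ b = 4196928) ∨ (a = 4196928 ∧ b = 15) then [3, 2, 1, 3, 4, 1, 3, 3, 3, 4, 4, 3, 3, 3, 4, 3, 2, 0, 0, 4, 4, 3, 4, 4, 3, 2, 0, 4, 0] else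
  if (a = 15 ∧ b = 8536096) ∨ (a = 8536096 ∧ b = 15) then [4, 3, 4, 3, 3, 4, 0, 0, 1, 3, 4, 3, 2, 0, 4, 0, 4, 0, 2, 3, 3, 3, 3, 4, 3, 2, 0, 4, 4, 0] else
  if (a = 5264 ∧ b = 622848) ∨ (a = 622848 ∧ b = 5264) then [1, 3, 4, 0, 0, 0, 4, 3, 1, 3, 2, 3, 4, 0, 2, 2, 0, 2, 2, 1, 3, 2, 3, 2, 3, 4, 4, 3, 1] else
  if (a = 5264 ∧ b = 3416064) ∨ (a = 3416064 ∧ b = 5264) then [3, 4, 3, 2, 0, 0, 4, 0, 1, 0, 0, 2, 2, 3, 3, 2, 2, 0, 2, 2, 3, 4, 3, 4, 3, 4, 4, 4, 3, 4, 4, 0, 0, 4, 4] else
  if (a = 5264 ∧ b = 4196928) ∨ (a = 4196928 ∧ b = 5264) then [2, 1, 3, 4, 3, 4, 4, 3, 1, 0, 1, 4, 4, 3, 2, 0, 0, 4, 4, 0, 4, 3, 3, 3, 2, 2, 3, 4, 0, 2, 0, 0, 0, 0] else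
  if (a = 5264 ∧ b = 8536096) ∨ (a = 8536096 ∧ b = 5264) then [0, 2, 1, 3, 2, 0, 4, 0, 1, 0, 4, 3, 2, 2, 3, 3, 2, 2, 3, 4, 3, 3, 4, 3, 3, 2, 0, 4, 4, 3] else
  if (a = 622848 ∧ b = 3416064) ∨ (a = 3416064 ∧ b = 622848) then [2, 0, 2, 0, 2, 0, 4, 3, 2, 3, 3, 2, 3, 3, 2, 3, 4, 4, 4, 3, 4, 3, 4, 3] else
  if (a = 622848 ∧ b = 4196928) ∨ (a = 4196928 ∧ b = 622848) then [1, 3, 4, 0, 0, 0, 4, 3, 1, 0, 0, 0, 0, 0, 4, 0, 0, 0, 0, 2, 3, 2, 0, 4, 4, 3, 3, 3, 4] else
  if (a = 622848 ∧ b = 8536096) ∨ (a = 8536096 ∧ b = 622848) then [1, 3, 4, 0, 0, 0, 2, 2, 3, 1, 4, 3, 4, 3, 4, 3, 4, 4, 3, 4, 4, 3, 2, 0, 4, 0, 4, 3, 4, 3, 4, 3] else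
  if (a = 3416064 ∧ b = 4196928) ∨ (a = 4196928 ∧ b = 3416064) then [0, 2, 2, 0, 4, 3, 3, 3, 3, 1, 2, 3, 3, 4, 4, 0, 2, 2, 3, 2, 3, 3, 3, 2, 3, 4, 3, 3, 2, 2] else
  if (a = 3416064 ∧ b = 8536096) ∨ (a = 8536096 ∧ b = 3416064) then [2, 2, 1, 3, 3, 3, 2, 1, 3, 4, 4, 3, 4, 4, 3, 2, 0, 4, 0, 4, 3, 4, 3, 4, 3] else
  if (a = 4196928 ∧ b = 8536096) ∨ (a = 8536096 ∧ b = 4196928) then [1, 0, 0, 0, 0, 4, 3, 4, 3, 1, 4, 4, 0, 4, 3, 4, 3, 3, 3, 2, 0, 0, 0, 0, 2, 2, 3, 4, 0] else []

theorem isTab_of {ws : List (List ℕ)} {gt tabs : List ℕ} {par : List (ℕ × ℕ)}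
    (h1 : chkGen ws gt = true) (h2 : chkClosed gt tabs = true) (h3 : chkPar gt tabs par = true)
    (h4 : chkCanon tabs = true) (h5 : nodupB tabs = true) : IsTab (SP ws) tabs :=
  ⟨closed_sound h1 h2, par_sound h1 h3, h4, nodupB_sound h5⟩

theorem SP_le {ws : List (List ℕ)} {M : Subgroup (Equiv.Perm GolayPt)}
    (h : ∀ w ∈ ws, wperm w ∈ M) : SP ws ≤ M := by
  unfold SP
  rw [Subgroup.closure_le]
  rintro _ ⟨w, hw, rfl⟩
  exact h w hw

theorem conj_mem_M24_iff {u g : Equiv.Perm GolayPt} (hu : u ∈ M24) :
    u * g * u⁻¹ ∈ M24 ↔ g ∈ M24 := by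
  constructor
  · intro h
    have : g = u⁻¹ * (u * g * u⁻¹) * u := by group
    rw [this]
    exact M24.mul_mem (M24.mul_mem (M24.inv_mem hu) h) hu
  · intro h
    exact M24.mul_mem (M24.mul_mem hu h) (M24.inv_mem hu)

theorem conj_smul_iff {α : Type*} [MulAction (Equiv.Perm GolayPt) α] {u g : Equiv.Perm GolayPt}
    {y Y : α} (hy : u • y = Y) : (u * g * u⁻¹) • Y = Y ↔ g • y = y := by
  rw [← hy, mul_smul, mul_smul, inv_smul_smul]
  exact (MulAction.injective u).eq_iff

def tl : List ℕ := [0xf, 0x1490, 0x98100, 0x342000, 0x400a40, 0x824020]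

theorem tl_lt : ∀ a ∈ tl, a < 2 ^ 24 := by decide

theorem mem_S0 {t : Finset GolayPt} : t ∈ S0 ↔ ∃ a ∈ tl, t = unmask a := by
  rw [← famOf_S0, famOf, List.mem_toFinset, List.mem_map]
  constructor
  · rintro ⟨a, ha, rfl⟩; exact ⟨a, ha, rfl⟩
  · rintro ⟨a, ha, rfl⟩; exact ⟨a, ha, rfl⟩

theorem smul_unmask (w : List ℕ) {a : ℕ} (ha : a < 2 ^ 24) :
    wperm w • unmask a = unmask (pm (wact (winv w)) a) := by
  have := mask_wperm_smul w (unmask a)
  rw [mask_unmask ha] at this
  rw [← this, unmask_mask]

theorem unmask_inj {a b : ℕ} (ha : a < 2 ^ 24) (hb : b < 2 ^ 24) (h : unmask a = unmask b) :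
    a = b := by
  rw [← mask_unmask ha, h, mask_unmask hb]

theorem swChk : (tl.all fun a => tl.all fun b => a == b || (tl.all fun c =>
    pm (wact (winv (sw a b))) c == (if c = a then b else if c = b then a else c))) = true := by
  decide +kernel

theorem swap_word {a b c : ℕ} (ha : a ∈ tl) (hb : b ∈ tl) (hab : a ≠ b) (hc : c ∈ tl) :
    wperm (sw a b) • unmask c = unmask (if c = a then b else if c = b then a else c) := by
  have h := List.all_eq_true.1 (List.all_eq_true.1 swChk a ha) b hb
  simp only [Bool.or_eq_true, beq_iff_eq, hab, false_or] at h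
  have h2 := List.all_eq_true.1 h c hc
  rw [smul_unmask _ (tl_lt c hc), beq_iff_eq.1 h2]

theorem mem_iff_smul {σ : Equiv.Perm GolayPt} {S : Finset (Finset GolayPt)} (h : σ • S = S)
    (t : Finset GolayPt) : σ • t ∈ S ↔ t ∈ S := by
  conv_lhs => rw [← h]
  exact Finset.smul_mem_smul_finset_iff _

/-- the action of the stabiliser on the members of the family. -/
def rho (S : Finset (Finset GolayPt)) : ↥(MulAction.stabilizer M24 S) →* Equiv.Perm ↥S where
  toFun g := Equiv.Perm.subtypePerm (MulAction.toPerm g.1.1) (fun t => mem_iff_smul g.2 t)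
  map_one' := by
    apply Equiv.ext
    intro x
    apply Subtype.ext
    show (1 : Equiv.Perm GolayPt) • x.1 = x.1
    rw [one_smul]
  map_mul' a b := by
    apply Equiv.ext
    intro x
    apply Subtype.ext
    show (a.1.1 * b.1.1) • x.1 = a.1.1 • b.1.1 • x.1
    rw [mul_smul]

theorem rho_apply (S : Finset (Finset GolayPt)) (g : ↥(MulAction.stabilizer M24 S)) (x : ↥S) :
    ((rho S g x : ↥S) : Finset GolayPt) = g.1.1 • x.1 := rfl

theorem partA {S : Finset (Finset GolayPt)} (hS : S ∈ sextets) (e : Equiv.Perm ↥S) :
    ∃ g : ↥(MulAction.stabilizer M24 S), ∀ t : ↥S, g.1.1 • t.1 = (e t).1 := by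
  obtain ⟨u, hu, huS⟩ := sextet_to_S0 hS
  induction e using Equiv.Perm.swap_induction_on with
  | one => exact ⟨1, fun t => one_smul _ _⟩
  | swap_mul f x y hxy ih =>
    obtain ⟨gf, hgf⟩ := ih
    have hm : ∀ t : ↥S, ∃ a ∈ tl, u • t.1 = unmask a := by
      intro t
      apply mem_S0.1
      rw [← huS]; exact Finset.smul_mem_smul_finset t.2
    obtain ⟨a, ha, ea⟩ := hm x
    obtain ⟨b, hb, eb⟩ := hm y
    have hab : a ≠ b := by
      rintro rfl
      exact hxy (Subtype.ext (MulAction.injective u (ea.trans eb.symm)))
    have hact : ∀ t : ↥S, (u⁻¹ * wperm (sw a b) * u) • t.1 = (Equiv.swap x y t).1 := by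
      intro t
      obtain ⟨c, hc, ec⟩ := hm t
      rw [mul_smul, mul_smul, ec, swap_word ha hb hab hc, inv_smul_eq_iff, Equiv.swap_apply_def]
      by_cases h1 : t = x
      · have : c = a := unmask_inj (tl_lt c hc) (tl_lt a ha) (by rw [← ec, ← ea, h1])
        rw [if_pos this, if_pos h1, eb]
      · have h1' : c ≠ a := by
          rintro rfl
          exact h1 (Subtype.ext (MulAction.injective u (ec.trans ea.symm)))
        rw [if_neg h1', if_neg h1]
        by_cases h2 : t = y
        · have : c = b := unmask_inj (tl_lt c hc) (tl_lt b hb) (by rw [← ec, ← eb, h2])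
          rw [if_pos this, if_pos h2, ea]
        · have h2' : c ≠ b := by
            rintro rfl
            exact h2 (Subtype.ext (MulAction.injective u (ec.trans eb.symm)))
          rw [if_neg h2', if_neg h2, ec]
    have hM : u⁻¹ * wperm (sw a b) * u ∈ M24 :=
      M24.mul_mem (M24.mul_mem (M24.inv_mem hu) (wperm_mem _)) hu
    have hst : (u⁻¹ * wperm (sw a b) * u) • S = S := by
      apply Finset.eq_of_subset_of_card_le
      · intro t ht
        obtain ⟨t', ht', rfl⟩ := Finset.mem_smul_finset.1 ht
        rw [hact ⟨t', ht'⟩]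
        exact (Equiv.swap x y ⟨t', ht'⟩).2
      · rw [Finset.card_smul_finset]
    refine ⟨⟨⟨_, hM⟩, hst⟩ * gf, fun t => ?_⟩
    show ((u⁻¹ * wperm (sw a b) * u) * gf.1.1) • t.1 = _
    rw [mul_smul, hgf t, hact (f t)]
    rfl

theorem rho_surj {S : Finset (Finset GolayPt)} (hS : S ∈ sextets) :
    Function.Surjective (rho S) := by
  intro e
  obtain ⟨g, hg⟩ := partA hS e
  exact ⟨g, Equiv.ext fun t => Subtype.ext (hg t)⟩

theorem card_ker {S : Finset (Finset GolayPt)} (hS : S ∈ sextets) :
    Nat.card (rho S).ker = 192 := by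
  have h1 := Subgroup.card_eq_card_quotient_mul_card_subgroup (rho S).ker
  have h2 : Nat.card (↥(MulAction.stabilizer M24 S) ⧸ (rho S).ker) = 720 := by
    rw [Nat.card_congr (QuotientGroup.quotientKerEquivOfSurjective _ (rho_surj hS)).toEquiv,
      Nat.card_eq_fintype_card, Fintype.card_perm, Fintype.card_coe, hS.1]
    rfl
  rw [card_stab_sextet hS, h2] at h1
  omega

theorem mem_ker_iff {S : Finset (Finset GolayPt)} (g : ↥(MulAction.stabilizer M24 S)) :
    g ∈ (rho S).ker ↔ ∀ t ∈ S, g.1.1 • t = t := by
  rw [MonoidHom.mem_ker]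
  constructor
  · intro h t ht
    exact congrArg (fun σ : Equiv.Perm ↥S => ((σ ⟨t, ht⟩ : ↥S) : Finset GolayPt)) h
  · intro h
    exact Equiv.ext fun t => Subtype.ext (h t.1 t.2)

/-- the elements fixing every tetrad of the standard sextet. -/
def K0 : Subgroup (Equiv.Perm GolayPt) where
  carrier := {g | g ∈ M24 ∧ ∀ t ∈ S0, g • t = t}
  mul_mem' := by
    rintro a b ⟨ha, ha'⟩ ⟨hb, hb'⟩
    exact ⟨M24.mul_mem ha hb, fun t ht => by rw [mul_smul, hb' t ht, ha' t ht]⟩
  one_mem' := ⟨M24.one_mem, fun t _ => one_smul _ _⟩
  inv_mem' := by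
    rintro a ⟨ha, ha'⟩
    exact ⟨M24.inv_mem ha, fun t ht => by rw [inv_smul_eq_iff, ha' t ht]⟩

theorem smul_eq_of_fix {g : Equiv.Perm GolayPt} {S : Finset (Finset GolayPt)}
    (h : ∀ t ∈ S, g • t = t) : g • S = S := by
  apply Finset.eq_of_subset_of_card_le
  · intro t ht
    obtain ⟨t', ht', rfl⟩ := Finset.mem_smul_finset.1 ht
    rw [h t' ht']; exact ht'
  · rw [Finset.card_smul_finset]

theorem card_K0 : Nat.card K0 = 192 := by
  rw [← card_ker S0_mem]
  apply Nat.card_congr
  exact
    { toFun := fun g => ⟨⟨⟨g.1, g.2.1⟩, smul_eq_of_fix g.2.2⟩, (mem_ker_iff _).2 g.2.2⟩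
      invFun := fun g => ⟨g.1.1.1, g.1.1.2, (mem_ker_iff _).1 g.2⟩
      left_inv := fun _ => rfl
      right_inv := fun _ => rfl }

def fixT (w : List ℕ) : Bool := tl.all fun a => pm (wact (winv w)) a == a

theorem fixT_sound {w : List ℕ} (h : fixT w = true) : wperm w ∈ K0 := by
  refine ⟨wperm_mem w, fun t ht => ?_⟩
  obtain ⟨a, ha, rfl⟩ := mem_S0.1 ht
  rw [smul_unmask _ (tl_lt a ha), beq_iff_eq.1 (List.all_eq_true.1 h a ha)]

theorem tabK : IsTab (SP wsK) tabsK :=
  isTab_of (gt := gtK) (par := parK) (by decide +kernel) (by decide +kernel)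
    (by decide +kernel) (by decide +kernel) (by decide +kernel)

theorem tabN : IsTab (SP wsN) tabsN :=
  isTab_of (gt := gtN) (par := parN) (by decide +kernel) (by decide +kernel)
    (by decide +kernel) (by decide +kernel) (by decide +kernel)

theorem SPK_eq : SP wsK = K0 := by
  have : Finite K0 := inferInstance
  apply Subgroup.eq_of_le_of_card_ge
  · apply SP_le
    intro w hw
    have h : wsK.all fixT = true := by decide +kernel
    exact fixT_sound (List.all_eq_true.1 h w hw)
  · rw [card_K0, tabK.card]; decide +kernel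

theorem SPN_le : SP wsN ≤ K0 := by
  apply SP_le
  intro w hw
  have h : wsN.all fixT = true := by decide +kernel
  exact fixT_sound (List.all_eq_true.1 h w hw)

def sqT (T : ℕ) : Bool := (List.range 24).all fun i => look T (look T i) == i

theorem sq_iff {g : Equiv.Perm GolayPt} {T : ℕ} (h : HasTab g T) : sqT T = true ↔ g * g = 1 := by
  unfold sqT
  simp only [List.all_eq_true, List.mem_range, beq_iff_eq]
  constructor
  · intro e
    apply Equiv.ext
    intro p
    apply idx_injective
    rw [h.mul_fun h, e _ (idx_lt p)]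
    rfl
  · intro e i hi
    have := h.mul_fun h (pt i)
    rw [e, idx_pt hi] at this
    rw [← this]
    exact idx_pt hi

theorem N_iff {g : Equiv.Perm GolayPt} : g ∈ SP wsN ↔ g ∈ K0 ∧ g * g = 1 := by
  constructor
  · intro hg
    refine ⟨SPN_le hg, ?_⟩
    obtain ⟨T, hT, e⟩ := tabN.A g hg
    have h : tabsN.all sqT = true := by decide +kernel
    exact (sq_iff e).1 (List.all_eq_true.1 h T hT)
  · rintro ⟨hg, h2⟩
    rw [← SPK_eq] at hg
    obtain ⟨T, hT, e⟩ := tabK.A g hg
    have h : tabsK.all (fun T => !sqT T || tabsN.contains T) = true := by decide +kernel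
    have h1 := List.all_eq_true.1 h T hT
    rw [(sq_iff e).2 h2] at h1
    simp only [Bool.not_true, Bool.false_or, List.contains_eq_mem, decide_eq_true_eq] at h1
    obtain ⟨g', hg', e'⟩ := tabN.B T h1
    rw [e.inj e']; exact hg'

theorem card_N : Nat.card (SP wsN) = 64 := by
  rw [tabN.card]; decide +kernel

theorem partC {S : Finset (Finset GolayPt)} (hS : S ∈ sextets) :
    ∃ N : Subgroup ↥(MulAction.stabilizer M24 S), N.Normal ∧ Nat.card N = 64 ∧
      ∀ x ∈ N, x * x = 1 := by
  obtain ⟨u, hu, huS⟩ := sextet_to_S0 hS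
  let f : ↥(MulAction.stabilizer M24 S) →* Equiv.Perm GolayPt :=
    ((MulAut.conj u).toMonoidHom.comp M24.subtype).comp (MulAction.stabilizer M24 S).subtype
  have hfa : ∀ a, f a = u * a.1.1 * u⁻¹ := fun a => rfl
  have hf : Function.Injective f := by
    intro a b hab
    rw [hfa, hfa] at hab
    exact Subtype.ext (Subtype.ext (mul_left_cancel (mul_right_cancel hab)))
  have hfS : ∀ a, f a ∈ M24 ∧ f a • S0 = S0 := by
    intro a
    rw [hfa]
    exact ⟨(conj_mem_M24_iff hu).2 a.1.2, (conj_smul_iff huS).2 a.2⟩
  refine ⟨(SP wsN).comap f, ?_, ?_, ?_⟩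
  · constructor
    intro n hn a
    have hn' : f n ∈ SP wsN := hn
    obtain ⟨⟨h1, h2⟩, h3⟩ := N_iff.1 hn'
    show f (a * n * a⁻¹) ∈ SP wsN
    rw [map_mul, map_mul, map_inv, N_iff]
    refine ⟨⟨M24.mul_mem (M24.mul_mem (hfS a).1 h1) (M24.inv_mem (hfS a).1), ?_⟩, ?_⟩
    · intro t ht
      have ht' : (f a)⁻¹ • t ∈ S0 := by
        rw [← Finset.smul_mem_smul_finset_iff (f a), smul_inv_smul, (hfS a).2]; exact ht
      rw [mul_smul, mul_smul, h2 _ ht', smul_inv_smul]
    · have : f a * f n * (f a)⁻¹ * (f a * f n * (f a)⁻¹) = f a * (f n * f n) * (f a)⁻¹ := by group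
      rw [this, h3, mul_one, mul_inv_cancel]
  · rw [← card_N]
    apply Nat.card_congr
    refine (Equiv.ofBijective (fun x : (SP wsN).comap f => (⟨f x.1, x.2⟩ : SP wsN)) ⟨?_, ?_⟩)
    · intro a b hab
      exact Subtype.ext (hf (congrArg Subtype.val hab))
    · rintro ⟨m, hm⟩
      obtain ⟨⟨h1, h2⟩, -⟩ := N_iff.1 hm
      have hM : u⁻¹ * m * u ∈ M24 := M24.mul_mem (M24.mul_mem (M24.inv_mem hu) h1) hu
      have hst : (u⁻¹ * m * u) • S = S := by
        rw [mul_smul, mul_smul, huS, smul_eq_of_fix h2, ← huS, inv_smul_smul]
      have e : f ⟨⟨_, hM⟩, hst⟩ = m := by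
        rw [hfa]
        show u * (u⁻¹ * m * u) * u⁻¹ = m
        group
      exact ⟨⟨⟨⟨_, hM⟩, hst⟩, by show f _ ∈ SP wsN; rw [e]; exact hm⟩, Subtype.ext e⟩
  · intro x hx
    have hx' : f x ∈ SP wsN := hx
    apply hf
    rw [map_mul, map_one]
    exact (N_iff.1 hx').2


/-- Structure of a sextet stabiliser: it induces every permutation of the six tetrads, the subgroup fixing each tetrad setwise has order 192, and there is a normal subgroup of order 64 consisting of elements squaring to the identity. -/
theorem result (S : Finset (Finset Cfsg.GolayPt)) (hS : S ∈ Cfsg.sextets) : (∀ e : Equiv.Perm ↥S, ∃ g ∈ MulAction.stabilizer Cfsg.M24 S, ∀ t : ↥S, (g : Equiv.Perm Cfsg.GolayPt) • (t : Finset Cfsg.GolayPt) = ((e t : ↥S) : Finset Cfsg.GolayPt)) ∧ Nat.card {g : ↥(MulAction.stabilizer Cfsg.M24 S) // ∀ t ∈ S, ((g : Cfsg.M24) : Equiv.Perm Cfsg.GolayPt) • t = t} = 192 ∧ ∃ N : Subgroup ↥(MulAction.stabilizer Cfsg.M24 S), N.Normal ∧ Nat.card N = 64 ∧ ∀ x ∈ N, x * x = 1 := by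
  refine ⟨?_, ?_, partC hS⟩
  · intro e
    obtain ⟨g, hg⟩ := partA hS e
    exact ⟨g.1, g.2, hg⟩
  · rw [← card_ker hS]
    apply Nat.card_congr
    exact
      { toFun := fun g => ⟨g.1, (mem_ker_iff _).2 g.2⟩
        invFun := fun g => ⟨g.1, (mem_ker_iff _).1 g.2⟩
        left_inv := fun _ => rfl
        right_inv := fun _ => rfl }

end Cfsg.Agent.S1551
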