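import Cfsg.Statements.S1602
import Cfsg.Agent.Lib.Helper28.M12Fix
import Cfsg.Agent.Lib.Helper3.M12Config
import Cfsg.Agent.Lib.Helper3.M24Octad

set_option autoImplicit false
open scoped Pointwise
open Cfsg

namespace Cfsg.Agent.S1602

open Cfsg.Agent.Lib.Helper28 Cfsg.Agent.Lib.Helper3
open scoped Pointwise

set_option maxRecDepth 100000

def wit : List (List ℕ) := [[0, 0, 0, 0, 0, 0, 0, 0, 0, 0, 0, 0, 0, 0, 0, 0, 0, 0, 0, 0, 0, 0, 0, 0],
  [0, 0, 0, 0, 0, 0, 0, 0, 0, 0, 0, 0, 0, 0, 0, 0, 0, 0, 0, 0, 0, 0, 0, 0],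
  [0, 0, 0, 0, 0, 0, 0, 0, 0, 0, 0, 0, 0, 0, 0, 0, 0, 0, 0, 0, 0, 0, 0, 0],
  [0, 0, 0, 0, 0, 0, 0, 0, 0, 0, 0, 0, 0, 0, 0, 0, 0, 0, 0, 0, 0, 0, 0, 0],
  [0, 0, 0, 0, 0, 0, 0, 0, 0, 0, 0, 0, 0, 0, 0, 0, 0, 0, 0, 0, 0, 0, 0, 0],
  [0, 0, 0, 0, 0, 0, 0, 262637, 0, 0, 75309, 334433, 0, 0, 352547, 45159, 0, 201013, 0, 786999, 1053483, 2162811, 4203377, 8663097],
  [0, 0, 0, 0, 0, 0, 0, 0, 0, 0, 0, 0, 0, 0, 0, 0, 0, 0, 0, 0, 0, 0, 0, 0],
  [0, 0, 0, 0, 0, 262637, 0, 0, 0, 0, 5279, 272595, 0, 0, 283537, 99029, 0, 140167, 0, 864389, 1122713, 2110153, 4264387, 8716939],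
  [0, 0, 0, 0, 0, 0, 0, 0, 0, 0, 0, 0, 0, 0, 0, 0, 0, 0, 0, 0, 0, 0, 0, 0],
  [0, 0, 0, 0, 0, 0, 0, 0, 0, 0, 0, 0, 0, 0, 0, 0, 0, 0, 0, 0, 0, 0, 0, 0],
  [0, 0, 0, 0, 0, 75309, 0, 5279, 0, 0, 0, 69395, 0, 0, 95313, 304405, 0, 459847, 0, 530245, 1312345, 2430217, 4470275, 8398155],
  [0, 0, 0, 0, 0, 334433, 0, 272595, 0, 0, 69395, 0, 0, 0, 346141, 39257, 0, 210955, 0, 797449, 1063445, 2173253, 4196943, 8657159],
  [0, 0, 0, 0, 0, 0, 0, 0, 0, 0, 0, 0, 0, 0, 0, 0, 0, 0, 0, 0, 0, 0, 0, 0],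
  [0, 0, 0, 0, 0, 0, 0, 0, 0, 0, 0, 0, 0, 0, 0, 0, 0, 0, 0, 0, 0, 0, 0, 0],
  [0, 0, 0, 0, 0, 352547, 0, 283537, 0, 0, 95313, 346141, 0, 0, 0, 57883, 0, 213833, 0, 806987, 1065303, 2183687, 4223245, 8675909],
  [0, 0, 0, 0, 0, 45159, 0, 99029, 0, 0, 304405, 39257, 0, 0, 57883, 0, 0, 430605, 0, 622863, 1413139, 2392899, 4563017, 8499969],
  [0, 0, 0, 0, 0, 0, 0, 0, 0, 0, 0, 0, 0, 0, 0, 0, 0, 0, 0, 0, 0, 0, 0, 0],
  [0, 0, 0, 0, 0, 201013, 0, 140167, 0, 0, 459847, 210955, 0, 0, 213833, 430605, 0, 0, 0, 663645, 1454401, 2564625, 4587803, 8524371],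
  [0, 0, 0, 0, 0, 0, 0, 0, 0, 0, 0, 0, 0, 0, 0, 0, 0, 0, 0, 0, 0, 0, 0, 0],
  [0, 0, 0, 0, 0, 786999, 0, 864389, 0, 0, 530245, 797449, 0, 0, 806987, 622863, 0, 663645, 0, 0, 1647171, 2634003, 4788761, 9240913],
  [0, 0, 0, 0, 0, 1053483, 0, 1122713, 0, 0, 1312345, 1063445, 0, 0, 1065303, 1413139, 0, 1454401, 0, 1647171, 0, 3416079, 5571333, 9506893],
  [0, 0, 0, 0, 0, 2162811, 0, 2110153, 0, 0, 2430217, 2173253, 0, 0, 2183687, 2392899, 0, 2564625, 0, 2634003, 3416079, 0, 6557781, 10486557],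
  [0, 0, 0, 0, 0, 4203377, 0, 4264387, 0, 0, 4470275, 4196943, 0, 0, 4223245, 4563017, 0, 4587803, 0, 4788761, 5571333, 6557781, 0, 12656663],
  [0, 0, 0, 0, 0, 8663097, 0, 8716939, 0, 0, 8398155, 8657159, 0, 0, 8675909, 8499969, 0, 8524371, 0, 9240913, 9506893, 10486557, 12656663, 0]]

def wt (i j : ℕ) : ℕ := (wit.getD i []).getD j 0

def chkW : Bool := (List.range 24).all fun i => (List.range 24).all fun j =>
  (0x5335f : ℕ).testBit i || (0x5335f : ℕ).testBit j || i == j ||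
    (isOct (wt i j) && (wt i j).testBit 0 && (wt i j).testBit i && (wt i j).testBit j &&
      pc (wt i j &&& 0x5335f) == 6)

theorem chkW_true : chkW = true := by decide +kernel

theorem exists_oct {d : Finset GolayPt} (hd : d ∈ dodecads) {p q q' : GolayPt} (hp : p ∈ d)
    (hq : q ∉ d) (hq' : q' ∉ d) (hqq' : q ≠ q') :
    ∃ O ∈ octads, p ∈ O ∧ q ∈ O ∧ q' ∈ O ∧ (O ∩ d).card = 6 := by
  obtain ⟨u, hu, hud, hl⟩ := dodecad_to_D0_list hd [p] (by simp) (by simp [hp]) (by simp)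
  have hup : u p = pt 0 := hl 0 (by simp)
  have out : ∀ z, z ∉ d → (0x5335f : ℕ).testBit (idx (u z)) = false := by
    intro z hz
    have h1 : u z ∉ D0 := by
      intro hc
      rw [← hud] at hc
      exact hz ((Finset.smul_mem_smul_finset_iff u).1 hc)
    rw [D0, mem_unmask] at h1
    simpa using h1
  have h := chkW_true
  unfold chkW at h
  simp only [List.all_eq_true, List.mem_range] at h
  have h1 := h _ (idx_lt (u q)) _ (idx_lt (u q'))
  rw [out q hq, out q' hq'] at h1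
  have hne : idx (u q) ≠ idx (u q') := fun e => hqq' (u.injective (idx_injective e))
  simp only [Bool.false_or, Bool.or_eq_true, beq_iff_eq, hne, false_or, Bool.and_eq_true] at h1
  obtain ⟨⟨⟨⟨ho, h0⟩, hi⟩, hj⟩, h6⟩ := h1
  obtain ⟨hoct, hlt⟩ := unmask_mem_octads ho
  set m := wt (idx (u q)) (idx (u q')) with hm
  have hmem : ∀ z, z ∈ u⁻¹ • unmask m ↔ m.testBit (idx (u z)) = true := by
    intro z
    rw [← Finset.inv_smul_mem_iff, inv_inv, mem_unmask]
    rfl
  refine ⟨u⁻¹ • unmask m, smul_mem_octads (inv_mem hu) hoct, ?_, ?_, ?_, ?_⟩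
  · rw [hmem, hup, idx_pt (by norm_num)]; exact h0
  · rw [hmem]; exact hi
  · rw [hmem]; exact hj
  · have e : u⁻¹ • unmask m ∩ d = u⁻¹ • (unmask m ∩ D0) := by
      rw [Finset.smul_finset_inter, ← hud, inv_smul_smul]
    rw [e, Finset.card_smul_finset, card_eq_pc, mask_inter, mask_unmask hlt, D0,
      mask_unmask (by norm_num)]
    exact h6

theorem oct_fixed {d : Finset GolayPt} (hd : d ∈ dodecads) {p q q' : GolayPt} (hp : p ∈ d)
    (hq : q ∉ d) (hq' : q' ∉ d) (hqq' : q ≠ q') {O O' : Finset GolayPt} (hO : O ∈ octads)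
    (hO' : O' ∈ octads) (h1 : p ∈ O ∧ q ∈ O ∧ q' ∈ O ∧ (O ∩ d).card = 6)
    (h2 : p ∈ O' ∧ q ∈ O' ∧ q' ∈ O' ∧ (O' ∩ d).card = 6) : O' = O := by
  by_contra hne
  have outside : ∀ X : Finset GolayPt, X ∈ octads → q ∈ X → q' ∈ X → (X ∩ d).card = 6 →
      ∀ x ∈ X, x ∉ d → x = q ∨ x = q' := by
    intro X hX hqX hq'X h6 x hx hxd
    have hc : (X \ d).card = 2 := by
      have := Finset.card_sdiff_add_card_inter X d
      rw [h6, hX.2] at this
      omega
    have hsub : ({q, q'} : Finset GolayPt) ⊆ X \ d := by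
      intro y hy
      rw [Finset.mem_insert, Finset.mem_singleton] at hy
      rcases hy with rfl | rfl
      · exact Finset.mem_sdiff.2 ⟨hqX, hq⟩
      · exact Finset.mem_sdiff.2 ⟨hq'X, hq'⟩
    have heq : ({q, q'} : Finset GolayPt) = X \ d :=
      Finset.eq_of_subset_of_card_le hsub (by rw [hc, Finset.card_pair hqq'])
    have : x ∈ ({q, q'} : Finset GolayPt) := by
      rw [heq]; exact Finset.mem_sdiff.2 ⟨hx, hxd⟩
    simpa using this
  have hS : symmDiff O' O ∈ CS := supports_symmDiff hO'.1 hO.1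
  have hsub : symmDiff O' O ⊆ d.erase p := by
    intro x hx
    rw [Finset.mem_symmDiff] at hx
    rw [Finset.mem_erase]
    constructor
    · rintro rfl
      rcases hx with ⟨_, h⟩ | ⟨_, h⟩
      · exact h h1.1
      · exact h h2.1
    · by_contra hxd
      rcases hx with ⟨hx1, hx2⟩ | ⟨hx1, hx2⟩
      · rcases outside O' hO' h2.2.1 h2.2.2.1 h2.2.2.2 x hx1 hxd with rfl | rfl
        · exact hx2 h1.2.1
        · exact hx2 h1.2.2.1
      · rcases outside O hO h1.2.1 h1.2.2.1 h1.2.2.2 x hx1 hxd with rfl | rfl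
        · exact hx2 h2.2.1
        · exact hx2 h2.2.2.1
  have hcard : (symmDiff O' O).card ≤ 11 := by
    have := Finset.card_le_card hsub
    rw [Finset.card_erase_of_mem hp, hd.2] at this
    exact this
  have hpos : (symmDiff O' O).card ≠ 0 := by
    rw [Finset.card_ne_zero, Finset.nonempty_iff_ne_empty]
    intro h
    exact hne (symmDiff_eq_bot.1 h)
  have h8 : (symmDiff O' O).card = 8 := by
    rcases code_weights _ hS with c | c | c | c | c <;> omega
  have hoct : symmDiff O' O ∈ octads := ⟨hS, h8⟩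
  have hin : symmDiff O' O ∩ d = symmDiff O' O :=
    Finset.inter_eq_left.2 (hsub.trans (Finset.erase_subset _ _))
  have := octad_inter_dodecad hoct hd
  rw [hin, h8] at this
  omega


/-- In the 12-point action of the smallest Mathieu group the setwise stabiliser of a pair is isomorphic to the symmetric group of degree 5. -/
theorem result (d : Finset Cfsg.GolayPt) (hd : d ∈ Cfsg.dodecads) (p q q' : Cfsg.GolayPt) (hp : p ∈ d) (hq : q ∉ d) (hq' : q' ∉ d) (hqq' : q ≠ q') : Nonempty (↥(MulAction.stabilizer Cfsg.M24 d ⊓ MulAction.stabilizer Cfsg.M24 p ⊓ MulAction.stabilizer Cfsg.M24 ({q, q'} : Finset Cfsg.GolayPt)) ≃* Equiv.Perm (Fin 5)) := by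
  classical
  obtain ⟨O, hO, hpO, hqO, hq'O, h6⟩ := exists_oct hd hp hq hq' hqq'
  set F := (O ∩ d).erase p with hF
  have hpOd : p ∈ O ∩ d := Finset.mem_inter.2 ⟨hpO, hp⟩
  have hF5 : F.card = 5 := by rw [hF, Finset.card_erase_of_mem hpOd, h6]
  have hFOd : F ⊆ O ∩ d := Finset.erase_subset _ _
  have hFd : F ⊆ d := hFOd.trans Finset.inter_subset_right
  have hFO : F ⊆ O := hFOd.trans Finset.inter_subset_left
  have hpair : ∀ g : Equiv.Perm Cfsg.GolayPt, g • ({q, q'} : Finset Cfsg.GolayPt) = {q, q'} →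
      ∀ X : Finset Cfsg.GolayPt, q ∈ X → q' ∈ X → q ∈ g • X ∧ q' ∈ g • X := by
    intro g hg X hqX hq'X
    have hsub : ({q, q'} : Finset Cfsg.GolayPt) ⊆ g • X := by
      rw [← hg]
      apply Finset.smul_finset_subset_smul_finset
      intro y hy
      rw [Finset.mem_insert, Finset.mem_singleton] at hy
      rcases hy with rfl | rfl
      · exact hqX
      · exact hq'X
    exact ⟨hsub (by simp), hsub (by simp)⟩
  have hstab : ∀ g : Equiv.Perm Cfsg.GolayPt, g ∈ Cfsg.M24 → g • d = d → g p = p →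
      g • ({q, q'} : Finset Cfsg.GolayPt) = {q, q'} → g • F = F := by
    intro g hg hgd hgp hgq
    have hgO : g • O = O := by
      apply oct_fixed hd hp hq hq' hqq' hO (Cfsg.Agent.Lib.Helper3.smul_mem_octads hg hO)
        ⟨hpO, hqO, hq'O, h6⟩
      obtain ⟨a, b⟩ := hpair g hgq O hqO hq'O
      refine ⟨?_, a, b, ?_⟩
      · rw [← hgp]; exact (Finset.smul_mem_smul_finset_iff g).2 hpO
      · have : g • O ∩ d = g • (O ∩ d) := by rw [Finset.smul_finset_inter, hgd]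
        rw [this, Finset.card_smul_finset, h6]
    have hgOd : g • (O ∩ d) = O ∩ d := by rw [Finset.smul_finset_inter, hgO, hgd]
    ext x
    rw [← Finset.inv_smul_mem_iff, hF, Finset.mem_erase, Finset.mem_erase,
      Finset.inv_smul_mem_iff, hgOd]
    apply and_congr_left
    intro _
    apply not_congr
    rw [inv_smul_eq_iff]
    constructor
    · intro h; rw [h]; exact hgp
    · intro h; rw [h]; exact hgp.symm
  have hle : (MulAction.stabilizer Cfsg.M24 d ⊓ MulAction.stabilizer Cfsg.M24 p ⊓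
      MulAction.stabilizer Cfsg.M24 ({q, q'} : Finset Cfsg.GolayPt)) ≤
      MulAction.stabilizer Cfsg.M24 F := by
    rintro g ⟨⟨h1, h2⟩, h3⟩
    exact hstab g.1 g.2 h1 h2 h3
  set φ := (resHom F).comp (Subgroup.inclusion hle) with hφ
  have hinj : Function.Injective φ := by
    rw [injective_iff_map_eq_one]
    intro g hg1
    apply Subtype.ext
    apply Subtype.ext
    apply eq_one_of_fix5 hd g.1.2 g.2.1.1 (s := F) (by rw [hF5]) hFd
    intro x hx
    have := congrArg (fun σ : Equiv.Perm ↥F => ((σ ⟨x, hx⟩ : ↥F) : Cfsg.GolayPt)) hg1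
    exact this
  have hsurj : Function.Surjective φ := by
    intro σ
    let f : Cfsg.GolayPt → Cfsg.GolayPt := fun a => if h : a ∈ F then (σ ⟨a, h⟩ : Cfsg.GolayPt) else a
    have hfF : ∀ a (h : a ∈ F), f a = σ ⟨a, h⟩ := fun a h => by simp [f, h]
    obtain ⟨g, hg, hgd, hga⟩ := exists_M12_agree hd hF5 hFd f (by
      intro a ha b hb hab
      rw [hfF a ha, hfF b hb] at hab
      have := σ.injective (Subtype.ext hab)
      exact congrArg Subtype.val this) (by
      intro a ha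
      rw [hfF a ha]
      exact hFd (σ ⟨a, ha⟩).2)
    have hgFsub : g • F ⊆ F := by
      intro y hy
      obtain ⟨a, ha, rfl⟩ := Finset.mem_smul_finset.1 hy
      show g a ∈ F
      rw [hga a ha, hfF a ha]
      exact (σ ⟨a, ha⟩).2
    have hgF : g • F = F :=
      Finset.eq_of_subset_of_card_le hgFsub (by rw [Finset.card_smul_finset])
    have hgO : g • O = O := by
      apply Cfsg.Agent.Lib.Helper3.octad_unique (s := F)
        (Cfsg.Agent.Lib.Helper3.smul_mem_octads hg hO) hO (by rw [hF5])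
      · rw [← hgF]; exact Finset.smul_finset_subset_smul_finset hFO
      · exact hFO
    have hgOd : g • (O ∩ d) = O ∩ d := by rw [Finset.smul_finset_inter, hgO, hgd]
    have hgp : g p = p := by
      have h1 : g p ∈ O ∩ d := by
        rw [← hgOd]; exact (Finset.smul_mem_smul_finset_iff g).2 hpOd
      by_contra hne
      have h2 : g p ∈ F := Finset.mem_erase.2 ⟨hne, h1⟩
      rw [← hgF] at h2
      have h3 : p ∈ F := (Finset.smul_mem_smul_finset_iff g).1 h2
      exact (Finset.mem_erase.1 h3).1 rfl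
    have hOsd : O \ d = {q, q'} := by
      symm
      apply Finset.eq_of_subset_of_card_le
      · intro y hy
        rw [Finset.mem_insert, Finset.mem_singleton] at hy
        rcases hy with rfl | rfl
        · exact Finset.mem_sdiff.2 ⟨hqO, hq⟩
        · exact Finset.mem_sdiff.2 ⟨hq'O, hq'⟩
      · have := Finset.card_sdiff_add_card_inter O d
        rw [h6, hO.2] at this
        rw [Finset.card_pair hqq']
        omega
    have hgq : g • ({q, q'} : Finset Cfsg.GolayPt) = {q, q'} := by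
      rw [← hOsd, Finset.smul_finset_sdiff, hgO, hgd]
    refine ⟨⟨⟨g, hg⟩, ⟨⟨hgd, hgp⟩, hgq⟩⟩, ?_⟩
    apply Equiv.ext
    intro x
    apply Subtype.ext
    show g x = σ x
    rw [hga _ x.2, hfF _ x.2]
  exact ⟨(MulEquiv.ofBijective φ ⟨hinj, hsurj⟩).trans (F.equivFinOfCardEq hF5).permCongrHom⟩

end Cfsg.Agent.S1602
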