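import Cfsg.Statements.S1628
import Mathlib
import Cfsg.Agent.Lib.Helper11.RuChk1
import Cfsg.Agent.Lib.Helper11.RuChk2
import Cfsg.Agent.Lib.Helper11.RuChk3
import Cfsg.Agent.Lib.Helper11.RuChk4
import Cfsg.Agent.Lib.Helper11.RuChk5
import Cfsg.Agent.Lib.Helper11.RuChk6
-- import your own Cfsg.Agent.* helpers here

set_option autoImplicit false
open Cfsg

namespace Cfsg.Agent.S1628

open Cfsg.Agent.Lib.Helper11.Ru Cfsg.Spor
set_option maxRecDepth 100000

theorem par_eq (a : ℤ) : par a = (a : ZMod 2) := by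
  unfold par
  rw [← ZMod.intCast_mod a 2]
  rcases Int.emod_two_eq_zero_or_one a with h | h <;> simp [h]

theorem phi_eq (z : GI) : phi z = (z.re : ZMod 2) + (z.im : ZMod 2) := by
  unfold phi; rw [par_eq]; push_cast; rfl

theorem two_zero : (2 : ZMod 2) = 0 := by decide

def phiH : GI →+* ZMod 2 where
  toFun := phi
  map_one' := by decide
  map_zero' := by decide
  map_add' z w := by
    simp only [phi_eq, Zsqrtd.re_add, Zsqrtd.im_add]; push_cast; ring
  map_mul' z w := by
    simp only [phi_eq, Zsqrtd.re_mul, Zsqrtd.im_mul]; push_cast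
    linear_combination (-(z.im : ZMod 2) * (w.im : ZMod 2)) * two_zero

def tauH : GI →+ ZMod 2 where
  toFun := tau
  map_zero' := by decide
  map_add' z w := by
    simp only [tau, par_eq, Zsqrtd.re_add]; push_cast; ring

def reH : GI →+ ℤ where
  toFun := Zsqrtd.re
  map_zero' := rfl
  map_add' _ _ := rfl

theorem phi_star (z : GI) : phi (star z) = phi z := by
  simp only [phi_eq, Zsqrtd.re_star, Zsqrtd.im_star]; push_cast
  linear_combination (-(z.im : ZMod 2)) * two_zero

theorem phi_pi : phi pi = 0 := by decide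

theorem pi_ne : pi ≠ 0 := by decide

theorem exists_of_phi {z : GI} (h : phi z = 0) : ∃ w, z = pi * w := by
  have h2 : (z.re + z.im) % 2 = 0 := by
    unfold phi par at h
    by_contra hne
    rw [if_neg hne] at h
    exact absurd h (by decide)
  obtain ⟨k, hk⟩ : ∃ k, z.re + z.im = 2 * k := ⟨(z.re + z.im) / 2, by omega⟩
  refine ⟨⟨k, k - z.re⟩, ?_⟩
  apply Zsqrtd.ext
  · simp only [pi, Zsqrtd.re_mul]; omega
  · simp only [pi, Zsqrtd.im_mul]; omega

theorem phi_of_dvd {z : GI} (h : pi ∣ z) : phi z = 0 := by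
  obtain ⟨w, rfl⟩ := h
  have := phiH.map_mul pi w
  have e : phi (pi * w) = phi pi * phi w := this
  rw [e, phi_pi, zero_mul]

theorem pi_sq : pi ^ 2 = ⟨0, 2⟩ := by decide
theorem pi_four : pi ^ 4 = ⟨-4, 0⟩ := by decide

theorem tau_of_dvd {z : GI} (h : pi ^ 2 ∣ z) : tau z = 0 := by
  obtain ⟨w, rfl⟩ := h
  rw [pi_sq]
  unfold tau par
  rw [if_pos]
  simp only [Zsqrtd.re_mul]; omega

theorem re_of_dvd {z : GI} (h : pi ^ 4 ∣ z) : (4 : ℤ) ∣ z.re := by
  obtain ⟨w, rfl⟩ := h
  rw [pi_four]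
  simp only [Zsqrtd.re_mul]
  exact ⟨-w.re, by ring⟩

theorem tau_mul_star (z w : GI) (h : phi w = 0) : tau (z * star w) = phi z * tau w := by
  rw [phi_eq] at h
  simp only [tau, par_eq, phi_eq, Zsqrtd.re_mul, Zsqrtd.re_star, Zsqrtd.im_star]
  push_cast
  linear_combination (z.im : ZMod 2) * h - (z.im : ZMod 2) * (w.re : ZMod 2) * two_zero

theorem norm_eq (z : GI) : z.norm = z.re * z.re + z.im * z.im := by
  rw [Zsqrtd.norm_def]; ring

theorem norm_nonneg' (z : GI) : 0 ≤ z.norm := by
  rw [norm_eq]; nlinarith [mul_self_nonneg z.re, mul_self_nonneg z.im]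

theorem eq_zero_of_norm {z : GI} (h : z.norm = 0) : z = 0 := by
  rw [norm_eq] at h
  have h1 : z.re * z.re = 0 := by nlinarith [mul_self_nonneg z.re, mul_self_nonneg z.im]
  have h2 : z.im * z.im = 0 := by nlinarith [mul_self_nonneg z.re, mul_self_nonneg z.im]
  exact Zsqrtd.ext (mul_self_eq_zero.1 h1) (mul_self_eq_zero.1 h2)

theorem one_le_norm {z : GI} (h : phi z ≠ 0) : 1 ≤ z.norm := by
  have h0 := norm_nonneg' z
  by_contra hlt
  have : z.norm = 0 := by omega
  rw [eq_zero_of_norm this] at h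
  exact h (by decide)

theorem norm_pi_mul (w : GI) : (pi * w).norm = 2 * w.norm := by
  rw [Zsqrtd.norm_mul]; rfl

/-! ### vectors -/

theorem ruNorm_pi (y : RuVec) : ruNorm (pi • y) = 2 * ruNorm y := by
  unfold ruNorm
  rw [Finset.mul_sum]
  exact Finset.sum_congr rfl (fun p _ => by rw [Pi.smul_apply, smul_eq_mul, norm_pi_mul])

theorem ruNorm_smul (c : GI) (y : RuVec) : ruNorm (c • y) = c.norm * ruNorm y := by
  unfold ruNorm
  rw [Finset.mul_sum]
  exact Finset.sum_congr rfl (fun p _ => by rw [Pi.smul_apply, smul_eq_mul, Zsqrtd.norm_mul])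

theorem ruNorm_nonneg (y : RuVec) : 0 ≤ ruNorm y := Finset.sum_nonneg (fun p _ => norm_nonneg' _)

theorem eq_zero_of_ruNorm {y : RuVec} (h : ruNorm y = 0) : y = 0 := by
  funext p
  exact eq_zero_of_norm ((Finset.sum_eq_zero_iff_of_nonneg (fun p _ => norm_nonneg' _)).1 h p
    (Finset.mem_univ p))

theorem herm_add_left (x y h : RuVec) : herm (x + y) h = herm x h + herm y h := by
  unfold herm
  rw [← Finset.sum_add_distrib]
  exact Finset.sum_congr rfl (fun p _ => by rw [Pi.add_apply, add_mul])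

theorem herm_smul_left (c : GI) (x h : RuVec) : herm (c • x) h = c * herm x h := by
  unfold herm
  rw [Finset.mul_sum]
  exact Finset.sum_congr rfl (fun p _ => by rw [Pi.smul_apply, smul_eq_mul, mul_assoc])

theorem herm_add_right (x y h : RuVec) : herm h (x + y) = herm h x + herm h y := by
  unfold herm
  rw [← Finset.sum_add_distrib]
  exact Finset.sum_congr rfl (fun p _ => by rw [Pi.add_apply, star_add, mul_add])

theorem herm_smul_right (c : GI) (x h : RuVec) : herm h (c • x) = star c * herm h x := by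
  unfold herm
  rw [Finset.mul_sum]
  exact Finset.sum_congr rfl (fun p _ => by rw [Pi.smul_apply, smul_eq_mul, star_mul']; ring)

theorem herm_zero_left (h : RuVec) : herm 0 h = 0 := by
  unfold herm; simp

theorem herm_zero_right (h : RuVec) : herm h 0 = 0 := by
  unfold herm; simp

theorem norm_add (z w : GI) : (z + w).norm = z.norm + w.norm + 2 * (z * star w).re := by
  simp only [norm_eq, Zsqrtd.re_add, Zsqrtd.im_add, Zsqrtd.re_mul, Zsqrtd.re_star, Zsqrtd.im_star]
  ring

theorem ruNorm_add (x y : RuVec) : ruNorm (x + y) = ruNorm x + ruNorm y + 2 * (herm x y).re := by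
  have e : (herm x y).re = ∑ p, (x p * star (y p)).re :=
    map_sum reH (fun p => x p * star (y p)) Finset.univ
  rw [e]
  unfold ruNorm
  rw [Finset.mul_sum, ← Finset.sum_add_distrib, ← Finset.sum_add_distrib]
  exact Finset.sum_congr rfl (fun p _ => by rw [Pi.add_apply, norm_add])

theorem phi_herm (y h : RuVec) : phi (herm y h) = ∑ p, phi (y p) * phi (h p) := by
  have e : phi (herm y h) = ∑ p, phi (y p * star (h p)) :=
    map_sum phiH (fun p => y p * star (h p)) Finset.univ
  rw [e]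
  apply Finset.sum_congr rfl
  intro p _
  have e2 : phi (y p * star (h p)) = phi (y p) * phi (star (h p)) := phiH.map_mul _ _
  rw [e2, phi_star]

theorem wt_aux (y : RuVec) :
    ruNorm y - (wt (fun p => phi (y p)) : ℤ) = ∑ p, ((y p).norm - if phi (y p) ≠ 0 then 1 else 0) := by
  unfold ruNorm wt
  rw [Finset.sum_sub_distrib, Finset.card_filter]
  push_cast
  rfl

theorem wt_term (y : RuVec) (p : RuIdx) : 0 ≤ (y p).norm - if phi (y p) ≠ 0 then 1 else 0 := by
  split_ifs with h
  · have := one_le_norm h; omega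
  · have := norm_nonneg' (y p); omega

theorem wt_le (y : RuVec) : (wt (fun p => phi (y p)) : ℤ) ≤ ruNorm y := by
  have h := wt_aux y
  have h2 : 0 ≤ ∑ p, ((y p).norm - if phi (y p) ≠ 0 then 1 else 0) :=
    Finset.sum_nonneg (fun p _ => wt_term y p)
  omega

theorem zero_off {y : RuVec} (h : ruNorm y ≤ (wt (fun p => phi (y p)) : ℤ)) (p : RuIdx)
    (hp : phi (y p) = 0) : y p = 0 := by
  have h1 := wt_aux y
  have h2 : 0 ≤ ∑ p, ((y p).norm - if phi (y p) ≠ 0 then 1 else 0) :=
    Finset.sum_nonneg (fun p _ => wt_term y p)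
  have h3 : ∑ p, ((y p).norm - if phi (y p) ≠ 0 then 1 else 0) = 0 := by omega
  have h4 := (Finset.sum_eq_zero_iff_of_nonneg (fun p _ => wt_term y p)).1 h3 p (Finset.mem_univ p)
  rw [if_neg (not_not.2 hp), sub_zero] at h4
  exact eq_zero_of_norm h4

/-! ### the lattice -/

def L1 : Submodule GI RuVec := Submodule.span GI (Set.range b)

theorem b_mem (j : Fin 28) : b j ∈ L1 := Submodule.subset_span ⟨j, rfl⟩

theorem mem_of_coef {v : RuVec} (c : Fin 28 → GI) (h : ∀ p, v p = ∑ k, c k * b k p) : v ∈ L1 := by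
  have : v = ∑ k, c k • b k := by
    funext p
    rw [h p, Finset.sum_apply]
    rfl
  rw [this]
  exact Submodule.sum_mem _ (fun k _ => Submodule.smul_mem _ _ (b_mem k))

theorem map_mem (M : RuVec → RuVec) (hadd : ∀ x y, M (x + y) = M x + M y)
    (hsmul : ∀ (c : GI) x, M (c • x) = c • M x) (hb : ∀ j, M (b j) ∈ L1) :
    ∀ x ∈ L1, M x ∈ L1 := by
  intro x hx
  induction hx using Submodule.span_induction with
  | mem x hx => obtain ⟨j, rfl⟩ := hx; exact hb j
  | zero => have := hsmul 0 0; rw [zero_smul, zero_smul] at this; rw [this]; exact L1.zero_mem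
  | add x y _ _ h1 h2 => rw [hadd]; exact L1.add_mem h1 h2
  | smul c x _ h => rw [hsmul]; exact L1.smul_mem c h


theorem rj_add (x y : RuVec) : ruRj (x + y) = ruRj x + ruRj y := by
  funext ⟨n, t⟩
  fin_cases t <;> simp [ruRj, mul_add, add_comm]
theorem rj_smul (c : GI) (x : RuVec) : ruRj (c • x) = c • ruRj x := by
  funext ⟨n, t⟩
  fin_cases t <;> simp [ruRj, mul_left_comm]
theorem rk_add (x y : RuVec) : ruRk (x + y) = ruRk x + ruRk y := by
  funext ⟨n, t⟩
  fin_cases t <;> simp [ruRk, mul_add, add_comm]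
theorem rk_smul (c : GI) (x : RuVec) : ruRk (c • x) = c • ruRk x := by
  funext ⟨n, t⟩
  fin_cases t <;> simp [ruRk, mul_left_comm]
theorem sg_add (x y : RuVec) : ruSign (x + y) = ruSign x + ruSign y := by
  funext p
  simp only [ruSign, Pi.add_apply]
  split_ifs <;> ring
theorem sg_smul (c : GI) (x : RuVec) : ruSign (c • x) = c • ruSign x := by
  funext p
  simp only [ruSign, Pi.smul_apply, smul_eq_mul]
  split_ifs <;> ring
theorem sh_add (x y : RuVec) : ruShift (x + y) = ruShift x + ruShift y := rfl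
theorem sh_smul (c : GI) (x : RuVec) : ruShift (c • x) = c • ruShift x := rfl

theorem lat_le : ruLattice ≤ L1.toAddSubgroup := by
  apply sInf_le
  refine ⟨?_, ?_⟩
  · intro v hv
    obtain ⟨k, hk, rfl⟩ := List.getElem_of_mem hv
    have h1 := tab_ok ⟨k, hk⟩
    rw [List.getD_eq_getElem _ _ hk] at h1
    exact mem_of_coef (fun j => cofG cTL k j.val) h1
  · intro v hv
    have hv' : v ∈ L1 := hv
    exact ⟨L1.smul_mem _ hv',
      map_mem ruRj rj_add rj_smul (fun j => mem_of_coef _ (rj_ok j)) v hv',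
      map_mem ruRk rk_add rk_smul (fun j => mem_of_coef _ (rk_ok j)) v hv',
      map_mem ruSign sg_add sg_smul (fun j => mem_of_coef _ (sg_ok j)) v hv',
      map_mem ruShift sh_add sh_smul (fun j => mem_of_coef _ (sh_ok j)) v hv'⟩

/-! ### integrality -/

theorem dvd_herm {e : ℕ} {h : RuVec} (H : ∀ j, pi ^ e ∣ herm (b j) h) :
    ∀ x ∈ L1, pi ^ e ∣ herm x h := by
  intro x hx
  induction hx using Submodule.span_induction with
  | mem x hx => obtain ⟨j, rfl⟩ := hx; exact H j
  | zero => rw [herm_zero_left]; exact dvd_zero _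
  | add x y _ _ h1 h2 => rw [herm_add_left]; exact dvd_add h1 h2
  | smul c x _ h => rw [herm_smul_left]; exact Dvd.dvd.mul_left h c


theorem integral {x y : RuVec} (hx : x ∈ L1) (hy : y ∈ L1) : pi ^ 4 ∣ herm x y := by
  induction hy using Submodule.span_induction with
  | mem y hy =>
    obtain ⟨j, rfl⟩ := hy
    exact dvd_herm (fun i => Dvd.intro _ (gram_ok i j).symm) x hx
  | zero => rw [herm_zero_right]; exact dvd_zero _
  | add y z _ _ h1 h2 => rw [herm_add_right]; exact dvd_add h1 h2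
  | smul c y _ h => rw [herm_smul_right]; exact Dvd.dvd.mul_left h _

theorem even_norm {x : RuVec} (hx : x ∈ L1) : (8 : ℤ) ∣ ruNorm x := by
  induction hx using Submodule.span_induction with
  | mem x hx => obtain ⟨j, rfl⟩ := hx; exact Int.dvd_of_emod_eq_zero (bnorm_ok j)
  | zero => exact ⟨0, by simp [ruNorm]⟩
  | add x y hx hy h1 h2 =>
    rw [ruNorm_add]
    have h3 := re_of_dvd (integral hx hy)
    omega
  | smul c x _ h => rw [ruNorm_smul]; exact Dvd.dvd.mul_left h _

/-! ### the levels -/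

theorem level_dvd {e k : ℕ} {h y : RuVec} (H : ∀ j, pi ^ e ∣ herm (b j) h) (hy : pi ^ k • y ∈ L1)
    (m : ℕ) (hke : k + m ≤ e) : pi ^ m ∣ herm y h := by
  have h1 := dvd_herm H _ hy
  rw [herm_smul_left] at h1
  have h2 : pi ^ k * pi ^ m ∣ pi ^ k * herm y h := by
    rw [← pow_add]
    exact dvd_trans (pow_dvd_pow _ hke) h1
  exact (mul_dvd_mul_iff_left (pow_ne_zero k pi_ne)).1 h2

theorem level_phi {e k : ℕ} {h y : RuVec} (H : ∀ j, pi ^ e ∣ herm (b j) h) (hy : pi ^ k • y ∈ L1)
    (hke : k + 1 ≤ e) : ∑ p, phi (y p) * phi (h p) = 0 := by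
  rw [← phi_herm]
  apply phi_of_dvd
  have := level_dvd H hy 1 hke
  rwa [pow_one] at this

theorem level_tau {e k : ℕ} {h y : RuVec} (H : ∀ j, pi ^ e ∣ herm (b j) h) (hy : pi ^ k • y ∈ L1)
    (hke : k + 2 ≤ e) : tau (herm y h) = 0 := tau_of_dvd (level_dvd H hy 2 hke)

theorem tau_herm {y h : RuVec} (hz : ∀ p, phi (y p) = 0 → y p = 0)
    (hh : ∀ p, phi (y p) ≠ 0 → phi (h p) = 0) : tau (herm y h) = ∑ p, phi (y p) * tau (h p) := by
  have e : tau (herm y h) = ∑ p, tau (y p * star (h p)) :=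
    map_sum tauH (fun p => y p * star (h p)) Finset.univ
  rw [e]
  apply Finset.sum_congr rfl
  intro p _
  by_cases hp : phi (y p) = 0
  · have hy0 := hz p hp
    rw [hp, zero_mul, hy0, zero_mul]; decide
  · exact tau_mul_star _ _ (hh p hp)

theorem add_zero_eq : ∀ a c : ZMod 2, a + c = 0 → a = c := by decide

theorem ech {m : ℕ} (h : RuIdx → RuVec) (G : Fin m → RuIdx → ZMod 2) (fr : Fin m → RuIdx)
    (H2 : ∀ p q, phi (h p q) = (if q = p then 1 else 0) + ∑ i, G i p * (if q = fr i then 1 else 0))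
    (s : RuIdx → ZMod 2) (hs : ∀ p, ∑ q, s q * phi (h p q) = 0) (p : RuIdx) :
    s p = ∑ i, G i p * s (fr i) := by
  have h1 := hs p
  simp only [H2, mul_add, Finset.sum_add_distrib, mul_ite, mul_one, mul_zero, Finset.sum_ite_eq',
    Finset.mem_univ, if_true, Finset.mul_sum] at h1
  rw [Finset.sum_comm] at h1
  simp only [Finset.sum_ite_eq', Finset.mem_univ, if_true] at h1
  apply add_zero_eq _ _
  rw [← h1]
  congr 1
  exact Finset.sum_congr rfl (fun i _ => mul_comm _ _)



theorem F0 {y : RuVec} (hy : pi ^ 0 • y ∈ L1) (hn : ruNorm y = 8) : ∀ p, phi (y p) = 0 := by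
  have hs : (fun p => phi (y p)) = sA (fun i => phi (y (frA i))) := by
    funext p
    exact ech hA GA frA hA_form (fun p => phi (y p))
      (fun p => level_phi (fun j => Dvd.intro _ (hA_ok p j).symm) hy (le_refl _)) p
  have hw := wt_le y
  rcases enumA (fun i => phi (y (frA i))) with h | h | ⟨h8, t, h1, h2⟩
  · intro p
    rw [← h p, ← hs]
  · rw [← hs] at h
    omega
  · exfalso
    rw [← hs] at h8 h1 h2
    have hz := zero_off (y := y) (by rw [h8, hn]; norm_num)
    have e1 := tau_herm hz h1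
    rw [h2, level_tau (fun j => Dvd.intro _ (cA_ok t j).symm) hy (le_refl _)] at e1
    exact absurd e1 (by decide)

theorem F1 {y : RuVec} (hy : pi ^ 1 • y ∈ L1) (hn : ruNorm y = 4) : ∀ p, phi (y p) = 0 := by
  have hs : (fun p => phi (y p)) = sB (fun i => phi (y (frB i))) := by
    funext p
    exact ech hB GB frB hB_form (fun p => phi (y p))
      (fun p => level_phi (fun j => Dvd.intro _ (hB_ok p j).symm) hy (le_refl _)) p
  have hw := wt_le y
  rcases enumB (fun i => phi (y (frB i))) with h | h | ⟨h8, t, h1, h2⟩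
  · intro p
    rw [← h p, ← hs]
  · rw [← hs] at h
    omega
  · exfalso
    rw [← hs] at h8 h1 h2
    have hz := zero_off (y := y) (by rw [h8, hn]; norm_num)
    have e1 := tau_herm hz h1
    rw [h2, level_tau (fun j => Dvd.intro _ (cB_ok t j).symm) hy (le_refl _)] at e1
    exact absurd e1 (by decide)


theorem zmod2_cases : ∀ a : ZMod 2, a ≠ 0 → a = 1 := by decide

theorem F23 {k : ℕ} (hk : k ≤ 3) {y : RuVec} (hy : pi ^ k • y ∈ L1) (hn : ruNorm y ≤ 2) :
    ∀ p, phi (y p) = 0 := by
  have hw := wt_le y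
  set S := Finset.univ.filter fun p => phi (y p) ≠ 0 with hS
  have hc : S.card ≤ 2 := by
    have : (wt (fun p => phi (y p)) : ℤ) = S.card := rfl
    omega
  have hsum : ∀ i, ∑ p ∈ S, phi (hC i p) = 0 := by
    intro i
    have h1 := level_phi (fun j => Dvd.intro _ (hC_ok i j).symm) hy (by omega)
    rw [← h1, hS, Finset.sum_filter]
    apply Finset.sum_congr rfl
    intro p _
    split_ifs with hp
    · rw [zmod2_cases _ hp, one_mul]
    · rw [not_not.1 hp, zero_mul]
  by_cases h0 : S.card = 0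
  · intro p
    by_contra hp
    have : p ∈ S := Finset.mem_filter.2 ⟨Finset.mem_univ p, hp⟩
    rw [Finset.card_eq_zero.1 h0] at this
    exact absurd this (Finset.notMem_empty p)
  · exfalso
    rcases (show S.card = 1 ∨ S.card = 2 by omega) with h | h
    · obtain ⟨p, hp⟩ := Finset.card_eq_one.1 h
      obtain ⟨i, hi⟩ := small1 p
      have := hsum i
      rw [hp, Finset.sum_singleton] at this
      exact hi this
    · obtain ⟨p, q, hpq, hp⟩ := Finset.card_eq_two.1 h
      obtain ⟨i, hi⟩ := small2 p q hpq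
      have := hsum i
      rw [hp, Finset.sum_pair hpq] at this
      exact hi this

theorem exists_div {y : RuVec} (h : ∀ p, phi (y p) = 0) : ∃ y', y = pi • y' := by
  choose w hw using fun p => exists_of_phi (h p)
  exact ⟨w, funext hw⟩

theorem no_eight {x : RuVec} (hx : x ∈ L1) : ruNorm x ≠ 8 := by
  intro hn
  obtain ⟨x1, rfl⟩ := exists_div (F0 (by rwa [pow_zero, one_smul]) hn)
  rw [ruNorm_pi] at hn
  obtain ⟨x2, rfl⟩ := exists_div (F1 (by rwa [pow_one]) (by omega))
  rw [ruNorm_pi] at hn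
  obtain ⟨x3, rfl⟩ := exists_div (F23 (k := 2) (by norm_num) (by rwa [pow_two, mul_smul]) (by omega))
  rw [ruNorm_pi] at hn
  obtain ⟨x4, rfl⟩ := exists_div (F23 (k := 3) (by norm_num)
    (by rwa [pow_succ, pow_two, mul_smul, mul_smul]) (by omega))
  rw [ruNorm_pi] at hn
  omega


/-- The Conway–Wales lattice as stored is even with no vectors of true norm 2: stored norms are multiples of 8, never equal to 8, and the minimum over nonzero vectors is 16. -/
theorem result : (∀ x ∈ Cfsg.Spor.ruLattice, (8 : ℤ) ∣ Cfsg.Spor.ruNorm x) ∧ (∀ x ∈ Cfsg.Spor.ruLattice, Cfsg.Spor.ruNorm x ≠ 8) ∧ (∀ x ∈ Cfsg.Spor.ruLattice, x ≠ 0 → 16 ≤ Cfsg.Spor.ruNorm x) ∧ ∃ x ∈ Cfsg.Spor.ruLattice, Cfsg.Spor.ruNorm x = 16 := by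
  refine ⟨fun x hx => even_norm (lat_le hx), fun x hx => no_eight (lat_le hx), ?_, ?_⟩
  · intro x hx h0
    have h1 := even_norm (lat_le hx)
    have h2 := no_eight (lat_le hx)
    have h3 := ruNorm_nonneg x
    have h4 : ruNorm x ≠ 0 := fun h => h0 (eq_zero_of_ruNorm h)
    omega
  · refine ⟨ruTable[0]'(by decide), ?_, first_norm⟩
    rw [ruLattice, AddSubgroup.mem_sInf]
    intro L hL
    exact hL.1 _ (List.getElem_mem _)

end Cfsg.Agent.S1628
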