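import Cfsg.Statements.S1910
-- import your own Cfsg.Agent.* helpers here
import Mathlib
import Cfsg.Agent.Lib.Helper17.Syl

set_option autoImplicit false
open Cfsg

namespace Cfsg.Agent.S1910


open Cfsg.Agent.Lib.Helper17

variable {G : Type*} [Group G] [Finite G]

/-- conjugate subgroup -/
abbrev cj (g : G) (X : Subgroup G) : Subgroup G := X.map (MulAut.conj g).toMonoidHom

/-- a 2-subgroup of `Q ∩ Q^g` is trivial -/
theorem F1 {Q : Subgroup G} (hQ : Cfsg.IsTightlyEmbedded Q) {g : G}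
    (hg : g ∉ Subgroup.normalizer (Q : Set G)) {X : Subgroup G} (h1 : X ≤ Q)
    (h2 : X ≤ Q.map (MulAut.conj g).toMonoidHom) (hX : IsPGroup 2 X) : X = ⊥ := by
  have hodd := hQ.2 g hg
  have hd : Nat.card X ∣ Nat.card ↥(Q ⊓ Q.map (MulAut.conj g).toMonoidHom) :=
    Subgroup.card_dvd_of_le (le_inf h1 h2)
  obtain ⟨k, hk⟩ := IsPGroup.iff_card.mp hX
  have hoddX : Odd (Nat.card X) := Odd.of_dvd_nat hodd hd
  rw [hk] at hoddX
  have hk0 : k = 0 := by
    by_contra h
    exact (Nat.not_even_iff_odd.mpr hoddX) ((Nat.even_pow.mpr ⟨even_two, h⟩))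
  rw [hk0, pow_zero] at hk
  exact Subgroup.eq_bot_of_card_eq X hk

/-- the centralizer of a nontrivial 2-element of `Q` normalizes `Q` -/
theorem F2 {Q : Subgroup G} (hQ : Cfsg.IsTightlyEmbedded Q) {t c : G} (ht : t ∈ Q) (ht1 : t ≠ 1)
    (h2 : IsPGroup 2 (Subgroup.zpowers t)) (hc : c⁻¹ * t * c ∈ Q) :
    c ∈ Subgroup.normalizer (Q : Set G) := by
  by_contra hcn
  have := F1 hQ hcn (X := Subgroup.zpowers t) (by simpa using ht)
    (by
      rw [Subgroup.zpowers_le]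
      exact mem_map_conj.mpr hc) h2
  apply ht1
  have h3 : t ∈ Subgroup.zpowers t := Subgroup.mem_zpowers t
  rw [this] at h3
  exact Subgroup.mem_bot.mp h3


/-- the configuration -/
structure Cfg (Q : Subgroup G) (g : G) (T S : Subgroup G) : Prop where
  hQ : Cfsg.IsTightlyEmbedded Q
  hg : g ∉ Subgroup.normalizer (Q : Set G)
  hT1 : T ≠ ⊥
  hT : IsSyl 2 T (cj g Q ⊓ Subgroup.normalizer (Q : Set G))
  hTS : T ≤ S
  hS : IsSyl 2 S (Q ⊔ T)

/-- `N_S(T) ∩ Q` -/
abbrev RR (Q T S : Subgroup G) : Subgroup G := S ⊓ Subgroup.normalizer (T : Set G) ⊓ Q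

namespace Cfg

variable {Q : Subgroup G} {g : G} {T S : Subgroup G}

theorem T_le_cj (c : Cfg Q g T S) : T ≤ cj g Q := c.hT.le.trans inf_le_left
theorem T_le_N (c : Cfg Q g T S) : T ≤ Subgroup.normalizer (Q : Set G) := c.hT.le.trans inf_le_right
theorem T2 (c : Cfg Q g T S) : IsPGroup 2 T := c.hT.isPGroup
theorem S2 (c : Cfg Q g T S) : IsPGroup 2 S := c.hS.isPGroup

theorem inf_eq (c : Cfg Q g T S) : T ⊓ Q = ⊥ :=
  F1 c.hQ c.hg inf_le_right (inf_le_left.trans c.T_le_cj) (c.T2.to_le inf_le_left)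

theorem comm (c : Cfg Q g T S) {t r : G} (ht : t ∈ T) (hr : r ∈ RR Q T S) : t * r = r * t := by
  have h1 : t * r * t⁻¹ * r⁻¹ ∈ T ⊓ Q := by
    constructor
    · have : r * t⁻¹ * r⁻¹ ∈ T :=
        (Subgroup.mem_normalizer_iff.mp hr.1.2 t⁻¹).mp (T.inv_mem ht)
      have e : t * r * t⁻¹ * r⁻¹ = t * (r * t⁻¹ * r⁻¹) := by group
      rw [e]; exact T.mul_mem ht this
    · have : t * r * t⁻¹ ∈ Q := (Subgroup.mem_normalizer_iff.mp (c.T_le_N ht) r).mp hr.2
      exact Q.mul_mem this (Q.inv_mem hr.2)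
  rw [c.inf_eq, Subgroup.mem_bot] at h1
  have e : t * r = (t * r * t⁻¹ * r⁻¹) * (r * t) := by group
  rw [e, h1, one_mul]

theorem decomp (c : Cfg Q g T S) {y : G} (hy : y ∈ S ⊓ Subgroup.normalizer (T : Set G)) :
    ∃ a ∈ T, ∃ b ∈ RR Q T S, y = a * b := by
  have h1 : y ∈ T ⊔ Q := by rw [sup_comm]; exact c.hS.le hy.1
  obtain ⟨a, ha, b, hb, rfl⟩ := (mem_sup_of_le_normalizer c.T_le_N).mp h1
  refine ⟨a, ha, b, ⟨⟨?_, ?_⟩, hb⟩, rfl⟩
  · have : b = a⁻¹ * (a * b) := by group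
    rw [this]; exact S.mul_mem (S.inv_mem (c.hTS ha)) hy.1
  · have : b = a⁻¹ * (a * b) := by group
    rw [this]
    exact Subgroup.mul_mem _ (Subgroup.inv_mem _ (Subgroup.le_normalizer ha)) hy.2

theorem R2 (c : Cfg Q g T S) : IsPGroup 2 (RR Q T S) := c.S2.to_le (inf_le_left.trans inf_le_left)

theorem exists_t (c : Cfg Q g T S) : ∃ t ∈ T, t ≠ 1 := by
  by_contra h
  push Not at h
  exact c.hT1 ((Subgroup.eq_bot_iff_forall T).mpr h)

theorem zp2 (c : Cfg Q g T S) {t : G} (ht : t ∈ T) (k : G) :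
    IsPGroup 2 (Subgroup.zpowers (k⁻¹ * t * k)) := by
  have h1 : IsPGroup 2 (cj k⁻¹ T) := c.T2.map _
  refine h1.to_le ?_
  rw [Subgroup.zpowers_le]
  have := conj_mem_map_conj (g := k⁻¹) ht
  simpa using this

theorem R_conj_le (c : Cfg Q g T S) :
    cj g⁻¹ (RR Q T S) ≤ cj g⁻¹ Q ⊓ Subgroup.normalizer (Q : Set G) := by
  refine le_inf (Subgroup.map_mono inf_le_right) ?_
  intro y hy
  rw [mem_map_conj] at hy
  simp only [inv_inv] at hy
  obtain ⟨t, ht, ht1⟩ := c.exists_t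
  have htQ : g⁻¹ * t * g ∈ Q := mem_map_conj.mp (c.T_le_cj ht)
  refine F2 c.hQ htQ ?_ (c.zp2 ht g) ?_
  · intro h
    apply ht1
    have : t = g * (g⁻¹ * t * g) * g⁻¹ := by group
    rw [this, h]; group
  · have hcm := c.comm ht hy
    have e : y⁻¹ * (g⁻¹ * t * g) * y = g⁻¹ * ((g * y * g⁻¹)⁻¹ * (t * (g * y * g⁻¹))) * g := by group
    rw [e, hcm]
    have e2 : g⁻¹ * ((g * y * g⁻¹)⁻¹ * (g * y * g⁻¹ * t)) * g = g⁻¹ * t * g := by group
    rw [e2]; exact htQ

theorem mem_normalizer_of_conj {T : Subgroup G} {x : G} (h : ∀ s ∈ T, x * s * x⁻¹ ∈ T) :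
    x ∈ Subgroup.normalizer (T : Set G) := by
  have hle : cj x T ≤ T := by
    rintro _ ⟨s, hs, rfl⟩
    exact h s hs
  have heq : cj x T = T :=
    Subgroup.eq_of_le_of_card_ge hle (by rw [card_map_conj])
  rw [Subgroup.mem_normalizer_iff]
  intro y
  refine ⟨h y, fun hy => ?_⟩
  rw [← heq, mem_map_conj] at hy
  have e : x⁻¹ * (x * y * x⁻¹) * x = y := by group
  rwa [e] at hy

theorem uniq (c : Cfg Q g T S) {a a' b b' : G} (ha : a ∈ T) (ha' : a' ∈ T) (hb : b ∈ RR Q T S)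
    (hb' : b' ∈ RR Q T S) (h : a * b = a' * b') : b = b' := by
  have h1 : a'⁻¹ * a ∈ T ⊓ Q := by
    refine ⟨T.mul_mem (T.inv_mem ha') ha, ?_⟩
    have e : a'⁻¹ * a = b' * b⁻¹ := by
      have : a'⁻¹ * a = a'⁻¹ * (a * b) * b⁻¹ := by group
      rw [this, h]; group
    rw [e]; exact Q.mul_mem hb'.2 (Q.inv_mem hb.2)
  rw [c.inf_eq, Subgroup.mem_bot] at h1
  have h2 : a = a' := by
    have : a = a' * (a'⁻¹ * a) := by group
    rw [this, h1, mul_one]
  rw [h2] at h
  exact mul_left_cancel h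

theorem card_le_and_iso (c : Cfg Q g T S) :
    Nat.card T ≤ Nat.card (RR Q T S) ∧
      (Nat.card T = Nat.card (RR Q T S) → Nonempty (RR Q T S ≃* T)) := by
  by_cases hM : S ≤ Subgroup.normalizer (T : Set G)
  · have hR : RR Q T S = S ⊓ Q := by
      show S ⊓ Subgroup.normalizer (T : Set G) ⊓ Q = S ⊓ Q
      rw [inf_eq_left.mpr hM]
    have hsyl : IsSyl 2 (RR Q T S) Q := by
      rw [hR]
      exact c.hS.inf_normal le_sup_left (sup_le Subgroup.le_normalizer c.T_le_N)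
    have hsyl' : IsSyl 2 (cj g (RR Q T S)) (cj g Q) := hsyl.map_conj g
    have hle : Nat.card T ≤ Nat.card (cj g (RR Q T S)) := hsyl'.card_le c.T_le_cj c.T2
    rw [card_map_conj] at hle
    refine ⟨hle, fun heq => ?_⟩
    have hTs : IsSyl 2 T (cj g Q) :=
      hsyl'.of_card_le c.T_le_cj c.T2 (by rw [card_map_conj, heq])
    obtain ⟨m, hm, hTm⟩ := hsyl'.conj hTs
    let e1 := (RR Q T S).equivMapOfInjective (MulAut.conj g).toMonoidHom (MulAut.conj g).injective
    let e2 := (cj g (RR Q T S)).equivMapOfInjective (MulAut.conj m).toMonoidHom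
      (MulAut.conj m).injective
    exact ⟨(e1.trans e2).trans (MulEquiv.subgroupCongr hTm.symm)⟩
  · have hlt : S ⊓ Subgroup.normalizer (T : Set G) < S :=
      lt_of_le_of_ne inf_le_left (fun h => hM (inf_eq_left.mp h))
    obtain ⟨x, hxS, hxN, hxM⟩ := pgroup_normalizer_grow c.S2 hlt
    have hxT : x ∉ Subgroup.normalizer (T : Set G) := fun h => hxM ⟨hxS, h⟩
    have hTx : ∀ t ∈ T, x * t * x⁻¹ ∈ S ⊓ Subgroup.normalizer (T : Set G) := fun t ht =>
      (Subgroup.mem_normalizer_iff.mp hxN t).mp ⟨c.hTS ht, Subgroup.le_normalizer ht⟩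
    have key : ∀ t ∈ T, x * t * x⁻¹ ∈ T → t = 1 := by
      intro t ht hxt
      by_contra ht1
      have hc' : g⁻¹ * x * g ∈ Subgroup.normalizer (Q : Set G) := by
        refine F2 c.hQ (t := g⁻¹ * (x * t * x⁻¹) * g) (mem_map_conj.mp (c.T_le_cj hxt)) ?_
          (c.zp2 hxt g) ?_
        · intro h
          apply ht1
          have : t = x⁻¹ * (g * (g⁻¹ * (x * t * x⁻¹) * g) * g⁻¹) * x := by group
          rw [this, h]; group
        · have e : (g⁻¹ * x * g)⁻¹ * (g⁻¹ * (x * t * x⁻¹) * g) * (g⁻¹ * x * g) = g⁻¹ * t * g := by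
            group
          rw [e]; exact mem_map_conj.mp (c.T_le_cj ht)
      apply hxT
      apply mem_normalizer_of_conj
      intro s hs
      obtain ⟨a, ha, b, hb, hab⟩ := c.decomp (hTx s hs)
      have hxs : x * s * x⁻¹ ∈ cj g Q := by
        rw [mem_map_conj]
        have := (Subgroup.mem_normalizer_iff.mp hc' (g⁻¹ * s * g)).mp
          (mem_map_conj.mp (c.T_le_cj hs))
        have e : g⁻¹ * (x * s * x⁻¹) * g = g⁻¹ * x * g * (g⁻¹ * s * g) * (g⁻¹ * x * g)⁻¹ := by group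
        rw [e]; exact this
      have hb' : b ∈ cj g Q := by
        have : b = a⁻¹ * (x * s * x⁻¹) := by rw [hab]; group
        rw [this]; exact Subgroup.mul_mem _ (Subgroup.inv_mem _ (c.T_le_cj ha)) hxs
      have hb1 : b = 1 := by
        have h0 := F1 c.hQ c.hg (X := Subgroup.zpowers b) (by simpa using hb.2) (by simpa using hb')
          (c.R2.to_le (by simpa using hb))
        have h3 : b ∈ Subgroup.zpowers b := Subgroup.mem_zpowers b
        rw [h0] at h3
        exact Subgroup.mem_bot.mp h3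
      rw [hab, hb1, mul_one]; exact ha
    have P : ∀ t : T, ∃ a ∈ T, ∃ b ∈ RR Q T S, x * (t : G) * x⁻¹ = a * b :=
      fun t => c.decomp (hTx t.1 t.2)
    let av : T → G := fun t => (P t).choose
    have hav : ∀ t, av t ∈ T := fun t => (P t).choose_spec.1
    let bv : T → G := fun t => (P t).choose_spec.2.choose
    have hbv : ∀ t, bv t ∈ RR Q T S := fun t => (P t).choose_spec.2.choose_spec.1
    have hab : ∀ t : T, x * (t : G) * x⁻¹ = av t * bv t := fun t =>
      (P t).choose_spec.2.choose_spec.2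
    let f : T →* RR Q T S := MonoidHom.mk' (fun t => ⟨bv t, hbv t⟩) (by
      intro t1 t2
      apply Subtype.ext
      show bv (t1 * t2) = bv t1 * bv t2
      refine c.uniq (hav (t1 * t2)) (T.mul_mem (hav t1) (hav t2)) (hbv (t1 * t2))
        (Subgroup.mul_mem _ (hbv t1) (hbv t2)) ?_
      rw [← hab]
      have e : x * ((t1 * t2 : T) : G) * x⁻¹ = (x * (t1 : G) * x⁻¹) * (x * (t2 : G) * x⁻¹) := by
        rw [Subgroup.coe_mul]; group
      rw [e, hab, hab]
      have hcm := c.comm (hav t2) (hbv t1)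
      calc av t1 * bv t1 * (av t2 * bv t2) = av t1 * (bv t1 * av t2) * bv t2 := by group
        _ = av t1 * (av t2 * bv t1) * bv t2 := by rw [hcm]
        _ = av t1 * av t2 * (bv t1 * bv t2) := by group)
    have hinj : Function.Injective f := by
      rw [injective_iff_map_eq_one]
      intro t ht
      have h1 : bv t = 1 := congrArg Subtype.val ht
      have h2 := hab t
      rw [h1, mul_one] at h2
      apply Subtype.ext
      exact key t.1 t.2 (by rw [h2]; exact hav t)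
    refine ⟨Nat.card_le_card_of_injective f hinj, fun heq => ?_⟩
    have hbij : Function.Bijective f := (Nat.bijective_iff_injective_and_card f).mpr ⟨hinj, heq⟩
    exact ⟨(MulEquiv.ofBijective f hbij).symm⟩

end Cfg

/-- Let Q be a tightly embedded subgroup of a finite group G, g an element outside N_G(Q), T a nontrivial Sylow 2-subgroup of Q^g ∩ N_G(Q), and S a Sylow 2-subgroup of QT containing T. Then T ∩ Q = 1, and N_S(T) is the direct product of T and N_S(T) ∩ Q, with N_S(T) ∩ Q isomorphic to T. -/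
theorem result {G : Type*} [Group G] [Finite G] (Q : Subgroup G) (hQ : Cfsg.IsTightlyEmbedded Q)
    (g : G) (hg : g ∉ Subgroup.normalizer (Q : Set G))
    (T : Subgroup G) (hT1 : T ≠ ⊥) (hT : T ≤ Q.map (MulAut.conj g).toMonoidHom ⊓ Subgroup.normalizer (Q : Set G))
    (hTsyl : IsPGroup 2 T ∧ ¬ 2 ∣ T.relIndex (Q.map (MulAut.conj g).toMonoidHom ⊓ Subgroup.normalizer (Q : Set G)))
    (S : Subgroup G) (hTS : T ≤ S) (hS : S ≤ Q ⊔ T) (hSsyl : IsPGroup 2 S ∧ ¬ 2 ∣ S.relIndex (Q ⊔ T)) :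
    T ⊓ Q = ⊥ ∧
      T ⊓ (S ⊓ Subgroup.normalizer (T : Set G) ⊓ Q) = ⊥ ∧
      ⁅T, S ⊓ Subgroup.normalizer (T : Set G) ⊓ Q⁆ = ⊥ ∧
      T ⊔ (S ⊓ Subgroup.normalizer (T : Set G) ⊓ Q) = S ⊓ Subgroup.normalizer (T : Set G) ∧
      Nonempty (↥(S ⊓ Subgroup.normalizer (T : Set G) ⊓ Q) ≃* T) := by
  haveI : Fact (Nat.Prime 2) := ⟨Nat.prime_two⟩
  have c : Cfg Q g T S :=
    { hQ := hQ, hg := hg, hT1 := hT1
      hT := isSyl_of_not_dvd_relIndex hT hTsyl.1 hTsyl.2
      hTS := hTS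
      hS := isSyl_of_not_dvd_relIndex hS hSsyl.1 hSsyl.2 }
  have hginv : g⁻¹ ∉ Subgroup.normalizer (Q : Set G) := fun h => hg (by simpa using Subgroup.inv_mem _ h)
  obtain ⟨T', hT'⟩ := exists_isSyl 2 (cj g⁻¹ Q ⊓ Subgroup.normalizer (Q : Set G))
  have h1 := c.card_le_and_iso
  have h2 : Nat.card (RR Q T S) ≤ Nat.card T' := by
    have := hT'.card_le c.R_conj_le (c.R2.map _)
    rwa [card_map_conj] at this
  have hT'1 : T' ≠ ⊥ := by
    rintro rfl
    have h3 : Nat.card T ≤ 1 := by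
      have := h1.1.trans h2
      simpa using this
    exact hT1 (Subgroup.eq_bot_of_card_le T h3)
  obtain ⟨S', hS', hTS'⟩ := exists_isSyl_ge (p := 2) (A := T') (M := Q ⊔ T') le_sup_right hT'.isPGroup
  have c' : Cfg Q g⁻¹ T' S' :=
    { hQ := hQ, hg := hginv, hT1 := hT'1, hT := hT', hTS := hTS', hS := hS' }
  have h4 := c'.card_le_and_iso
  have h5 : Nat.card (RR Q T' S') ≤ Nat.card T := by
    have h6 := c'.R_conj_le
    rw [inv_inv] at h6
    have := c.hT.card_le h6 (c'.R2.map _)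
    rwa [card_map_conj] at this
  have heq : Nat.card T = Nat.card (RR Q T S) := by
    have := h4.1
    omega
  refine ⟨c.inf_eq, ?_, ?_, ?_, h1.2 heq⟩
  · rw [eq_bot_iff, ← c.inf_eq]
    exact inf_le_inf_left _ inf_le_right
  · rw [Subgroup.commutator_eq_bot_iff_le_centralizer]
    intro t ht
    rw [Subgroup.mem_centralizer_iff]
    intro r hr
    exact (c.comm ht hr).symm
  · apply le_antisymm
    · exact sup_le (le_inf hTS Subgroup.le_normalizer) inf_le_left
    · intro y hy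
      obtain ⟨a, ha, b, hb, rfl⟩ := c.decomp hy
      exact Subgroup.mul_mem _ (Subgroup.mem_sup_left ha) (Subgroup.mem_sup_right hb)

end Cfsg.Agent.S1910
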