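import Cfsg.Statements.S1921
-- import your own Cfsg.Agent.* helpers here
import Mathlib
import Cfsg.Agent.Lib.Helper10.Components
import Cfsg.Agent.Lib.Helper9.SupNorm

set_option autoImplicit false
open Cfsg

namespace Cfsg.Agent.S1921

/-- Let a be an involution of a finite group H and L a component of H with a L a⁻¹ ≠ L; put M = ⟨L, aLa⁻¹⟩ and let J be the subgroup generated by the elements x · a x a⁻¹ with x ∈ L (the diagonal). Then every element of M outside J·Z(M) generates M together with J. -/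
theorem result {H : Type*} [Group H] [Finite H] (a : H) (ha : orderOf a = 2) (L : Subgroup H) (hL : Cfsg.IsComponent L)
    (hLa : L.map (MulAut.conj a).toMonoidHom ≠ L) (x : H) (hxM : x ∈ L ⊔ L.map (MulAut.conj a).toMonoidHom)
    (hxJ : x ∉ Subgroup.closure {y : H | ∃ l ∈ L, y = l * (a * l * a⁻¹)} ⊔
      ((L ⊔ L.map (MulAut.conj a).toMonoidHom) ⊓ Subgroup.centralizer ((L ⊔ L.map (MulAut.conj a).toMonoidHom : Subgroup H) : Set H))) :
    Subgroup.closure {y : H | ∃ l ∈ L, y = l * (a * l * a⁻¹)} ⊔ Subgroup.zpowers x = L ⊔ L.map (MulAut.conj a).toMonoidHom := by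
  classical
  set La := L.map (MulAut.conj a).toMonoidHom with hLadef
  set M := L ⊔ La with hM
  set J := Subgroup.closure {y : H | ∃ l ∈ L, y = l * (a * l * a⁻¹)} with hJ
  have hLac : Cfsg.IsComponent La := Cfsg.Agent.Lib.Helper10.isComponent_map_mulEquiv (MulAut.conj a) hL
  have hcomm0 : ⁅L, La⁆ = ⊥ := by
    rcases Cfsg.Agent.Lib.Helper10.components_eq_or_commute hL hLac with h | h
    · exact absurd h.symm hLa
    · exact h
  have hLC : L ≤ Subgroup.centralizer (La : Set H) := Subgroup.commutator_eq_bot_iff_le_centralizer.mp hcomm0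
  have hcomm : ∀ l ∈ L, ∀ l' ∈ La, l' * l = l * l' := fun l hl l' hl' =>
    (Subgroup.mem_centralizer_iff.mp (hLC hl)) l' hl'
  have hmemLa : ∀ l ∈ L, a * l * a⁻¹ ∈ La := fun l hl => ⟨l, hl, rfl⟩
  have hJmem : ∀ l ∈ L, l * (a * l * a⁻¹) ∈ J := fun l hl => Subgroup.subset_closure ⟨l, hl, rfl⟩
  set K := J ⊔ Subgroup.zpowers x with hK
  have hJK : J ≤ K := le_sup_left
  have hxK : x ∈ K := Subgroup.mem_sup_right (Subgroup.mem_zpowers x)
  apply le_antisymm
  · refine sup_le ?_ (Subgroup.zpowers_le.mpr hxM)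
    rw [hJ, Subgroup.closure_le]
    rintro _ ⟨l, hl, rfl⟩
    exact M.mul_mem (Subgroup.mem_sup_left hl) (Subgroup.mem_sup_right (hmemLa l hl))
  · have hLaN : La ≤ Subgroup.normalizer (L : Set H) := by
      intro l' hl'
      rw [Subgroup.mem_normalizer_iff]
      intro l
      constructor
      · intro hl
        rw [hcomm l hl l' hl', mul_inv_cancel_right]; exact hl
      · intro hl
        have h1 := hcomm _ hl l'⁻¹ (La.inv_mem hl')
        have e : l'⁻¹ * (l' * l * l'⁻¹) = l * l'⁻¹ := by group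
        rw [e] at h1
        have h2 : l = l' * l * l'⁻¹ := mul_right_cancel h1
        rw [h2]; exact hl
    have hx' := hxM
    rw [hM, Cfsg.Agent.Lib.Helper9.mem_sup_of_le_normalizer hLaN] at hx'
    obtain ⟨l₁, hl₁, _, ⟨l₂, hl₂, rfl⟩, hx'⟩ := hx'
    change l₁ * (a * l₂ * a⁻¹) = x at hx'
    set l := l₁ * l₂⁻¹ with hl
    have hlL : l ∈ L := L.mul_mem hl₁ (L.inv_mem hl₂)
    have hlx : l = x * (l₂ * (a * l₂ * a⁻¹))⁻¹ := by rw [← hx', hl]; group
    have hlK : l ∈ K := by
      rw [hlx]; exact K.mul_mem hxK (K.inv_mem (hJK (hJmem l₂ hl₂)))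
    have hlC : l ∉ Subgroup.centralizer (M : Set H) := by
      intro h
      apply hxJ
      have e : x = (l₂ * (a * l₂ * a⁻¹)) * l := by
        have h1 := (Subgroup.mem_centralizer_iff.mp h) (l₂ * (a * l₂ * a⁻¹))
          (M.mul_mem (Subgroup.mem_sup_left hl₂) (Subgroup.mem_sup_right (hmemLa l₂ hl₂)))
        rw [h1, hlx]; group
      rw [e]
      exact Subgroup.mul_mem _ (Subgroup.mem_sup_left (hJmem l₂ hl₂))
        (Subgroup.mem_sup_right ⟨Subgroup.mem_sup_left hlL, h⟩)
    have hNn : ((K ⊓ L).subgroupOf L).Normal := by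
      constructor
      rintro ⟨n, hnL⟩ hn ⟨l', hl'⟩
      rw [Subgroup.mem_subgroupOf] at hn ⊢
      change l' * n * l'⁻¹ ∈ K ⊓ L
      refine ⟨?_, L.mul_mem (L.mul_mem hl' hnL) (L.inv_mem hl')⟩
      have hc := hcomm n hnL _ (hmemLa l' hl')
      have e : l' * n * l'⁻¹ = (l' * (a * l' * a⁻¹)) * n * (l' * (a * l' * a⁻¹))⁻¹ := by
        calc l' * n * l'⁻¹ = l' * (n * (a * l' * a⁻¹)) * (a * l' * a⁻¹)⁻¹ * l'⁻¹ := by group
          _ = l' * ((a * l' * a⁻¹) * n) * (a * l' * a⁻¹)⁻¹ * l'⁻¹ := by rw [hc]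
          _ = (l' * (a * l' * a⁻¹)) * n * (l' * (a * l' * a⁻¹))⁻¹ := by group
      rw [e]
      exact K.mul_mem (K.mul_mem (hJK (hJmem l' hl')) hn.1) (K.inv_mem (hJK (hJmem l' hl')))
    have hLK : L ≤ K := by
      rcases Cfsg.Agent.Lib.Helper10.qs_normal_le_center_or_eq_top hL.2 _ hNn with h | h
      · exfalso
        apply hlC
        have h1 : (⟨l, hlL⟩ : L) ∈ Subgroup.center L := h (Subgroup.mem_subgroupOf.mpr ⟨hlK, hlL⟩)
        have h2 : M ≤ Subgroup.centralizer (Subgroup.zpowers l : Set H) := by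
          refine sup_le ?_ ?_
          · rw [Subgroup.le_centralizer_iff, Subgroup.zpowers_le, Subgroup.mem_centralizer_iff]
            intro y hy
            exact congrArg Subtype.val ((Subgroup.mem_center_iff.mp h1) ⟨y, hy⟩)
          · rw [Subgroup.le_centralizer_iff, Subgroup.zpowers_le]
            exact hLC hlL
        rw [Subgroup.le_centralizer_iff] at h2
        exact h2 (Subgroup.mem_zpowers l)
      · rw [Subgroup.subgroupOf_eq_top] at h
        exact h.trans inf_le_left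
    refine sup_le hLK ?_
    rintro _ ⟨l', hl', rfl⟩
    change a * l' * a⁻¹ ∈ K
    have e : a * l' * a⁻¹ = l'⁻¹ * (l' * (a * l' * a⁻¹)) := by group
    rw [e]
    exact K.mul_mem (K.inv_mem (hLK hl')) (hJK (hJmem l' hl'))

end Cfsg.Agent.S1921
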