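import Cfsg.Statements.S1922
import Cfsg.Agent.Lib.Helper22.Basic

set_option autoImplicit false
open Cfsg

namespace Cfsg.Agent.S1922

theorem mem_conj_iff {G : Type*} [Group G] (H : Subgroup G) (g x : G) :
    x ∈ H.map (MulAut.conj g).toMonoidHom ↔ g⁻¹ * x * g ∈ H := by
  constructor
  · rintro ⟨y, hy, rfl⟩
    simpa [MulAut.conj_apply, mul_assoc] using hy
  · intro h
    exact ⟨g⁻¹ * x * g, h, by simp [MulAut.conj_apply, mul_assoc]⟩

theorem even_card_of_invol {G : Type*} [DecidableEq G] (s : Finset G) (f : G → G)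
    (hmem : ∀ a ∈ s, f a ∈ s) (hinv : ∀ a ∈ s, f (f a) = a) (hne : ∀ a ∈ s, f a ≠ a) :
    Even s.card := by
  have h := Finset.sum_involution (s := s) (f := fun _ => (1 : ZMod 2)) (fun a _ => f a)
    (fun a _ => by decide) (fun a ha _ => hne a ha) (fun a ha => hmem a ha) (fun a ha => hinv a ha)
  rw [Finset.sum_const, nsmul_eq_mul, mul_one] at h
  exact ZMod.natCast_eq_zero_iff_even.mp h

theorem dih_conj {G : Type*} [Group G] (a r : G) (h : a * r = r⁻¹ * a) (j : ℕ) :
    a * r ^ j = (r⁻¹) ^ j * a := by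
  induction j with
  | zero => simp
  | succ j ih => rw [pow_succ, ← mul_assoc, ih, mul_assoc, h, ← mul_assoc, ← pow_succ]

theorem dih_isConj {G : Type*} [Group G] (a r : G) (h : a * r = r⁻¹ * a) (j : ℕ) :
    IsConj a (a * r ^ (2 * j)) := by
  rw [isConj_iff]
  refine ⟨(r ^ j)⁻¹, ?_⟩
  rw [inv_inv, ← inv_pow, ← dih_conj a r h j, mul_assoc, ← pow_add, two_mul]

theorem sylow_central {G : Type*} [Group G] [Finite G] (z : G) (hz : orderOf z = 2)
    (hodd : Odd (Subgroup.centralizer ({z} : Set G)).index) :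
    ∃ P : Sylow 2 G, z ∈ (Subgroup.center ↥(P : Subgroup G)).map (P : Subgroup G).subtype := by
  haveI : Fact (Nat.Prime 2) := ⟨Nat.prime_two⟩
  set C := Subgroup.centralizer ({z} : Set G) with hC
  have hzC : z ∈ C := Subgroup.mem_centralizer_singleton_iff.mpr rfl
  have hpg : IsPGroup 2 (Subgroup.zpowers (⟨z, hzC⟩ : C)) := by
    rw [IsPGroup.iff_card]
    refine ⟨1, ?_⟩
    rw [Nat.card_zpowers, pow_one, ← hz]
    exact Subgroup.orderOf_mk z hzC
  obtain ⟨Q, hQ⟩ := hpg.exists_le_sylow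
  have hP0 : IsPGroup 2 ((Q : Subgroup C).map C.subtype) := Q.2.map _
  obtain ⟨P, hP⟩ := hP0.exists_le_sylow
  have hcard : Nat.card (P : Subgroup G) ≤ Nat.card ((Q : Subgroup C).map C.subtype) := by
    rw [← Nat.card_congr (Subgroup.equivMapOfInjective _ C.subtype C.subtype_injective).toEquiv]
    have e1 := Sylow.card_eq_multiplicity P
    have e2 := Sylow.card_eq_multiplicity Q
    have e := Subgroup.card_mul_index C
    rw [← e, Nat.factorization_mul (Nat.card_pos.ne') (Subgroup.index_ne_zero_of_finite),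
      Finsupp.add_apply, Nat.factorization_eq_zero_of_not_dvd (n := C.index) (p := 2)
        (by intro h; exact (Nat.not_even_iff_odd.mpr hodd) (even_iff_two_dvd.mpr h)), add_zero] at e1
    exact le_of_eq (e1.trans e2.symm)
  have heq := Subgroup.eq_of_le_of_card_ge hP hcard
  have hzP : z ∈ (P : Subgroup G) := hP ⟨⟨z, hzC⟩, hQ (Subgroup.mem_zpowers _), rfl⟩
  refine ⟨P, ⟨⟨z, hzP⟩, ?_, rfl⟩⟩
  rw [SetLike.mem_coe, Subgroup.mem_center_iff]
  intro x
  have hx : (x : G) ∈ (Q : Subgroup C).map C.subtype := by rw [heq]; exact x.2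
  obtain ⟨y, _, hy⟩ := hx
  apply Subtype.ext
  show (x : G) * z = z * x
  rw [← hy]
  exact Subgroup.mem_centralizer_singleton_iff.mp y.2

theorem exists_swap {G : Type*} [Group G] [Finite G] (z : G) (hzz : z * z = 1) (H : Subgroup G)
    (hCz : ∀ x, x * z = z * x → x ∈ H)
    (h1 : ∀ t : G, IsConj z t → t ≠ z → t * z = z * t → ∀ g : G, g⁻¹ * (z * t) * g ∈ H ↔ g ∈ H)
    (k : G) (hk : k ∉ H) : ∃ c, IsConj z c ∧ c * z * c⁻¹ = k * z * k⁻¹ := by
  set b := k * z * k⁻¹ with hb
  have hbb : b * b = 1 := by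
    rw [hb]
    calc k * z * k⁻¹ * (k * z * k⁻¹) = k * (z * z) * k⁻¹ := by group
      _ = 1 := by rw [hzz]; group
  have hzb : IsConj z b := isConj_iff.mpr ⟨k, rfl⟩
  set r := z * b with hr
  have hrinv : r⁻¹ = b * z := by
    rw [hr, mul_inv_rev]
    rw [inv_eq_of_mul_eq_one_right hbb, inv_eq_of_mul_eq_one_right hzz]
  have hzr : z * r = r⁻¹ * z := by
    rw [hrinv, hr, ← mul_assoc, hzz, one_mul, mul_assoc, hzz, mul_one]
  have hbr : b * r = r⁻¹ * b := by
    rw [hrinv, hr, ← mul_assoc]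
  have hzrb : z * r = b := by rw [hr, ← mul_assoc, hzz, one_mul]
  have hn0 : 0 < orderOf r := orderOf_pos r
  rcases Nat.even_or_odd' (orderOf r) with ⟨l, hl | hl⟩
  · exfalso
    have hl0 : l ≠ 0 := by omega
    set w := r ^ l with hw
    have hw1 : w ≠ 1 := pow_ne_one_of_lt_orderOf hl0 (by omega)
    have hww : w * w = 1 := by
      rw [hw, ← pow_add, ← two_mul, ← hl, pow_orderOf_eq_one]
    have hwinv : (r⁻¹) ^ l = w := by
      rw [inv_pow]; exact inv_eq_of_mul_eq_one_right hww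
    have hzw : z * w = w * z := by rw [hw, dih_conj z r hzr l, hwinv]
    have hbw : b * w = w * b := by rw [hw, dih_conj b r hbr l, hwinv]
    have hconj : IsConj z (z * w) := by
      rcases Nat.even_or_odd' l with ⟨j, hj | hj⟩
      · rw [hw, hj]; exact dih_isConj z r hzr j
      · have : z * w = b * r ^ (2 * j) := by
          rw [hw, hj, add_comm, pow_add, pow_one, ← mul_assoc, hzrb]
        rw [this]
        exact hzb.trans (dih_isConj b r hbr j)
    have hU := h1 (z * w) hconj (fun h => hw1 (by simpa using h))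
      (by rw [mul_assoc, ← hzw]) k
    have ezw : z * (z * w) = w := by rw [← mul_assoc, hzz, one_mul]
    rw [ezw] at hU
    apply hk
    apply hU.mp
    apply hCz
    calc k⁻¹ * w * k * z = k⁻¹ * (w * (k * z * k⁻¹)) * k := by group
      _ = k⁻¹ * ((k * z * k⁻¹) * w) * k := by rw [← hb, hbw]
      _ = z * (k⁻¹ * w * k) := by group
  · set e := r ^ (l + 1) with he
    have h2i : r ^ (2 * (l + 1)) = r := by
      rw [show 2 * (l + 1) = orderOf r + 1 by omega, pow_add, pow_orderOf_eq_one, one_mul, pow_one]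
    have hee : e * e = r := by rw [he, ← pow_add, ← two_mul, h2i]
    have hze : z * e = e⁻¹ * z := by rw [he, dih_conj z r hzr, inv_pow]
    refine ⟨z * e, ?_, ?_⟩
    · have : e = r ^ (2 * ((l + 1) * (l + 1))) := by
        rw [← mul_assoc, pow_mul, h2i]
      rw [this]
      exact dih_isConj z r hzr _
    · have key : z * e * z = b * (z * e) := by
        have e1 : e * (z * e) = z := by rw [hze, ← mul_assoc, mul_inv_cancel, one_mul]
        rw [← hzrb, ← hee]
        calc z * e * z = z * e * (e * (z * e)) := by rw [e1]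
          _ = z * (e * e) * (z * e) := by group
      rw [key, mul_assoc, mul_inv_cancel, mul_one]

theorem odd_index {G : Type*} [Group G] [Finite G] (z : G) (hzz : z * z = 1) (H : Subgroup G)
    (hH : H ≠ ⊤) (h0 : ∀ g : G, g⁻¹ * z * g ∈ H ↔ g ∈ H)
    (h1 : ∀ t : G, IsConj z t → t ≠ z → t * z = z * t → ∀ g : G, g⁻¹ * (z * t) * g ∈ H ↔ g ∈ H) :
    Odd (Subgroup.centralizer ({z} : Set G)).index := by
  classical
  haveI := Fintype.ofFinite G
  have hzH : z ∈ H := by simpa using (h0 1).mpr H.one_mem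
  have hCz : ∀ x, x * z = z * x → x ∈ H := by
    intro x hx
    apply (h0 x).mp
    rw [mul_assoc, ← hx, ← mul_assoc, inv_mul_cancel, one_mul]
    exact hzH
  have F2 : ∀ k, k * z * k⁻¹ ∈ H ↔ k ∈ H := by
    intro k
    have := h0 k⁻¹
    rwa [inv_inv, H.inv_mem_iff] at this
  have hsq : ∀ c, IsConj z c → c * c = 1 := by
    intro c hc
    obtain ⟨k, rfl⟩ := isConj_iff.mp hc
    calc k * z * k⁻¹ * (k * z * k⁻¹) = k * (z * z) * k⁻¹ := by group
      _ = 1 := by rw [hzz]; group
  have hinv : ∀ c, IsConj z c → c⁻¹ = c := fun c hc => inv_eq_of_mul_eq_one_right (hsq c hc)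
  have hex := exists_swap z hzz H hCz h1
  obtain ⟨g, hg⟩ : ∃ g, g ∉ H := by
    by_contra hcon
    push_neg at hcon
    exact hH ((Subgroup.eq_top_iff' H).mpr hcon)
  set D := Finset.univ.filter (fun c => IsConj z c ∧ c ∉ H) with hD
  set M := Finset.univ.filter (fun c => IsConj z c ∧ c ∈ H) with hM
  set S := Finset.univ.filter (fun c => IsConj z c ∧ g⁻¹ * c ∈ H) with hS
  have hinj : Set.InjOn (fun c => c * z * c⁻¹) (D : Set G) := by
    apply Finset.injOn_of_surjOn_of_card_le (t := D) _ _ _ le_rfl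
    · intro c hc
      have hc' : IsConj z c ∧ c ∉ H := by simpa [hD] using hc
      have : IsConj z (c * z * c⁻¹) ∧ c * z * c⁻¹ ∉ H :=
        ⟨isConj_iff.mpr ⟨c, rfl⟩, fun h => hc'.2 ((F2 c).mp h)⟩
      simpa [hD] using this
    · intro b hb
      have hb' : IsConj z b ∧ b ∉ H := by simpa [hD] using hb
      obtain ⟨k, rfl⟩ := isConj_iff.mp hb'.1
      have hk : k ∉ H := fun h => hb'.2 ((F2 k).mpr h)
      obtain ⟨c, hc1, hc2⟩ := hex k hk
      refine ⟨c, ?_, hc2⟩
      have : IsConj z c ∧ c ∉ H := ⟨hc1, fun h => hb'.2 (by rw [← hc2]; exact (F2 c).mpr h)⟩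
      simpa [hD] using this
  have hSD : ∀ c, g⁻¹ * c ∈ H → c ∉ H := by
    intro c h1' h2'
    apply hg
    have := H.mul_mem h2' (H.inv_mem h1')
    simpa using this
  have hSM : S.card = M.card := by
    apply Finset.card_bij (fun c _ => g⁻¹ * (c * z * c⁻¹) * g)
    · intro c hc
      have hc' : IsConj z c ∧ g⁻¹ * c ∈ H := by simpa [hS] using hc
      have e : g⁻¹ * (c * z * c⁻¹) * g = (g⁻¹ * c) * z * (g⁻¹ * c)⁻¹ := by group
      have : IsConj z (g⁻¹ * (c * z * c⁻¹) * g) ∧ g⁻¹ * (c * z * c⁻¹) * g ∈ H := by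
        rw [e]
        exact ⟨isConj_iff.mpr ⟨_, rfl⟩, (F2 _).mpr hc'.2⟩
      simpa [hM] using this
    · intro c₁ hc₁ c₂ hc₂ heq
      have hc₁' : IsConj z c₁ ∧ g⁻¹ * c₁ ∈ H := by simpa [hS] using hc₁
      have hc₂' : IsConj z c₂ ∧ g⁻¹ * c₂ ∈ H := by simpa [hS] using hc₂
      have heq' : c₁ * z * c₁⁻¹ = c₂ * z * c₂⁻¹ := mul_left_cancel (mul_right_cancel heq)
      apply hinj _ _ heq'
      · simpa [hD] using (⟨hc₁'.1, hSD _ hc₁'.2⟩ : IsConj z c₁ ∧ c₁ ∉ H)
      · simpa [hD] using (⟨hc₂'.1, hSD _ hc₂'.2⟩ : IsConj z c₂ ∧ c₂ ∉ H)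
    · intro a ha
      have ha' : IsConj z a ∧ a ∈ H := by simpa [hM] using ha
      obtain ⟨k, rfl⟩ := isConj_iff.mp ha'.1
      have hk : k ∈ H := (F2 k).mp ha'.2
      have hgk : g * k ∉ H := fun h => hg (by simpa using H.mul_mem h (H.inv_mem hk))
      obtain ⟨c, hc1, hc2⟩ := hex (g * k) hgk
      have e : (g⁻¹ * c) * z * (g⁻¹ * c)⁻¹ = k * z * k⁻¹ := by
        calc (g⁻¹ * c) * z * (g⁻¹ * c)⁻¹ = g⁻¹ * (c * z * c⁻¹) * g := by group
          _ = k * z * k⁻¹ := by rw [hc2]; group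
      refine ⟨c, ?_, ?_⟩
      · have : IsConj z c ∧ g⁻¹ * c ∈ H := ⟨hc1, (F2 _).mp (by rw [e]; exact ha'.2)⟩
        simpa [hS] using this
      · rw [hc2]; group
  have hzM : z ∈ M := by simpa [hM] using (⟨IsConj.refl z, hzH⟩ : IsConj z z ∧ z ∈ H)
  have hSne : S.Nonempty := by
    rw [← Finset.card_pos, hSM]; exact Finset.card_pos.mpr ⟨z, hzM⟩
  obtain ⟨c₀, hc₀⟩ := hSne
  have hc₀' : IsConj z c₀ ∧ g⁻¹ * c₀ ∈ H := by simpa [hS] using hc₀
  have hSodd : Odd S.card := by
    have hev : Even (S.erase c₀).card := by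
      apply even_card_of_invol _ (fun c => c₀ * c * c₀⁻¹)
      · intro c hc
        rw [Finset.mem_erase] at hc ⊢
        have hc' : IsConj z c ∧ g⁻¹ * c ∈ H := by simpa [hS] using hc.2
        refine ⟨?_, ?_⟩
        · intro h
          apply hc.1
          have : c₀ * c = c₀ * c₀ := by
            calc c₀ * c = (c₀ * c * c₀⁻¹) * c₀ := by group
              _ = c₀ * c₀ := by rw [h]
          exact mul_left_cancel this
        · have e : g⁻¹ * (c₀ * c * c₀⁻¹) = (g⁻¹ * c₀) * (g⁻¹ * c)⁻¹ * (g⁻¹ * c₀) := by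
            calc g⁻¹ * (c₀ * c * c₀⁻¹) = g⁻¹ * (c₀ * c * c₀) := by rw [hinv c₀ hc₀'.1]
              _ = g⁻¹ * (c₀ * c⁻¹ * c₀) := by rw [hinv c hc'.1]
              _ = (g⁻¹ * c₀) * (g⁻¹ * c)⁻¹ * (g⁻¹ * c₀) := by group
          have : IsConj z (c₀ * c * c₀⁻¹) ∧ g⁻¹ * (c₀ * c * c₀⁻¹) ∈ H := by
            refine ⟨hc'.1.trans (isConj_iff.mpr ⟨c₀, rfl⟩), ?_⟩
            rw [e]
            exact H.mul_mem (H.mul_mem hc₀'.2 (H.inv_mem hc'.2)) hc₀'.2
          simpa [hS] using this
      · intro c _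
        show c₀ * (c₀ * c * c₀⁻¹) * c₀⁻¹ = c
        calc c₀ * (c₀ * c * c₀⁻¹) * c₀⁻¹ = (c₀ * c₀) * c * (c₀ * c₀)⁻¹ := by group
          _ = c := by rw [hsq c₀ hc₀'.1]; group
      · intro c hc hfix
        rw [Finset.mem_erase] at hc
        have hc' : IsConj z c ∧ g⁻¹ * c ∈ H := by simpa [hS] using hc.2
        have hcomm : c₀ * c = c * c₀ := by
          calc c₀ * c = (c₀ * c * c₀⁻¹) * c₀ := by group
            _ = c * c₀ := by rw [hfix]
        obtain ⟨k, hk⟩ := isConj_iff.mp hc₀'.1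
        have hz' : z = k⁻¹ * c₀ * k := by rw [← hk]; group
        have hU := h1 (k⁻¹ * c * k) (hc'.1.trans (isConj_iff.mpr ⟨k⁻¹, by group⟩))
          (by
            intro h
            apply hc.1
            rw [← hk, ← h]; group)
          (by
            calc k⁻¹ * c * k * z = k⁻¹ * c * k * (k⁻¹ * c₀ * k) := by rw [← hz']
              _ = k⁻¹ * (c * c₀) * k := by group
              _ = k⁻¹ * (c₀ * c) * k := by rw [hcomm]
              _ = (k⁻¹ * c₀ * k) * (k⁻¹ * c * k) := by group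
              _ = z * (k⁻¹ * c * k) := by rw [← hz'])
        have ezt : z * (k⁻¹ * c * k) = k⁻¹ * (c₀ * c) * k := by
          calc z * (k⁻¹ * c * k) = (k⁻¹ * c₀ * k) * (k⁻¹ * c * k) := by rw [← hz']
            _ = k⁻¹ * (c₀ * c) * k := by group
        rw [ezt] at hU
        have a1 : k⁻¹ ∈ H := (hU k⁻¹).mp (by
          have e : (k⁻¹)⁻¹ * (k⁻¹ * (c₀ * c) * k) * k⁻¹ = (g⁻¹ * c₀)⁻¹ * (g⁻¹ * c) := by
            calc (k⁻¹)⁻¹ * (k⁻¹ * (c₀ * c) * k) * k⁻¹ = c₀ * c := by group
              _ = c₀⁻¹ * c := by rw [hinv c₀ hc₀'.1]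
              _ = (g⁻¹ * c₀)⁻¹ * (g⁻¹ * c) := by group
          rw [e]; exact H.mul_mem (H.inv_mem hc₀'.2) hc'.2)
        have a2 : k⁻¹ * g ∈ H := (hU (k⁻¹ * g)).mp (by
          have e : (k⁻¹ * g)⁻¹ * (k⁻¹ * (c₀ * c) * k) * (k⁻¹ * g) = (g⁻¹ * c₀) * (g⁻¹ * c)⁻¹ := by
            calc (k⁻¹ * g)⁻¹ * (k⁻¹ * (c₀ * c) * k) * (k⁻¹ * g) = g⁻¹ * c₀ * c * g := by group
              _ = g⁻¹ * c₀ * c⁻¹ * g := by rw [hinv c hc'.1]
              _ = (g⁻¹ * c₀) * (g⁻¹ * c)⁻¹ := by group
          rw [e]; exact H.mul_mem hc₀'.2 (H.inv_mem hc'.2))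
        exact hg (by simpa using H.mul_mem (H.inv_mem a1) a2)
    have := Finset.card_erase_add_one hc₀
    rw [← this]
    exact hev.add_one
  have hDev : Even D.card := by
    apply even_card_of_invol _ (fun c => z * c * z⁻¹)
    · intro c hc
      have hc' : IsConj z c ∧ c ∉ H := by simpa [hD] using hc
      have : IsConj z (z * c * z⁻¹) ∧ z * c * z⁻¹ ∉ H := by
        refine ⟨hc'.1.trans (isConj_iff.mpr ⟨z, rfl⟩), fun h => hc'.2 ?_⟩
        have := H.mul_mem (H.mul_mem (H.inv_mem hzH) h) hzH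
        simpa [mul_assoc] using this
      simpa [hD] using this
    · intro c _
      show z * (z * c * z⁻¹) * z⁻¹ = c
      calc z * (z * c * z⁻¹) * z⁻¹ = (z * z) * c * (z * z)⁻¹ := by group
        _ = c := by rw [hzz]; group
    · intro c hc hfix
      have hc' : IsConj z c ∧ c ∉ H := by simpa [hD] using hc
      apply hc'.2
      apply hCz
      calc c * z = (z * c * z⁻¹) * z := by rw [hfix]
        _ = z * c := by group
  have htot : (Finset.univ.filter (fun c => IsConj z c)).card = M.card + D.card := by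
    have h5 := Finset.card_filter_add_card_filter_not
      (s := Finset.univ.filter (fun c => IsConj z c)) (fun a => a ∈ H)
    rw [Finset.filter_filter, Finset.filter_filter] at h5
    exact h5.symm
  have hidx : (Subgroup.centralizer ({z} : Set G)).index =
      (Finset.univ.filter (fun c => IsConj z c)).card := by
    rw [← Cfsg.Agent.Lib.Helper22.ncard_carrier_eq_index_centralizer, ← Set.ncard_coe_finset]
    congr 1
    ext a
    rw [ConjClasses.mem_carrier_iff_mk_eq, ConjClasses.mk_eq_mk_iff_isConj]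
    simp only [Finset.coe_filter, Finset.mem_univ, true_and, Set.mem_setOf_eq]
    exact isConj_comm
  rw [hidx, htot, ← hSM]
  exact hSodd.add_even hDev

/-- Let z be an involution of a finite group G and H a proper subgroup such that z lies in gHg⁻¹ exactly when g ∈ H. Then the following are equivalent: (1) for every conjugate t ≠ z of z commuting with z, the product zt lies in gHg⁻¹ exactly when g ∈ H; (2) z lies in the centre of some Sylow 2-subgroup of G, and for every conjugate t ≠ z of z commuting with z, the centralizer of zt is contained in H. -/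
theorem result {G : Type*} [Group G] [Finite G] (z : G) (hz : orderOf z = 2) (H : Subgroup G) (hH : H ≠ ⊤)
    (h0 : ∀ g : G, z ∈ H.map (MulAut.conj g).toMonoidHom ↔ g ∈ H) :
    (∀ t : G, IsConj z t → t ≠ z → t * z = z * t → ∀ g : G, z * t ∈ H.map (MulAut.conj g).toMonoidHom ↔ g ∈ H) ↔
      ((∃ P : Sylow 2 G, z ∈ (Subgroup.center ↥(P : Subgroup G)).map (P : Subgroup G).subtype) ∧
        ∀ t : G, IsConj z t → t ≠ z → t * z = z * t → Subgroup.centralizer ({z * t} : Set G) ≤ H) := by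
  classical
  haveI : Fact (Nat.Prime 2) := ⟨Nat.prime_two⟩
  simp only [mem_conj_iff] at h0 ⊢
  have hzz : z * z = 1 := by rw [← sq, ← hz]; exact pow_orderOf_eq_one z
  have hzH : z ∈ H := by simpa using (h0 1).mpr H.one_mem
  have hCz : ∀ x, x * z = z * x → x ∈ H := by
    intro x hx
    apply (h0 x).mp
    rw [mul_assoc, ← hx, ← mul_assoc, inv_mul_cancel, one_mul]
    exact hzH
  have F2 : ∀ k, k * z * k⁻¹ ∈ H ↔ k ∈ H := by
    intro k
    have := h0 k⁻¹
    rwa [inv_inv, H.inv_mem_iff] at this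
  constructor
  · intro h1
    refine ⟨sylow_central z hz (odd_index z hzz H hH h0 h1), ?_⟩
    intro t ht hne hcomm x hx
    have hx' : x * (z * t) = z * t * x := Subgroup.mem_centralizer_singleton_iff.mp hx
    apply (h1 t ht hne hcomm x).mp
    have e : x⁻¹ * (z * t) * x = z * t := by rw [mul_assoc, ← hx']; group
    rw [e]
    exact H.mul_mem hzH (hCz t hcomm)
  · rintro ⟨⟨P, hzc⟩, hC2⟩ t ht hne hcomm g
    have htH : t ∈ H := hCz t hcomm
    constructor
    · intro hu
      obtain ⟨zc, hzc1, hzc2⟩ := hzc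
      have hzc2' : (zc : G) = z := hzc2
      have hPc : ∀ x ∈ (P : Subgroup G), x * z = z * x := by
        intro x hx
        have := congrArg Subtype.val (Subgroup.mem_center_iff.mp hzc1 ⟨x, hx⟩)
        rw [← hzc2']; exact this
      have hPH : (P : Subgroup G) ≤ H := fun x hx => hCz x (hPc x hx)
      have htt : t * t = 1 := by
        obtain ⟨k, rfl⟩ := isConj_iff.mp ht
        calc k * z * k⁻¹ * (k * z * k⁻¹) = k * (z * z) * k⁻¹ := by group
          _ = 1 := by rw [hzz]; group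
      set u' : H := ⟨g⁻¹ * (z * t) * g, hu⟩ with hu'
      have hu2 : u' ^ 2 = 1 := by
        apply Subtype.ext
        show (g⁻¹ * (z * t) * g) ^ 2 = 1
        rw [sq]
        calc g⁻¹ * (z * t) * g * (g⁻¹ * (z * t) * g) = g⁻¹ * (z * (t * z) * t) * g := by group
          _ = g⁻¹ * ((z * z) * (t * t)) * g := by rw [hcomm]; group
          _ = 1 := by rw [hzz, htt]; group
      have hpg : IsPGroup 2 (Subgroup.zpowers u') := by
        rcases (Nat.dvd_prime Nat.prime_two).mp (orderOf_dvd_of_pow_eq_one hu2) with h | h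
        · exact IsPGroup.of_card (n := 0) (by rw [Nat.card_zpowers, h, pow_zero])
        · exact IsPGroup.of_card (n := 1) (by rw [Nat.card_zpowers, h, pow_one])
      obtain ⟨Q, hQ⟩ := hpg.exists_le_sylow
      obtain ⟨h, hh⟩ := MulAction.exists_smul_eq H (P.subtype hPH) Q
      have hmem : u' ∈ (Q : Subgroup H) := hQ (Subgroup.mem_zpowers u')
      rw [← hh, Sylow.coe_subgroup_smul, Subgroup.mem_pointwise_smul_iff_inv_smul_mem] at hmem
      have hmem' : (h : G)⁻¹ * (g⁻¹ * (z * t) * g) * h ∈ (P : Subgroup G) := by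
        simpa [Sylow.coe_subtype, Subgroup.mem_subgroupOf, MulAut.smul_def, MulAut.conj_inv_apply,
          hu'] using hmem
      have hc := hPc _ hmem'
      have hcen : (g * h) * z * (g * h)⁻¹ ∈ Subgroup.centralizer ({z * t} : Set G) := by
        rw [Subgroup.mem_centralizer_singleton_iff]
        calc (g * h) * z * (g * h)⁻¹ * (z * t)
            = (g * h) * (z * ((h : G)⁻¹ * (g⁻¹ * (z * t) * g) * h)) * (g * h)⁻¹ := by group
          _ = (g * h) * (((h : G)⁻¹ * (g⁻¹ * (z * t) * g) * h) * z) * (g * h)⁻¹ := by rw [hc]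
          _ = z * t * ((g * h) * z * (g * h)⁻¹) := by group
      have := (F2 _).mp (hC2 t ht hne hcomm hcen)
      simpa using H.mul_mem this (H.inv_mem h.2)
    · intro hg
      exact H.mul_mem (H.mul_mem (H.inv_mem hg) (H.mul_mem hzH htH)) hg

end Cfsg.Agent.S1922
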