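import Cfsg.Statements.S1932
import Cfsg.Agent.Lib.Helper5.SF6

set_option autoImplicit false
open Cfsg

namespace Cfsg.Agent.S1932

/-- Let G be a finite group that is 2-constrained and has no section isomorphic to the symmetric group of degree 4, and let S be a Sylow 2-subgroup of G of nilpotency class at most 2. Then G = N_G(J(S))·O_{2'}(G), where J(S) is the Thompson subgroup generated by the elementary abelian subgroups of S of largest order. -/
theorem result {G : Type*} [Group G] [Finite G] (hcon : Cfsg.IsPConstrained 2 G) (hS4 : ¬ Cfsg.Involves (Equiv.Perm (Fin 4)) G) (S : Sylow 2 G) (hcl : Subgroup.lowerCentralSeries (S : Subgroup G) 2 = ⊥) : Subgroup.normalizer ((Cfsg.thompsonSubgroupOf 2 (S : Subgroup G)) : Set G) ⊔ Cfsg.pPrimeCore 2 G = ⊤ := by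
  haveI : Fact (Nat.Prime 2) := ⟨Nat.prime_two⟩
  have hs := QuotientGroup.mk'_surjective (Cfsg.pPrimeCore 2 G)
  have hOodd : (Nat.card (Cfsg.pPrimeCore 2 G)).Coprime 2 :=
    Cfsg.Agent.Lib.Helper5.pPrimeCore_coprime
  have hcl' : ⁅⁅(S : Subgroup G), (S : Subgroup G)⁆, (S : Subgroup G)⁆ = ⊥ := hcl
  have hn := Cfsg.Agent.Lib.Helper5.thompsonE_normal_of_class_two'
    (X := G ⧸ Cfsg.pPrimeCore 2 G) (Cfsg.Agent.Lib.Helper5.isPConstrained_iff.mp hcon)
    (fun h => hS4 (Cfsg.Agent.Lib.Helper17.involves_of_quotient _ h)) (S.mapSurjective hs)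
    (by
      rw [Sylow.coe_mapSurjective, ← Subgroup.map_commutator, ← Subgroup.map_commutator, hcl',
        Subgroup.map_bot])
  rw [Sylow.coe_mapSurjective] at hn
  have e := Cfsg.Agent.Lib.Helper5.iF_map (Cfsg.Agent.Lib.Helper5.jE_char (p := 2))
    (QuotientGroup.mk' (Cfsg.pPrimeCore 2 G)) S.2
    (by rw [QuotientGroup.ker_mk']
        exact Cfsg.Agent.Lib.Helper5.pgroup_inf_coprime_eq_bot S.2 hOodd)
  rw [Cfsg.Agent.Lib.Helper5.iF_jE, Cfsg.Agent.Lib.Helper5.iF_jE] at e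
  rw [e] at hn
  rw [eq_top_iff]
  intro g _
  have hJp : IsPGroup 2 (Cfsg.thompsonSubgroupOf 2 (S : Subgroup G)) :=
    S.2.to_le (Subgroup.map_subtype_le _)
  obtain ⟨h, hh, he⟩ := Cfsg.Agent.Lib.Helper5.exists_mem_normalizer_of_quot hOodd hJp (g := g)
    (by rw [Subgroup.normalizer_eq_top_iff.mpr hn]; trivial)
  have h1 : h⁻¹ * g ∈ Cfsg.pPrimeCore 2 G := by
    rw [← QuotientGroup.eq_one_iff]
    have : ((h⁻¹ * g : G) : G ⧸ Cfsg.pPrimeCore 2 G) =
        (QuotientGroup.mk' (Cfsg.pPrimeCore 2 G) h)⁻¹ * QuotientGroup.mk' (Cfsg.pPrimeCore 2 G) g := rfl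
    rw [this, he, inv_mul_cancel]
  have h2 : g = h * (h⁻¹ * g) := by group
  rw [h2]
  exact Subgroup.mul_mem _ (Subgroup.mem_sup_left hh) (Subgroup.mem_sup_right h1)

end Cfsg.Agent.S1932
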