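import Cfsg.Statements.S1953
import Cfsg.Agent.Lib.Helper5.QE2

set_option autoImplicit false
open Cfsg

namespace Cfsg.Agent.S1953

/-- Let p be an odd prime and P a Sylow p-subgroup of the finite group G, and suppose that for no p-subgroup Q of G does N_G(Q)/C_G(Q) have a section isomorphic to SL₂(p). Call a subgroup Q of P centric-radical when Z(Q) is a Sylow p-subgroup of C_G(Q) and the only normal subgroup X of N_G(Q) containing Q·C_G(Q) such that the index of Q·C_G(Q) in X is a power of p is Q·C_G(Q) itself (that is, N_G(Q)/Q·C_G(Q) has no nontrivial normal p-subgroup). Then there is a centric-radical subgroup Q of P contained in every centric-radical subgroup of P; it is normal in P, and N_G(Q) controls strong fusion in P: whenever a subgroup A of P has g A g⁻¹ ≤ P, the element g is a product h c with h in N_G(Q) and c centralizing A. -/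
theorem result {G : Type*} [Group G] [Finite G] {p : ℕ} [Fact p.Prime] (hp : p ≠ 2) (P : Sylow p G)
    (hfree : ∀ Q : Subgroup G, IsPGroup p ↥Q → ¬ ∃ (H K : Subgroup G) (_ : (K.subgroupOf H).Normal),
      Subgroup.centralizer (Q : Set G) ≤ K ∧ K ≤ H ∧ H ≤ Subgroup.normalizer (Q : Set G) ∧
      Nonempty ((↥H ⧸ K.subgroupOf H) ≃* Matrix.SpecialLinearGroup (Fin 2) (ZMod p)))
    (cr : Subgroup G → Prop)
    (hcr : ∀ Q : Subgroup G, cr Q ↔ (Q ≤ (P : Subgroup G) ∧
      (∃ R : Sylow p ↥(Subgroup.centralizer (Q : Set G)),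
        (R : Subgroup ↥(Subgroup.centralizer (Q : Set G))).map (Subgroup.centralizer (Q : Set G)).subtype = Q ⊓ Subgroup.centralizer (Q : Set G)) ∧
      ∀ X : Subgroup G, X ≤ Subgroup.normalizer (Q : Set G) →
        (∀ n ∈ Subgroup.normalizer (Q : Set G), X.map (MulAut.conj n).toMonoidHom = X) →
        Q ⊔ Subgroup.centralizer (Q : Set G) ≤ X → (∃ k : ℕ, (Q ⊔ Subgroup.centralizer (Q : Set G)).relIndex X = p ^ k) →
        X = Q ⊔ Subgroup.centralizer (Q : Set G))) :
    ∃ Q : Subgroup G, cr Q ∧ (∀ R : Subgroup G, cr R → Q ≤ R) ∧ (∀ x ∈ (P : Subgroup G), Q.map (MulAut.conj x).toMonoidHom = Q) ∧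
      ∀ A : Subgroup G, A ≤ (P : Subgroup G) → ∀ g : G, A.map (MulAut.conj g).toMonoidHom ≤ (P : Subgroup G) →
        ∃ h ∈ Subgroup.normalizer (Q : Set G), ∃ c ∈ Subgroup.centralizer (A : Set G), g = h * c := by
  have hQd := Cfsg.Agent.Lib.Helper5.qdFree_of_aut_free hfree
  have hsec : Cfsg.Agent.Lib.Helper13.SecStable p G := fun Z _ hZ => by
    haveI := hZ.finite
    exact (hQd.sec hZ).normalizerPStable hp
  have hsolv := Cfsg.Agent.Lib.Helper13.groupFS_solvable_of_secStable hsec P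
  have hF := Cfsg.Agent.Lib.Helper26.groupFS_saturated P
  have hcon := Cfsg.Agent.Lib.Helper27.constrained_of_solvable' P.2 hF hsolv
  have hcen := Cfsg.Agent.Lib.Helper27.IsConstrained.core_isCentric hcon
  have hrad := Cfsg.Agent.Lib.Helper27.core_isRadical P.2 hF hcen
  have hnor := Cfsg.Agent.Lib.Helper26.core_isNormal (Cfsg.groupFusionSystem (P : Subgroup G))
  obtain ⟨Q, hQ⟩ : ∃ Q, Q = (Cfsg.groupFusionSystem (P : Subgroup G)).core := ⟨_, rfl⟩
  rw [← hQ] at hcen hrad hnor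
  have hQP : Q ≤ (P : Subgroup G) := hnor.1
  have hPQ : (P : Subgroup G) ≤ Subgroup.normalizer (Q : Set G) :=
    Cfsg.Agent.Lib.Helper27.IsNormal.le_normalizer hnor
  have hctl := Cfsg.Agent.Lib.Helper5.groupFS_normal_control hnor
  have hcP : (P : Subgroup G) ⊓ Subgroup.centralizer (Q : Set G) ≤ Q :=
    hcen.2 Q (Cfsg.Agent.Lib.Helper26.isConj_refl _ hQP)
  refine ⟨Q, ?_, ?_, ?_, ?_⟩
  · rw [hcr]
    refine ⟨hQP, Cfsg.Agent.Lib.Helper5.centric_group P Q hQP hPQ hcP, ?_⟩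
    rintro X hX1 hX2 hX3 ⟨k, hk⟩
    exact Cfsg.Agent.Lib.Helper5.radical_group hQP (P.2.to_le hQP) hrad X hX1 hX2 hX3 k hk
  · intro R hR
    rw [hcr] at hR
    exact Cfsg.Agent.Lib.Helper5.le_of_cr P Q hQP hPQ hctl R hR.1 hR.2.1 hR.2.2
  · intro x hx
    rw [Cfsg.Agent.Lib.Helper13.map_conj_eq_cj]
    exact Cfsg.Agent.Lib.Helper13.mem_normalizer_iff_cj.mp (inv_mem (hPQ hx))
  · intro A hA g hg
    obtain ⟨h, hh, e⟩ := hctl A hA g (fun a ha => hg ⟨a, ha, rfl⟩)
    refine ⟨h, hh, h⁻¹ * g, ?_, by group⟩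
    rw [Subgroup.mem_centralizer_iff]
    intro a ha
    have e1 := e a ha
    calc a * (h⁻¹ * g) = h⁻¹ * (h * a * h⁻¹) * g := by group
      _ = h⁻¹ * (g * a * g⁻¹) * g := by rw [e1]
      _ = h⁻¹ * g * a := by group

end Cfsg.Agent.S1953
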