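import Cfsg.Statements.S1990
import Cfsg.Agent.Lib.Helper5.NPCApp
import Cfsg.Agent.Lib.Helper5.SerClass

set_option autoImplicit false
universe u
open Cfsg

namespace Cfsg.Agent.S1990

open Cfsg.Agent.Lib.Helper5 in
theorem normal_of_controls {Y : Type*} [Group Y] [Finite Y] {p : ℕ} [Fact p.Prime]
    (hc : Subgroup.centralizer (Cfsg.pCore p Y : Set Y) ≤ Cfsg.pCore p Y) (U : Subgroup Y)
    (hU : Cfsg.pCore p Y ≤ Subgroup.normalizer (U : Set Y))
    (h : Cfsg.ControlsStrongFusion p U) : U.Normal := by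
  obtain ⟨T, -, hT⟩ := h
  rw [← Subgroup.normalizer_eq_top_iff, eq_top_iff]
  intro g _
  have hA : ((Cfsg.pCore p Y : Subgroup Y) : Set Y) ⊆ (T : Subgroup Y) :=
    SetLike.coe_subset_coe.mpr (pCore_le_sylow T)
  obtain ⟨x, hx, hxa⟩ := (hT _ hA).2 g (by
    rintro _ ⟨a, ha, rfl⟩
    exact hA ((inferInstance : (Cfsg.pCore p Y).Normal).conj_mem a ha g))
  have h1 : x⁻¹ * g ∈ Subgroup.centralizer (Cfsg.pCore p Y : Set Y) := by
    rw [Subgroup.mem_centralizer_iff]
    intro a ha
    have := hxa a ha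
    calc a * (x⁻¹ * g) = x⁻¹ * (x * a * x⁻¹) * g := by group
      _ = x⁻¹ * (g * a * g⁻¹) * g := by rw [this]
      _ = x⁻¹ * g * a := by group
  have h2 := mul_mem hx (hU (hc h1))
  rwa [mul_inv_cancel_left] at h2


/-- Let p be an odd prime, G a finite group with Sylow p-subgroup S, and W an isomorphism-invariant p-group functor (W assigns to every group Q a subgroup W(Q), nontrivial whenever Q is a nontrivial finite p-group, and every isomorphism from a finite p-group Q onto a group R carries W(Q) onto W(R)). Suppose N_G(W(S)) has a normal p-complement, and W(T) controls strong fusion in every section G* = K/R of G all of whose sections are p-stable in the normalizer form, for every Sylow p-subgroup T of G*. Then G has a normal p-complement. -/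
theorem result {G : Type u} [Group G] [Finite G] {p : ℕ} [Fact p.Prime] (hp : p ≠ 2) (W : ∀ (Q : Type u) [Group Q], Subgroup Q) (hW : Cfsg.IsCharPFunctor.{u} p W) (S : Sylow p G) (hN : Cfsg.HasNormalPComplement p ↥(Subgroup.normalizer ((Cfsg.inducedFunctor (G := G) W (S : Subgroup G) : Subgroup G) : Set G))) (hctl : ∀ (K R : Subgroup G) [hR : (R.subgroupOf K).Normal], (∀ (K' R' : Subgroup (↥K ⧸ R.subgroupOf K)) [hR' : (R'.subgroupOf K').Normal], Cfsg.IsNormalizerPStable p (↥K' ⧸ R'.subgroupOf K')) → ∀ T : Sylow p (↥K ⧸ R.subgroupOf K), Cfsg.ControlsStrongFusion p (Cfsg.inducedFunctor (G := (↥K ⧸ R.subgroupOf K)) W (T : Subgroup (↥K ⧸ R.subgroupOf K)))) : Cfsg.HasNormalPComplement p G := by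
  open Cfsg.Agent.Lib.Helper5 in
  rw [npc_iff] at hN ⊢
  refine npc_functor hW True (SecOf G) SecOf.sub SecOf.quot ?_ G (SecOf.self G) S S
    ⟨le_rfl, fun x _ g hg => hg⟩ (fun _ => rfl) hN
  intro X _ _ hX T D _ hfull hc hq hco
  rw [hfull trivial]
  obtain ⟨K, R, hR, ⟨e⟩⟩ := hX.exists_equiv
  apply iF_normal_of_equiv hW e.symm T.2
  have hs : Function.Surjective e.symm.toMonoidHom := e.symm.surjective
  have hser : SerClass p (↥K ⧸ R.subgroupOf K) :=
    (serClass_of_final hq T hco).of_surjective _ hs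
  have h := hctl K R (fun K' R' hR' =>
    ((hser.subgroup K').of_surjective _
      (QuotientGroup.mk'_surjective (R'.subgroupOf K'))).normalizerPStable hp)
    (T.mapSurjective hs)
  rw [Sylow.coe_mapSurjective] at h
  refine normal_of_controls (selfCent_of_equiv e.symm hc) _ ?_ h
  have h1 : Cfsg.pCore p (↥K ⧸ R.subgroupOf K) ≤ (T : Subgroup X).map e.symm.toMonoidHom := by
    have := pCore_le_sylow (T.mapSurjective hs)
    rwa [Sylow.coe_mapSurjective] at this
  exact h1.trans (Subgroup.le_normalizer.trans (normalizer_le_iF hW (T.2.map _)))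

end Cfsg.Agent.S1990
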