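import Cfsg.Statements.S1988
-- import your own Cfsg.Agent.* helpers here
import Cfsg.Agent.Lib.Helper13.KInfFusion
import Cfsg.Agent.S1990
import Cfsg.Agent.S0071

set_option autoImplicit false
universe u
open Cfsg

namespace Cfsg.Agent.S1988

open Cfsg.Agent.Lib.Helper13

theorem npc_normalizer {G : Type u} [Group G] [Finite G] {p : ℕ} [Fact p.Prime] (S : Sylow p G)
    (h : ∀ g ∈ Subgroup.normalizer ((Cfsg.inducedFunctor Cfsg.kInfLower (S : Subgroup G) :
      Subgroup G) : Set G), (orderOf g).Coprime p → g ∈ Subgroup.centralizer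
        ((Cfsg.inducedFunctor Cfsg.kInfLower (S : Subgroup G) : Subgroup G) : Set G)) :
    Cfsg.HasNormalPComplement p ↥(Subgroup.normalizer
      ((Cfsg.inducedFunctor Cfsg.kInfLower (S : Subgroup G) : Subgroup G) : Set G)) := by
  set K := Cfsg.inducedFunctor Cfsg.kInfLower (S : Subgroup G) with hK
  set N := Subgroup.normalizer (K : Set G) with hN
  have hKdef : K = (Cfsg.kInfLower ↥(S : Subgroup G)).map (S : Subgroup G).subtype := rfl
  have hchar : (Cfsg.kInfLower ↥(S : Subgroup G)).Characteristic :=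
    Subgroup.characteristic_iff_map_eq.mpr (fun φ => (kInf_map_equiv φ).1)
  have hK₀n : (Cfsg.kInfLower ↥(S : Subgroup G)).Normal := inferInstance
  have hSN : (S : Subgroup G) ≤ N := by
    rw [hN, Subgroup.le_normalizer_iff]
    rintro s hs _ ⟨k, hk, rfl⟩
    exact ⟨⟨s, hs⟩ * k * ⟨s, hs⟩⁻¹, hK₀n.conj_mem k hk ⟨s, hs⟩, rfl⟩
  have hcen : (S : Subgroup G) ⊓ Subgroup.centralizer (K : Set G) ≤ K := by
    intro x hx
    obtain ⟨hx1, hx2⟩ := Subgroup.mem_inf.mp hx
    have h1 := (Cfsg.Agent.S1978.result (P := ↥(S : Subgroup G)) S.2).1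
    have h2 : (⟨x, hx1⟩ : ↥(S : Subgroup G)) ∈
        Subgroup.centralizer (Cfsg.kInfLower ↥(S : Subgroup G) : Set ↥(S : Subgroup G)) := by
      rw [Subgroup.mem_centralizer_iff]
      intro y hy
      apply Subtype.ext
      exact (Subgroup.mem_centralizer_iff.mp hx2) y ⟨y, hy, rfl⟩
    exact ⟨⟨x, hx1⟩, h1 h2, rfl⟩
  obtain ⟨N', hN'n, hN'c⟩ := (Cfsg.Agent.S0071.result (S.subtype hSN)).mpr (by
    intro Q hQ g hg hco
    have hinj := N.subtype_injective
    set Q₀ := Q.map N.subtype with hQ₀
    have hQ₀S : Q₀ ≤ (S : Subgroup G) := by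
      rintro _ ⟨q, hq, rfl⟩
      exact hQ hq
    have hz : (Subgroup.zpowers g).map N.subtype = Subgroup.zpowers (g : G) := by
      rw [MonoidHom.map_zpowers]; rfl
    have hgn : (g : G) ∈ Subgroup.normalizer (Q₀ : Set G) := by
      have h1 := (le_normalizer_map_iff N.subtype hinj (Subgroup.zpowers g) Q).mpr
        ((Subgroup.zpowers_le).mpr hg)
      rw [hz] at h1
      exact h1 (Subgroup.mem_zpowers _)
    have hco' : (orderOf (g : G)).Coprime p := by
      rwa [Subgroup.orderOf_coe]
    have hgK := h (g : G) g.2 hco'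
    have hKH : ⁅K, Subgroup.zpowers (g : G)⁆ = ⊥ := by
      rw [Subgroup.commutator_comm, Subgroup.commutator_eq_bot_iff_le_centralizer]
      exact (Subgroup.zpowers_le).mpr hgK
    have hQK : ⁅Q₀, K⁆ ≤ K := by
      rw [Subgroup.commutator_comm]
      exact Subgroup.le_normalizer_iff_commutator_le_left.mp (hQ₀S.trans hSN)
    have h3 : ⁅⁅Subgroup.zpowers (g : G), Q₀⁆, K⁆ = ⊥ := by
      apply Subgroup.commutator_commutator_eq_bot_of_rotate
      · rw [eq_bot_iff, ← hKH]
        exact Subgroup.commutator_mono hQK le_rfl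
      · rw [hKH, Subgroup.commutator_bot_left]
    have h4 : ⁅Q₀, Subgroup.zpowers (g : G)⁆ ≤ K := by
      rw [Subgroup.commutator_eq_bot_iff_le_centralizer, Subgroup.commutator_comm] at h3
      refine le_trans (le_inf ?_ h3) hcen
      exact (Subgroup.le_normalizer_iff_commutator_le_left.mp
        ((Subgroup.zpowers_le).mpr hgn)).trans hQ₀S
    have h5 : ⁅Q₀, Subgroup.zpowers (g : G)⁆ = ⊥ := by
      apply comm_eq_bot_of_coprime (S.2.to_le hQ₀S) hco' hgn
      rw [eq_bot_iff, ← hKH]
      exact Subgroup.commutator_mono h4 le_rfl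
    have h6 : ⁅Q, Subgroup.zpowers g⁆ = ⊥ := by
      rw [← map_eq_bot_iff_inj N.subtype hinj, Subgroup.map_commutator, hz]
      exact h5
    rw [Subgroup.commutator_comm, Subgroup.commutator_eq_bot_iff_le_centralizer] at h6
    exact h6 (Subgroup.mem_zpowers g))
  exact ⟨S.subtype hSN, N', hN'n, hN'c⟩

/-- Let p be an odd prime, G a finite group with Sylow p-subgroup S and K the lower K-infinity subgroup of S. If N_G(K) has a normal p-complement, or if N_G(K)/C_G(K) is a p-group (every element of N_G(K) of order prime to p centralizes K), then G has a normal p-complement. -/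
theorem result {G : Type u} [Group G] [Finite G] {p : ℕ} [Fact p.Prime] (hp : p ≠ 2) (S : Sylow p G) (h : Cfsg.HasNormalPComplement p ↥(Subgroup.normalizer ((Cfsg.inducedFunctor Cfsg.kInfLower (S : Subgroup G) : Subgroup G) : Set G)) ∨ ∀ g ∈ Subgroup.normalizer ((Cfsg.inducedFunctor Cfsg.kInfLower (S : Subgroup G) : Subgroup G) : Set G), (orderOf g).Coprime p → g ∈ Subgroup.centralizer ((Cfsg.inducedFunctor Cfsg.kInfLower (S : Subgroup G) : Subgroup G) : Set G)) : Cfsg.HasNormalPComplement p G := by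
  have hN : Cfsg.HasNormalPComplement p ↥(Subgroup.normalizer
      ((Cfsg.inducedFunctor Cfsg.kInfLower (S : Subgroup G) : Subgroup G) : Set G)) := by
    rcases h with h | h
    · exact h
    · exact npc_normalizer S h
  exact Cfsg.Agent.S1990.result hp Cfsg.kInfLower (kInfLower_isChar p) S hN
    (fun K R _ hst T => controlsStrongFusion_of_FC (kInfLower_isChar p)
      (FC_kInfLower_of_stable (secStable_of_sections hst)) T)

end Cfsg.Agent.S1988
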