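import Cfsg.Statements.S1993
-- import your own Cfsg.Agent.* helpers here
import Cfsg.Agent.Lib.Helper13.KInfFusion

set_option autoImplicit false
universe u
open Cfsg

namespace Cfsg.Agent.S1993

open Cfsg.Agent.Lib.Helper13

/-- Let p be a prime, G a finite group with Sylow p-subgroup S, and K the upper K-infinity subgroup of S. If p ≥ 5 then S ∩ G' = S ∩ (N_G(K))'; and if p is odd and every section of G is p-stable in the normalizer form, then K controls strong fusion in G. -/
theorem result {G : Type u} [Group G] [Finite G] {p : ℕ} [Fact p.Prime] (S : Sylow p G) : (5 ≤ p → (S : Subgroup G) ⊓ commutator G = (S : Subgroup G) ⊓ ⁅Subgroup.normalizer ((Cfsg.inducedFunctor Cfsg.kInfUpper (S : Subgroup G) : Subgroup G) : Set G), Subgroup.normalizer ((Cfsg.inducedFunctor Cfsg.kInfUpper (S : Subgroup G) : Subgroup G) : Set G)⁆) ∧ (p ≠ 2 → (∀ (K R : Subgroup G) [hR : (R.subgroupOf K).Normal], Cfsg.IsNormalizerPStable p (↥K ⧸ R.subgroupOf K)) → Cfsg.ControlsStrongFusion p (Cfsg.inducedFunctor Cfsg.kInfUpper (S : Subgroup G))) := by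
  refine ⟨fun hp => ?_, fun _ hst => ?_⟩
  · have hFT := FT_kInfUpper hp G
    have h1 := FTS_of_familyTransfer
      (ind_isConjugacyFunctor (X := G) (by rintro _ rfl; exact kInfUpper_isChar p)) hFT le_top S.2
      (not_dvd_relIndex_top S)
    have e : ind {Cfsg.kInfUpper} G = {Cfsg.inducedFunctor (G := G) Cfsg.kInfUpper} := by
      unfold ind; rw [Set.image_singleton]
    unfold FTS TKer at h1
    rw [e, iSup_singleton, top_inf_eq] at h1
    apply le_antisymm
    · rw [commutator_def]; exact h1
    · rw [commutator_def]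
      exact inf_le_inf_left _ (Subgroup.commutator_mono le_top le_top)
  · exact controlsStrongFusion_of_FC (kInfUpper_isChar p)
      (FC_kInfUpper_of_stable (secStable_of_sections hst)) S

end Cfsg.Agent.S1993
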