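import Cfsg.Statements.S2005
import Cfsg.Agent.Lib.Helper5.NPCApp

set_option autoImplicit false
universe u
open Cfsg

namespace Cfsg.Agent.S2005

/-- Thompson's normal p-complement criterion in functor form. Let p be a prime, G a finite group with Sylow p-subgroup S, and W an isomorphism-invariant p-group functor (W assigns to every group Q a subgroup W(Q), nontrivial whenever Q is a nontrivial finite p-group, and every isomorphism from a finite p-group Q onto a group R carries W(Q) onto W(R)). Suppose N_G(W(S)) has a normal p-complement, and that W(S*) is normal in G* whenever G* = K/R is a section of G with C_{G*}(O_p(G*)) ≤ O_p(G*) such that G*/O_p(G*) has a normal p-complement, and S* is a Sylow p-subgroup of G* that is a maximal subgroup of G*. Then G has a normal p-complement. -/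
theorem result {G : Type u} [Group G] [Finite G] {p : ℕ} [Fact p.Prime] (W : ∀ (Q : Type u) [Group Q], Subgroup Q) (hW : Cfsg.IsCharPFunctor.{u} p W) (S : Sylow p G) (hN : Cfsg.HasNormalPComplement p ↥(Subgroup.normalizer ((Cfsg.inducedFunctor (G := G) W (S : Subgroup G) : Subgroup G) : Set G))) (hloc : ∀ (K R : Subgroup G) [hR : (R.subgroupOf K).Normal], Subgroup.centralizer ((Cfsg.pCore p (↥K ⧸ R.subgroupOf K) : Subgroup (↥K ⧸ R.subgroupOf K)) : Set (↥K ⧸ R.subgroupOf K)) ≤ Cfsg.pCore p (↥K ⧸ R.subgroupOf K) → Cfsg.HasNormalPComplement p ((↥K ⧸ R.subgroupOf K) ⧸ Cfsg.pCore p (↥K ⧸ R.subgroupOf K)) → ∀ T : Sylow p (↥K ⧸ R.subgroupOf K), IsCoatom (T : Subgroup (↥K ⧸ R.subgroupOf K)) → (Cfsg.inducedFunctor (G := (↥K ⧸ R.subgroupOf K)) W ((T : Subgroup (↥K ⧸ R.subgroupOf K)))).Normal) : Cfsg.HasNormalPComplement p G := by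
  open Cfsg.Agent.Lib.Helper5 in
  rw [npc_iff] at hN ⊢
  refine npc_functor hW True (SecOf G) SecOf.sub SecOf.quot ?_ G (SecOf.self G) S S
    ⟨le_rfl, fun x _ g hg => hg⟩ (fun _ => rfl) hN
  intro X _ _ hX T D _ hfull hc hq hco
  rw [hfull trivial]
  obtain ⟨K, R, hR, ⟨e⟩⟩ := hX.exists_equiv
  apply iF_normal_of_equiv hW e.symm T.2
  have hs : Function.Surjective e.symm.toMonoidHom := e.symm.surjective
  have h := hloc K R (selfCent_of_equiv e.symm hc) (npc_iff.mpr (NPC_quot_pCore_of_equiv e.symm hq))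
    (T.mapSurjective hs)
    (by rw [Sylow.coe_mapSurjective]; exact isCoatom_map_equiv e.symm hco)
  rw [Sylow.coe_mapSurjective] at h
  exact h

end Cfsg.Agent.S2005
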