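import Cfsg.Statements.S2060
import Cfsg.Agent.Lib.Helper28.OutM12c

set_option autoImplicit false
open Cfsg

namespace Cfsg.Agent.S2060

open scoped Pointwise
open Cfsg.Agent.Lib.Helper3 Cfsg.Agent.Lib.Helper28.OutGen Cfsg.Agent.Lib.Helper28.OutMath

/-- subgroups of index 11 are point stabilisers. -/
theorem index_G11_in {K : Subgroup (Equiv.Perm GolayPt)} (hK : K ≤ G11)
    (hcard : Nat.card K = 720) : ∃ y, K = G11 ⊓ St y := by
  have : Fact (Nat.Prime 5) := ⟨by norm_num⟩
  have hK24 : K ≤ M24 := hK.trans G11_le
  have hKd : ∀ g ∈ K, g • D0 = D0 := fun g hg => G11_D0 g (hK hg)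
  have hF0 : ∀ q ∈ ({some 0} : Finset GolayPt), ∀ g ∈ K, g q = q :=
    fun q hq g hg => G11_zero q hq g (hK hg)
  have hF0d : ({some 0} : Finset GolayPt) ⊆ D0 := Finset.singleton_subset_iff.2 zero_mem_D0
  obtain ⟨a, had, ha0, ham⟩ := exists_pt_d hK24 D0_mem hKd hF0d hF0 5 (by rw [hcard]; norm_num) (by
    intro f h1 h2 h3
    rw [Finset.card_singleton] at h3 ⊢
    omega)
  have hle := orb_card_le_d D0_mem hKd hF0d hF0 had ha0
  have hpos := orb_card_pos K a
  have hmul := card_mul K a
  rw [Finset.card_singleton] at hle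
  rw [hcard] at hmul
  have h1 : (orb K a).card = 1 := by
    rcases (show (orb K a).card = 1 ∨ (orb K a).card = 6 ∨ (orb K a).card = 11 by omega) with
      h | h | h
    · exact h
    · exfalso
      have hdis : Disjoint (orb K a) ({some 0} : Finset GolayPt) := by
        rw [Finset.disjoint_left]
        intro q hq hqF
        exact not_mem_orb (hF0 q hqF) (fun h => ha0 (by rw [← h]; exact hqF)) hq
      have hU : (orb K a ∪ {some 0}).card = 7 := by
        rw [Finset.card_union_of_disjoint hdis, h, Finset.card_singleton]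
      have hUd : orb K a ∪ {some 0} ⊆ D0 := Finset.union_subset (orb_subset_d hKd had) hF0d
      have hY : (D0 \ (orb K a ∪ {some 0})).card = 5 := by
        rw [Finset.card_sdiff_of_subset hUd, hU, D0_mem.2]
      have hFinv : ∀ g ∈ K, ∀ q, g q ∈ ({some 0} : Finset GolayPt) ↔
          q ∈ ({some 0} : Finset GolayPt) := by
        intro g hg q
        constructor
        · intro hq
          have := hF0 _ hq g hg
          rw [← g.injective this]
          exact hq
        · intro hq
          rw [hF0 q hq g hg]
          exact hq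
      have hb := card_le_factorial K (D0 \ (orb K a ∪ {some 0})) (by
          intro g hg q
          rw [Finset.mem_sdiff, Finset.mem_sdiff, Finset.mem_union, Finset.mem_union,
            orb_inv hg, hFinv g hg, inv_of_smul (hKd g hg)]) (by
          intro g hg hfix
          exact fix5_eq_one D0_mem (hK24 hg) (hKd g hg) (s := D0 \ (orb K a ∪ {some 0}))
            (by rw [hY]) Finset.sdiff_subset hfix)
      rw [hY, hcard] at hb
      exact absurd hb (by decide)
    · rw [h] at hmul
      omega
  rw [Finset.mem_singleton] at ha0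
  exact ⟨a, eq_stab_of_fix hK (fix_of_orb_card_one h1) (by
    rw [hcard]; exact card_G11_St_in had ha0)⟩

/-- subgroups of index 12 are point stabilisers. -/
theorem index_G11_out {K : Subgroup (Equiv.Perm GolayPt)} (hK : K ≤ G11)
    (hcard : Nat.card K = 660) : ∃ y, K = G11 ⊓ St y := by
  obtain ⟨a', ha'd, ha'⟩ := lemB (hK.trans G11_le) D0_mem (fun g hg => G11_D0 g (hK hg))
    zero_mem_D0 (fun g hg => (hK hg).2) hcard
  exact ⟨a', eq_stab_of_fix hK ha' (by rw [hcard]; exact card_G11_St_out ha'd)⟩


/-- The outer automorphism group of the Mathieu group M₁₁ (the stabiliser of a dodecad and one of its points in the automorphism group of the length-24 binary code) is trivial: every automorphism is inner. -/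
theorem result : Nat.card (Cfsg.Out ↥Cfsg.Spor.M11) = 1 := by
  rw [M11_eq]
  apply card_out_eq_one
  intro α
  obtain ⟨P, hP, hPfix, -⟩ := exists_perm_of_stab G11 α (by
      intro x hx
      have hx0 : x ≠ some 0 := by
        rintro rfl
        obtain ⟨g, hg, hgx⟩ := hx
        exact hgx hg.2
      apply hst_of_index G11 α x
      intro K hK hc
      by_cases hxd : x ∈ D0
      · exact index_G11_in hK (by rw [hc]; exact card_G11_St_in hxd hx0)
      · exact index_G11_out hK (by rw [hc]; exact card_G11_St_out hxd)) sep11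
  have hP0 : P (some 0) = some 0 := hPfix (some 0) fun g hg => hg.2
  have hPM : P ∈ M24 := mem_M24_of_G11 P (fun t ht => by
    rw [← hP ⟨t, ht⟩]; exact G11_le (α ⟨t, ht⟩).2)
  have hinv := smul_smul_D0 G11_D0 α hP
  have h0 : some 0 ∈ P • D0 := by
    have := Finset.smul_mem_smul_finset (a := P) zero_mem_D0
    rwa [Equiv.Perm.smul_def, hP0] at this
  have hsub : P • D0 ⊆ D0 := by
    by_contra hcon
    rw [Finset.not_subset] at hcon
    obtain ⟨q, hq, hqd⟩ := hcon
    have h1 : insert (some 0) D0ᶜ ⊆ P • D0 := by
      intro r hr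
      rcases Finset.mem_insert.1 hr with rfl | hr
      · exact h0
      · obtain ⟨σ, hσ, hσq⟩ := G11_trans_out hqd (Finset.mem_compl.1 hr)
        rw [← hinv σ hσ, ← hσq]
        exact Finset.smul_mem_smul_finset hq
    have h2 := Finset.card_le_card h1
    rw [Finset.card_insert_of_notMem (by simp [zero_mem_D0]), (compl_dod D0_mem).2,
      Finset.card_smul_finset, D0_mem.2] at h2
    omega
  have hPD : P • D0 = D0 := Finset.eq_of_subset_of_card_le hsub (by rw [Finset.card_smul_finset])
  exact mem_inn_of_conj G11 α P ⟨⟨hPM, hPD⟩, hP0⟩ hP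

end Cfsg.Agent.S2060
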