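import Cfsg.Statements.S2061
import Cfsg.Agent.Lib.Helper28.OutM12c

set_option autoImplicit false
open Cfsg

namespace Cfsg.Agent.S2061

open scoped Pointwise
open Cfsg.Agent.Lib.Helper3 Cfsg.Agent.Lib.Helper28.OutGen Cfsg.Agent.Lib.Helper28.OutMath

/-- subgroups of index 12 are point stabilisers. -/
theorem index_G12 {K : Subgroup (Equiv.Perm GolayPt)} (hK : K ≤ G12)
    (hcard : Nat.card K = 7920) : ∃ y, K = G12 ⊓ St y := by
  have : Fact (Nat.Prime 11) := ⟨by norm_num⟩
  have : Fact (Nat.Prime 3) := ⟨by norm_num⟩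
  have : Fact (Nat.Prime 2) := ⟨by norm_num⟩
  have hK24 : K ≤ M24 := hK.trans G12_le
  have hKd : ∀ g ∈ K, g • D0 = D0 := fun g hg => G12_D0 g (hK hg)
  have hF0 : ∀ q ∈ (∅ : Finset GolayPt), ∀ g ∈ K, g q = q := by simp
  obtain ⟨a, had, -, ham⟩ := exists_pt_d hK24 D0_mem hKd (Finset.empty_subset _) hF0 11
    (by rw [hcard]; norm_num) (by
      intro f h1 h2 _
      rw [Finset.card_empty]
      omega)
  have hle := orb_card_le_d D0_mem hKd (Finset.empty_subset _) hF0 had (by simp)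
  have hpos := orb_card_pos K a
  have hmul := card_mul K a
  rw [Finset.card_empty] at hle
  rcases (show (orb K a).card = 1 ∨ (orb K a).card = 12 by omega) with h1 | h12
  · exact ⟨a, eq_stab_of_fix hK (fix_of_orb_card_one h1) (by rw [hcard]; exact card_G12_St a)⟩
  have c660 : Nat.card ↥(K ⊓ St a) = 660 := by
    rw [hcard, h12] at hmul; omega
  have hJ24 : K ⊓ St a ≤ M24 := inf_le_left.trans hK24
  have hJd : ∀ g ∈ K ⊓ St a, g • D0 = D0 := fun g hg => hKd g hg.1
  have ha : ∀ g ∈ K ⊓ St a, g a = a := fun g hg => hg.2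
  obtain ⟨a', ha'd, ha'⟩ := lemB hJ24 D0_mem hJd had ha c660
  obtain ⟨j, f, hf1, hf2, hj, hjm⟩ := orb_mod_d hK24 (compl_dod D0_mem) (stab_compl hKd)
    (Finset.empty_subset _) hF0 (Finset.mem_compl.2 ha'd) (by simp) 11 (by rw [hcard]; norm_num)
  have hle' := orb_card_le_d (compl_dod D0_mem) (stab_compl hKd) (Finset.empty_subset _) hF0
    (Finset.mem_compl.2 ha'd) (by simp)
  have hpos' := orb_card_pos K a'
  have hmul' := card_mul K a'
  rw [Finset.card_empty] at hle' hj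
  rw [hcard] at hmul'
  have hJle : K ⊓ St a ≤ K ⊓ St a' := fun g hg => ⟨hg.1, ha' g hg⟩
  obtain ⟨k, hk⟩ : 660 ∣ Nat.card ↥(K ⊓ St a') := c660 ▸ Subgroup.card_dvd_of_le hJle
  rcases (show (orb K a').card = 1 ∨ (orb K a').card = 11 ∨ (orb K a').card = 12 by omega) with
    h | h | h
  · exact ⟨a', eq_stab_of_fix hK (fix_of_orb_card_one h) (by rw [hcard]; exact card_G12_St a')⟩
  · rw [h, hk] at hmul'
    omega
  exfalso
  have c660' : Nat.card ↥(K ⊓ St a') = 660 := by
    rw [h] at hmul'; omega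
  have hJeq : K ⊓ St a = K ⊓ St a' :=
    Subgroup.eq_of_le_of_card_ge hJle (by rw [c660, c660'])
  have horb : orb K a = D0 :=
    Finset.eq_of_subset_of_card_le (orb_subset_d hKd had) (by rw [D0_mem.2, h12])
  obtain ⟨b, c, hbd, hcd, hba, hca, hcb, c6⟩ := lemC hJ24 D0_mem hJd had ha c660
  obtain ⟨gb, hgb, hgb'⟩ := mem_orb.1 (show b ∈ orb K a by rw [horb]; exact hbd)
  obtain ⟨gc, hgc, hgc'⟩ := mem_orb.1 (show c ∈ orb K a by rw [horb]; exact hcd)
  have key : ∀ g ∈ K, g a' = a' → g a = a := by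
    intro g hg h
    have : g ∈ K ⊓ St a := by rw [hJeq]; exact ⟨hg, h⟩
    exact this.2
  have fixg : ∀ g ∈ K, ∀ h ∈ K, h (g a) = g a → h (g a') = g a' := by
    intro g hg h hh hfix
    have h1 : g⁻¹ * h * g ∈ K ⊓ St a := by
      refine ⟨K.mul_mem (K.mul_mem (K.inv_mem hg) hh) hg, ?_⟩
      show g⁻¹ (h (g a)) = a
      rw [hfix, Equiv.Perm.inv_def, Equiv.symm_apply_apply]
    have h2 : g⁻¹ (h (g a')) = a' := ha' _ h1
    rwa [Equiv.Perm.inv_eq_iff_eq] at h2
  have hout : ∀ g ∈ K, g a' ∉ D0 := fun g hg hc => ha'd ((inv_of_smul (hKd g hg) a').1 hc)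
  have n1 : a' ≠ gb a' := by
    intro hc
    apply hba
    rw [← hgb']
    exact key gb hgb hc.symm
  have n2 : a' ≠ gc a' := by
    intro hc
    apply hca
    rw [← hgc']
    exact key gc hgc hc.symm
  have n3 : gb a' ≠ gc a' := by
    intro hc
    apply hcb
    have h1 : (gc⁻¹ * gb) a' = a' := by
      show gc⁻¹ (gb a') = a'
      rw [hc, Equiv.Perm.inv_def, Equiv.symm_apply_apply]
    have h2 : gc⁻¹ (gb a) = a := key _ (K.mul_mem (K.inv_mem hgc) hgb) h1
    rw [Equiv.Perm.inv_eq_iff_eq] at h2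
    rw [← hgc', ← hgb', h2]
  obtain ⟨t, ht, ht2⟩ := exists_order (K ⊓ St a ⊓ St b ⊓ St c) 2 (by rw [c6]; norm_num)
  obtain ⟨x, hx, hx3⟩ := exists_order (K ⊓ St a ⊓ St b ⊓ St c) 3 (by rw [c6]; norm_num)
  have hfixS : ∀ h ∈ K ⊓ St a ⊓ St b ⊓ St c,
      ∀ q ∈ ({a, b, c} ∪ {a', gb a', gc a'} : Finset GolayPt), h q = q := by
    intro e hh q hq
    rw [Finset.mem_union, Finset.mem_insert, Finset.mem_insert, Finset.mem_singleton,
      Finset.mem_insert, Finset.mem_insert, Finset.mem_singleton] at hq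
    rcases hq with (hq | hq | hq) | (hq | hq | hq) <;> rw [hq]
    · exact hh.1.1.2
    · exact hh.1.2
    · exact hh.2
    · exact ha' e hh.1.1
    · exact fixg gb hgb e hh.1.1.1 (by rw [hgb']; exact hh.1.2)
    · exact fixg gc hgc e hh.1.1.1 (by rw [hgc']; exact hh.2)
  have hS6 : ({a, b, c} ∪ {a', gb a', gc a'} : Finset GolayPt).card = 6 := by
    rw [Finset.card_union_of_disjoint, Finset.card_eq_three.2 ⟨a, b, c, hba.symm, hca.symm,
      hcb.symm, rfl⟩, Finset.card_eq_three.2 ⟨a', gb a', gc a', n1, n2, n3, rfl⟩]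
    rw [Finset.disjoint_left]
    intro q hq hq'
    rw [Finset.mem_insert, Finset.mem_insert, Finset.mem_singleton] at hq hq'
    have hqd : q ∈ D0 := by
      rcases hq with rfl | rfl | rfl
      · exact had
      · exact hbd
      · exact hcd
    rcases hq' with rfl | rfl | rfl
    · exact ha'd hqd
    · exact hout gb hgb hqd
    · exact hout gc hgc hqd
  have hx24 : x ∈ M24 := hK24 hx.1.1.1
  have ht24 : t ∈ M24 := hK24 ht.1.1.1
  have hFxx : ({a, b, c} ∪ {a', gb a', gc a'} : Finset GolayPt) = Fx x := by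
    apply Finset.eq_of_subset_of_card_le
    · intro q hq
      exact mem_Fx.2 (hfixS x hx q hq)
    · rw [hS6]
      rcases order3_cases hx24 hx3 with ⟨_, _, _, h6⟩ | ⟨_, _, _, h0⟩
      · exact h6.le
      · exact absurd hx.1.1.2 (Fx_card_zero_iff.1 h0 a)
  have hO : Fx t ∈ octads := Fx_invol ht24 ht2 ht.1.1.2
  have hSO : ({a, b, c} ∪ {a', gb a', gc a'} : Finset GolayPt) ⊆ Fx t := fun q hq =>
    mem_Fx.2 (hfixS t ht q hq)
  have hxO : x • Fx t = Fx t := by
    apply octad_unique (smul_mem_octads hx24 hO) hO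
      (s := ({a, b, c} ∪ {a', gb a', gc a'} : Finset GolayPt)) (by rw [hS6]; norm_num) _ hSO
    intro q hq
    have := Finset.smul_mem_smul_finset (a := x) (hSO hq)
    rwa [Equiv.Perm.smul_def, hfixS x hx q hq] at this
  have h3 := card_modEq_fix x 3 (pow_of_order hx3) (Fx t) (inv_of_smul hxO)
  have hfil : ((Fx t).filter fun q => x q = q) =
      ({a, b, c} ∪ {a', gb a', gc a'} : Finset GolayPt) := by
    ext q
    rw [Finset.mem_filter]
    constructor
    · rintro ⟨_, hq⟩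
      rw [hFxx]; exact mem_Fx.2 hq
    · intro hq
      exact ⟨hSO hq, hfixS x hx q hq⟩
  rw [hfil, hS6, hO.2] at h3
  exact absurd h3 (by decide)

/-- the stabiliser of the pair of complementary dodecads. -/
def N12 : Subgroup (Equiv.Perm GolayPt) where
  carrier := {n | n ∈ M24 ∧ (n • D0 = D0 ∨ n • D0 = D0ᶜ)}
  mul_mem' := by
    rintro m n ⟨hm, hm'⟩ ⟨hn, hn'⟩
    refine ⟨M24.mul_mem hm hn, ?_⟩
    rw [mul_smul]
    rcases hn' with h | h <;> rcases hm' with h' | h'
    · left; rw [h, h']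
    · right; rw [h, h']
    · right; rw [h, smul_compl', h']
    · left; rw [h, smul_compl', h', compl_compl]
  one_mem' := ⟨M24.one_mem, Or.inl (one_smul _ _)⟩
  inv_mem' := by
    rintro n ⟨hn, hn'⟩
    refine ⟨M24.inv_mem hn, ?_⟩
    rcases hn' with h | h
    · left; rw [inv_smul_eq_iff, h]
    · right; rw [inv_smul_eq_iff, smul_compl', h, compl_compl]

theorem D0_ne_compl : D0 ≠ D0ᶜ := by
  intro h
  have h1 := zero_mem_D0
  rw [h] at h1
  exact (Finset.mem_compl.1 h1) zero_mem_D0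

theorem surj12 (α : MulAut G12) : ∃ n ∈ N12, ∀ g : G12, (α g).1 = n * g.1 * n⁻¹ := by
  obtain ⟨P, hP, -, -⟩ := exists_perm_of_stab G12 α (by
    intro x _
    apply hst_of_index G12 α x
    intro K hK hc
    exact index_G12 hK (by rw [hc]; exact card_G12_St x)) sep12
  have hPM : P ∈ M24 := mem_M24_of_G11 P (fun t ht => by
    rw [← hP ⟨t, ht.1⟩]; exact G12_le (α ⟨t, ht.1⟩).2)
  have hinv := smul_smul_D0 G12_D0 α hP
  refine ⟨P, ⟨hPM, ?_⟩, hP⟩
  by_cases hex : ∃ q ∈ P • D0, q ∈ D0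
  · left
    obtain ⟨q, hq, hqd⟩ := hex
    symm
    apply Finset.eq_of_subset_of_card_le _ (by rw [Finset.card_smul_finset])
    intro r hr
    obtain ⟨σ, hσ, hσq⟩ := G12_trans_in hqd hr
    rw [← hinv σ hσ, ← hσq]
    exact Finset.smul_mem_smul_finset hq
  · right
    push Not at hex
    apply Finset.eq_of_subset_of_card_le
    · intro q hq
      exact Finset.mem_compl.2 (hex q hq)
    · rw [Finset.card_smul_finset, (compl_dod D0_mem).2, D0_mem.2]


/-- The outer automorphism group of the Mathieu group M₁₂ (the stabiliser of a dodecad in the automorphism group of the length-24 binary code) has order 2. -/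
theorem result : Nat.card (Cfsg.Out ↥Cfsg.Spor.M12) = 2 := by
  rw [M12_eq]
  obtain ⟨θ, hθ, hθD⟩ := trans_dodecads D0_mem (compl_dod D0_mem)
  apply card_out_eq_two G12 N12 θ
  · intro g hg
    exact ⟨hg.1, Or.inl hg.2⟩
  · intro n hn g hg
    refine ⟨M24.mul_mem (M24.mul_mem hn.1 hg.1) (M24.inv_mem hn.1), ?_⟩
    show (n * g * n⁻¹) • D0 = D0
    have hg2 : g • D0 = D0 := hg.2
    rw [mul_smul, mul_smul]
    rcases (N12.inv_mem hn).2 with h | h
    · rw [h, hg2]
      rw [inv_smul_eq_iff] at h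
      exact h.symm
    · rw [h, smul_compl', hg2]
      rw [inv_smul_eq_iff] at h
      exact h.symm
  · exact ⟨hθ, Or.inr hθD⟩
  · intro hc
    exact D0_ne_compl (hc.2.symm.trans hθD)
  · intro n hn hnG
    rcases hn.2 with h | h
    · exact absurd ⟨hn.1, h⟩ hnG
    · refine ⟨M24.mul_mem hn.1 hθ, ?_⟩
      show (n * θ) • D0 = D0
      rw [mul_smul, hθD, smul_compl', h, compl_compl]
  · exact sep12
  · intro c _ hfix
    apply Equiv.ext
    intro q
    exact hfix q (moved12 q)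
  · exact surj12

end Cfsg.Agent.S2061
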