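import Cfsg.Statements.S2062
import Cfsg.Agent.Lib.Helper28.OutDual
import Cfsg.Agent.Lib.Helper28.OutGen2

set_option autoImplicit false
open Cfsg

namespace Cfsg.Agent.S2062

open scoped Pointwise
open Cfsg.Agent.Lib.Helper3 Cfsg.Agent.Lib.Helper28.OutGen Cfsg.Agent.Lib.Helper28.OutMath

theorem ne_inf_zero : (none : GolayPt) ≠ some 0 := by decide

/-- subgroups of index 22 are point stabilisers. -/
theorem index_M22 {K : Subgroup (Equiv.Perm GolayPt)} (hK : K ≤ Spor.M22)
    (hcard : Nat.card K = 20160) : ∃ y, K = Spor.M22 ⊓ St y := by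
  have : Fact (Nat.Prime 7) := ⟨by norm_num⟩
  have : Fact (Nat.Prime 5) := ⟨by norm_num⟩
  have hK24 : K ≤ M24 := fun g hg => (hK hg).1.1
  have hF0 : ∀ q ∈ ({none, some 0} : Finset GolayPt), ∀ g ∈ K, g q = q := by
    intro q hq g hg
    rw [Finset.mem_insert, Finset.mem_singleton] at hq
    rcases hq with rfl | rfl
    · exact (hK hg).1.2
    · exact (hK hg).2
  have hc0 : ({none, some 0} : Finset GolayPt).card = 2 := Finset.card_pair ne_inf_zero
  obtain ⟨a, ha0, ha⟩ := exists_pt hK24 hF0 7 (by norm_num) (by rw [hcard]; norm_num)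
    (by rw [hc0])
  obtain ⟨j, hj, hjm⟩ := orb_mod hK24 hF0 ha0 5 (by norm_num) (by rw [hcard]; norm_num)
  have hle := orb_card_le _ hF0 ha0
  have hpos := orb_card_pos K a
  have hmul := card_mul K a
  rw [card_pts, hc0] at hle
  rw [hc0] at hj
  rw [hcard] at hmul
  have ha0' := ha0
  rw [Finset.mem_insert, Finset.mem_singleton, not_or] at ha0'
  have h1 : (orb K a).card = 1 := by
    rcases (show (orb K a).card = 1 ∨ (orb K a).card = 8 ∨ (orb K a).card = 15 ∨
      (orb K a).card = 22 by omega) with h | h | h | h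
    · exact h
    · rw [h] at hjm
      omega
    · exfalso
      have hdis : Disjoint (orb K a) ({none, some 0} : Finset GolayPt) := by
        rw [Finset.disjoint_left]
        intro q hq hqF
        exact not_mem_orb (hF0 q hqF) (fun h => ha0 (by rw [← h]; exact hqF)) hq
      have hU : (orb K a ∪ {none, some 0}).card = 17 := by
        rw [Finset.card_union_of_disjoint hdis, h, hc0]
      have hY : (Finset.univ \ (orb K a ∪ {none, some 0})).card = 7 := by
        rw [Finset.card_sdiff_of_subset (Finset.subset_univ _), hU, Finset.card_univ, card_pts]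
      have hFinv : ∀ g ∈ K, ∀ q, g q ∈ ({none, some 0} : Finset GolayPt) ↔
          q ∈ ({none, some 0} : Finset GolayPt) := by
        intro g hg q
        constructor
        · intro hq
          have := hF0 _ hq g hg
          rw [← g.injective this]
          exact hq
        · intro hq
          rw [hF0 q hq g hg]
          exact hq
      have hb := card_le_factorial K (Finset.univ \ (orb K a ∪ {none, some 0})) (by
          intro g hg q
          rw [Finset.mem_sdiff, Finset.mem_sdiff, Finset.mem_union, Finset.mem_union,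
            orb_inv hg, hFinv g hg]
          simp) (by
          intro g hg hfix
          apply fix9 (hK24 hg) ((Finset.univ \ (orb K a ∪ {none, some 0})) ∪ {none, some 0})
          · rw [Finset.card_union_of_disjoint, hY, hc0]
            rw [Finset.disjoint_left]
            intro q hq hqF
            exact (Finset.mem_sdiff.1 hq).2 (Finset.mem_union_right _ hqF)
          · intro q hq
            rcases Finset.mem_union.1 hq with hq | hq
            · exact hfix q hq
            · exact hF0 q hq g hg)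
      rw [hY, hcard] at hb
      exact absurd hb (by decide)
    · rw [h] at hmul
      omega
  exact ⟨a, eq_stab_of_fix hK (fix_of_orb_card_one h1) (by
    rw [hcard]; exact card_St3 ne_inf_zero (Ne.symm ha0'.1) (Ne.symm ha0'.2))⟩

/-- the basis of the code in terms of octads through the two points and one more octad. -/
def cert22 : List (List ℕ) :=
  [[0xc75001],
    [0xc75001, 0x8ea003],
    [0xd4b004],
    [0xc75001, 0xa96009],
    [0xc75001, 0x88d015, 0xd4b004],
    [0xc75001, 0xa58025, 0xd4b004],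
    [0xa96009, 0x91104d, 0xd4b004],
    [0xc75001, 0xd98081],
    [0x8ea003, 0xb30103],
    [0xc75001, 0xbc1201],
    [0xc75001, 0xa23405, 0xd4b004],
    [0xc75001, 0xf04805, 0xd4b004]]

/-- octads through the two points. -/
def Q1 (m : ℕ) : Bool := isOct m && m.testBit 23 && m.testBit 0

/-- allowed masks. -/
def Q2 (m : ℕ) : Bool := Q1 m || m == 0xd4b004

theorem cert22_map : cert22.map xorl = basisList := by decide +kernel

theorem cert22_all : (cert22.all fun l => l.all Q2) = true := by decide +kernel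

theorem Q1_spec {m : ℕ} (h : Q1 m = true) :
    unmask m ∈ octads ∧ none ∈ unmask m ∧ some 0 ∈ unmask m := by
  unfold Q1 at h
  rw [Bool.and_eq_true, Bool.and_eq_true] at h
  exact ⟨(unmask_mem_octads h.1.1).1, (mem_unmask _ _).2 h.1.2, (mem_unmask _ _).2 h.2⟩

theorem h0_spec : unmask 0xd4b004 ∈ octads ∧ none ∈ unmask 0xd4b004 ∧ some 0 ∉ unmask 0xd4b004 := by
  refine ⟨(unmask_mem_octads (by decide +kernel)).1, (mem_unmask _ _).2 (by decide +kernel), ?_⟩
  rw [mem_unmask]
  decide +kernel

theorem swap_smul_mem {a b : GolayPt} {s : Finset GolayPt} (ha : a ∈ s) (hb : b ∈ s) :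
    Equiv.swap a b • s = s := by
  ext q
  rw [← Finset.inv_smul_mem_iff, Equiv.swap_inv, Equiv.Perm.smul_def]
  by_cases h1 : q = a
  · subst h1; rw [Equiv.swap_apply_left]; exact ⟨fun _ => ha, fun _ => hb⟩
  by_cases h2 : q = b
  · subst h2; rw [Equiv.swap_apply_right]; exact ⟨fun _ => hb, fun _ => ha⟩
  rw [Equiv.swap_apply_of_ne_of_ne h1 h2]

theorem swap_smul_not_mem {a b : GolayPt} {s : Finset GolayPt} (ha : a ∈ s) (hb : b ∉ s) :
    Equiv.swap a b • s = symmDiff s {a, b} := by
  have hab : a ≠ b := fun h => hb (h ▸ ha)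
  ext q
  rw [← Finset.inv_smul_mem_iff, Equiv.swap_inv, Equiv.Perm.smul_def, Finset.mem_symmDiff,
    Finset.mem_insert, Finset.mem_singleton]
  by_cases h1 : q = a
  · subst h1; rw [Equiv.swap_apply_left]; simp [ha, hb]
  by_cases h2 : q = b
  · subst h2; rw [Equiv.swap_apply_right]; simp [ha, hb]
  rw [Equiv.swap_apply_of_ne_of_ne h1 h2]
  simp [h1, h2]

theorem swap_conj {a b : GolayPt} {h : Equiv.Perm GolayPt} (ha : h a = a) (hb : h b = b) :
    Equiv.swap a b * h * (Equiv.swap a b)⁻¹ = h := by
  have := Equiv.mul_swap_eq_swap_mul h a b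
  rw [ha, hb] at this
  rw [← this, mul_inv_cancel_right]

theorem moved22 {x : GolayPt} (h1 : x ≠ none) (h2 : x ≠ some 0) : ∃ g ∈ Spor.M22, g x ≠ x := by
  obtain ⟨z, hz⟩ := exists_not_mem {none, some 0, x} (by
    have := Finset.card_le_three (a := (none : GolayPt)) (b := some 0) (c := x); omega)
  rw [Finset.mem_insert, Finset.mem_insert, Finset.mem_singleton, not_or, not_or] at hz
  obtain ⟨g, hg, hh⟩ := M24_lists [none, some 0, x] [none, some 0, z]
    (by simp [ne_inf_zero, Ne.symm h1, Ne.symm h2])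
    (by simp [ne_inf_zero, Ne.symm hz.1, Ne.symm hz.2.1]) rfl (by simp)
  refine ⟨g, ⟨⟨hg, hh 0 (by simp)⟩, hh 1 (by simp)⟩, ?_⟩
  have h3 : g x = z := hh 2 (by simp)
  rw [h3]
  exact hz.2.2

theorem of_moved22 {x : GolayPt} (h : ∃ g ∈ Spor.M22, g x ≠ x) : x ≠ none ∧ x ≠ some 0 := by
  obtain ⟨g, hg, hgx⟩ := h
  constructor
  · rintro rfl; exact hgx hg.1.2
  · rintro rfl; exact hgx hg.2

theorem sep22 (x y : GolayPt) (hx : ∃ g ∈ Spor.M22, g x ≠ x)
    (h : ∀ g ∈ Spor.M22, g x = x ↔ g y = y) : x = y := by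
  by_contra hne
  obtain ⟨hx1, hx2⟩ := of_moved22 hx
  by_cases hy : y ≠ none ∧ y ≠ some 0
  · obtain ⟨z, hz⟩ := exists_not_mem {none, some 0, x, y} (by
      have := Finset.card_le_four (a := (none : GolayPt)) (b := some 0) (c := x) (d := y); omega)
    rw [Finset.mem_insert, Finset.mem_insert, Finset.mem_insert, Finset.mem_singleton, not_or,
      not_or, not_or] at hz
    obtain ⟨g, hg, hh⟩ := M24_lists [none, some 0, x, y] [none, some 0, x, z]
      (by simp [ne_inf_zero, Ne.symm hx1, Ne.symm hx2, Ne.symm hy.1, Ne.symm hy.2, hne])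
      (by simp [ne_inf_zero, Ne.symm hx1, Ne.symm hx2, Ne.symm hz.1, Ne.symm hz.2.1,
        Ne.symm hz.2.2.1]) rfl (by simp)
    have h2 : g x = x := hh 2 (by simp)
    have h3 : g y = z := hh 3 (by simp)
    exact hz.2.2.2 (by rw [← h3]; exact (h g ⟨⟨hg, hh 0 (by simp)⟩, hh 1 (by simp)⟩).1 h2)
  · obtain ⟨g, hg, hgx⟩ := hx
    apply hgx
    rw [h g hg]
    by_cases hy1 : y = none
    · rw [hy1]; exact hg.1.2
    · have : y = some 0 := by
        by_contra h2; exact hy ⟨hy1, h2⟩
      rw [this]; exact hg.2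

/-- the setwise stabiliser of the two points. -/
def N22 : Subgroup (Equiv.Perm GolayPt) :=
  M24 ⊓ MulAction.stabilizer (Equiv.Perm GolayPt) ({none, some 0} : Finset GolayPt)

theorem N22_cases {n : Equiv.Perm GolayPt} (hn : n ∈ N22) :
    (n none = none ∧ n (some 0) = some 0) ∨ (n none = some 0 ∧ n (some 0) = none) := by
  have h : n • ({none, some 0} : Finset GolayPt) = {none, some 0} := hn.2
  have h1 : n none ∈ ({none, some 0} : Finset GolayPt) := by
    rw [← h]; exact Finset.smul_mem_smul_finset (by simp)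
  have h2 : n (some 0) ∈ ({none, some 0} : Finset GolayPt) := by
    rw [← h]; exact Finset.smul_mem_smul_finset (by simp)
  rw [Finset.mem_insert, Finset.mem_singleton] at h1 h2
  have h3 : n none ≠ n (some 0) := fun hc => ne_inf_zero (n.injective hc)
  rcases h1 with h1 | h1 <;> rcases h2 with h2 | h2
  · exact absurd (h1.trans h2.symm) h3
  · exact Or.inl ⟨h1, h2⟩
  · exact Or.inr ⟨h1, h2⟩
  · exact absurd (h1.trans h2.symm) h3

theorem mem_N22 {n : Equiv.Perm GolayPt} (hn : n ∈ M24)
    (h : (n none = none ∧ n (some 0) = some 0) ∨ (n none = some 0 ∧ n (some 0) = none)) :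
    n ∈ N22 := by
  refine ⟨hn, ?_⟩
  show n • ({none, some 0} : Finset GolayPt) = {none, some 0}
  rw [Finset.smul_finset_insert, Finset.smul_finset_singleton, Equiv.Perm.smul_def,
    Equiv.Perm.smul_def]
  rcases h with ⟨h1, h2⟩ | ⟨h1, h2⟩
  · rw [h1, h2]
  · rw [h1, h2, Finset.pair_comm]

/-- every automorphism is induced by an element of the setwise stabiliser. -/
theorem surj22 (α : MulAut Spor.M22) :
    ∃ n ∈ N22, ∀ g : Spor.M22, (α g).1 = n * g.1 * n⁻¹ := by
  obtain ⟨P, hP, hPfix, -⟩ := exists_perm_of_stab Spor.M22 α (by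
    intro x hx
    apply hst_of_index Spor.M22 α x
    intro K hK hc
    apply index_M22 hK
    rw [hc]
    exact card_St3 ne_inf_zero (of_moved22 hx).1.symm (of_moved22 hx).2.symm) sep22
  have hPn : P none = none := hPfix none fun g hg => hg.1.2
  have hPz : P (some 0) = some 0 := hPfix (some 0) fun g hg => hg.2
  have hoct : ∀ o ∈ octads, none ∈ o → some 0 ∈ o → P • o ∈ octads ∧ P⁻¹ • o ∈ octads := by
    intro o ho h1 h2
    obtain ⟨t, ht, ht2, hFx⟩ := exists_invol ho
    have htM : t ∈ Spor.M22 :=
      ⟨⟨ht, mem_Fx.1 (by rw [hFx]; exact h1)⟩, mem_Fx.1 (by rw [hFx]; exact h2)⟩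
    constructor
    · exact smul_octad_of_conj ht2 ho hFx (by rw [← hP ⟨t, htM⟩]; exact (α ⟨t, htM⟩).2.1.1)
    · apply smul_octad_of_conj ht2 ho hFx
      have h3 := hP (α.symm ⟨t, htM⟩)
      rw [MulEquiv.apply_symm_apply] at h3
      have h4 : P⁻¹ * t * P⁻¹⁻¹ = (α.symm ⟨t, htM⟩).1 := by
        have h5 : t = P * (α.symm ⟨t, htM⟩).1 * P⁻¹ := h3
        calc P⁻¹ * t * P⁻¹⁻¹ = P⁻¹ * (P * (α.symm ⟨t, htM⟩).1 * P⁻¹) * P⁻¹⁻¹ := by rw [← h5]
          _ = (α.symm ⟨t, htM⟩).1 := by group
      rw [h4]
      exact (α.symm ⟨t, htM⟩).2.1.1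
  obtain ⟨hh1, hh2, hh3⟩ := h0_spec
  have hev : ∀ m, Q1 m = true → ev (P • unmask 0xd4b004) (unmask m) := by
    intro m hm
    obtain ⟨ho, h1, h2⟩ := Q1_spec hm
    have h3 : unmask m = P • (P⁻¹ • unmask m) := by rw [smul_inv_smul]
    unfold ev
    rw [h3, card_smul_inter]
    exact ev_code (octads_subset hh1) (octads_subset (hoct _ ho h1 h2).2)
  have hvn : none ∈ P • unmask 0xd4b004 := by
    have := Finset.smul_mem_smul_finset (a := P) hh2
    rwa [Equiv.Perm.smul_def, hPn] at this
  have hvz : some 0 ∉ P • unmask 0xd4b004 := by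
    intro hc
    rw [← Finset.inv_smul_mem_iff, Equiv.Perm.smul_def] at hc
    have : P⁻¹ (some 0) = some 0 := by rw [Equiv.Perm.inv_eq_iff_eq, hPz]
    rw [this] at hc
    exact hh3 hc
  have basis_cert : ∀ b ∈ basisList, ∃ l, (∀ m ∈ l, Q2 m = true) ∧ b = xorl l := by
    intro b hb
    rw [← cert22_map, List.mem_map] at hb
    obtain ⟨l, hl, rfl⟩ := hb
    refine ⟨l, ?_, rfl⟩
    have h2 := cert22_all
    rw [List.all_eq_true] at h2
    have := h2 l hl
    rwa [List.all_eq_true] at this
  by_cases hv : ev (P • unmask 0xd4b004) (unmask 0xd4b004)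
  · have hvC : P • unmask 0xd4b004 ∈ CS := by
      apply mem_CS_of_ev
      intro b hb
      obtain ⟨l, hl, rfl⟩ := basis_cert b hb
      apply ev_xorl
      intro m hm
      have := hl m hm
      unfold Q2 at this
      rw [Bool.or_eq_true] at this
      rcases this with h | h
      · exact hev m h
      · rw [beq_iff_eq] at h
        rw [h]; exact hv
    have hPM : P ∈ M24 := by
      apply mem_M24_of_cert P Q2 _ cert22 cert22_map cert22_all
      intro m hm
      unfold Q2 at hm
      rw [Bool.or_eq_true] at hm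
      rcases hm with h | h
      · obtain ⟨ho, h1, h2⟩ := Q1_spec h
        exact octads_subset (hoct _ ho h1 h2).1
      · rw [beq_iff_eq] at h
        rw [h]; exact hvC
    exact ⟨P, mem_N22 hPM (Or.inl ⟨hPn, hPz⟩), hP⟩
  · have hpair1 : ∀ o : Finset GolayPt, none ∈ o → some 0 ∈ o → ev {none, some 0} o := by
      intro o h1 h2
      unfold ev
      have : ({none, some 0} : Finset GolayPt) ∩ o = {none, some 0} := by
        apply Finset.inter_eq_left.2
        intro q hq
        rw [Finset.mem_insert, Finset.mem_singleton] at hq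
        rcases hq with rfl | rfl
        · exact h1
        · exact h2
      rw [this, Finset.card_pair ne_inf_zero]
      decide
    have hpair2 : ¬ ev {none, some 0} (unmask 0xd4b004) := by
      unfold ev
      have : ({none, some 0} : Finset GolayPt) ∩ unmask 0xd4b004 = {none} := by
        ext q
        rw [Finset.mem_inter, Finset.mem_insert, Finset.mem_singleton, Finset.mem_singleton]
        constructor
        · rintro ⟨rfl | rfl, h⟩
          · rfl
          · exact absurd h hh3
        · rintro rfl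
          exact ⟨Or.inl rfl, hh2⟩
      rw [this, Finset.card_singleton]
      decide
    have hvC : symmDiff (P • unmask 0xd4b004) {none, some 0} ∈ CS := by
      apply mem_CS_of_ev
      intro b hb
      obtain ⟨l, hl, rfl⟩ := basis_cert b hb
      apply ev_xorl
      intro m hm
      have := hl m hm
      unfold Q2 at this
      rw [Bool.or_eq_true] at this
      rw [ev_symmDiff_left]
      rcases this with h | h
      · obtain ⟨ho, h1, h2⟩ := Q1_spec h
        exact ⟨fun _ => hpair1 _ h1 h2, fun _ => hev m h⟩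
      · rw [beq_iff_eq] at h
        rw [h]
        exact ⟨fun hc => absurd hc hv, fun hc => absurd hc hpair2⟩
    have hPM : Equiv.swap none (some 0) * P ∈ M24 := by
      apply mem_M24_of_cert _ Q2 _ cert22 cert22_map cert22_all
      intro m hm
      unfold Q2 at hm
      rw [Bool.or_eq_true] at hm
      rw [mul_smul]
      rcases hm with h | h
      · obtain ⟨ho, h1, h2⟩ := Q1_spec h
        have e1 : none ∈ P • unmask m := by
          have := Finset.smul_mem_smul_finset (a := P) h1
          rwa [Equiv.Perm.smul_def, hPn] at this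
        have e2 : some 0 ∈ P • unmask m := by
          have := Finset.smul_mem_smul_finset (a := P) h2
          rwa [Equiv.Perm.smul_def, hPz] at this
        rw [swap_smul_mem e1 e2]
        exact octads_subset (hoct _ ho h1 h2).1
      · rw [beq_iff_eq] at h
        rw [h, swap_smul_not_mem hvn hvz]; exact hvC
    refine ⟨Equiv.swap none (some 0) * P, mem_N22 hPM (Or.inr ⟨?_, ?_⟩), ?_⟩
    · show Equiv.swap none (some 0) (P none) = some 0
      rw [hPn, Equiv.swap_apply_left]
    · show Equiv.swap none (some 0) (P (some 0)) = none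
      rw [hPz, Equiv.swap_apply_right]
    · intro g
      have e : Equiv.swap none (some 0) * P * g.1 * (Equiv.swap none (some 0) * P)⁻¹ =
          Equiv.swap none (some 0) * (P * g.1 * P⁻¹) * (Equiv.swap none (some 0))⁻¹ := by group
      rw [e, ← hP g, swap_conj (α g).2.1.2 (α g).2.2]


/-- The outer automorphism group of the Mathieu group M₂₂ (the permutations in the automorphism group of the length-24 binary code that fix each of two given points) has order 2. -/
theorem result : Nat.card (Cfsg.Out ↥Cfsg.Spor.M22) = 2 := by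
  obtain ⟨θ, hθ, hh⟩ := M24_lists [none, some 0] [some 0, none] (by simp [ne_inf_zero])
    (by simp [ne_inf_zero.symm]) rfl (by simp)
  have hθ1 : θ none = some 0 := hh 0 (by simp)
  have hθ2 : θ (some 0) = none := hh 1 (by simp)
  apply card_out_eq_two Spor.M22 N22 θ
  · intro g hg
    exact mem_N22 hg.1.1 (Or.inl ⟨hg.1.2, hg.2⟩)
  · intro n hn g hg
    have hn' := N22_cases (N22.inv_mem hn)
    have g1 : g none = none := hg.1.2
    have g2 : g (some 0) = some 0 := hg.2
    refine ⟨⟨M24.mul_mem (M24.mul_mem hn.1 hg.1.1) (M24.inv_mem hn.1), ?_⟩, ?_⟩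
    · show n (g (n⁻¹ none)) = none
      rcases hn' with ⟨h1, _⟩ | ⟨h1, _⟩
      · rw [h1, g1]; exact (Equiv.Perm.inv_eq_iff_eq.1 h1).symm
      · rw [h1, g2]; exact (Equiv.Perm.inv_eq_iff_eq.1 h1).symm
    · show n (g (n⁻¹ (some 0))) = some 0
      rcases hn' with ⟨_, h1⟩ | ⟨_, h1⟩
      · rw [h1, g2]; exact (Equiv.Perm.inv_eq_iff_eq.1 h1).symm
      · rw [h1, g1]; exact (Equiv.Perm.inv_eq_iff_eq.1 h1).symm
  · exact mem_N22 hθ (Or.inr ⟨hθ1, hθ2⟩)
  · intro hc
    exact ne_inf_zero (hc.1.2.symm.trans hθ1)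
  · intro n hn hnG
    rcases N22_cases hn with ⟨h1, h2⟩ | ⟨h1, h2⟩
    · exact absurd ⟨⟨hn.1, h1⟩, h2⟩ hnG
    · refine ⟨⟨M24.mul_mem hn.1 hθ, ?_⟩, ?_⟩
      · show n (θ none) = none
        rw [hθ1, h2]
      · show n (θ (some 0)) = some 0
        rw [hθ2, h1]
  · exact sep22
  · intro c hc hfix
    apply fix9 hc.1 (Finset.univ \ {none, some 0})
    · rw [Finset.card_sdiff_of_subset (Finset.subset_univ _), Finset.card_univ, card_pts,
        Finset.card_pair ne_inf_zero]
      norm_num
    · intro q hq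
      rw [Finset.mem_sdiff, Finset.mem_insert, Finset.mem_singleton, not_or] at hq
      exact hfix q (moved22 hq.2.1 hq.2.2)
  · exact surj22

end Cfsg.Agent.S2062
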