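import Cfsg.Statements.S2063
import Cfsg.Agent.Lib.Helper28.OutMath

set_option autoImplicit false
open Cfsg

namespace Cfsg.Agent.S2063

open Cfsg.Agent.Lib.Helper3 Cfsg.Agent.Lib.Helper28.OutGen Cfsg.Agent.Lib.Helper28.OutMath

/-- subgroups of index 23 are point stabilisers. -/
theorem index_M23 {K : Subgroup (Equiv.Perm GolayPt)} (hK : K ≤ Spor.M23)
    (hcard : Nat.card K = 443520) : ∃ y, K = Spor.M23 ⊓ St y := by
  have : Fact (Nat.Prime 11) := ⟨by norm_num⟩
  have : Fact (Nat.Prime 7) := ⟨by norm_num⟩
  have hK24 : K ≤ M24 := hK.trans inf_le_left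
  have hF0 : ∀ q ∈ (insert none ∅ : Finset GolayPt), ∀ g ∈ K, g q = q := by
    intro q hq g hg
    rw [Finset.mem_insert] at hq
    rcases hq with rfl | hq
    · exact (hK hg).2
    · simp at hq
  have hc0 : (insert none ∅ : Finset GolayPt).card = 1 := by simp
  obtain ⟨a, ha0, ha⟩ := exists_pt hK24 hF0 11 (by norm_num) (by rw [hcard]; norm_num)
    (by rw [hc0])
  obtain ⟨j, hj, hjm⟩ := orb_mod hK24 hF0 ha0 7 (by norm_num) (by rw [hcard]; norm_num)
  have hle := orb_card_le _ hF0 ha0
  have hpos := orb_card_pos K a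
  have hmul := card_mul K a
  rw [card_pts, hc0] at hle
  rw [hc0] at hj
  rw [hcard] at hmul
  have hne : (none : GolayPt) ≠ a := by
    intro h
    apply ha0
    rw [← h]
    exact Finset.mem_insert_self _ _
  have h1 : (orb K a).card = 1 := by
    rcases (show (orb K a).card = 1 ∨ (orb K a).card = 12 ∨ (orb K a).card = 23 by omega) with
      h | h | h
    · exact h
    · rw [h] at hjm
      omega
    · rw [h] at hmul
      omega
  exact ⟨a, eq_stab_of_fix hK (fix_of_orb_card_one h1) (by rw [hcard]; exact card_St2 hne)⟩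

/-- the basis of the code in terms of octads through the extra point. -/
def cert23 : List (List ℕ) :=
  [[0xc75001],
    [0xc75001, 0x8ea003],
    [0xd4b004],
    [0xc75001, 0xa96009],
    [0x9b3010],
    [0xb66020],
    [0xecc040],
    [0xc75001, 0xd98081],
    [0x8ea003, 0xb30103],
    [0xc75001, 0xbc1201],
    [0xb1d400],
    [0xe3a800]]


/-- The outer automorphism group of the Mathieu group M₂₃ (the stabiliser of a point in the automorphism group of the length-24 binary code) is trivial: every automorphism is inner. -/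
theorem result : Nat.card (Cfsg.Out ↥Cfsg.Spor.M23) = 1 := by
  apply card_out_eq_one
  intro α
  obtain ⟨P, hP, hPfix, -⟩ := exists_perm_of_stab Spor.M23 α (by
      intro x hx
      apply hst_of_index Spor.M23 α x
      intro K hK hc
      apply index_M23 hK
      rw [hc]
      apply card_St2
      rintro rfl
      obtain ⟨g, hg, hgx⟩ := hx
      exact hgx hg.2) (by
      intro x y hx h
      by_contra hne
      have hxn : (none : GolayPt) ≠ x := by
        rintro rfl
        obtain ⟨g, hg, hgx⟩ := hx
        exact hgx hg.2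
      by_cases hyn : y = none
      · obtain ⟨g, hg, hgx⟩ := hx
        exact hgx ((h g hg).2 (by rw [hyn]; exact hg.2))
      obtain ⟨z, hz⟩ := exists_not_mem {none, x, y} (by
        have := Finset.card_le_three (a := (none : GolayPt)) (b := x) (c := y); omega)
      rw [Finset.mem_insert, Finset.mem_insert, Finset.mem_singleton, not_or, not_or] at hz
      obtain ⟨g, hg, hh⟩ := M24_lists [none, x, y] [none, x, z] (by simp [hne, hxn, Ne.symm hyn])
        (by simp [hxn, Ne.symm hz.1, Ne.symm hz.2.1]) rfl (by simp)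
      have h0 : g none = none := hh 0 (by simp)
      have h1 : g x = x := hh 1 (by simp)
      have h2 : g y = z := hh 2 (by simp)
      exact hz.2.2 (by rw [← h2]; exact (h g ⟨hg, h0⟩).1 h1))
  apply mem_inn_of_conj Spor.M23 α P _ hP
  refine ⟨?_, hPfix none fun g hg => hg.2⟩
  apply mem_M24_of_cert P (fun m => isOct m && m.testBit 23) _ cert23 (by decide +kernel)
    (by decide +kernel)
  intro m hm
  rw [Bool.and_eq_true] at hm
  have ho := (unmask_mem_octads hm.1).1
  obtain ⟨t, ht, ht2, hFx⟩ := exists_invol ho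
  have htn : t none = none := by
    rw [← mem_Fx, hFx, mem_unmask]
    exact hm.2
  exact octads_subset (smul_octad_of_conj ht2 ho hFx (by
    rw [← hP ⟨t, ⟨ht, htn⟩⟩]; exact (α ⟨t, ⟨ht, htn⟩⟩).2.1))

end Cfsg.Agent.S2063
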