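import Cfsg.Statements.S2064
import Cfsg.Agent.Lib.Helper28.OutMath

set_option autoImplicit false
open Cfsg

namespace Cfsg.Agent.S2064

/-- The outer automorphism group of the Mathieu group M₂₄ (the automorphism group of the length-24 binary code) is trivial: every automorphism is inner. -/
theorem result : Nat.card (Cfsg.Out ↥Cfsg.M24) = 1 := by
  open Cfsg.Agent.Lib.Helper3 Cfsg.Agent.Lib.Helper28.OutGen Cfsg.Agent.Lib.Helper28.OutMath in
  apply card_out_eq_one
  intro α
  obtain ⟨P, hP, -, -⟩ := exists_perm_of_stab M24 α (by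
      intro x _
      apply hst_of_index M24 α x
      intro K hK hc
      exact index_M24 hK (by rw [hc]; exact card_St1 x)) (by
      intro x y _ h
      by_contra hne
      obtain ⟨z, hz⟩ := exists_not_mem {x, y} (by
        have := Finset.card_le_two (a := x) (b := y); omega)
      rw [Finset.mem_insert, Finset.mem_singleton, not_or] at hz
      obtain ⟨g, hg, hh⟩ := M24_lists [x, y] [x, z] (by simp [hne]) (by simp [Ne.symm hz.1]) rfl
        (by simp)
      have h0 : g x = x := hh 0 (by simp)
      have h1 : g y = z := hh 1 (by simp)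
      exact hz.2 (by rw [← h1]; exact (h g hg).1 h0))
  apply mem_inn_of_conj M24 α P _ hP
  apply mem_M24_of_basis
  intro b hb
  rw [← mem_supports_iff]
  obtain ⟨t, ht, ht2, hFx⟩ := exists_invol (basis_octads b hb)
  exact octads_subset (smul_octad_of_conj ht2 (basis_octads b hb) hFx (by
    rw [← hP ⟨t, ht⟩]; exact (α ⟨t, ht⟩).2))

end Cfsg.Agent.S2064
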