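import Cfsg.Statements.S3681
-- import your own Cfsg.Agent.* helpers here

set_option autoImplicit false
open Cfsg

namespace Cfsg.Agent.S3681

open MulAction Subgroup Equiv

theorem isThreeCycle_comm {α : Type*} [Fintype α] [DecidableEq α] (x y : Perm α) (a : α)
    (hxa : x a ≠ a) (hya : y a ≠ a) (h : ∀ z, z ≠ a → x z ≠ z → y z = z) :
    (x * y * x⁻¹ * y⁻¹).IsThreeCycle := by
  have h' : ∀ z, z ≠ a → y z ≠ z → x z = z := by
    intro z hz hyz
    by_contra hxz
    exact hyz (h z hz hxz)
  have hxi : ∀ z, x z = z → x⁻¹ z = z := fun z hz => Perm.inv_eq_iff_eq.2 hz.symm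
  have hyi : ∀ z, y z = z → y⁻¹ z = z := fun z hz => Perm.inv_eq_iff_eq.2 hz.symm
  have hyxa : y (x a) = x a := h (x a) hxa (fun hh => hxa (x.injective hh))
  have hxya : x (y a) = y a := h' (y a) hya (fun hh => hya (y.injective hh))
  have hka : (x * y * x⁻¹ * y⁻¹) a = x a := by
    obtain ⟨v, hv⟩ := y.surjective a
    have hva : v ≠ a := by rintro rfl; exact hya hv
    have hyv : y v ≠ v := by rw [hv]; exact hva.symm
    have hxv := h' v hva hyv
    simp only [Perm.mul_apply]
    rw [Perm.inv_eq_iff_eq.2 hv.symm, hxi v hxv, hv]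
  have hkxa : (x * y * x⁻¹ * y⁻¹) (x a) = y a := by
    simp only [Perm.mul_apply]
    rw [hyi _ hyxa, Perm.inv_eq_iff_eq.2 (rfl : x a = x a), hxya]
  have hkya : (x * y * x⁻¹ * y⁻¹) (y a) = a := by
    obtain ⟨u, hu⟩ := x.surjective a
    have hua : u ≠ a := by rintro rfl; exact hxa hu
    have hxu : x u ≠ u := by rw [hu]; exact hua.symm
    have hyu := h u hua hxu
    simp only [Perm.mul_apply]
    rw [Perm.inv_eq_iff_eq.2 (rfl : y a = y a), Perm.inv_eq_iff_eq.2 hu.symm, hyu, hu]
  have hxy : x a ≠ y a := by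
    intro hh
    apply hya
    apply y.injective
    rw [← hh, hyxa]
  have hkz : ∀ z, z ≠ a → z ≠ x a → z ≠ y a → (x * y * x⁻¹ * y⁻¹) z = z := by
    intro z hza hzx hzy
    simp only [Perm.mul_apply]
    by_cases hyz : y z = z
    · rw [hyi z hyz]
      by_cases hxz : x z = z
      · rw [hxi z hxz, hyz, hxz]
      · obtain ⟨u, hu⟩ := x.surjective z
        have hua : u ≠ a := by rintro rfl; exact hzx hu.symm
        have hxu : x u ≠ u := by
          intro hh
          apply hxz
          rw [← hu, hh, hh]
        rw [Perm.inv_eq_iff_eq.2 hu.symm, h u hua hxu, hu]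
    · have hxz := h' z hza hyz
      obtain ⟨w, hw⟩ := y.surjective z
      have hwa : w ≠ a := by rintro rfl; exact hzy hw.symm
      have hyw : y w ≠ w := by
        intro hh
        apply hyz
        rw [← hw, hh, hh]
      rw [Perm.inv_eq_iff_eq.2 hw.symm, hxi w (h' w hwa hyw), hw, hxz]
  rw [← card_support_eq_three_iff, Finset.card_eq_three]
  refine ⟨a, x a, y a, hxa.symm, hya.symm, hxy, ?_⟩
  ext z
  rw [Perm.mem_support, Finset.mem_insert, Finset.mem_insert, Finset.mem_singleton]
  constructor
  · intro hz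
    by_contra hcon
    push Not at hcon
    exact hz (hkz z hcon.1 hcon.2.1 hcon.2.2)
  · rintro (rfl | rfl | rfl)
    · rw [hka]; exact hxa
    · rw [hkxa]; exact hxy.symm
    · rw [hkya]; exact hya.symm

theorem base_bound {G Ω : Type*} [Group G] [Finite G] [MulAction G Ω] [Fintype Ω] [DecidableEq Ω]
    (T : Finset Ω) (hT : ∀ g : G, (∀ z ∈ T, g • z = z) → g = 1) :
    Nat.card G * Nat.factorial (Fintype.card Ω - T.card) ≤ Nat.factorial (Fintype.card Ω) := by
  have hinj : Function.Injective (fun q : G × Perm {a : Ω // a ∉ T} =>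
      (MulAction.toPerm q.1 : Perm Ω) * Perm.ofSubtype q.2) := by
    rintro ⟨g, s⟩ ⟨g', s'⟩ hq
    have hq' : (MulAction.toPerm g : Perm Ω) * Perm.ofSubtype s
      = (MulAction.toPerm g' : Perm Ω) * Perm.ofSubtype s' := hq
    have h1 : g'⁻¹ * g = 1 := by
      apply hT
      intro z hz
      have h2 := congrArg (fun f : Perm Ω => f z) hq'
      simp only [Perm.mul_apply] at h2
      rw [Perm.ofSubtype_apply_of_not_mem s (by simpa using hz),
        Perm.ofSubtype_apply_of_not_mem s' (by simpa using hz)] at h2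
      have h3 : g • z = g' • z := h2
      rw [mul_smul, h3, inv_smul_smul]
    have h2 : g = g' := by
      rw [inv_mul_eq_one] at h1; exact h1.symm
    subst h2
    have h3 := mul_left_cancel hq'
    rw [Perm.ofSubtype_injective h3]
  have h1 := Nat.card_le_card_of_injective _ hinj
  rw [Nat.card_prod, Nat.card_eq_fintype_card (α := Perm _), Nat.card_eq_fintype_card (α := Perm _),
    Fintype.card_perm, Fintype.card_perm] at h1
  have h2 : Fintype.card {a : Ω // a ∉ T} = Fintype.card Ω - T.card := by
    rw [Fintype.card_subtype_compl, Fintype.card_coe]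
  rwa [h2] at h1

/-- Bochert's bound for primitive groups. Let a finite group G act faithfully and primitively on a finite set Ω with n elements, and suppose the image of G in the symmetric group of Ω does not contain the alternating group of Ω. Then |G| · ⌊(n + 1)/2⌋! ≤ n!, that is, the index of G in the symmetric group is at least ⌊(n + 1)/2⌋!. -/
theorem result {G Ω : Type*} [Group G] [Finite G] [MulAction G Ω] [FaithfulSMul G Ω] [Fintype Ω] [DecidableEq Ω]
    (hprim : MulAction.IsPreprimitive G Ω) (hA : ¬ alternatingGroup Ω ≤ (MulAction.toPermHom G Ω).range) :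
    Nat.card G * Nat.factorial ((Fintype.card Ω + 1) / 2) ≤ Nat.factorial (Fintype.card Ω) := by
  classical
  -- the image of G is primitive
  have hP : IsPreprimitive (MulAction.toPermHom G Ω).range Ω := by
    let f : Ω →ₑ[(MulAction.toPermHom G Ω).rangeRestrict] Ω :=
      { toFun := id, map_smul' := fun g x => rfl }
    exact IsPreprimitive.of_surjective (f := f) Function.surjective_id
  let S : Set (Finset Ω) := {T | ∀ g : G, (∀ z ∈ T, g • z = z) → g = 1}
  have huniv : (Finset.univ : Finset Ω) ∈ S := by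
    intro g hg
    apply FaithfulSMul.eq_of_smul_eq_smul (α := Ω)
    intro z
    rw [hg z (Finset.mem_univ z), one_smul]
  obtain ⟨Δ, hΔ, hmin⟩ := WellFounded.has_min (measure (Finset.card (α := Ω))).wf S ⟨_, huniv⟩
  have hΔc : Δᶜ ∈ S := by
    intro y hy
    by_contra hy1
    have hex : ∃ a : Ω, y • a ≠ a := by
      by_contra hcon
      push Not at hcon
      apply hy1
      apply FaithfulSMul.eq_of_smul_eq_smul (α := Ω)
      intro z
      rw [hcon z, one_smul]
    obtain ⟨a, hya⟩ := hex
    have haΔ : a ∈ Δ := by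
      by_contra hh
      exact hya (hy a (Finset.mem_compl.2 hh))
    have hnot : Δ.erase a ∉ S := by
      intro hh
      apply hmin _ hh
      show (Δ.erase a).card < Δ.card
      exact Finset.card_erase_lt_of_mem haΔ
    have hnot' : ∃ x : G, (∀ z ∈ Δ.erase a, x • z = z) ∧ x ≠ 1 := by
      by_contra hcon
      push Not at hcon
      exact hnot hcon
    obtain ⟨x, hx, hx1⟩ := hnot'
    have hxa : x • a ≠ a := by
      intro hh
      apply hx1
      apply hΔ
      intro z hz
      by_cases hza : z = a
      · rw [hza, hh]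
      · exact hx z (Finset.mem_erase.2 ⟨hza, hz⟩)
    have h3 := isThreeCycle_comm (MulAction.toPerm x : Equiv.Perm Ω) (MulAction.toPerm y) a hxa hya
      (by
        intro z hza hxz
        apply hy
        rw [Finset.mem_compl]
        intro hz
        exact hxz (hx z (Finset.mem_erase.2 ⟨hza, hz⟩)))
    apply hA
    apply Equiv.Perm.alternatingGroup_le_of_isPreprimitive_of_isThreeCycle_mem hP h3
    refine ⟨x * y * x⁻¹ * y⁻¹, ?_⟩
    simp [map_mul, map_inv]
  have h1 := base_bound Δ hΔ
  have h2 := base_bound Δᶜ hΔc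
  rw [Finset.card_compl] at h2
  have hle : Δ.card ≤ Fintype.card Ω := Finset.card_le_univ Δ
  by_cases hc : (Fintype.card Ω + 1) / 2 ≤ Fintype.card Ω - Δ.card
  · exact le_trans (Nat.mul_le_mul_left _ (Nat.factorial_le hc)) h1
  · have hc' : (Fintype.card Ω + 1) / 2 ≤ Fintype.card Ω - (Fintype.card Ω - Δ.card) := by omega
    exact le_trans (Nat.mul_le_mul_left _ (Nat.factorial_le hc')) h2

end Cfsg.Agent.S3681
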