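import Cfsg.Statements.S5911
-- import your own Cfsg.Agent.* helpers here
import Mathlib
import Cfsg.Agent.S3681

set_option autoImplicit false
open Cfsg

namespace Cfsg.Agent.S5911


open MulAction Equiv
open scoped Pointwise

theorem ch1 : ∀ m k : ℕ, 1 ≤ k → k + 1 ≤ m → m ≤ m.choose k := by
  intro m
  induction m with
  | zero => intro k _ h; omega
  | succ m ih =>
    intro k hk hm
    obtain ⟨j, rfl⟩ : ∃ j, k = j + 1 := ⟨k - 1, by omega⟩
    rw [Nat.choose_succ_succ']
    rcases Nat.eq_zero_or_pos j with rfl | hj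
    · simp
    · have h1 := ih j hj (by omega)
      have h2 : 0 < m.choose (j + 1) := Nat.choose_pos (by omega)
      omega

theorem ch2 (n k : ℕ) (hk : 2 ≤ k) (hn : k + 2 ≤ n) : 2 * (n - 1) ≤ n.choose k := by
  obtain ⟨m, rfl⟩ : ∃ m, n = m + 1 := ⟨n - 1, by omega⟩
  obtain ⟨j, rfl⟩ : ∃ j, k = j + 1 := ⟨k - 1, by omega⟩
  rw [Nat.choose_succ_succ']
  have h1 := ch1 m j (by omega) (by omega)
  have h2 := ch1 m (j + 1) (by omega) (by omega)
  omega

theorem idxStab {Ω : Type*} [Fintype Ω] [DecidableEq Ω] (s : Set Ω) :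
    (stabilizer (Perm Ω) s).index = (Fintype.card Ω).choose s.ncard := by
  classical
  have hc : s.toFinset.card = s.ncard := (Set.ncard_eq_toFinset_card' s).symm
  let s' : Set.powersetCard Ω s.ncard := ⟨s.toFinset, Set.powersetCard.mem_iff.mpr hc⟩
  have h1 := Set.powersetCard.stabilizer_coe (G := Perm Ω) s'
  have h2 : ((s' : Set Ω)) = s := by
    ext x
    simp [s']
  rw [h2] at h1
  rw [← h1]
  haveI := Set.powersetCard.isPretransitive (α := Ω) (n := s.ncard)
  rw [index_stabilizer_of_transitive, Set.powersetCard.card, Nat.card_eq_fintype_card]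

/-- Let Ω be a finite set whose size n is not 6. Then every subgroup of the symmetric group on Ω of index n is the stabilizer of a point. -/
theorem result {Ω : Type*} [Fintype Ω] [DecidableEq Ω] (h6 : Fintype.card Ω ≠ 6)
    (H : Subgroup (Equiv.Perm Ω)) (hH : H.index = Fintype.card Ω) :
    ∃ x : Ω, H = MulAction.stabilizer (Equiv.Perm Ω) x := by
  classical
  obtain ⟨n, hn⟩ : ∃ n, n = Fintype.card Ω := ⟨_, rfl⟩
  rw [← hn] at h6 hH
  have hcardS : Nat.card (Perm Ω) = n.factorial := by
    rw [Nat.card_eq_fintype_card, Fintype.card_perm, hn]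
  have hHcard : Nat.card H * n = n.factorial := by
    have := H.card_mul_index
    rwa [hH, hcardS] at this
  have hnpos : 0 < n := by
    rw [← hH]; exact Nat.pos_of_ne_zero Subgroup.index_ne_zero_of_finite
  have hHpos : 0 < Nat.card H := Nat.card_pos
  obtain ⟨x0⟩ : Nonempty Ω := Fintype.card_pos_iff.mp (hn ▸ hnpos)
  have hpt : ∀ x : Ω, (stabilizer (Perm Ω) x).index = n := by
    intro x
    rw [index_stabilizer_of_transitive, Nat.card_eq_fintype_card, hn]
  have hfix : ∀ x : Ω, H ≤ stabilizer (Perm Ω) x → H = stabilizer (Perm Ω) x := by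
    intro x hx
    have h1 := Subgroup.relIndex_mul_index hx
    rw [hpt x, hH] at h1
    have h2 : H.relIndex (stabilizer (Perm Ω) x) = 1 := by
      have : H.relIndex (stabilizer (Perm Ω) x) * n = 1 * n := by rw [h1, one_mul]
      exact Nat.eq_of_mul_eq_mul_right hnpos this
    exact le_antisymm hx (Subgroup.relIndex_eq_one.mp h2)
  by_cases htr : IsPretransitive H Ω
  swap
  · -- intransitive case
    have horb : ∀ x : Ω, (orbit H x).ncard = 1 ∨ n ≤ (orbit H x).ncard + 1 := by
      intro x
      have hle : H ≤ stabilizer (Perm Ω) (orbit H x) := by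
        intro h hh
        rw [mem_stabilizer_iff]
        exact smul_orbit (⟨h, hh⟩ : H) x
      have hd := Subgroup.index_dvd_of_le hle
      rw [idxStab, hH, ← hn] at hd
      have hle2 := Nat.le_of_dvd hnpos hd
      have hpos : 0 < (orbit H x).ncard :=
        (Set.ncard_pos (Set.toFinite _)).mpr ⟨x, mem_orbit_self x⟩
      by_contra hc
      push Not at hc
      have := ch2 n (orbit H x).ncard (by omega) (by omega)
      omega
    have hone : ∀ x : Ω, (orbit H x).ncard = 1 → ∃ x : Ω, H = stabilizer (Perm Ω) x := by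
      intro x hx
      refine ⟨x, hfix x ?_⟩
      intro h hh
      rw [mem_stabilizer_iff]
      obtain ⟨y, hy⟩ := Set.ncard_eq_one.mp hx
      have h1 : x ∈ orbit H x := mem_orbit_self x
      have h2 : (⟨h, hh⟩ : H) • x ∈ orbit H x := mem_orbit x _
      rw [hy, Set.mem_singleton_iff] at h1 h2
      have h3 : h • x = y := h2
      rw [h3, h1]
    rcases horb x0 with h1 | h1
    · exact hone x0 h1
    · obtain ⟨y, hy⟩ : ∃ y, y ∉ orbit H x0 := by
        by_contra hc
        push Not at hc
        apply htr
        refine ⟨fun a b => ?_⟩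
        obtain ⟨g, hg⟩ := hc a
        obtain ⟨g', hg'⟩ := hc b
        refine ⟨g' * g⁻¹, ?_⟩
        rw [← hg, ← hg', mul_smul, inv_smul_smul]
      apply hone y
      have hdisj : Disjoint (orbit H x0) (orbit H y) := by
        rw [Set.disjoint_left]
        intro z hz hz'
        apply hy
        rw [← orbit_eq_iff] at hz hz'
        rw [← hz, hz']
        exact mem_orbit_self y
      have hsum : (orbit H x0 ∪ orbit H y).ncard = (orbit H x0).ncard + (orbit H y).ncard :=
        Set.ncard_union_eq hdisj (Set.toFinite _) (Set.toFinite _)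
      have hle : (orbit H x0 ∪ orbit H y).ncard ≤ n := by
        have := Set.ncard_le_ncard (Set.subset_univ (orbit H x0 ∪ orbit H y)) (Set.toFinite _)
        rwa [Set.ncard_univ, Nat.card_eq_fintype_card, ← hn] at this
      have hpos : 0 < (orbit H y).ncard :=
        (Set.ncard_pos (Set.toFinite _)).mpr ⟨y, mem_orbit_self y⟩
      omega
  -- transitive case
  by_cases hn1 : n = 1
  · refine ⟨x0, hfix x0 ?_⟩
    intro h _
    rw [mem_stabilizer_iff]
    haveI : Subsingleton Ω := Fintype.card_le_one_iff_subsingleton.mp (by omega)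
    exact Subsingleton.elim _ _
  exfalso
  have hdvd : n ∣ Nat.card H := by
    have h1 : (stabilizer H x0).index = n := by
      rw [index_stabilizer_of_transitive, Nat.card_eq_fintype_card, hn]
    rw [← h1]; exact Subgroup.index_dvd_card _
  obtain ⟨c, hc⟩ := hdvd
  have hn7 : 7 ≤ n := by
    by_contra hlt
    have hle : n ≤ 5 := by omega
    rw [hc] at hHcard
    clear hn hH hcardS hpt hc
    interval_cases n <;> simp [Nat.factorial] at hHcard <;> omega
  by_cases hprim : IsPreprimitive H Ω
  · -- primitive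
    have hrange : (MulAction.toPermHom H Ω).range = H := by
      ext g
      constructor
      · rintro ⟨h, rfl⟩
        have : MulAction.toPermHom H Ω h = h.1 := by ext x; rfl
        rw [this]; exact h.2
      · intro hg
        exact ⟨⟨g, hg⟩, by ext x; rfl⟩
    by_cases hA : alternatingGroup Ω ≤ H
    · haveI : Nontrivial Ω := Fintype.one_lt_card_iff_nontrivial.mp (by omega)
      have h2 := Subgroup.index_dvd_of_le hA
      rw [alternatingGroup.index_eq_two, hH] at h2
      have := Nat.le_of_dvd (by norm_num) h2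
      omega
    · have hb := Cfsg.Agent.S3681.result (G := H) (Ω := Ω) hprim (by rw [hrange]; exact hA)
      rw [← hn, ← hHcard] at hb
      have hb2 : ((n + 1) / 2).factorial ≤ n := Nat.le_of_mul_le_mul_left hb hHpos
      obtain ⟨m, hm⟩ : ∃ m, (n + 1) / 2 = m + 4 := ⟨(n + 1) / 2 - 4, by omega⟩
      rw [hm] at hb2
      have h6' : 6 ≤ (m + 3).factorial := by
        calc 6 = (3).factorial := rfl
          _ ≤ (m + 3).factorial := Nat.factorial_le (by omega)
      rw [Nat.factorial_succ] at hb2
      have hn2 : n ≤ 2 * m + 8 := by omega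
      nlinarith
  · -- imprimitive
    obtain ⟨B, hB, hBt⟩ : ∃ B : Set Ω, IsBlock H B ∧ ¬ IsTrivialBlock B := by
      by_contra hc
      push Not at hc
      exact hprim ⟨fun {B} hB => hc B hB⟩
    have hBne : B.Nonempty := by
      by_contra hc
      rw [Set.not_nonempty_iff_eq_empty] at hc
      exact hBt (Or.inl (by rw [hc]; exact Set.subsingleton_empty))
    have hmul := hB.ncard_block_mul_ncard_orbit_eq hBne
    rw [Nat.card_eq_fintype_card, ← hn] at hmul
    obtain ⟨a, ha⟩ : ∃ a, a = B.ncard := ⟨_, rfl⟩
    obtain ⟨N, hN⟩ : ∃ N, N = (orbit H B).ncard := ⟨_, rfl⟩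
    rw [← ha, ← hN] at hmul
    have ha2 : 2 ≤ a := by
      by_contra hc
      apply hBt; left
      rw [← Set.ncard_le_one_iff_subsingleton]
      omega
    have hN2 : 2 ≤ N := by
      by_contra hc
      have hN1 : N = 1 ∨ N = 0 := by omega
      apply hBt; right
      have han : a = n := by rcases hN1 with h | h <;> rw [h] at hmul <;> omega
      apply Set.eq_of_subset_of_ncard_le (Set.subset_univ B) _ (Set.toFinite _)
      rw [Set.ncard_univ, Nat.card_eq_fintype_card, ← hn, ← ha, han]
    obtain ⟨T, hT⟩ : ∃ T, T = stabilizer (Perm Ω) B := ⟨_, rfl⟩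
    have hTidx : T.index = n.choose a := by rw [hT, idxStab, ← hn, ← ha]
    have hstab : stabilizer H B = T.subgroupOf H := by
      ext g
      rw [mem_stabilizer_iff, Subgroup.mem_subgroupOf, hT, mem_stabilizer_iff]
      rfl
    have hNrel : T.relIndex H = N := by
      rw [Subgroup.relIndex, ← hstab, index_stabilizer, hN]
    have e1 := Subgroup.relIndex_mul_index (inf_le_left : H ⊓ T ≤ H)
    have e2 := Subgroup.relIndex_mul_index (inf_le_right : H ⊓ T ≤ T)
    rw [Subgroup.inf_relIndex_left, hNrel, hH] at e1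
    rw [Subgroup.inf_relIndex_right, hTidx] at e2
    obtain ⟨t, ht⟩ : ∃ t, t = H.relIndex T := ⟨_, rfl⟩
    rw [← ht] at e2
    have e3 : N * n = t * n.choose a := by rw [e1, e2]
    have htpos : 0 < t := by
      rcases Nat.eq_zero_or_pos t with h | h
      · rw [h, zero_mul] at e3
        have : 0 < N * n := by positivity
        omega
      · exact h
    clear hn hH hcardS hpt hc hHcard hTidx e1 e2 ha h6 hfix
    obtain ⟨n', rfl⟩ : ∃ n', n = n' + 1 := ⟨n - 1, by omega⟩
    obtain ⟨a', rfl⟩ : ∃ a', a = a' + 1 := ⟨a - 1, by omega⟩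
    have hsc := Nat.add_one_mul_choose_eq n' a'
    have e4 : (n' + 1) = t * n'.choose a' := by
      have : (n' + 1) * (n' + 1) = (n' + 1) * (t * n'.choose a') := by
        calc (n' + 1) * (n' + 1) = ((a' + 1) * N) * (n' + 1) := by rw [hmul]
          _ = (a' + 1) * (N * (n' + 1)) := by ring
          _ = (a' + 1) * (t * (n' + 1).choose (a' + 1)) := by rw [e3]
          _ = t * ((n' + 1).choose (a' + 1) * (a' + 1)) := by ring
          _ = t * ((n' + 1) * n'.choose a') := by rw [← hsc]
          _ = (n' + 1) * (t * n'.choose a') := by ring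
      exact Nat.eq_of_mul_eq_mul_left (by omega) this
    rcases Nat.lt_or_ge a' 2 with h | h
    · have h1 : a' = 1 := by omega
      subst h1
      rw [Nat.choose_one_right] at e4
      rcases Nat.lt_or_ge t 2 with h' | h'
      · have h2 : t = 1 := by omega
        subst h2; omega
      · nlinarith
    · have h3 : a' + 2 ≤ n' := by nlinarith
      have hc2 := ch2 n' a' h h3
      have h4 : n'.choose a' ≤ t * n'.choose a' := Nat.le_mul_of_pos_left _ htpos
      omega

end Cfsg.Agent.S5911
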