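import Cfsg.Statements.S2119
-- import your own Cfsg.Agent.* helpers here
import Mathlib
import Cfsg.Agent.S3681
import Cfsg.Agent.S5911

set_option autoImplicit false
open Cfsg

namespace Cfsg.Agent.S2119


open MulAction Equiv
open scoped Pointwise

theorem idxStabA {Ω : Type*} [Fintype Ω] [DecidableEq Ω] (h3 : 3 ≤ Fintype.card Ω) (s : Set Ω) :
    (stabilizer (alternatingGroup Ω) s).index = (Fintype.card Ω).choose s.ncard := by
  haveI : DecidablePred (· ∈ s) := Classical.decPred _
  have hc : s.toFinset.card = s.ncard := (Set.ncard_eq_toFinset_card' s).symm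
  let s' : Set.powersetCard Ω s.ncard := ⟨s.toFinset, Set.powersetCard.mem_iff.mpr hc⟩
  have h1 := Set.powersetCard.stabilizer_coe (G := alternatingGroup Ω) s'
  have h2 : ((s' : Set Ω)) = s := by
    ext x
    simp [s']
  rw [h2] at h1
  rw [← h1]
  have hh := Set.powersetCard.isPretransitive_alternatingGroup (α := Ω) (n := s.ncard)
    (by rw [Nat.card_eq_fintype_card]; exact h3)
  have := @index_stabilizer_of_transitive (alternatingGroup Ω) (Set.powersetCard Ω s.ncard) _ _ s' hh
  exact this.trans (by rw [Set.powersetCard.card, Nat.card_eq_fintype_card])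

theorem idxn {Ω : Type*} [Fintype Ω] [DecidableEq Ω] (h4 : 4 ≤ Fintype.card Ω)
    (h6 : Fintype.card Ω ≠ 6)
    (H : Subgroup (alternatingGroup Ω)) (hH : H.index = Fintype.card Ω) :
    ∃ x : Ω, H = stabilizer (alternatingGroup Ω) x := by
  classical
  have h3 : 3 ≤ Fintype.card Ω := by omega
  haveI : Nontrivial Ω := Fintype.one_lt_card_iff_nontrivial.mp (by omega)
  haveI htrA : IsPretransitive (alternatingGroup Ω) Ω :=
    alternatingGroup.isPretransitive_of_three_le_card Ω (by rw [Nat.card_eq_fintype_card]; exact h3)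
  obtain ⟨n, hn⟩ : ∃ n, n = Fintype.card Ω := ⟨_, rfl⟩
  rw [← hn] at h6 hH h4 h3
  have hcardS : 2 * Nat.card (alternatingGroup Ω) = n.factorial := by
    rw [two_mul_nat_card_alternatingGroup, Nat.card_eq_fintype_card, Fintype.card_perm, hn]
  have hHcard : 2 * (Nat.card H * n) = n.factorial := by
    have := H.card_mul_index
    rw [hH] at this
    rw [this, hcardS]
  have hnpos : 0 < n := by omega
  have hHpos : 0 < Nat.card H := Nat.card_pos
  obtain ⟨x0⟩ : Nonempty Ω := Fintype.card_pos_iff.mp (hn ▸ hnpos)
  have hpt : ∀ x : Ω, (stabilizer (alternatingGroup Ω) x).index = n := by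
    intro x
    rw [index_stabilizer_of_transitive, Nat.card_eq_fintype_card, hn]
  have hfix : ∀ x : Ω, H ≤ stabilizer (alternatingGroup Ω) x →
      H = stabilizer (alternatingGroup Ω) x := by
    intro x hx
    have h1 := Subgroup.relIndex_mul_index hx
    rw [hpt x, hH] at h1
    have h2 : H.relIndex (stabilizer (alternatingGroup Ω) x) = 1 := by
      have : H.relIndex (stabilizer (alternatingGroup Ω) x) * n = 1 * n := by rw [h1, one_mul]
      exact Nat.eq_of_mul_eq_mul_right hnpos this
    exact le_antisymm hx (Subgroup.relIndex_eq_one.mp h2)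
  by_cases htr : IsPretransitive H Ω
  swap
  · -- intransitive case
    have horb : ∀ x : Ω, (orbit H x).ncard = 1 ∨ n ≤ (orbit H x).ncard + 1 := by
      intro x
      have hle : H ≤ stabilizer (alternatingGroup Ω) (orbit H x) := by
        intro h hh
        rw [mem_stabilizer_iff]
        exact smul_orbit (⟨h, hh⟩ : H) x
      have hd := Subgroup.index_dvd_of_le hle
      rw [idxStabA (hn ▸ h3), hH, ← hn] at hd
      have hle2 := Nat.le_of_dvd hnpos hd
      have hpos : 0 < (orbit H x).ncard :=
        (Set.ncard_pos (Set.toFinite _)).mpr ⟨x, mem_orbit_self x⟩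
      by_contra hc
      push Not at hc
      have := Cfsg.Agent.S5911.ch2 n (orbit H x).ncard (by omega) (by omega)
      omega
    have hone : ∀ x : Ω, (orbit H x).ncard = 1 →
        ∃ x : Ω, H = stabilizer (alternatingGroup Ω) x := by
      intro x hx
      refine ⟨x, hfix x ?_⟩
      intro h hh
      rw [mem_stabilizer_iff]
      obtain ⟨y, hy⟩ := Set.ncard_eq_one.mp hx
      have h1 : x ∈ orbit H x := mem_orbit_self x
      have h2 : (⟨h, hh⟩ : H) • x ∈ orbit H x := mem_orbit x _
      rw [hy, Set.mem_singleton_iff] at h1 h2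
      have h3 : h • x = y := h2
      rw [h3, h1]
    rcases horb x0 with h1 | h1
    · exact hone x0 h1
    · obtain ⟨y, hy⟩ : ∃ y, y ∉ orbit H x0 := by
        by_contra hc
        push Not at hc
        apply htr
        refine ⟨fun a b => ?_⟩
        obtain ⟨g, hg⟩ := hc a
        obtain ⟨g', hg'⟩ := hc b
        refine ⟨g' * g⁻¹, ?_⟩
        rw [← hg, ← hg', mul_smul, inv_smul_smul]
      apply hone y
      have hdisj : Disjoint (orbit H x0) (orbit H y) := by
        rw [Set.disjoint_left]
        intro z hz hz'
        apply hy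
        rw [← orbit_eq_iff] at hz hz'
        rw [← hz, hz']
        exact mem_orbit_self y
      have hsum : (orbit H x0 ∪ orbit H y).ncard = (orbit H x0).ncard + (orbit H y).ncard :=
        Set.ncard_union_eq hdisj (Set.toFinite _) (Set.toFinite _)
      have hle : (orbit H x0 ∪ orbit H y).ncard ≤ n := by
        have := Set.ncard_le_ncard (Set.subset_univ (orbit H x0 ∪ orbit H y)) (Set.toFinite _)
        rwa [Set.ncard_univ, Nat.card_eq_fintype_card, ← hn] at this
      have hpos : 0 < (orbit H y).ncard :=
        (Set.ncard_pos (Set.toFinite _)).mpr ⟨y, mem_orbit_self y⟩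
      omega
  -- transitive case
  exfalso
  have hdvd : n ∣ Nat.card H := by
    have h1 : (stabilizer H x0).index = n := by
      rw [index_stabilizer_of_transitive, Nat.card_eq_fintype_card, hn]
    rw [← h1]; exact Subgroup.index_dvd_card _
  obtain ⟨c, hc⟩ := hdvd
  have hn7 : 7 ≤ n := by
    by_contra hlt
    have hle : n ≤ 5 := by omega
    rw [hc] at hHcard
    clear hn hH hcardS hpt hc
    interval_cases n <;> simp [Nat.factorial] at hHcard <;> omega
  by_cases hprim : IsPreprimitive H Ω
  · -- primitive
    have hA : ¬ alternatingGroup Ω ≤ (MulAction.toPermHom H Ω).range := by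
      intro hle
      have h1 := Subgroup.card_le_of_le hle
      have h2 : Nat.card (MulAction.toPermHom H Ω).range ≤ Nat.card H :=
        Nat.card_le_card_of_surjective _ (MulAction.toPermHom H Ω).rangeRestrict_surjective
      have h3 := H.card_mul_index
      rw [hH] at h3
      nlinarith
    have hb := Cfsg.Agent.S3681.result (G := H) (Ω := Ω) hprim hA
    rw [← hn, ← hHcard] at hb
    have hb2 : ((n + 1) / 2).factorial ≤ 2 * n := by
      have : Nat.card H * ((n + 1) / 2).factorial ≤ Nat.card H * (2 * n) := by
        calc Nat.card H * ((n + 1) / 2).factorial ≤ 2 * (Nat.card H * n) := hb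
          _ = Nat.card H * (2 * n) := by ring
      exact Nat.le_of_mul_le_mul_left this hHpos
    obtain ⟨m, hm⟩ : ∃ m, (n + 1) / 2 = m + 4 := ⟨(n + 1) / 2 - 4, by omega⟩
    rw [hm] at hb2
    have h6' : 6 ≤ (m + 3).factorial := by
      calc 6 = (3).factorial := rfl
        _ ≤ (m + 3).factorial := Nat.factorial_le (by omega)
    rw [Nat.factorial_succ] at hb2
    have hn2 : n ≤ 2 * m + 8 := by omega
    nlinarith
  · -- imprimitive
    obtain ⟨B, hB, hBt⟩ : ∃ B : Set Ω, IsBlock H B ∧ ¬ IsTrivialBlock B := by
      by_contra hc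
      push Not at hc
      exact hprim ⟨fun {B} hB => hc B hB⟩
    have hBne : B.Nonempty := by
      by_contra hc
      rw [Set.not_nonempty_iff_eq_empty] at hc
      exact hBt (Or.inl (by rw [hc]; exact Set.subsingleton_empty))
    have hmul := hB.ncard_block_mul_ncard_orbit_eq hBne
    rw [Nat.card_eq_fintype_card, ← hn] at hmul
    obtain ⟨a, ha⟩ : ∃ a, a = B.ncard := ⟨_, rfl⟩
    obtain ⟨N, hN⟩ : ∃ N, N = (orbit H B).ncard := ⟨_, rfl⟩
    rw [← ha, ← hN] at hmul
    have ha2 : 2 ≤ a := by
      by_contra hc
      apply hBt; left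
      rw [← Set.ncard_le_one_iff_subsingleton]
      omega
    have hN2 : 2 ≤ N := by
      by_contra hc
      have hN1 : N = 1 ∨ N = 0 := by omega
      apply hBt; right
      have han : a = n := by rcases hN1 with h | h <;> rw [h] at hmul <;> omega
      apply Set.eq_of_subset_of_ncard_le (Set.subset_univ B) _ (Set.toFinite _)
      rw [Set.ncard_univ, Nat.card_eq_fintype_card, ← hn, ← ha, han]
    obtain ⟨T, hT⟩ : ∃ T, T = stabilizer (alternatingGroup Ω) B := ⟨_, rfl⟩
    have hTidx : T.index = n.choose a := by rw [hT, idxStabA (hn ▸ h3), ← hn, ← ha]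
    have hstab : stabilizer H B = T.subgroupOf H := by
      ext g
      rw [mem_stabilizer_iff, Subgroup.mem_subgroupOf, hT, mem_stabilizer_iff]
      rfl
    have hNrel : T.relIndex H = N := by
      rw [Subgroup.relIndex, ← hstab, index_stabilizer, hN]
    have e1 := Subgroup.relIndex_mul_index (inf_le_left : H ⊓ T ≤ H)
    have e2 := Subgroup.relIndex_mul_index (inf_le_right : H ⊓ T ≤ T)
    rw [Subgroup.inf_relIndex_left, hNrel, hH] at e1
    rw [Subgroup.inf_relIndex_right, hTidx] at e2
    obtain ⟨t, ht⟩ : ∃ t, t = H.relIndex T := ⟨_, rfl⟩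
    rw [← ht] at e2
    have e3 : N * n = t * n.choose a := by rw [e1, e2]
    have htpos : 0 < t := by
      rcases Nat.eq_zero_or_pos t with h | h
      · rw [h, zero_mul] at e3
        have : 0 < N * n := by positivity
        omega
      · exact h
    clear hn hH hcardS hpt hc hHcard hTidx e1 e2 ha h6 hfix
    obtain ⟨n', rfl⟩ : ∃ n', n = n' + 1 := ⟨n - 1, by omega⟩
    obtain ⟨a', rfl⟩ : ∃ a', a = a' + 1 := ⟨a - 1, by omega⟩
    have hsc := Nat.add_one_mul_choose_eq n' a'
    have e4 : (n' + 1) = t * n'.choose a' := by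
      have : (n' + 1) * (n' + 1) = (n' + 1) * (t * n'.choose a') := by
        calc (n' + 1) * (n' + 1) = ((a' + 1) * N) * (n' + 1) := by rw [hmul]
          _ = (a' + 1) * (N * (n' + 1)) := by ring
          _ = (a' + 1) * (t * (n' + 1).choose (a' + 1)) := by rw [e3]
          _ = t * ((n' + 1).choose (a' + 1) * (a' + 1)) := by ring
          _ = t * ((n' + 1) * n'.choose a') := by rw [← hsc]
          _ = (n' + 1) * (t * n'.choose a') := by ring
      exact Nat.eq_of_mul_eq_mul_left (by omega) this
    rcases Nat.lt_or_ge a' 2 with h | h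
    · have h1 : a' = 1 := by omega
      subst h1
      rw [Nat.choose_one_right] at e4
      rcases Nat.lt_or_ge t 2 with h' | h'
      · have h2 : t = 1 := by omega
        subst h2; omega
      · nlinarith
    · have h3 : a' + 2 ≤ n' := by nlinarith
      have hc2 := Cfsg.Agent.S5911.ch2 n' a' h h3
      have h4 : n'.choose a' ≤ t * n'.choose a' := Nat.le_mul_of_pos_left _ htpos
      omega

/-- a 3-cycle fixing `i` and moving `j` -/
theorem exists_fix_move {n : ℕ} (hn : 4 ≤ n) (i j : Fin n) (hij : i ≠ j) :
    ∃ g : alternatingGroup (Fin n), g • i = i ∧ g • j ≠ j := by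
  classical
  -- pick k, l distinct outside {i, j}
  have hcard : 2 < (Finset.univ.erase i : Finset (Fin n)).card - 0 := by
    rw [Finset.card_erase_of_mem (Finset.mem_univ _), Finset.card_univ, Fintype.card_fin]; omega
  obtain ⟨k, hk⟩ : ∃ k : Fin n, k ≠ i ∧ k ≠ j := by
    by_contra hc
    push Not at hc
    have hsub : (Finset.univ : Finset (Fin n)) ⊆ {i, j} := by
      intro x _
      by_cases h : x = i
      · simp [h]
      · simp [hc x h]
    have := Finset.card_le_card hsub
    have h2 : ({i, j} : Finset (Fin n)).card ≤ 2 := Finset.card_le_two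
    rw [Finset.card_univ, Fintype.card_fin] at this
    omega
  obtain ⟨l, hl⟩ : ∃ l : Fin n, l ≠ i ∧ l ≠ j ∧ l ≠ k := by
    by_contra hc
    push Not at hc
    have hsub : (Finset.univ : Finset (Fin n)) ⊆ {i, j, k} := by
      intro x _
      by_cases h : x = i
      · simp [h]
      · by_cases h' : x = j
        · simp [h']
        · simp [hc x h h']
    have := Finset.card_le_card hsub
    have h2 : ({i, j, k} : Finset (Fin n)).card ≤ 3 := Finset.card_le_three
    rw [Finset.card_univ, Fintype.card_fin] at this
    omega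
  have h3c : (swap j k * swap j l).IsThreeCycle :=
    Equiv.Perm.isThreeCycle_swap_mul_swap_same hk.2.symm hl.2.1.symm hl.2.2.symm
  refine ⟨⟨swap j k * swap j l, h3c.mem_alternatingGroup⟩, ?_, ?_⟩
  · show (swap j k * swap j l) i = i
    rw [Perm.mul_apply, swap_apply_of_ne_of_ne hij hl.1.symm,
      swap_apply_of_ne_of_ne hij hk.1.symm]
  · show (swap j k * swap j l) j ≠ j
    rw [Perm.mul_apply, swap_apply_left, swap_apply_of_ne_of_ne hl.2.1 hl.2.2]
    exact hl.2.1

theorem stab_inj {n : ℕ} (hn : 4 ≤ n) (i j : Fin n)
    (h : stabilizer (alternatingGroup (Fin n)) i = stabilizer (alternatingGroup (Fin n)) j) :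
    i = j := by
  by_contra hij
  obtain ⟨g, hg1, hg2⟩ := exists_fix_move hn i j hij
  have : g ∈ stabilizer (alternatingGroup (Fin n)) j := by
    rw [← h]; exact hg1
  exact hg2 this

/-- Automorphisms of the alternating groups: for n ≥ 4 with n ≠ 6, every automorphism of the alternating group of degree n is conjugation by a unique permutation, i.e. conjugation induces an isomorphism from the symmetric group of degree n onto the automorphism group of the alternating group (so the outer automorphism group has order 2). -/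
theorem result (n : ℕ) (hn : 4 ≤ n) (h6 : n ≠ 6) : Function.Bijective (MulAut.conjNormal : Equiv.Perm (Fin n) →* MulAut ↥(alternatingGroup (Fin n))) := by
  constructor
  · -- injective
    rw [injective_iff_map_eq_one]
    intro σ hσ
    by_contra hne
    obtain ⟨i, hi⟩ : ∃ i, σ i ≠ i := by
      by_contra hc
      push Not at hc
      exact hne (Equiv.ext hc)
    obtain ⟨g, hg1, hg2⟩ := exists_fix_move hn i (σ i) (Ne.symm hi)
    have h1 : (MulAut.conjNormal σ : MulAut (alternatingGroup (Fin n))) g = g := by
      rw [hσ]; rfl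
    have h2 : σ * (g : Equiv.Perm (Fin n)) * σ⁻¹ = g := by
      rw [← MulAut.conjNormal_apply, h1]
    have h3 : σ * (g : Equiv.Perm (Fin n)) = g * σ := by
      conv_rhs => rw [← h2]
      group
    have h4 := congrArg (fun f : Equiv.Perm (Fin n) => f i) h3
    simp only [Equiv.Perm.mul_apply] at h4
    have hg1' : (g : Equiv.Perm (Fin n)) i = i := hg1
    rw [hg1'] at h4
    exact hg2 h4.symm
  · -- surjective
    intro φ
    have hex : ∀ i : Fin n, ∃ j : Fin n,
        (stabilizer (alternatingGroup (Fin n)) i).map (φ : _ →* _) =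
          stabilizer (alternatingGroup (Fin n)) j := by
      intro i
      apply idxn (by rw [Fintype.card_fin]; exact hn) (by rw [Fintype.card_fin]; exact h6)
      rw [Subgroup.index_map_equiv]
      haveI : IsPretransitive (alternatingGroup (Fin n)) (Fin n) :=
        alternatingGroup.isPretransitive_of_three_le_card _ (by rw [Nat.card_eq_fintype_card, Fintype.card_fin]; omega)
      rw [index_stabilizer_of_transitive, Nat.card_eq_fintype_card]
    choose π hπ using hex
    have hπinj : Function.Injective π := by
      intro i j hij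
      apply stab_inj hn
      have h1 := hπ i
      rw [hij, ← hπ j] at h1
      exact Subgroup.map_injective φ.injective h1
    have hπbij : Function.Bijective π := Finite.injective_iff_bijective.mp hπinj
    have key : ∀ (g : alternatingGroup (Fin n)) (i : Fin n), φ g • π i = π (g • i) := by
      intro g i
      apply stab_inj hn
      rw [← hπ (g • i), stabilizer_smul_eq_stabilizer_map_conj, stabilizer_smul_eq_stabilizer_map_conj,
        ← hπ i, Subgroup.map_map, Subgroup.map_map]
      congr 1
      ext x
      simp
    refine ⟨Equiv.ofBijective π hπbij, ?_⟩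
    ext g y
    obtain ⟨i, rfl⟩ := hπbij.2 y
    rw [MulAut.conjNormal_apply]
    have h1 : (Equiv.ofBijective π hπbij)⁻¹ (π i) = i := by
      rw [Equiv.Perm.inv_eq_iff_eq]
      rfl
    rw [Equiv.Perm.mul_apply, Equiv.Perm.mul_apply, h1]
    exact congrArg Fin.val (key g i).symm

end Cfsg.Agent.S2119
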