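import Cfsg.Statements.S2247
-- import your own Cfsg.Agent.* helpers here
import Cfsg.Agent.Lib.Helper29.SzMore

set_option autoImplicit false
open Cfsg

namespace Cfsg.Agent.S2247

theorem transport_coatom {G : Type*} [Group G] (φ : G ≃* G) (U : Subgroup G)
    (h1 : IsCoatom (Subgroup.normalizer (U : Set G)))
    (h2 : ∀ M : Subgroup G, IsCoatom M → U ≤ M → M = Subgroup.normalizer (U : Set G)) :
    IsCoatom (Subgroup.normalizer ((U.map φ.toMonoidHom : Subgroup G) : Set G)) ∧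
      ∀ M : Subgroup G, IsCoatom M → U.map φ.toMonoidHom ≤ M →
        M = Subgroup.normalizer ((U.map φ.toMonoidHom : Subgroup G) : Set G) := by
  have hiff : ∀ K : Subgroup G, IsCoatom (K.map φ.toMonoidHom) ↔ IsCoatom K :=
    fun K => OrderIso.isCoatom_iff φ.mapSubgroup K
  rw [← Subgroup.map_equiv_normalizer_eq]
  refine ⟨(hiff _).2 h1, ?_⟩
  intro M hM hUM
  have hMM : (M.comap φ.toMonoidHom).map φ.toMonoidHom = M :=
    Subgroup.map_comap_eq_self_of_surjective φ.surjective M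
  have h3 : IsCoatom (M.comap φ.toMonoidHom) := by
    rw [← hiff, hMM]; exact hM
  have h4 := h2 _ h3 (Subgroup.map_le_iff_le_comap.1 hUM)
  rw [← hMM, h4]


/-- In the Suzuki group with q = 2^(2m+1), m ≥ 1 (realised as the stabiliser in SL₄ of the Suzuki–Tits ovoid), the normalizer of a Sylow 2-subgroup P is a maximal subgroup and is the only maximal subgroup containing P. -/
theorem result {F : Type*} [Field F] [Fintype F] {m : ℕ} (hm : 1 ≤ m) (hF : Fintype.card F = 2 ^ (2 * m + 1)) (P : Sylow 2 ↥(Cfsg.Sz F m)) :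
    IsCoatom (Subgroup.normalizer ((P : Subgroup ↥(Cfsg.Sz F m)) : Set ↥(Cfsg.Sz F m))) ∧
    ∀ M : Subgroup ↥(Cfsg.Sz F m), IsCoatom M → (P : Subgroup ↥(Cfsg.Sz F m)) ≤ M → M = Subgroup.normalizer ((P : Subgroup ↥(Cfsg.Sz F m)) : Set ↥(Cfsg.Sz F m)) := by
  have hG := Cfsg.Agent.Lib.Helper29.Sz.good_of_card hF
  have hex := Cfsg.Agent.Lib.Helper29.Sz.exists_ne_zero_one hm hF
  obtain ⟨x, hx⟩ := Cfsg.Agent.Lib.Helper29.Sz.sylow_conj hG hex (n := 2 * m + 1) (by omega) hF P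
  rw [hx]
  have h2t := Cfsg.Agent.Lib.Helper29.Sz.two_transitive (F := F) (m := m) hG
  have hprim : MulAction.IsPreprimitive (Cfsg.Sz F m) (Cfsg.suzukiOvoid F m) :=
    MulAction.isPreprimitive_of_is_two_pretransitive h2t
  have hnt : Nontrivial (Cfsg.suzukiOvoid F m) :=
    ⟨⟨_, Cfsg.Agent.Lib.Helper29.Sz.infty_mem m⟩, ⟨_, Cfsg.Agent.Lib.Helper29.Sz.ppt_mem m 0 0⟩,
      fun h => Cfsg.Agent.Lib.Helper29.Sz.ppt_ne_infty m 0 0 (congrArg Subtype.val h).symm⟩
  have hB : IsCoatom (Subgroup.normalizer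
      (Cfsg.Agent.Lib.Helper29.Sz.Usub hG hex : Set (Cfsg.Sz F m))) := by
    rw [Cfsg.Agent.Lib.Helper29.Sz.normalizer_Usub]
    exact MulAction.IsPreprimitive.isCoatom_stabilizer_of_isPreprimitive
      (G := Cfsg.Sz F m) (X := Cfsg.suzukiOvoid F m) _
  apply transport_coatom (MulAut.conj x) _ hB
  intro M hM hUM
  by_contra hne
  have hnle : ¬ M ≤ Subgroup.normalizer
      (Cfsg.Agent.Lib.Helper29.Sz.Usub hG hex : Set (Cfsg.Sz F m)) := by
    intro hle
    exact hB.1 (hM.2 _ (lt_of_le_of_ne hle hne))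
  obtain ⟨g, hgM, hgB⟩ := SetLike.not_le_iff_exists.1 hnle
  rw [Cfsg.Agent.Lib.Helper29.Sz.normalizer_Usub, MulAction.mem_stabilizer_iff] at hgB
  apply hM.1
  apply Cfsg.Agent.Lib.Helper29.Sz.eq_top_of_Usub_le hG hex M hUM hgM
  intro h
  exact hgB (Subtype.ext h)

end Cfsg.Agent.S2247
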