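import Cfsg.Statements.S3986
-- import your own Cfsg.Agent.* helpers here
import Mathlib

set_option autoImplicit false
open Cfsg

namespace Cfsg.Agent.S3986

theorem eq_top_of_sylow {G : Type*} [Group G] [Finite G] (H : Subgroup G)
    (h : ∀ q : ℕ, [Fact q.Prime] → ∃ Q : Sylow q G, (Q : Subgroup G) ≤ H) : H = ⊤ := by
  rw [← Subgroup.index_eq_one]
  by_contra hne
  obtain ⟨q, hq, hqd⟩ := Nat.exists_prime_and_dvd hne
  have := Fact.mk hq
  obtain ⟨Q, hQ⟩ := h q
  exact Q.not_dvd_index (hqd.trans (Subgroup.index_dvd_of_le hQ))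

theorem orderOf_of_mem_sylow {G : Type*} [Group G] [Finite G] {q : ℕ} [Fact q.Prime] (Q : Sylow q G)
    {y : G} (hy : y ∈ (Q : Subgroup G)) : ∃ b : ℕ, orderOf y = q ^ b := by
  obtain ⟨k, hk⟩ := Q.2 ⟨y, hy⟩
  have hk' : y ^ q ^ k = 1 := congrArg Subtype.val hk
  obtain ⟨j, _, hj⟩ := (Nat.dvd_prime_pow Fact.out).mp (orderOf_dvd_of_pow_eq_one hk')
  exact ⟨j, hj⟩

/-- Let p be a prime and G a finite group. Then some Sylow p-subgroup of G is a direct factor of G (it is normal and has a normal complement) if and only if every element of p-power order commutes with every element whose order is a power of a prime other than p. -/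
theorem result {G : Type*} [Group G] [Finite G] (p : ℕ) [Fact p.Prime] : (∃ (P : Sylow p G) (K : Subgroup G), (P : Subgroup G).Normal ∧ K.Normal ∧ (P : Subgroup G) ⊓ K = ⊥ ∧ (P : Subgroup G) ⊔ K = ⊤) ↔ ∀ x y : G, (∃ a : ℕ, orderOf x = p ^ a) → (∃ q b : ℕ, q.Prime ∧ q ≠ p ∧ orderOf y = q ^ b) → x * y = y * x := by
  have hp : p.Prime := Fact.out
  constructor
  · rintro ⟨P, K, hPn, hKn, hPK, hsup⟩ x y ⟨a, ha⟩ ⟨q, b, hq, hqp, hb⟩
    have hdisj : Disjoint (P : Subgroup G) K := disjoint_iff.mpr hPK
    have hxP : x ∈ (P : Subgroup G) := by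
      have hz : IsPGroup p (Subgroup.zpowers x) :=
        IsPGroup.of_card (n := a) (by rw [Nat.card_zpowers, ha])
      obtain ⟨Q, hQ⟩ := hz.exists_le_sylow
      have hu := Sylow.unique_of_normal P hPn
      have : Q = P := Subsingleton.elim _ _
      rw [← this]
      exact hQ (Subgroup.mem_zpowers x)
    have hyK : y ∈ K := by
      have hy : y ∈ (P : Subgroup G) ⊔ K := by rw [hsup]; trivial
      rw [Subgroup.mem_sup_of_normal_right] at hy
      obtain ⟨u, hu, k, hk, rfl⟩ := hy
      have hc : Commute u k := Subgroup.commute_of_normal_of_disjoint _ _ hPn hKn hdisj u k hu hk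
      have h1 : (u * k) ^ q ^ b = 1 := by rw [← hb, pow_orderOf_eq_one]
      rw [hc.mul_pow] at h1
      have h2 : u ^ q ^ b = (k ^ q ^ b)⁻¹ := eq_inv_of_mul_eq_one_left h1
      have h3 : u ^ q ^ b ∈ (P : Subgroup G) ⊓ K :=
        ⟨Subgroup.pow_mem _ hu _, by rw [h2]; exact K.inv_mem (K.pow_mem hk _)⟩
      rw [hPK, Subgroup.mem_bot] at h3
      obtain ⟨j, hj⟩ := orderOf_of_mem_sylow P hu
      have h4 : orderOf u ∣ q ^ b := orderOf_dvd_of_pow_eq_one h3
      have hcop : Nat.Coprime (p ^ j) (q ^ b) :=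
        Nat.Coprime.pow _ _ ((Nat.coprime_primes hp hq).mpr hqp.symm)
      have h5 : orderOf u = 1 := by
        rw [hj] at h4 ⊢
        exact Nat.Coprime.eq_one_of_dvd hcop h4
      rw [orderOf_eq_one_iff] at h5
      rw [h5, one_mul]; exact hk
    exact (Subgroup.commute_of_normal_of_disjoint _ _ hPn hKn hdisj x y hxP hyK).eq
  · intro h
    obtain ⟨P⟩ : Nonempty (Sylow p G) := inferInstance
    have hPn : (P : Subgroup G).Normal := by
      rw [← Subgroup.normalizer_eq_top_iff]
      apply eq_top_of_sylow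
      intro q _
      by_cases hqp : q = p
      · subst hqp
        exact ⟨P, Subgroup.le_normalizer⟩
      · obtain ⟨Q⟩ : Nonempty (Sylow q G) := inferInstance
        refine ⟨Q, fun y hy => Subgroup.centralizer_le_normalizer _ ?_⟩
        rw [Subgroup.mem_centralizer_iff]
        intro x hx
        obtain ⟨b, hb⟩ := orderOf_of_mem_sylow Q hy
        exact h x y (orderOf_of_mem_sylow P hx) ⟨q, b, Fact.out, hqp, hb⟩
    have hcop : Nat.Coprime (Nat.card (P : Subgroup G)) (P : Subgroup G).index := by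
      obtain ⟨n, hn⟩ := P.2.exists_card_eq
      rw [hn]
      exact Nat.Coprime.pow_left _ ((Nat.Prime.coprime_iff_not_dvd hp).mpr P.not_dvd_index)
    obtain ⟨K, hK⟩ := Subgroup.exists_right_complement'_of_coprime hcop
    have hKcard : Nat.card K = (P : Subgroup G).index := hK.symm.index_eq_card.symm
    have hKC : K ≤ Subgroup.centralizer ((P : Subgroup G) : Set G) := by
      rw [← Subgroup.subgroupOf_eq_top]
      apply eq_top_of_sylow
      intro q _
      obtain ⟨Q⟩ : Nonempty (Sylow q K) := inferInstance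
      refine ⟨Q, fun y hy => ?_⟩
      rw [Subgroup.mem_subgroupOf, Subgroup.mem_centralizer_iff]
      intro x hx
      obtain ⟨b, hb⟩ := orderOf_of_mem_sylow Q hy
      rw [← Subgroup.orderOf_coe] at hb
      by_cases hqp : q = p
      · subst hqp
        have h1 : orderOf (y : G) ∣ Nat.card K := by
          rw [Subgroup.orderOf_coe]; exact orderOf_dvd_natCard y
        rw [hKcard, hb] at h1
        have hb0 : b = 0 := by
          by_contra hb0
          exact P.not_dvd_index ((dvd_pow_self q hb0).trans h1)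
        rw [hb0, pow_zero, orderOf_eq_one_iff] at hb
        rw [hb]; simp
      · exact h x y (orderOf_of_mem_sylow P hx) ⟨q, b, Fact.out, hqp, hb⟩
    refine ⟨P, K, hPn, ?_, hK.disjoint.eq_bot, hK.sup_eq_top⟩
    rw [← Subgroup.normalizer_eq_top_iff, eq_top_iff, ← hK.sup_eq_top]
    apply sup_le _ Subgroup.le_normalizer
    exact (Subgroup.le_centralizer_iff.mp hKC).trans (Subgroup.centralizer_le_normalizer _)

end Cfsg.Agent.S3986
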