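import Cfsg.Statements.S2277
-- import your own Cfsg.Agent.* helpers here
import Cfsg.Agent.Lib.Helper1.Coprime
import Cfsg.Agent.Lib.Helper1.CoprimeSylow
import Cfsg.Agent.Lib.Helper9.SupNorm
import Cfsg.Agent.Lib.Helper17.Syl
import Cfsg.Agent.S3986
import Mathlib

set_option autoImplicit false
open Cfsg

namespace Cfsg.Agent.S2277

open Subgroup

/-- fixed points of an automorphism -/
def fx {W : Type*} [CommGroup W] (γ : MulAut W) : Subgroup W where
  carrier := {w | γ w = w}
  mul_mem' := by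
    intro a b ha hb
    simp only [Set.mem_ofPred_eq] at *
    rw [map_mul, ha, hb]
  one_mem' := map_one γ
  inv_mem' := by
    intro a ha
    simp only [Set.mem_ofPred_eq] at *
    rw [map_inv, ha]

theorem mem_fx {W : Type*} [CommGroup W] (γ : MulAut W) (w : W) : w ∈ fx γ ↔ γ w = w := Iff.rfl

theorem card_fx_conj {W : Type*} [CommGroup W] (g γ : MulAut W) :
    Nat.card (fx (g * γ * g⁻¹)) = Nat.card (fx γ) := by
  have : fx (g * γ * g⁻¹) = (fx γ).map g.toMonoidHom := by
    ext w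
    simp only [mem_fx, Subgroup.mem_map, MulAut.mul_apply]
    constructor
    · intro h
      refine ⟨g⁻¹ w, ?_, by simp⟩
      apply g.injective
      rw [h]
      simp
    · rintro ⟨u, hu, rfl⟩
      simp [hu]
  rw [this]
  exact Subgroup.card_map_of_injective g.injective

theorem d1 {W : Type*} [CommGroup W] [Finite W] (p : ℕ) [Fact p.Prime]
    (Γ : Subgroup (MulAut W)) (hΓ : IsPGroup p Γ) (hcop : (Nat.card W).Coprime p)
    (ha : ∀ U : Subgroup W, (∀ γ ∈ Γ, ∀ u ∈ U, γ u ∈ U) → U ≠ ⊤ → ∀ γ ∈ Γ, ∀ u ∈ U, γ u = u)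
    (z : MulAut W) (hz : z ∈ Γ) (hzc : ∀ γ ∈ Γ, γ * z = z * γ) (hz1 : z ≠ 1) (w : W)
    (hw : z w = w) : w = 1 := by
  let f : W →* W :=
    { toFun := fun w => z w * w⁻¹
      map_one' := by simp
      map_mul' := by
        intro a b
        rw [map_mul, mul_inv, mul_mul_mul_comm] }
  have hf : ∀ w, f w = z w * w⁻¹ := fun _ => rfl
  have hinv : ∀ γ ∈ Γ, ∀ u ∈ f.range, γ u ∈ f.range := by
    rintro γ hγ _ ⟨v, rfl⟩
    refine ⟨γ v, ?_⟩
    rw [hf, hf, map_mul, map_inv]
    congr 1
    have := DFunLike.congr_fun (hzc γ hγ) v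
    simpa [MulAut.mul_apply] using this.symm
  by_cases htop : f.range = ⊤
  · have hsurj : Function.Surjective f := MonoidHom.range_eq_top.mp htop
    have hinj := Finite.injective_iff_surjective.mpr hsurj
    apply hinj
    rw [map_one, hf, hw, mul_inv_cancel]
  · exfalso
    have h1 := ha _ hinv htop z hz
    have h2 : ∀ v, z (f v) = f v := fun v => h1 _ ⟨v, rfl⟩
    have h3 : ∀ v, z v = f v * v := fun v => by rw [hf]; simp
    have h4 : ∀ (k : ℕ) v, (z ^ k) v = (f v) ^ k * v := by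
      intro k
      induction k with
      | zero => intro v; simp
      | succ k ih =>
        intro v
        rw [pow_succ', MulAut.mul_apply, ih, map_mul, map_pow, h2, h3 v, pow_succ, mul_assoc]
    obtain ⟨k, hk⟩ := hΓ ⟨z, hz⟩
    have hk' : z ^ (p ^ k) = 1 := by simpa using congrArg Subtype.val hk
    apply hz1
    ext v
    have h5 := h4 (p ^ k) v
    rw [hk', MulAut.one_apply] at h5
    have h6 : (f v) ^ (p ^ k) = 1 := mul_eq_right.mp h5.symm
    have h7 : (f v) ^ (Nat.card W) = 1 := pow_card_eq_one'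
    have h8 := pow_gcd_eq_one.mpr ⟨h6, h7⟩
    have h9 : (p ^ k).gcd (Nat.card W) = 1 := Nat.Coprime.pow_left k hcop.symm
    rw [h9, pow_one] at h8
    rw [h3, h8, one_mul, MulAut.one_apply]

theorem vander {W : Type*} [CommGroup W] (s z : MulAut W) (hsz : ∀ w, s (z w) = z (s w))
    (hz1 : ∀ w, z w = w → w = 1) (hz2 : ∀ w, z (z w) = w → w = 1) (a b t : W)
    (ha : s a = a) (hb : s b = z b) (ht : s t = z (z t)) (h : a * (b * t) = 1) :
    a = 1 ∧ b = 1 ∧ t = 1 := by
  have E2 : a * (z b * z (z t)) = 1 := by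
    have := congrArg s h
    rwa [map_mul, map_mul, ha, hb, ht, map_one] at this
  have E3 : a * (z (z b) * z (z (z (z t)))) = 1 := by
    have := congrArg s E2
    rwa [map_mul, map_mul, ha, hsz, hsz, hsz, hb, ht, map_one] at this
  have F1 : b * t = z b * z (z t) := mul_left_cancel (h.trans E2.symm)
  have F2 : z b * z (z t) = z (z b) * z (z (z (z t))) := mul_left_cancel (E2.trans E3.symm)
  have F3 : z (z b) * z (z t) = z (z (z b)) * z (z (z (z t))) := by
    have := congrArg (fun w => z (z w)) F1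
    simpa only [map_mul] using this
  have K : z b * z (z (z b)) = z (z b) * z (z b) := by
    apply mul_right_cancel (b := z (z t) * z (z (z (z t))))
    calc z b * z (z (z b)) * (z (z t) * z (z (z (z t))))
        = (z b * z (z t)) * (z (z (z b)) * z (z (z (z t)))) := by ac_rfl
      _ = (z (z b) * z (z (z (z t)))) * (z (z b) * z (z t)) := by rw [F2, ← F3]
      _ = z (z b) * z (z b) * (z (z t) * z (z (z (z t)))) := by ac_rfl
  have hu : z (z b) * (z b)⁻¹ = 1 := by
    apply hz1
    rw [map_mul, map_inv, mul_inv_eq_iff_eq_mul]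
    have : z (z (z b)) = (z b)⁻¹ * (z (z b) * z (z b)) := eq_inv_mul_iff_mul_eq.mpr K
    rw [this]
    ac_rfl
  have hb1 : z b = 1 := hz1 _ (mul_inv_eq_one.mp hu)
  have hb2 : b = 1 := by simpa using hb1
  have ht1 : t = 1 := by
    apply hz2
    rw [hb2, map_one, one_mul, one_mul] at F1
    exact F1.symm
  refine ⟨?_, hb2, ht1⟩
  rw [hb2, ht1] at h
  simpa using h

theorem exists_second_center {Γ : Type*} [Group Γ] [Finite Γ] (p : ℕ) [Fact p.Prime]
    (hΓ : IsPGroup p Γ) (hnab : ¬ ∀ a b : Γ, a * b = b * a) :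
    ∃ e : Γ, e ∉ center Γ ∧ ∀ c : Γ, (c * e)⁻¹ * (e * c) ∈ center Γ := by
  have hQp : IsPGroup p (Γ ⧸ center Γ) := hΓ.to_quotient _
  have hnt : Nontrivial (Γ ⧸ center Γ) := by
    by_contra hn
    rw [not_nontrivial_iff_subsingleton] at hn
    apply hnab
    intro a b
    have h1 : (QuotientGroup.mk b : Γ ⧸ center Γ) = 1 := Subsingleton.elim _ _
    have h2 : b ∈ center Γ := (QuotientGroup.eq_one_iff b).mp h1
    exact mem_center_iff.mp h2 a
  have := hQp.center_nontrivial
  obtain ⟨⟨q, hq⟩, hq1⟩ := exists_ne (1 : center (Γ ⧸ center Γ))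
  obtain ⟨e, rfl⟩ := QuotientGroup.mk_surjective q
  refine ⟨e, ?_, ?_⟩
  · intro he
    apply hq1
    apply Subtype.ext
    exact (QuotientGroup.eq_one_iff e).mpr he
  · intro c
    have := mem_center_iff.mp hq (QuotientGroup.mk c)
    rw [← QuotientGroup.mk_mul, ← QuotientGroup.mk_mul] at this
    exact QuotientGroup.eq.mp this

theorem inv_eq' {W : Type*} [CommGroup W] {c : MulAut W} {x y : W} (h : c x = y) : c⁻¹ y = x := by
  rw [← h, MulAut.inv_apply_self]

theorem key {W : Type*} [CommGroup W] [Finite W] (p : ℕ) [Fact p.Prime] (hp3 : 3 ≤ p)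
    (Γ : Subgroup (MulAut W)) (hΓ : IsPGroup p Γ) (hcop : (Nat.card W).Coprime p)
    (ha : ∀ U : Subgroup W, (∀ γ ∈ Γ, ∀ u ∈ U, γ u ∈ U) → U ≠ ⊤ → ∀ γ ∈ Γ, ∀ u ∈ U, γ u = u)
    (C : Set (MulAut W)) (hC : closure C = Γ) (hne : Γ ≠ ⊥) :
    ∃ c ∈ C, Nat.card (fx c) ^ 3 ≤ Nat.card W := by
  have hCΓ : ∀ c ∈ C, c ∈ Γ := fun c hc => hC ▸ subset_closure hc
  by_cases hab : ∀ a b : Γ, a * b = b * a
  · have hex : ∃ c ∈ C, c ≠ 1 := by
      by_contra hcon
      push Not at hcon
      apply hne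
      rw [← hC, closure_eq_bot_iff]
      intro c hc
      exact hcon c hc
    obtain ⟨c, hc, hc1⟩ := hex
    refine ⟨c, hc, ?_⟩
    have : fx c = ⊥ := by
      rw [eq_bot_iff_forall]
      intro w hw
      exact d1 p Γ hΓ hcop ha c (hCΓ c hc)
        (fun γ hγ => congrArg Subtype.val (hab ⟨γ, hγ⟩ ⟨c, hCΓ c hc⟩)) hc1 w hw
    rw [this]
    simp only [card_bot, one_pow]
    exact Nat.card_pos
  · obtain ⟨e0, he0, hez⟩ := exists_second_center p hΓ hab
    obtain ⟨e, he⟩ := e0
    have hex : ∃ c ∈ C, c * e ≠ e * c := by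
      by_contra hcon
      push Not at hcon
      apply he0
      rw [mem_center_iff]
      rintro ⟨g, hg⟩
      apply Subtype.ext
      change g * e = e * g
      have hle : closure C ≤ centralizer {e} := by
        rw [closure_le]
        intro c hc
        rw [SetLike.mem_coe, mem_centralizer_singleton_iff]
        exact hcon c hc
      have := hle (hC.symm ▸ hg)
      rw [mem_centralizer_singleton_iff] at this
      exact this
    obtain ⟨c, hc, hce⟩ := hex
    have hcΓ := hCΓ c hc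
    refine ⟨c, hc, ?_⟩
    set z : MulAut W := (c * e)⁻¹ * (e * c) with hz
    have hzΓ : z ∈ Γ := mul_mem (inv_mem (mul_mem hcΓ he)) (mul_mem he hcΓ)
    have hzc : ∀ γ ∈ Γ, γ * z = z * γ := by
      intro γ hγ
      have := mem_center_iff.mp (hez ⟨c, hcΓ⟩) ⟨γ, hγ⟩
      exact congrArg Subtype.val this
    have hz1 : z ≠ 1 := by
      intro h1
      apply hce
      rw [hz, inv_mul_eq_one] at h1
      exact h1
    have hzz1 : z * z ≠ 1 := by
      intro h2
      apply hz1
      obtain ⟨k, hk⟩ := hΓ ⟨z, hzΓ⟩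
      have hk' : z ^ (p ^ k) = 1 := by simpa using congrArg Subtype.val hk
      have h2' : z ^ 2 = 1 := by rw [sq]; exact h2
      have h8 := pow_gcd_eq_one.mpr ⟨hk', h2'⟩
      have hp2 : Nat.Coprime p 2 :=
        (Nat.coprime_primes Fact.out Nat.prime_two).mpr (by omega)
      have h9 : (p ^ k).gcd 2 = 1 := Nat.Coprime.pow_left k hp2
      rw [h9, pow_one] at h8
      exact h8
    have hzzc : ∀ γ ∈ Γ, γ * (z * z) = (z * z) * γ := by
      intro γ hγ
      calc γ * (z * z) = (γ * z) * z := (mul_assoc _ _ _).symm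
        _ = (z * γ) * z := by rw [hzc γ hγ]
        _ = z * (γ * z) := mul_assoc _ _ _
        _ = z * (z * γ) := by rw [hzc γ hγ]
        _ = z * z * γ := (mul_assoc _ _ _).symm
    have fz1 : ∀ w, z w = w → w = 1 := d1 p Γ hΓ hcop ha z hzΓ hzc hz1
    have fz2 : ∀ w, z (z w) = w → w = 1 :=
      d1 p Γ hΓ hcop ha (z * z) (mul_mem hzΓ hzΓ) hzzc hzz1
    have h_e1 : e * c * e⁻¹ = c * z := by
      have : c * z = c * (e * z) * e⁻¹ := by rw [hzc e he]; group
      rw [this, hz]
      group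
    have h_e2 : e * (c * z) * e⁻¹ = c * z * z := by
      have : e * (c * z) * e⁻¹ = (e * c * e⁻¹) * (e * z) * e⁻¹ := by group
      rw [this, h_e1, hzc e he]
      group
    have c1 : Nat.card (fx (c * z)) = Nat.card (fx c) := h_e1 ▸ card_fx_conj e c
    have c2 : Nat.card (fx (c * z * z)) = Nat.card (fx c) := by
      rw [← c1]
      exact h_e2 ▸ card_fx_conj e (c * z)
    let φ : (fx c) × ((fx (c * z)) × (fx (c * z * z))) →* W :=
      (fx c).subtype.coprod ((fx (c * z)).subtype.coprod (fx (c * z * z)).subtype)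
    have hφ : Function.Injective φ := by
      rw [injective_iff_map_eq_one]
      rintro ⟨⟨a, ha'⟩, ⟨b, hb'⟩, ⟨t, ht'⟩⟩ h
      have h' : a * (b * t) = 1 := h
      have hcz : ∀ w, c (z w) = z (c w) := fun w => DFunLike.congr_fun (hzc c hcΓ) w
      obtain ⟨r1, r2, r3⟩ := vander c⁻¹ z
        (fun w => inv_eq' (by rw [hcz, MulAut.apply_inv_self])) fz1 fz2 a b t
        (inv_eq' ha') (inv_eq' hb') (inv_eq' ht') h'
      subst r1 r2 r3
      rfl
    have hcard := Nat.card_le_card_of_injective φ hφ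
    rw [Nat.card_prod, Nat.card_prod, c1, c2] at hcard
    calc Nat.card (fx c) ^ 3 = Nat.card (fx c) * (Nat.card (fx c) * Nat.card (fx c)) := by ring
      _ ≤ Nat.card W := hcard

theorem stepD {W : Type*} [CommGroup W] [Finite W] (p : ℕ) [Fact p.Prime] (hp3 : 3 ≤ p)
    (Γ : Subgroup (MulAut W)) (hΓ : IsPGroup p Γ) (hcop : (Nat.card W).Coprime p)
    (ha : ∀ U : Subgroup W, (∀ γ ∈ Γ, ∀ u ∈ U, γ u ∈ U) → U ≠ ⊤ → ∀ γ ∈ Γ, ∀ u ∈ U, γ u = u)
    (C D : Set (MulAut W)) (hC : closure C = Γ) (hD : closure D = Γ)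
    (h3 : ∀ γ ∈ C, ∀ δ ∈ D, ∀ w : W, ∃ a b, γ a = a ∧ δ b = b ∧ w = a * b) : Γ = ⊥ := by
  by_contra hne
  obtain ⟨c, hc, hc3⟩ := key p hp3 Γ hΓ hcop ha C hC hne
  obtain ⟨d, hd, hd3⟩ := key p hp3 Γ hΓ hcop ha D hD hne
  have hsurj : Function.Surjective (fun x : fx c × fx d => (x.1 : W) * x.2) := by
    intro w
    obtain ⟨a, b, ha', hb', rfl⟩ := h3 c hc d hd w
    exact ⟨(⟨a, ha'⟩, ⟨b, hb'⟩), rfl⟩
  have h1 : Nat.card W ≤ Nat.card (fx c) * Nat.card (fx d) := by
    rw [← Nat.card_prod]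
    exact Nat.card_le_card_of_surjective _ hsurj
  have h2 : Nat.card W ≤ 1 := by
    have h4 : Nat.card W ^ 3 ≤ Nat.card W ^ 2 :=
      calc Nat.card W ^ 3 ≤ (Nat.card (fx c) * Nat.card (fx d)) ^ 3 := Nat.pow_le_pow_left h1 3
        _ = Nat.card (fx c) ^ 3 * Nat.card (fx d) ^ 3 := mul_pow _ _ _
        _ ≤ Nat.card W * Nat.card W := Nat.mul_le_mul hc3 hd3
        _ = Nat.card W ^ 2 := (sq _).symm
    by_contra hlt
    push Not at hlt
    exact absurd h4 (not_le.mpr (Nat.pow_lt_pow_right hlt (by norm_num)))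
  have hss : Subsingleton W := (Finite.card_le_one_iff_subsingleton).mp h2
  apply hne
  rw [eq_bot_iff_forall]
  intro γ _
  ext w
  exact Subsingleton.elim _ _

theorem stepD' {W : Type*} [CommGroup W] [Finite W] {Q : Type*} [Group Q] (p : ℕ) [Fact p.Prime]
    (hp3 : 3 ≤ p) (hQ : IsPGroup p Q) (ρ : Q →* MulAut W) (hcop : (Nat.card W).Coprime p)
    (ha : ∀ U : Subgroup W, (∀ γ : Q, ∀ u ∈ U, ρ γ u ∈ U) → U ≠ ⊤ → ∀ γ : Q, ∀ u ∈ U, ρ γ u = u)
    (C D : Set Q) (hC : closure C = ⊤) (hD : closure D = ⊤)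
    (h3 : ∀ γ ∈ C, ∀ δ ∈ D, ∀ w : W, ∃ a b, ρ γ a = a ∧ ρ δ b = b ∧ w = a * b) (g : Q) :
    ρ g = 1 := by
  have := stepD p hp3 ρ.range (hQ.of_surjective ρ.rangeRestrict ρ.rangeRestrict_surjective) hcop
    (by
      intro U hU hUt γ hγ u hu
      obtain ⟨g, rfl⟩ := hγ
      exact ha U (fun g u hu => hU _ ⟨g, rfl⟩ u hu) hUt g u hu)
    (ρ '' C) (ρ '' D) (by rw [← MonoidHom.map_closure, hC, MonoidHom.range_eq_map])
    (by rw [← MonoidHom.map_closure, hD, MonoidHom.range_eq_map])
    (by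
      rintro _ ⟨γ, hγ, rfl⟩ _ ⟨δ, hδ, rfl⟩ w
      exact h3 γ hγ δ hδ w)
  have hg : ρ g ∈ ρ.range := ⟨g, rfl⟩
  rw [this] at hg
  exact mem_bot.mp hg

theorem factor {G : Type*} [Group G] [Finite G] (p : ℕ) [Fact p.Prime] (P : Sylow p G)
    (N : Subgroup G) (hN : (Nat.card N).Coprime p)
    (V : Subgroup G) (hVN : V ≤ N) (hPV : (P : Subgroup G) ≤ normalizer (V : Set G)) (x c d : G)
    (hx : x ∈ V) (hc : c ∈ (P : Subgroup G)) (hd : d ∈ (P : Subgroup G))
    (hT : IsPGroup p ↥(closure ({x * c * x⁻¹, d} : Set G))) :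
    ∃ v ∈ V, ∃ u ∈ V, x = v * u ∧ d * v = v * d ∧ c * u = u * c := by
  have hdisj : ∀ g, g ∈ V → g ∈ (P : Subgroup G) → g = 1 := by
    intro g hgV hgP
    have h1 : Disjoint N (P : Subgroup G) :=
      Subgroup.disjoint_of_coprime_natCard (Lib.Helper1.coprime_card_of_isPGroup hN P.2)
    have h2 : g ∈ N ⊓ (P : Subgroup G) := ⟨hVN hgV, hgP⟩
    rw [h1.eq_bot] at h2
    exact mem_bot.mp h2
  have hsyl : Lib.Helper17.IsSyl p (P : Subgroup G) (V ⊔ P) :=
    (Lib.Helper17.isSyl_top P).of_le le_sup_right le_top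
  have hTle : closure ({x * c * x⁻¹, d} : Set G) ≤ V ⊔ P := by
    rw [closure_le]
    rintro g (rfl | rfl)
    · exact mul_mem (mul_mem (mem_sup_left hx) (mem_sup_right hc)) (inv_mem (mem_sup_left hx))
    · exact mem_sup_right hd
  obtain ⟨m, hm, hTm⟩ := hsyl.exists_conj_ge hTle hT
  obtain ⟨v, hv, y, hy, rfl⟩ := (Lib.Helper9.mem_sup_of_le_normalizer hPV).mp hm
  have h1 : (v * y)⁻¹ * d * (v * y) ∈ (P : Subgroup G) :=
    Lib.Helper17.mem_map_conj.mp (hTm (subset_closure (by simp)))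
  have h2 : (v * y)⁻¹ * (x * c * x⁻¹) * (v * y) ∈ (P : Subgroup G) :=
    Lib.Helper17.mem_map_conj.mp (hTm (subset_closure (by simp)))
  have h1' : v⁻¹ * d * v ∈ (P : Subgroup G) := by
    have := mul_mem (mul_mem hy h1) (inv_mem hy)
    convert this using 1
    group
  have h2' : (v⁻¹ * x) * c * (v⁻¹ * x)⁻¹ ∈ (P : Subgroup G) := by
    have := mul_mem (mul_mem hy h2) (inv_mem hy)
    convert this using 1
    group
  have hn := le_normalizer_iff.mp hPV
  have hu : v⁻¹ * x ∈ V := mul_mem (inv_mem hv) hx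
  refine ⟨v, hv, v⁻¹ * x, hu, by group, ?_, ?_⟩
  · have h3 : v⁻¹ * d * v * d⁻¹ = 1 := hdisj _ (by
      have := mul_mem (inv_mem hv) (hn d hd v hv)
      convert this using 1
      group) (mul_mem h1' (inv_mem hd))
    calc d * v = v * (v⁻¹ * d * v * d⁻¹) * d := by group
      _ = v * d := by rw [h3, mul_one]
  · generalize v⁻¹ * x = u at hu h2'
    have h3 : u * c * u⁻¹ * c⁻¹ = 1 := hdisj _ (by
      have := mul_mem hu (hn c hc u⁻¹ (inv_mem hu))
      convert this using 1
      group) (mul_mem h2' (inv_mem hc))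
    calc c * u = (u * c * u⁻¹ * c⁻¹)⁻¹ * (u * c) := by group
      _ = u * c := by rw [h3]; simp

noncomputable def abHom (V : Type*) [Group V] : MulAut V →* MulAut (Abelianization V) :=
  MonoidHom.mk' (fun f => MulEquiv.abelianizationCongr f) (by
    intro f g
    exact (abelianizationCongr_trans g f).symm)

theorem abHom_of (V : Type*) [Group V] (f : MulAut V) (x : V) :
    abHom V f (Abelianization.of x) = Abelianization.of (f x) := rfl

theorem of_surj (V : Type*) [Group V] : Function.Surjective (Abelianization.of : V → _) :=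
  QuotientGroup.mk_surjective

/-- Let p ≥ 3 be prime and G a finite group with a Sylow p-subgroup P and a normal p-complement N (N normal, of order prime to p, with NP = G). Suppose P is generated by a subset C and also by a subset D, and that ⟨x c x⁻¹, d⟩ is a p-group for all x ∈ N, c ∈ C, d ∈ D. Then P centralizes N, so that G = N × P. -/
theorem result {G : Type*} [Group G] [Finite G] (p : ℕ) [Fact p.Prime] (hp3 : 3 ≤ p) (P : Sylow p G)
    (N : Subgroup G) [N.Normal] (hN : (Nat.card N).Coprime p) (hNP : N ⊔ (P : Subgroup G) = ⊤)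
    (C D : Set G) (hC : Subgroup.closure C = (P : Subgroup G)) (hD : Subgroup.closure D = (P : Subgroup G))
    (h : ∀ x ∈ N, ∀ c ∈ C, ∀ d ∈ D, IsPGroup p ↥(Subgroup.closure ({x * c * x⁻¹, d} : Set G))) :
    ⁅(P : Subgroup G), N⁆ = ⊥ := by
  by_contra hne
  have hPp : IsPGroup p (P : Subgroup G) := P.2
  let S : Set (Subgroup G) := {V | V ≤ N ∧ (P : Subgroup G) ≤ normalizer (V : Set G) ∧
    ¬ (P : Subgroup G) ≤ centralizer (V : Set G)}
  have hNS : N ∈ S := ⟨le_rfl, by rw [normalizer_eq_top]; exact le_top,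
    fun h => hne (commutator_eq_bot_iff_le_centralizer.mpr h)⟩
  obtain ⟨V, ⟨hVN, hPV, hVc⟩, hmin⟩ := WellFounded.has_min wellFounded_lt S ⟨N, hNS⟩
  have hmin' : ∀ U : Subgroup G, U < V → (P : Subgroup G) ≤ normalizer (U : Set G) →
      (P : Subgroup G) ≤ centralizer (U : Set G) := by
    intro U hU hPU
    by_contra hc
    exact hmin U ⟨hU.le.trans hVN, hPU, hc⟩ hU
  have hcopV : (Nat.card V).Coprime p := Nat.Coprime.coprime_dvd_left (card_dvd_of_le hVN) hN
  have hcopPV : (Nat.card (P : Subgroup G)).Coprime (Nat.card V) :=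
    (Lib.Helper1.coprime_card_of_isPGroup hcopV hPp).symm
  have hsolvP : Group.IsSolvable (P : Subgroup G) := Lib.Helper1.isSolvable_of_isPGroup hPp
  have hVP : ⁅V, (P : Subgroup G)⁆ = V := by
    by_contra hlt
    have hfac := Lib.Helper1.coprime_factor (P : Subgroup G) V hPV hcopPV (Or.inl hsolvP)
    have hle : ⁅V, (P : Subgroup G)⁆ ≤ V := by
      calc ⁅V, (P : Subgroup G)⁆
          ≤ ⁅V, (P : Subgroup G)⁆ ⊔ (V ⊓ centralizer ((P : Subgroup G) : Set G)) := le_sup_left
        _ = V := hfac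
    have h1 := hmin' _ (lt_of_le_of_ne hle hlt)
      (Lib.Helper1.le_normalizer_commutator hPV le_normalizer)
    have h2 : ⁅⁅V, (P : Subgroup G)⁆, (P : Subgroup G)⁆ = ⊥ := by
      rw [commutator_comm]
      exact commutator_eq_bot_iff_le_centralizer.mpr h1
    rw [Lib.Helper1.coprime_comm_comm (P : Subgroup G) V hPV hcopPV (Or.inl hsolvP), commutator_comm] at h2
    exact hVc (commutator_eq_bot_iff_le_centralizer.mp h2)
  have hVsolv : Group.IsSolvable V := by
    by_contra hns
    apply hVc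
    have hH : (centralizer ((P : Subgroup G) : Set G)).subgroupOf V = ⊤ := by
      apply S3986.eq_top_of_sylow
      intro q hq
      obtain ⟨⟨Q, hQ⟩, -⟩ := Lib.Helper1.invariant_sylow (P : Subgroup G) V hPV hcopPV (Or.inl hsolvP) q
      refine ⟨Q, ?_⟩
      have hQle : (Q : Subgroup V).map V.subtype ≤ V := map_subtype_le _
      have hQlt : (Q : Subgroup V).map V.subtype < V := by
        refine lt_of_le_of_ne hQle (fun heq => hns ?_)
        have hQt : (Q : Subgroup V) = ⊤ := by
          apply Subgroup.map_injective V.subtype_injective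
          rw [heq, ← MonoidHom.range_eq_map, V.range_subtype]
        have hq' : IsPGroup q V := by
          have h5 := Q.2
          rw [hQt] at h5
          exact h5.of_equiv Subgroup.topEquiv
        exact Lib.Helper1.isSolvable_of_isPGroup hq'
      have h6 := hmin' _ hQlt hQ
      intro y hy
      rw [mem_subgroupOf, mem_centralizer_iff]
      intro a ha
      have h7 := mem_centralizer_iff.mp (h6 ha) y ⟨y, hy, rfl⟩
      exact h7.symm
    rw [subgroupOf_eq_top] at hH
    exact le_centralizer_iff.mp hH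
  have hVnt : Nontrivial V := by
    by_contra hn
    rw [not_nontrivial_iff_subsingleton] at hn
    apply hVc
    intro a _
    rw [mem_centralizer_iff]
    intro y hy
    have : (⟨y, hy⟩ : V) = 1 := Subsingleton.elim _ _
    have hy1 : y = 1 := congrArg Subtype.val this
    rw [hy1]; simp
  have hlt := Group.IsSolvable.commutator_lt_top_of_nontrivial V
  have hCP : C ⊆ (P : Subgroup G) := hC ▸ subset_closure
  have hDP : D ⊆ (P : Subgroup G) := hD ▸ subset_closure
  have hcl : ∀ E : Set G, closure E = (P : Subgroup G) →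
      closure ((P : Subgroup G).subtype ⁻¹' E) = ⊤ := by
    intro E hE
    apply Subgroup.map_injective (P : Subgroup G).subtype_injective
    rw [MonoidHom.map_closure, Set.image_preimage_eq_of_subset, hE, ← MonoidHom.range_eq_map,
      Subgroup.range_subtype]
    have : E ⊆ (P : Subgroup G) := hE ▸ subset_closure
    intro g hg
    exact ⟨⟨g, this hg⟩, rfl⟩
  let ρ : (P : Subgroup G) →* MulAut (Abelianization V) :=
    (abHom V).comp (Lib.Helper1.conjHom (P : Subgroup G) V hPV)
  have hρ : ∀ (a : (P : Subgroup G)) (y : V), ρ a (Abelianization.of y)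
      = Abelianization.of (Lib.Helper1.conjHom (P : Subgroup G) V hPV a y) := fun a y => rfl
  have hfinW : Finite (Abelianization V) := Finite.of_surjective _ (of_surj V)
  have hcopW : (Nat.card (Abelianization V)).Coprime p :=
    Nat.Coprime.coprime_dvd_left (Subgroup.card_dvd_of_surjective _ (of_surj V)) hcopV
  have htriv := stepD' p hp3 hPp ρ hcopW
    (by
      intro U hU hUt a u hu
      obtain ⟨y, rfl⟩ := of_surj V u
      have hlt' : (U.comap Abelianization.of).map V.subtype < V := by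
        refine lt_of_le_of_ne (map_subtype_le _) (fun heq => hUt ?_)
        have h8 : U.comap Abelianization.of = ⊤ := by
          apply Subgroup.map_injective V.subtype_injective
          rw [heq, ← MonoidHom.range_eq_map, V.range_subtype]
        rw [eq_top_iff]
        intro w _
        obtain ⟨y', rfl⟩ := of_surj V w
        have : y' ∈ U.comap Abelianization.of := h8 ▸ mem_top y'
        exact this
      have hinv : (P : Subgroup G) ≤
          normalizer (((U.comap Abelianization.of).map V.subtype : Subgroup G) : Set G) := by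
        apply Lib.Helper17.le_normalizer_of_conj_mem
        rintro k hk _ ⟨y', hy', rfl⟩
        refine ⟨Lib.Helper1.conjHom (P : Subgroup G) V hPV ⟨k, hk⟩ y', ?_, rfl⟩
        have := hU ⟨k, hk⟩ _ hy'
        rw [hρ] at this
        exact this
      have h9 := hmin' _ hlt' hinv
      rw [hρ]
      congr 1
      apply Subtype.ext
      rw [Lib.Helper1.conjHom_apply_coe]
      have h10 := mem_centralizer_iff.mp (h9 a.2) y ⟨y, hu, rfl⟩
      rw [← h10]
      group)
    ((P : Subgroup G).subtype ⁻¹' C) ((P : Subgroup G).subtype ⁻¹' D) (hcl C hC) (hcl D hD)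
    (by
      rintro ⟨c, hcP⟩ hc ⟨d, hdP⟩ hd w
      obtain ⟨⟨x, hx⟩, rfl⟩ := of_surj V w
      obtain ⟨v, hv, u, hu, hxvu, hdv, hcu⟩ := factor p P N hN V hVN hPV x c d hx hcP hdP
        (h x (hVN hx) c hc d hd)
      refine ⟨Abelianization.of ⟨u, hu⟩, Abelianization.of ⟨v, hv⟩, ?_, ?_, ?_⟩
      · rw [hρ]
        congr 1
        apply Subtype.ext
        rw [Lib.Helper1.conjHom_apply_coe]
        change c * u * c⁻¹ = u
        rw [hcu]; group
      · rw [hρ]
        congr 1
        apply Subtype.ext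
        rw [Lib.Helper1.conjHom_apply_coe]
        change d * v * d⁻¹ = v
        rw [hdv]; group
      · rw [mul_comm, ← map_mul]
        congr 1
        exact Subtype.ext hxvu)
  have hle : ⁅V, (P : Subgroup G)⁆ ≤ (commutator V).map V.subtype := by
    rw [commutator_le]
    intro y hy a ha
    refine ⟨⟨y, hy⟩ * Lib.Helper1.conjHom (P : Subgroup G) V hPV ⟨a, ha⟩ ⟨y, hy⟩⁻¹, ?_, ?_⟩
    · rw [SetLike.mem_coe, ← Abelianization.ker_of, MonoidHom.mem_ker, map_mul, ← hρ, htriv]
      simp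
    · simp [commutatorElement_def, Lib.Helper1.conjHom_apply_coe, mul_assoc]
  rw [hVP] at hle
  apply hlt.ne
  rw [eq_top_iff]
  intro y _
  obtain ⟨y', hy', hyy⟩ := hle y.2
  have : y' = y := Subtype.ext hyy
  exact this ▸ hy'

end Cfsg.Agent.S2277
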