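import Cfsg.Statements.S2299
import Cfsg.Agent.Lib.Helper2.SL2w
import Cfsg.Agent.S2298

set_option autoImplicit false
open Cfsg

namespace Cfsg.Agent.S2299

open Cfsg.Agent.Lib.Helper2
theorem card_nat {F : Type*} [Field F] [Fintype F] [DecidableEq F] (k : ℕ) (hk1 : 1 ≤ k)
    (hk : Fintype.card F = 2 * k + 1) (n : ℕ) :
    Nat.card {χ : Cfsg.IrrCharacter (Matrix.SpecialLinearGroup (Fin 2) F) //
      (χ : Matrix.SpecialLinearGroup (Fin 2) F → ℂ) 1 = (n : ℂ)} =
    (if 1 = n then 1 else 0) + (if 2 * k + 1 = n then 1 else 0) +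
      2 * (if k + 1 = n then 1 else 0) + (k - 1) * (if 2 * k + 2 = n then 1 else 0) +
      k * (if 2 * k = n then 1 else 0) + 2 * (if k = n then 1 else 0) := by
  have hodd : Odd (Fintype.card F) := ⟨k, hk⟩
  have e : ∀ (z : ℂ) (a : ℕ), z = (a : ℂ) → ((z = (n : ℂ)) ↔ a = n) := by
    intro z a hz
    rw [hz]; exact Nat.cast_inj
  have z1 : (1 : ℂ) = ((1 : ℕ) : ℂ) := by simp
  have z2 : (Fintype.card F : ℂ) = ((2 * k + 1 : ℕ) : ℂ) := by rw [hk]
  have z3 : ((Fintype.card F : ℂ) + 1) / 2 = ((k + 1 : ℕ) : ℂ) := by rw [hk]; push_cast; ring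
  have z4 : (Fintype.card F : ℂ) + 1 = ((2 * k + 2 : ℕ) : ℂ) := by rw [hk]; push_cast; ring
  have z5 : (Fintype.card F : ℂ) - 1 = ((2 * k : ℕ) : ℂ) := by rw [hk]; push_cast; ring
  have z6 : ((Fintype.card F : ℂ) - 1) / 2 = ((k : ℕ) : ℂ) := by rw [hk]; push_cast; ring
  have z7 : ((Fintype.card F : ℂ) - 3) / 2 = ((k - 1 : ℕ) : ℂ) := by
    rw [hk, Nat.cast_sub hk1]; push_cast; ring
  have h := SL2r.card_deg_odd hodd (n : ℂ)
  rw [if_congr (e _ _ z1) rfl rfl, if_congr (e _ _ z2) rfl rfl, if_congr (e _ _ z3) rfl rfl,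
    if_congr (e _ _ z4) rfl rfl, if_congr (e _ _ z5) rfl rfl, if_congr (e _ _ z6) rfl rfl,
    z6, z7] at h
  have h2 : ((Nat.card {χ : Cfsg.IrrCharacter (Matrix.SpecialLinearGroup (Fin 2) F) //
      (χ : Matrix.SpecialLinearGroup (Fin 2) F → ℂ) 1 = (n : ℂ)} : ℕ) : ℂ) =
    (((if 1 = n then 1 else 0) + (if 2 * k + 1 = n then 1 else 0) +
      2 * (if k + 1 = n then 1 else 0) + (k - 1) * (if 2 * k + 2 = n then 1 else 0) +
      k * (if 2 * k = n then 1 else 0) + 2 * (if k = n then 1 else 0) : ℕ) : ℂ) := by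
    rw [h]
    push_cast
    rfl
  exact_mod_cast h2

/-- Over a finite field F with q elements, q odd, every irreducible complex character of SL₂ has degree 1, q, q + 1, q − 1, (q + 1)/2 or (q − 1)/2; and when q ≥ 5 (so that these six numbers are distinct) there are exactly one irreducible character of degree 1, one of degree q, (q − 3)/2 of degree q + 1, (q − 1)/2 of degree q − 1, two of degree (q + 1)/2 and two of degree (q − 1)/2. -/
theorem result {F : Type*} [Field F] [Fintype F] (hodd : Odd (Fintype.card F)) :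
    (∀ χ : Matrix.SpecialLinearGroup (Fin 2) F → ℂ, Cfsg.IsIrrCharacter (Matrix.SpecialLinearGroup (Fin 2) F) χ →
      χ 1 = 1 ∨ χ 1 = (Fintype.card F : ℂ) ∨ χ 1 = (Fintype.card F : ℂ) + 1 ∨ χ 1 = (Fintype.card F : ℂ) - 1 ∨
        χ 1 = (((Fintype.card F + 1) / 2 : ℕ) : ℂ) ∨ χ 1 = (((Fintype.card F - 1) / 2 : ℕ) : ℂ)) ∧
    (5 ≤ Fintype.card F →
      Nat.card {χ : Cfsg.IrrCharacter (Matrix.SpecialLinearGroup (Fin 2) F) // (χ : Matrix.SpecialLinearGroup (Fin 2) F → ℂ) 1 = 1} = 1 ∧
      Nat.card {χ : Cfsg.IrrCharacter (Matrix.SpecialLinearGroup (Fin 2) F) // (χ : Matrix.SpecialLinearGroup (Fin 2) F → ℂ) 1 = (Fintype.card F : ℂ)} = 1 ∧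
      Nat.card {χ : Cfsg.IrrCharacter (Matrix.SpecialLinearGroup (Fin 2) F) // (χ : Matrix.SpecialLinearGroup (Fin 2) F → ℂ) 1 = (Fintype.card F : ℂ) + 1} = (Fintype.card F - 3) / 2 ∧
      Nat.card {χ : Cfsg.IrrCharacter (Matrix.SpecialLinearGroup (Fin 2) F) // (χ : Matrix.SpecialLinearGroup (Fin 2) F → ℂ) 1 = (Fintype.card F : ℂ) - 1} = (Fintype.card F - 1) / 2 ∧
      Nat.card {χ : Cfsg.IrrCharacter (Matrix.SpecialLinearGroup (Fin 2) F) // (χ : Matrix.SpecialLinearGroup (Fin 2) F → ℂ) 1 = (((Fintype.card F + 1) / 2 : ℕ) : ℂ)} = 2 ∧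
      Nat.card {χ : Cfsg.IrrCharacter (Matrix.SpecialLinearGroup (Fin 2) F) // (χ : Matrix.SpecialLinearGroup (Fin 2) F → ℂ) 1 = (((Fintype.card F - 1) / 2 : ℕ) : ℂ)} = 2) := by
  classical
  obtain ⟨k, hk⟩ := hodd
  have key : ∀ a b : ℕ, (a : ℂ) = b → a = b := fun a b h => by exact_mod_cast h
  have hq2 : 2 ≤ Fintype.card F := Fintype.one_lt_card
  have e1 : (Fintype.card F + 1) / 2 = k + 1 := by omega
  have e2 : (Fintype.card F - 1) / 2 = k := by omega
  constructor
  · intro χ hχ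
    obtain ⟨ψ, hψ, h | ⟨χ', hχ', hne, heq, x, hx⟩⟩ := SL2r.classify_sl hχ
    · have h1 : χ 1 = ψ 1 := by rw [← h, SL2r.res_one]
      rw [h1]
      rcases (Cfsg.Agent.S2298.result (F := F)).1 ψ hψ with h | h | h | h
      · exact Or.inl h
      · exact Or.inr (Or.inr (Or.inr (Or.inl h)))
      · exact Or.inr (Or.inl h)
      · exact Or.inr (Or.inr (Or.inl h))
    · have h1 : χ' 1 = χ 1 := hx 1 1 (by simp)
      have h2 : ψ 1 = 2 * χ 1 := by
        have := congrFun heq 1
        rw [SL2r.res_one, Pi.add_apply, h1] at this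
        rw [this]; ring
      obtain ⟨d, _, hd⟩ := IsIrrCharacter.apply_one_pos hχ
      rw [hd] at h2
      rcases (Cfsg.Agent.S2298.result (F := F)).1 ψ hψ with h | h | h | h
      · exfalso
        rw [h2] at h
        have := key (2 * d) 1 (by push_cast; exact h)
        omega
      · rw [h2] at h
        have := key (2 * d + 1) (Fintype.card F) (by push_cast; linear_combination h)
        right; right; right; right; right
        rw [hd, e2]
        have h3 : d = k := by omega
        rw [h3]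
      · exfalso
        rw [h2] at h
        have := key (2 * d) (Fintype.card F) (by push_cast; exact h)
        omega
      · rw [h2] at h
        have := key (2 * d) (Fintype.card F + 1) (by push_cast; exact h)
        right; right; right; right; left
        rw [hd, e1]
        have h3 : d = k + 1 := by omega
        rw [h3]
  · intro hq
    have hk1 : 1 ≤ k := by omega
    refine ⟨?_, ?_, ?_, ?_, ?_, ?_⟩
    · have h := card_nat k hk1 hk 1
      rw [Nat.cast_one] at h
      rw [h]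
      split_ifs <;> omega
    · have h := card_nat k hk1 hk (Fintype.card F)
      rw [h]
      split_ifs <;> omega
    · have h := card_nat k hk1 hk (Fintype.card F + 1)
      rw [Nat.cast_add, Nat.cast_one] at h
      rw [h]
      split_ifs <;> omega
    · have h := card_nat k hk1 hk (Fintype.card F - 1)
      rw [Nat.cast_sub (by omega), Nat.cast_one] at h
      rw [h]
      split_ifs <;> omega
    · have h := card_nat k hk1 hk ((Fintype.card F + 1) / 2)
      rw [h]
      split_ifs <;> omega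
    · have h := card_nat k hk1 hk ((Fintype.card F - 1) / 2)
      rw [h]
      split_ifs <;> omega

end Cfsg.Agent.S2299
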