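import Cfsg.Statements.S2300
import Cfsg.Agent.Lib.Helper2.SL2t
import Cfsg.Agent.S2298

set_option autoImplicit false
open Cfsg

namespace Cfsg.Agent.S2300

open Cfsg.Agent.Lib.Helper2

/-- Over a finite field F with q elements, q even, every irreducible complex character of SL₂ has degree 1, q − 1, q or q + 1; and when q ≥ 4 (so that these four numbers are distinct) there are exactly one irreducible character of degree 1, one of degree q, (q − 2)/2 of degree q + 1 and q/2 of degree q − 1. -/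
theorem result {F : Type*} [Field F] [Fintype F] [CharP F 2] :
    (∀ χ : Matrix.SpecialLinearGroup (Fin 2) F → ℂ, Cfsg.IsIrrCharacter (Matrix.SpecialLinearGroup (Fin 2) F) χ →
      χ 1 = 1 ∨ χ 1 = (Fintype.card F : ℂ) - 1 ∨ χ 1 = (Fintype.card F : ℂ) ∨ χ 1 = (Fintype.card F : ℂ) + 1) ∧
    (4 ≤ Fintype.card F →
      Nat.card {χ : Cfsg.IrrCharacter (Matrix.SpecialLinearGroup (Fin 2) F) // (χ : Matrix.SpecialLinearGroup (Fin 2) F → ℂ) 1 = 1} = 1 ∧
      Nat.card {χ : Cfsg.IrrCharacter (Matrix.SpecialLinearGroup (Fin 2) F) // (χ : Matrix.SpecialLinearGroup (Fin 2) F → ℂ) 1 = (Fintype.card F : ℂ)} = 1 ∧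
      Nat.card {χ : Cfsg.IrrCharacter (Matrix.SpecialLinearGroup (Fin 2) F) // (χ : Matrix.SpecialLinearGroup (Fin 2) F → ℂ) 1 = (Fintype.card F : ℂ) + 1} = (Fintype.card F - 2) / 2 ∧
      Nat.card {χ : Cfsg.IrrCharacter (Matrix.SpecialLinearGroup (Fin 2) F) // (χ : Matrix.SpecialLinearGroup (Fin 2) F → ℂ) 1 = (Fintype.card F : ℂ) - 1} = Fintype.card F / 2) := by
  classical
  constructor
  · intro χ hχ
    obtain ⟨ψ, hψ, rfl⟩ := SL2r.classify_sl_even hχ
    rw [SL2r.res_one]
    exact (Cfsg.Agent.S2298.result (F := F)).1 ψ hψ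
  · intro hq
    have hQ : ∀ k : ℕ, (Fintype.card F : ℂ) = k → Fintype.card F = k :=
      fun k h => by exact_mod_cast h
    have n0 : (Fintype.card F : ℂ) ≠ 0 := fun h => by
      have := hQ 0 (by push_cast; exact h)
      omega
    have n1 : (Fintype.card F : ℂ) ≠ 1 := fun h => by
      have := hQ 1 (by push_cast; exact h)
      omega
    have n2 : (Fintype.card F : ℂ) ≠ 2 := fun h => by
      have := hQ 2 (by push_cast; exact h)
      omega
    have c2 : ((Fintype.card F - 2 : ℕ) : ℂ) = (Fintype.card F : ℂ) - 2 := by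
      rw [Nat.cast_sub (by omega)]; simp
    refine ⟨?_, ?_, ?_, ?_⟩
    · have h := SL2r.card_deg_even (F := F) 1
      rw [if_pos rfl, if_neg n1,
        if_neg (fun h => n0 (by linear_combination h) : ¬ ((Fintype.card F : ℂ) + 1 = 1)),
        if_neg (fun h => n2 (by linear_combination h) : ¬ ((Fintype.card F : ℂ) - 1 = 1))] at h
      have h' : (Nat.card {χ : Cfsg.IrrCharacter (Matrix.SpecialLinearGroup (Fin 2) F) //
          (χ : Matrix.SpecialLinearGroup (Fin 2) F → ℂ) 1 = 1} : ℂ) = ((1 : ℕ) : ℂ) := by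
        rw [h]; push_cast; ring
      exact_mod_cast h'
    · have h := SL2r.card_deg_even (F := F) (Fintype.card F : ℂ)
      rw [if_neg n1.symm, if_pos rfl,
        if_neg (fun h => one_ne_zero (by linear_combination h : (1 : ℂ) = 0) :
          ¬ ((Fintype.card F : ℂ) + 1 = (Fintype.card F : ℂ))),
        if_neg (fun h => one_ne_zero (by linear_combination -h : (1 : ℂ) = 0) :
          ¬ ((Fintype.card F : ℂ) - 1 = (Fintype.card F : ℂ)))] at h
      have h' : (Nat.card {χ : Cfsg.IrrCharacter (Matrix.SpecialLinearGroup (Fin 2) F) //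
          (χ : Matrix.SpecialLinearGroup (Fin 2) F → ℂ) 1 = (Fintype.card F : ℂ)} : ℂ) =
          ((1 : ℕ) : ℂ) := by
        rw [h]; push_cast; ring
      exact_mod_cast h'
    · have h := SL2r.card_deg_even (F := F) ((Fintype.card F : ℂ) + 1)
      rw [if_neg (fun h => n0 (by linear_combination -h) : ¬ ((1 : ℂ) = (Fintype.card F : ℂ) + 1)),
        if_neg (fun h => one_ne_zero (by linear_combination -h : (1 : ℂ) = 0) :
          ¬ ((Fintype.card F : ℂ) = (Fintype.card F : ℂ) + 1)),
        if_pos rfl,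
        if_neg (fun h => two_ne_zero (by linear_combination -h : (2 : ℂ) = 0) :
          ¬ ((Fintype.card F : ℂ) - 1 = (Fintype.card F : ℂ) + 1))] at h
      have h' : ((2 * Nat.card {χ : Cfsg.IrrCharacter (Matrix.SpecialLinearGroup (Fin 2) F) //
          (χ : Matrix.SpecialLinearGroup (Fin 2) F → ℂ) 1 = (Fintype.card F : ℂ) + 1} : ℕ) : ℂ) =
          ((Fintype.card F - 2 : ℕ) : ℂ) := by
        rw [Nat.cast_mul, h, c2]; push_cast; ring
      have h'' : 2 * Nat.card {χ : Cfsg.IrrCharacter (Matrix.SpecialLinearGroup (Fin 2) F) //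
          (χ : Matrix.SpecialLinearGroup (Fin 2) F → ℂ) 1 = (Fintype.card F : ℂ) + 1} =
          Fintype.card F - 2 := by exact_mod_cast h'
      rw [← h'', Nat.mul_div_cancel_left _ (by norm_num)]
    · have h := SL2r.card_deg_even (F := F) ((Fintype.card F : ℂ) - 1)
      rw [if_neg (fun h => n2 (by linear_combination -h) : ¬ ((1 : ℂ) = (Fintype.card F : ℂ) - 1)),
        if_neg (fun h => one_ne_zero (by linear_combination h : (1 : ℂ) = 0) :
          ¬ ((Fintype.card F : ℂ) = (Fintype.card F : ℂ) - 1)),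
        if_neg (fun h => two_ne_zero (by linear_combination h : (2 : ℂ) = 0) :
          ¬ ((Fintype.card F : ℂ) + 1 = (Fintype.card F : ℂ) - 1)),
        if_pos rfl] at h
      have h' : ((2 * Nat.card {χ : Cfsg.IrrCharacter (Matrix.SpecialLinearGroup (Fin 2) F) //
          (χ : Matrix.SpecialLinearGroup (Fin 2) F → ℂ) 1 = (Fintype.card F : ℂ) - 1} : ℕ) : ℂ) =
          ((Fintype.card F : ℕ) : ℂ) := by
        rw [Nat.cast_mul, h]; push_cast; ring
      have h'' : 2 * Nat.card {χ : Cfsg.IrrCharacter (Matrix.SpecialLinearGroup (Fin 2) F) //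
          (χ : Matrix.SpecialLinearGroup (Fin 2) F → ℂ) 1 = (Fintype.card F : ℂ) - 1} =
          Fintype.card F := by exact_mod_cast h'
      omega

end Cfsg.Agent.S2300
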