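import Cfsg.Statements.S2475
import Cfsg.Agent.Lib.Helper12.SL2Tori

set_option autoImplicit false
open Cfsg

namespace Cfsg.Agent.S2475

open Matrix Cfsg.Agent.Lib.Helper12
open scoped MatrixGroups

theorem tU_pow_char {F : Type*} [Field F] (p : ℕ) [CharP F p] : (tU (1 : F)) ^ p = 1 := by
  have h1 : tU (1 : F) = tUHom (Multiplicative.ofAdd 1) := rfl
  rw [h1, ← map_pow, ← ofAdd_nsmul, nsmul_eq_mul, mul_one, CharP.cast_eq_zero, ofAdd_zero, map_one]

theorem tU_not_mem_center {F : Type*} [Field F] : tU (1 : F) ∉ Subgroup.center SL(2, F) := by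
  intro h
  obtain ⟨r, _, hr⟩ := Matrix.SpecialLinearGroup.mem_center_iff.mp h
  have h1 := congrFun (congrFun hr 0) 1
  have h2 := tU_01 (1 : F)
  change (tU (1 : F) : Matrix (Fin 2) (Fin 2) F) 0 1 = 1 at h2
  rw [h2] at h1
  simp at h1

/-- The set of element orders of PSL(2,q): let F be a finite field of characteristic p with q ≥ 4 elements and d = gcd(2, q − 1). The orders of elements of PSL(2,F) are exactly the divisors of p, of (q − 1)/d and of (q + 1)/d. -/
theorem result {F : Type*} [Field F] [Fintype F] (p : ℕ) [Fact p.Prime] [CharP F p] (h4 : 4 ≤ Fintype.card F) :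
    Set.range (orderOf : Matrix.ProjectiveSpecialLinearGroup (Fin 2) F → ℕ) =
      {m : ℕ | m ∣ p ∨ m ∣ (Fintype.card F - 1) / Nat.gcd 2 (Fintype.card F - 1) ∨ m ∣ (Fintype.card F + 1) / Nat.gcd 2 (Fintype.card F - 1)} := by
  classical
  haveI : Finite (Matrix.ProjectiveSpecialLinearGroup (Fin 2) F) :=
    inferInstanceAs (Finite (SL(2, F) ⧸ Subgroup.center SL(2, F)))
  have hZc : Nat.card (Subgroup.center SL(2, F)) = Nat.gcd 2 (Fintype.card F - 1) := card_center_SL2
  ext m
  constructor
  · rintro ⟨x, rfl⟩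
    obtain ⟨g, rfl⟩ := QuotientGroup.mk'_surjective (Subgroup.center SL(2, F)) x
    have hgm : g ∈ Subgroup.centralizer ({g} : Set SL(2, F)) :=
      Subgroup.mem_centralizer_singleton_iff.mpr rfl
    by_cases hroot : ∃ a : F, a ^ 2 - (g : Matrix (Fin 2) (Fin 2) F).trace * a + 1 = 0
    · obtain ⟨a, ha⟩ := hroot
      by_cases ha2 : a ^ 2 = 1
      · left
        obtain ⟨ha0, hta⟩ := trace_eq_of_root ha
        have ht : (g : Matrix (Fin 2) (Fin 2) F).trace = 2 * a := by
          rw [hta]
          field_simp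
          linear_combination -ha2
        have hp := pow_char_eq_scalar p g a ha2 ht
        apply orderOf_dvd_of_pow_eq_one
        rw [← map_pow]
        apply (QuotientGroup.eq_one_iff _).mpr
        apply Matrix.SpecialLinearGroup.mem_center_iff.mpr
        refine ⟨a ^ p, ?_, ?_⟩
        · rw [Fintype.card_fin, ← pow_mul, mul_comm, pow_mul, ha2, one_pow]
        · rw [Matrix.SpecialLinearGroup.coe_pow, hp]
          ext i j
          simp [Matrix.scalar_apply, Matrix.diagonal_apply, Matrix.one_apply]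
      · right; left
        rw [← hZc, ← card_centralizer_split g a ha ha2]
        exact orderOf_mk_dvd _ _ (Subgroup.center_le_centralizer _) g hgm
    · push Not at hroot
      right; right
      rw [← hZc, ← (centralizer_SL2_irred g (no_eigen_of_no_root g hroot)).2]
      exact orderOf_mk_dvd _ _ (Subgroup.center_le_centralizer _) g hgm
  · rintro (h | h | h)
    · rcases (Nat.dvd_prime (Fact.out : p.Prime)).mp h with rfl | rfl
      · exact ⟨1, orderOf_one⟩
      · refine ⟨QuotientGroup.mk' (Subgroup.center SL(2, F)) (tU 1), ?_⟩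
        apply orderOf_eq_prime
        · rw [← map_pow, tU_pow_char, map_one]
        · intro h1
          exact tU_not_mem_center ((QuotientGroup.eq_one_iff _).mp h1)
    · obtain ⟨c, hc, hcZ⟩ := exists_split_gen (F := F)
      have h1 := orderOf_mk_eq _ c hcZ
      rw [hc, hZc] at h1
      obtain ⟨k, hk⟩ := exists_orderOf_eq_of_dvd (QuotientGroup.mk' (Subgroup.center SL(2, F)) c)
        (orderOf_pos _) m (h1 ▸ h)
      exact ⟨_, hk⟩
    · obtain ⟨c, hc, hcZ⟩ := exists_nonsplit_gen (F := F)
      have h1 := orderOf_mk_eq _ c hcZ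
      rw [hc, hZc] at h1
      obtain ⟨k, hk⟩ := exists_orderOf_eq_of_dvd (QuotientGroup.mk' (Subgroup.center SL(2, F)) c)
        (orderOf_pos _) m (h1 ▸ h)
      exact ⟨_, hk⟩


end Cfsg.Agent.S2475
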