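import Cfsg.Statements.S2471
import Cfsg.Agent.S2475

set_option autoImplicit false
open Cfsg

namespace Cfsg.Agent.S2471


/-- In PSL(2,q) with q odd, the characteristic p is isolated from 2 in the prime graph: for F a finite field of odd characteristic p with at least 5 elements, PSL(2,F) has no element of order 2p. -/
theorem result {F : Type*} [Field F] [Fintype F] (p : ℕ) [Fact p.Prime] [CharP F p] (hp : p ≠ 2) (h5 : 5 ≤ Fintype.card F) (g : Matrix.ProjectiveSpecialLinearGroup (Fin 2) F) :
    orderOf g ≠ 2 * p := by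
  intro h
  have hmem : orderOf g ∈ Set.range (orderOf : Matrix.ProjectiveSpecialLinearGroup (Fin 2) F → ℕ) :=
    ⟨g, rfl⟩
  rw [Cfsg.Agent.S2475.result p (by omega)] at hmem
  have hpp : p.Prime := Fact.out
  have hpq : p ∣ Fintype.card F := by
    rw [← CharP.cast_eq_zero_iff F p]
    exact Nat.cast_card_eq_zero F
  have hp2 : p ∣ 2 * p := Dvd.intro_left 2 rfl
  have hg1 : Nat.gcd 2 (Fintype.card F - 1) ∣ Fintype.card F - 1 := Nat.gcd_dvd_right _ _
  have hg2 : Nat.gcd 2 (Fintype.card F - 1) ∣ Fintype.card F + 1 := by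
    have : Fintype.card F + 1 = (Fintype.card F - 1) + 2 := by omega
    rw [this]
    exact Nat.dvd_add hg1 (Nat.gcd_dvd_left _ _)
  rw [h] at hmem
  rcases hmem with h1 | h1 | h1
  · have := Nat.le_of_dvd hpp.pos h1
    have := hpp.pos
    omega
  · have h2 : p ∣ Fintype.card F - 1 := (hp2.trans h1).trans (Nat.div_dvd_of_dvd hg1)
    have h3 : p ∣ Fintype.card F - (Fintype.card F - 1) := Nat.dvd_sub hpq h2
    have h4 : Fintype.card F - (Fintype.card F - 1) = 1 := by omega
    rw [h4] at h3
    exact hpp.one_lt.ne' (Nat.dvd_one.mp h3)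
  · have h2 : p ∣ Fintype.card F + 1 := (hp2.trans h1).trans (Nat.div_dvd_of_dvd hg2)
    have h3 : p ∣ Fintype.card F + 1 - Fintype.card F := Nat.dvd_sub h2 hpq
    have h4 : Fintype.card F + 1 - Fintype.card F = 1 := by omega
    rw [h4] at h3
    exact hpp.one_lt.ne' (Nat.dvd_one.mp h3)


end Cfsg.Agent.S2471
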