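import Cfsg.Statements.S2551
import Mathlib
import Cfsg.Agent.S0256

set_option autoImplicit false
open Cfsg

namespace Cfsg.Agent.S2551

open MulAction

section T

lemma orb_stab {K W : Type*} [Group K] [MulAction K W] (x : W) :
    (orbit K x).ncard * Nat.card (stabilizer K x) = Nat.card K := by
  rw [← index_stabilizer, mul_comm]; exact Subgroup.card_mul_index _

lemma exists_in_stab {K W : Type*} [Group K] [Finite K] [MulAction K W] (x : W) (p : ℕ)
    [Fact p.Prime] (h : p ∣ Nat.card (stabilizer K x)) : ∃ g : K, orderOf g = p ∧ g • x = x := by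
  obtain ⟨g, hg⟩ := exists_prime_orderOf_dvd_card' p h
  exact ⟨g.1, by rw [Subgroup.orderOf_coe]; exact hg, g.2⟩

lemma even_card_of_invol {α : Type*} [DecidableEq α] (s : Finset α) (f : α → α)
    (hmem : ∀ x ∈ s, f x ∈ s) (hinv : ∀ x ∈ s, f (f x) = x) (hne : ∀ x ∈ s, f x ≠ x) :
    Even s.card := by
  have h : ∑ _x ∈ s, (1 : ZMod 2) = 0 :=
    Finset.sum_involution (fun x _ => f x) (fun _ _ => by decide) (fun x hx _ => hne x hx)
      (fun x hx => hmem x hx) (fun x hx => hinv x hx)
  rw [Finset.sum_const, nsmul_eq_mul, mul_one, ZMod.natCast_eq_zero_iff] at h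
  exact even_iff_two_dvd.mpr h

variable {K V : Type*} [Group K] [AddCommGroup V] [DistribMulAction K V] [FaithfulSMul K V]

/-- fixed vectors of `g` as an additive subgroup -/
def fixSub (g : K) : AddSubgroup V where
  carrier := {v | g • v = v}
  zero_mem' := smul_zero g
  add_mem' := by
    intro a b ha hb
    show g • (a + b) = a + b
    have ha' : g • a = a := ha
    have hb' : g • b = b := hb
    rw [smul_add, ha', hb']
  neg_mem' := by
    intro a ha
    show g • (-a) = -a
    have ha' : g • a = a := ha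
    rw [smul_neg, ha']

lemma card_fix (hV : Nat.card V = 16) (p : ℕ) [Fact p.Prime] (g : K) (hg : orderOf g = p) :
    Nat.card (fixSub (V := V) g) ∣ 16 ∧ 16 ≡ Nat.card (fixSub (V := V) g) [MOD p] ∧
      Nat.card (fixSub (V := V) g) ≠ 16 := by
  haveI : Finite V := Nat.finite_of_card_ne_zero (by rw [hV]; norm_num)
  refine ⟨?_, ?_, ?_⟩
  · rw [← hV]; exact AddSubgroup.card_addSubgroup_dvd_card _
  · have hZ : IsPGroup p (Subgroup.zpowers g) :=
      IsPGroup.of_card (n := 1) (by rw [Nat.card_zpowers, hg, pow_one])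
    have h := hZ.card_modEq_card_fixedPoints V
    rw [hV] at h
    have e : Nat.card (fixedPoints (Subgroup.zpowers g) V) = Nat.card (fixSub (V := V) g) := by
      apply Nat.card_congr
      apply Equiv.subtypeEquivRight
      intro v
      constructor
      · intro hv; exact hv ⟨g, Subgroup.mem_zpowers g⟩
      · rintro hv ⟨z, hz⟩
        obtain ⟨k, rfl⟩ := Subgroup.mem_zpowers_iff.mp hz
        exact (stabilizer K v).zpow_mem (mem_stabilizer_iff.mpr hv) k
    rwa [e] at h
  · intro h16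
    have htop : fixSub (V := V) g = ⊤ := AddSubgroup.eq_top_of_card_eq _ (by rw [h16, hV])
    have h1 : g = 1 := by
      apply FaithfulSMul.eq_of_smul_eq_smul (α := V)
      intro v
      rw [one_smul]
      have : v ∈ fixSub (V := V) g := by rw [htop]; trivial
      exact this
    rw [h1, orderOf_one] at hg
    exact (Fact.out : p.Prime).one_lt.ne hg

lemma fix5 (hV : Nat.card V = 16) (g : K) (hg : orderOf g = 5) (v : V) (hv : g • v = v) :
    v = 0 := by
  haveI : Fact (Nat.Prime 5) := ⟨by norm_num⟩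
  obtain ⟨h1, h2, h3⟩ := card_fix hV 5 g hg
  have hc : Nat.card (fixSub (V := V) g) = 1 := by
    have hle : Nat.card (fixSub (V := V) g) ≤ 16 := Nat.le_of_dvd (by norm_num) h1
    unfold Nat.ModEq at h2
    generalize Nat.card (fixSub (V := V) g) = n at *
    interval_cases n <;> omega
  have : (⟨v, hv⟩ : fixSub (V := V) g) = 0 := by
    haveI := (Nat.card_eq_one_iff_unique.mp hc).1
    exact Subsingleton.elim _ _
  exact congrArg Subtype.val this

lemma card7 (hV : Nat.card V = 16) (g : K) (hg : orderOf g = 7) :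
    Nat.card (fixSub (V := V) g) = 2 := by
  haveI : Fact (Nat.Prime 7) := ⟨by norm_num⟩
  obtain ⟨h1, h2, h3⟩ := card_fix hV 7 g hg
  have hle : Nat.card (fixSub (V := V) g) ≤ 16 := Nat.le_of_dvd (by norm_num) h1
  unfold Nat.ModEq at h2
  generalize Nat.card (fixSub (V := V) g) = n at *
  interval_cases n <;> omega

lemma fix7 (hV : Nat.card V = 16) (g : K) (hg : orderOf g = 7) (v w : V) (hv : g • v = v)
    (hw : g • w = w) (hv0 : v ≠ 0) (hw0 : w ≠ 0) : v = w := by
  obtain ⟨y, _, hy⟩ := (Nat.card_eq_two_iff' (0 : fixSub (V := V) g)).mp (card7 hV g hg)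
  have e1 := hy ⟨v, hv⟩ (by intro h; exact hv0 (congrArg Subtype.val h))
  have e2 := hy ⟨w, hw⟩ (by intro h; exact hw0 (congrArg Subtype.val h))
  exact congrArg Subtype.val (e1.trans e2.symm)

lemma fix7_exists (hV : Nat.card V = 16) (g : K) (hg : orderOf g = 7) :
    ∃ u : V, u ≠ 0 ∧ g • u = u := by
  obtain ⟨y, hy, _⟩ := (Nat.card_eq_two_iff' (0 : fixSub (V := V) g)).mp (card7 hV g hg)
  exact ⟨y.1, fun h => hy (Subtype.ext h), y.2⟩

theorem two_trans (hK : Nat.card K = 2520) (hV : Nat.card V = 16) (v w v' w' : V)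
    (hv : v ≠ 0) (hw : w ≠ 0) (hvw : v ≠ w) (hv' : v' ≠ 0) (hw' : w' ≠ 0) (hvw' : v' ≠ w') :
    ∃ g : K, g • v = v' ∧ g • w = w' := by
  classical
  haveI : Finite K := Nat.finite_of_card_ne_zero (by rw [hK]; norm_num)
  haveI : Finite V := Nat.finite_of_card_ne_zero (by rw [hV]; norm_num)
  haveI := Fintype.ofFinite V
  haveI : Fact (Nat.Prime 5) := ⟨by norm_num⟩
  haveI : Fact (Nat.Prime 7) := ⟨by norm_num⟩
  haveI : Fact (Nat.Prime 2) := ⟨by norm_num⟩
  have s5 : ∀ x : V, x ≠ 0 → ¬ 5 ∣ Nat.card (stabilizer K x) := by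
    intro x hx h
    obtain ⟨g, hg, hgx⟩ := exists_in_stab x 5 h
    exact hx (fix5 hV g hg x hgx)
  have orbit_ne : ∀ x : V, x ≠ 0 → ∀ y ∈ orbit K x, y ≠ 0 := by
    rintro x hx _ ⟨g, rfl⟩ h
    exact hx ((smul_eq_zero_iff_eq g).mp h)
  have hcompl : (({0} : Set V)ᶜ).ncard = 15 := by
    have := Set.ncard_add_ncard_compl ({0} : Set V)
    rw [Set.ncard_singleton, hV] at this
    omega
  have orbit_le : ∀ x : V, x ≠ 0 → (orbit K x).ncard ≤ 15 := by
    intro x hx
    rw [← hcompl]
    apply Set.ncard_le_ncard _ (Set.toFinite _)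
    intro y hy
    exact orbit_ne x hx y hy
  obtain ⟨g7, hg7⟩ := exists_prime_orderOf_dvd_card' (G := K) 7 (by rw [hK]; norm_num)
  obtain ⟨u, hu0, hu⟩ := fix7_exists (V := V) hV g7 hg7
  have hu_mem : ∀ x : V, x ≠ 0 → u ∈ orbit K x := by
    intro x hx
    by_contra hnot
    have h7 : 7 ∣ (orbit K x).ncard := by
      have hZ : IsPGroup 7 (Subgroup.zpowers g7) :=
        IsPGroup.of_card (n := 1) (by rw [Nat.card_zpowers, hg7, pow_one])
      have h := hZ.card_modEq_card_fixedPoints (orbit K x)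
      haveI : IsEmpty (fixedPoints (Subgroup.zpowers g7) (orbit K x)) := by
        refine ⟨fun ⟨y, hy⟩ => ?_⟩
        have h1 := hy ⟨g7, Subgroup.mem_zpowers g7⟩
        have h2 : g7 • (y : V) = y := congrArg Subtype.val h1
        have h3 := fix7 hV g7 hg7 (y : V) u h2 hu (orbit_ne x hx y y.2) hu0
        exact hnot (h3 ▸ y.2)
      have h0 : Nat.card (fixedPoints (Subgroup.zpowers g7) (orbit K x)) = 0 := Nat.card_of_isEmpty
      rw [h0, Nat.card_coe_set_eq] at h
      exact (Nat.modEq_zero_iff_dvd).mp h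
    have h5 : 5 ∣ (orbit K x).ncard := by
      have h := orb_stab (K := K) x
      rw [hK] at h
      have h' : 5 ∣ (orbit K x).ncard * Nat.card (stabilizer K x) := by rw [h]; norm_num
      rcases (Nat.Prime.dvd_mul (by norm_num)).mp h' with h'' | h''
      · exact h''
      · exact absurd h'' (s5 x hx)
    have hpos : 0 < (orbit K x).ncard :=
      (Set.ncard_pos (Set.toFinite _)).mpr ⟨x, mem_orbit_self x⟩
    have := orbit_le x hx
    omega
  have htr : ∀ x : V, x ≠ 0 → orbit K x = ({0} : Set V)ᶜ := by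
    intro x hx
    apply Set.Subset.antisymm
    · intro y hy
      exact orbit_ne x hx y hy
    · intro y hy
      have hy0 : y ≠ 0 := hy
      have e1 := orbit_eq_iff.mpr (hu_mem x hx)
      have e2 := orbit_eq_iff.mpr (hu_mem y hy0)
      rw [← e1, e2]
      exact mem_orbit_self y
  have hst : ∀ x : V, x ≠ 0 → Nat.card (stabilizer K x) = 168 := by
    intro x hx
    have h := orb_stab (K := K) x
    rw [hK, htr x hx, hcompl] at h
    omega
  obtain ⟨t, ht⟩ := exists_prime_orderOf_dvd_card' (G := K) 2 (by rw [hK]; norm_num)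
  have ht2 : t * t = 1 := by
    have := pow_orderOf_eq_one t
    rwa [ht, pow_two] at this
  obtain ⟨a, ha⟩ : ∃ a : V, t • a ≠ a := by
    by_contra hc
    push Not at hc
    have h1 : t = 1 := by
      apply FaithfulSMul.eq_of_smul_eq_smul (α := V)
      intro x
      rw [one_smul, hc x]
    rw [h1, orderOf_one] at ht
    omega
  have ha0 : a ≠ 0 := by
    rintro rfl
    exact ha (smul_zero t)
  obtain ⟨b, hb⟩ : ∃ b, b = t • a := ⟨_, rfl⟩
  have hb0 : b ≠ 0 := by
    rw [hb]
    intro h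
    exact ha0 ((smul_eq_zero_iff_eq t).mp h)
  have hab : a ≠ b := by rw [hb]; exact fun h => ha h.symm
  have htb : t • b = a := by rw [hb, ← mul_smul, ht2, one_smul]
  -- the orbit of the pair
  have hsub : stabilizer K ((a, b) : V × V) ≤ stabilizer K a := by
    intro g hg
    rw [mem_stabilizer_iff] at hg ⊢
    exact congrArg Prod.fst hg
  have hc168 : Nat.card (stabilizer K ((a, b) : V × V)) ∣ 168 := by
    rw [← hst a ha0]
    exact Subgroup.card_dvd_of_le hsub
  have hc7 : ¬ 7 ∣ Nat.card (stabilizer K ((a, b) : V × V)) := by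
    intro h
    obtain ⟨g, hg, hgx⟩ := exists_in_stab ((a, b) : V × V) 7 h
    exact hab (fix7 hV g hg a b (congrArg Prod.fst hgx) (congrArg Prod.snd hgx) ha0 hb0)
  have hc24 : Nat.card (stabilizer K ((a, b) : V × V)) ∣ 24 := by
    have hcop : Nat.Coprime (Nat.card (stabilizer K ((a, b) : V × V))) 7 :=
      ((Nat.Prime.coprime_iff_not_dvd (by norm_num)).mpr hc7).symm
    exact hcop.dvd_of_dvd_mul_left (by simpa using hc168)
  have hos := orb_stab (K := K) ((a, b) : V × V)
  rw [hK] at hos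
  obtain ⟨Xs, hXs⟩ : ∃ Xs : Finset (V × V), Xs = ((Finset.univ : Finset V).erase 0).offDiag :=
    ⟨_, rfl⟩
  have hXcard : Xs.card = 210 := by
    rw [hXs, Finset.offDiag_card, Finset.card_erase_of_mem (Finset.mem_univ _), Finset.card_univ,
      ← Nat.card_eq_fintype_card, hV]
  have hXmem : ∀ x : V × V, x ∈ Xs ↔ x.1 ≠ 0 ∧ x.2 ≠ 0 ∧ x.1 ≠ x.2 := by
    intro x
    rw [hXs, Finset.mem_offDiag]
    simp
  have hOX : orbit K ((a, b) : V × V) ⊆ (Xs : Set (V × V)) := by
    rintro _ ⟨g, rfl⟩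
    rw [Finset.mem_coe, hXmem]
    refine ⟨?_, ?_, ?_⟩
    · intro h
      exact ha0 ((smul_eq_zero_iff_eq g).mp h)
    · intro h
      exact hb0 ((smul_eq_zero_iff_eq g).mp h)
    · intro h
      exact hab (MulAction.injective g h)
  have hOle : (orbit K ((a, b) : V × V)).ncard ≤ 210 := by
    rw [← hXcard, ← Set.ncard_coe_finset]
    exact Set.ncard_le_ncard hOX (Set.toFinite _)
  have hOeven : Even (orbit K ((a, b) : V × V)).ncard := by
    rw [Set.ncard_eq_toFinset_card']
    apply even_card_of_invol _ Prod.swap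
    · intro x hx
      rw [Set.mem_toFinset] at hx ⊢
      obtain ⟨g, rfl⟩ := hx
      refine ⟨g * t, ?_⟩
      show (g * t) • ((a, b) : V × V) = Prod.swap (g • ((a, b) : V × V))
      rw [mul_smul]
      show g • (t • a, t • b) = (g • b, g • a)
      rw [htb, ← hb]
      rfl
    · intro x _
      exact Prod.swap_swap x
    · intro x hx h
      rw [Set.mem_toFinset] at hx
      have h1 := (hXmem x).mp (hOX hx)
      exact h1.2.2 (congrArg Prod.snd h)
  have hO210 : (orbit K ((a, b) : V × V)).ncard = 210 := by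
    obtain ⟨m, hm⟩ := hOeven
    have hle : Nat.card (stabilizer K ((a, b) : V × V)) ≤ 24 := Nat.le_of_dvd (by norm_num) hc24
    generalize Nat.card (stabilizer K ((a, b) : V × V)) = c at *
    generalize (orbit K ((a, b) : V × V)).ncard = n at *
    interval_cases c <;> omega
  have hOeq : orbit K ((a, b) : V × V) = (Xs : Set (V × V)) := by
    apply Set.eq_of_subset_of_ncard_le hOX _ (Set.toFinite _)
    rw [Set.ncard_coe_finset, hXcard, hO210]
  have m1 : ((v, w) : V × V) ∈ orbit K ((a, b) : V × V) := by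
    rw [hOeq, Finset.mem_coe, hXmem]; exact ⟨hv, hw, hvw⟩
  have m2 : ((v', w') : V × V) ∈ orbit K ((a, b) : V × V) := by
    rw [hOeq, Finset.mem_coe, hXmem]; exact ⟨hv', hw', hvw'⟩
  obtain ⟨g1, hg1⟩ := m1
  obtain ⟨g2, hg2⟩ := m2
  have e1 : g1 • a = v := congrArg Prod.fst hg1
  have e2 : g1 • b = w := congrArg Prod.snd hg1
  have e3 : g2 • a = v' := congrArg Prod.fst hg2
  have e4 : g2 • b = w' := congrArg Prod.snd hg2
  refine ⟨g2 * g1⁻¹, ?_, ?_⟩
  · rw [← e1, mul_smul, inv_smul_smul, e3]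
  · rw [← e2, mul_smul, inv_smul_smul, e4]

end T

section inst

open Cfsg.Agent.S3335 Cfsg.Agent.Lib.Helper21.AltPres

lemma alt_embed {X : Type*} [Group X] (k : ℕ) (hk : 3 ≤ k) (f : Fin k → X)
    (hf : Sat k f) (hne : ∃ i, f i ≠ 1) :
    ∃ φ : alternatingGroup (Fin (k + 2)) →* X, Function.Injective φ := by
  obtain ⟨e⟩ := main k
  obtain ⟨φ, hφ⟩ : ∃ φ : alternatingGroup (Fin (k + 2)) →* X,
      φ = (PresentedGroup.toGroup hf.lift).comp e.symm.toMonoidHom := ⟨_, rfl⟩
  haveI : IsSimpleGroup (alternatingGroup (Fin (k + 2))) :=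
    alternatingGroup.isSimpleGroup (by simp; omega)
  refine ⟨φ, ?_⟩
  rw [← MonoidHom.ker_eq_bot_iff]
  rcases Subgroup.Normal.eq_bot_or_eq_top (H := φ.ker) inferInstance with h | h
  · exact h
  · exfalso
    obtain ⟨i, hi⟩ := hne
    apply hi
    have h1 : e (PresentedGroup.of i) ∈ φ.ker := by rw [h]; trivial
    rw [MonoidHom.mem_ker, hφ] at h1
    simpa using h1

lemma sat5 : Sat 5 (fun i : Fin 5 => Cfsg.Agent.S0256.f i.castSucc) where
  h3 i hi := Cfsg.Agent.S0256.sat_f.h3 i.castSucc hi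
  h2 i hi := Cfsg.Agent.S0256.sat_f.h2 i.castSucc hi
  hb i j hij := Cfsg.Agent.S0256.sat_f.hb i.castSucc j.castSucc hij
  hc i j hij := Cfsg.Agent.S0256.sat_f.hc i.castSucc j.castSucc hij

variable {F : Type*} [Field F]

/-- the natural action of a subgroup of `GL₄(F)` on column vectors -/
def actH (H : Subgroup (Matrix.GeneralLinearGroup (Fin 4) F)) :
    DistribMulAction H (Fin 4 → F) where
  smul g v := ((g : Matrix.GeneralLinearGroup (Fin 4) F) : Matrix (Fin 4) (Fin 4) F).mulVec v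
  one_smul v := Matrix.one_mulVec v
  mul_smul g h v := by
    show (((g * h : H) : Matrix.GeneralLinearGroup (Fin 4) F) : Matrix (Fin 4) (Fin 4) F).mulVec v =
      ((g : Matrix.GeneralLinearGroup (Fin 4) F) : Matrix (Fin 4) (Fin 4) F).mulVec
        (((h : Matrix.GeneralLinearGroup (Fin 4) F) : Matrix (Fin 4) (Fin 4) F).mulVec v)
    rw [Matrix.mulVec_mulVec]
    rfl
  smul_zero g := Matrix.mulVec_zero _
  smul_add g v w := Matrix.mulVec_add _ v w

lemma actH_faithful (H : Subgroup (Matrix.GeneralLinearGroup (Fin 4) F)) :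
    @FaithfulSMul H (Fin 4 → F) (actH H).toSMul := by
  refine @FaithfulSMul.mk _ _ (actH H).toSMul ?_
  intro g h hgh
  apply Subtype.ext
  apply Units.ext
  ext i j
  have h1 : ((g : Matrix.GeneralLinearGroup (Fin 4) F) : Matrix (Fin 4) (Fin 4) F).mulVec
      (Pi.single j 1) = ((h : Matrix.GeneralLinearGroup (Fin 4) F) :
        Matrix (Fin 4) (Fin 4) F).mulVec (Pi.single j 1) := hgh (Pi.single j 1)
  have h2 := congrFun h1 i
  simpa [Matrix.mulVec_single_one] using h2

end inst

/-- Let F be the field with 2 elements. GL_4(F) (≅ A_8) has a subgroup isomorphic to the alternating group A_7, and every such subgroup acts 2-transitively on the 15 non-zero vectors of F⁴: any ordered pair of distinct non-zero vectors is carried to any other by some element of the subgroup. -/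
theorem result {F : Type*} [Field F] [Fintype F] (hF : Fintype.card F = 2) : (∃ H : Subgroup (Matrix.GeneralLinearGroup (Fin 4) F), Nonempty (H ≃* alternatingGroup (Fin 7))) ∧ ∀ H : Subgroup (Matrix.GeneralLinearGroup (Fin 4) F), Nonempty (H ≃* alternatingGroup (Fin 7)) → ∀ v w v' w' : Fin 4 → F, v ≠ 0 → w ≠ 0 → v ≠ w → v' ≠ 0 → w' ≠ 0 → v' ≠ w' → ∃ g ∈ H, (g : Matrix (Fin 4) (Fin 4) F).mulVec v = v' ∧ (g : Matrix (Fin 4) (Fin 4) F).mulVec w = w' := by
  constructor
  · obtain ⟨φ⟩ : Nonempty (ZMod 2 ≃+* F) := ⟨ZMod.ringEquivOfPrime F Nat.prime_two hF⟩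
    have hsat := Cfsg.Agent.Lib.Helper21.AltPres.Sat.map
      (Cfsg.Agent.Lib.Helper21.AltPres.Sat.map sat5 (Matrix.SpecialLinearGroup.map φ.toRingHom))
      (Matrix.SpecialLinearGroup.toGL (n := Fin 4) (R := F))
    obtain ⟨ψ, hψ⟩ := alt_embed 5 (by norm_num) _ hsat ⟨0, by
      intro h
      have h1 := congrArg (fun g : Matrix.GeneralLinearGroup (Fin 4) F =>
        (g : Matrix (Fin 4) (Fin 4) F) 0 0) h
      have h2 : φ (Cfsg.Agent.S0256.M 0 0 0) = 1 := h1
      have h3 : Cfsg.Agent.S0256.M 0 0 0 = 0 := by decide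
      rw [h3, map_zero] at h2
      exact zero_ne_one h2⟩
    exact ⟨ψ.range, ⟨(MonoidHom.ofInjective hψ).symm⟩⟩
  · rintro H ⟨e⟩ v w v' w' hv hw hvw hv' hw' hvw'
    have hK : Nat.card H = 2520 := by
      rw [Nat.card_congr e.toEquiv, nat_card_alternatingGroup]
      simp [Nat.factorial]
    have hV : Nat.card (Fin 4 → F) = 16 := by
      rw [Nat.card_eq_fintype_card, Fintype.card_fun, hF]
      simp
    obtain ⟨g, h1, h2⟩ := @two_trans H (Fin 4 → F) _ _ (actH H) (actH_faithful H) hK hV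
      v w v' w' hv hw hvw hv' hw' hvw'
    exact ⟨g.1, g.2, h1, h2⟩

end Cfsg.Agent.S2551
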