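import Cfsg.Statements.S2799
-- import your own Cfsg.Agent.* helpers here
import Cfsg.Agent.Lib.Helper13.JLoc

set_option autoImplicit false
open Cfsg

namespace Cfsg.Agent.S2799

open Cfsg.Agent.Lib.Helper13 Cfsg.Agent.Lib.Helper5 Cfsg.Agent.Lib.Helper17

open scoped commutatorElement in
theorem iter_eq_bot {L : Type*} [Group L] {X A : Subgroup L} (h : ⁅⁅X, A⁆, A⁆ = ⊥) :
    ∀ n : ℕ, Cfsg.iterCommutator X A (n + 2) = ⊥ := by
  intro n
  induction n with
  | zero => exact h
  | succ n ih =>
    show ⁅Cfsg.iterCommutator X A (n + 2), A⁆ = ⊥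
    rw [ih]
    simp

/-- Let S be a Sylow p-subgroup of the finite group G, J(S) the subgroup generated by the abelian subgroups of S of largest order, and x an element of S lying in the centre of N_G(J(S)). Assume that p is odd, or that x is a p-th power of an element of Z(S), or that the symmetric group of degree 4 is not involved in G. Then x is weakly closed in S with respect to G: every G-conjugate of x that lies in S equals x. -/
theorem result {G : Type*} [Group G] [Finite G] {p : ℕ} [Fact p.Prime] (S : Sylow p G) (x : G) (hxS : x ∈ (S : Subgroup G)) (hxZ : x ∈ (Subgroup.center ↥(Subgroup.normalizer ((Cfsg.thompsonSubgroupAOf (S : Subgroup G)) : Set G))).map (Subgroup.normalizer ((Cfsg.thompsonSubgroupAOf (S : Subgroup G)) : Set G)).subtype) (h : p ≠ 2 ∨ (∃ z ∈ (S : Subgroup G) ⊓ Subgroup.centralizer ((S : Subgroup G) : Set G), z ^ p = x) ∨ ¬ Cfsg.Involves (Equiv.Perm (Fin 4)) G) : ∀ g : G, g * x * g⁻¹ ∈ (S : Subgroup G) → g * x * g⁻¹ = x := by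
  have hW : Cfsg.IsConjugacyFunctor p (fun P : Subgroup G => Cfsg.thompsonSubgroupAOf P) :=
    induced_isConjugacyFunctor (X := G) (jA_char (p := p))
  have hWZ : ∀ P : Subgroup G, IsPGroup p ↥P → P ⊓ Subgroup.centralizer (P : Set G) ≤
      Cfsg.thompsonSubgroupAOf P := by
    intro P _ z hz
    obtain ⟨A₀, hA₀⟩ := maxQ_nonempty (Q := fun A : Subgroup G => IsMulCommutative A)
      (inferInstance : IsMulCommutative (⊥ : Subgroup G)) P
    rw [thompsonSubgroupAOf_eq]
    exact (le_sSup hA₀) (mem_of_mem_maxQ_comm hA₀ hz.1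
      (Subgroup.centralizer_le (SetLike.coe_subset_coe.mpr hA₀.1) hz.2))
  have hxN : Subgroup.normalizer ((Cfsg.thompsonSubgroupAOf (S : Subgroup G)) : Set G) ≤
      Subgroup.centralizer (Subgroup.zpowers x : Set G) := by
    obtain ⟨x', hx', rfl⟩ := hxZ
    intro n hn
    rw [mem_centralizer_zpowers]
    exact (congrArg Subtype.val ((Subgroup.mem_center_iff.mp hx') ⟨n, hn⟩)).symm
  have hSN : (S : Subgroup G) ≤
      Subgroup.normalizer ((Cfsg.thompsonSubgroupAOf (S : Subgroup G)) : Set G) :=
    Subgroup.le_normalizer.trans (normalizer_le_normalizer_functor hW S.2)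
  have hxZS : x ∈ (S : Subgroup G) ⊓ Subgroup.centralizer ((S : Subgroup G) : Set G) := by
    refine Subgroup.mem_inf.mpr ⟨hxS, ?_⟩
    rw [Subgroup.mem_centralizer_iff]
    intro s hs
    exact (mem_centralizer_zpowers.mp (hxN (hSN hs))).symm
  have hSi : ¬ p ∣ (S : Subgroup G).relIndex ⊤ := by
    rw [Subgroup.relIndex_top_right]; exact S.not_dvd_index
  intro g hg
  have hcj : cj (Subgroup.zpowers x) g⁻¹ ≤ S := by
    rw [← map_conj_eq_cj, MonoidHom.map_zpowers, Subgroup.zpowers_le]
    exact hg
  have h1 : g⁻¹ ∈ Subgroup.centralizer (Subgroup.zpowers x : Set G) := by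
    rcases h with hp | ⟨z, hz, hzx⟩ | hS4
    · refine weak_closure_LG _ hW hWZ (fun S => S ⊓ Subgroup.centralizer (S : Set G))
        (fun S => le_rfl)
        (fun S S₁ h1 h2 => le_inf h2 (inf_le_right.trans (Subgroup.centralizer_le h1)))
        (Subgroup.zpowers x) (Subgroup.centralizer (Subgroup.zpowers x : Set G))
        (Cfsg.Agent.Lib.Helper17.centralizer_le_normalizer' _)
        (fun H S hSH hS hSi hAζ hAR hAN hL => loc_elt _ ?_ x H S hSH hS hSi
          (hAζ (Subgroup.mem_zpowers x)) (hAR (Subgroup.mem_zpowers x)) hAN hL)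
        ⊤ S le_top S.2 hSi (Subgroup.zpowers_le.mpr hxZS) (inf_le_right.trans hxN) g⁻¹
        (Subgroup.mem_top _) hcj
      intro H T hTH hT hTi hn
      obtain ⟨y, hyT, hyR, hq⟩ := exists_quadratic_elt hW hTH hT hTi hn
      refine ⟨y, hyT, hyR, fun U V _ hUZ => ?_⟩
      have hp3 : 3 ≤ p := by
        have := (Fact.out : p.Prime).two_le
        omega
      obtain ⟨n, hn⟩ : ∃ n, p - 1 = n + 2 := ⟨p - 3, by omega⟩
      rw [hn, iter_eq_bot]
      · exact bot_le
      · rw [eq_bot_iff, ← hq]
        exact Subgroup.commutator_mono (Subgroup.commutator_mono hUZ le_rfl) le_rfl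
    · refine weak_closure_LG _ hW hWZ
        (fun S => Subgroup.closure ((fun z : G => z ^ p) ''
          ((S ⊓ Subgroup.centralizer (S : Set G) : Subgroup G) : Set G))) ?_ ?_
        (Subgroup.zpowers x) (Subgroup.centralizer (Subgroup.zpowers x : Set G))
        (Cfsg.Agent.Lib.Helper17.centralizer_le_normalizer' _)
        (fun H S hSH hS hSi hAζ hAR hAN hL => loc_pow _
          (fun H T hTH hT hTi hn => exists_quadratic_elt hW hTH hT hTi hn) _ _ le_rfl
          H S hSH hS hSi hAζ hAR hAN hL)
        ⊤ S le_top S.2 hSi ?_ (inf_le_right.trans hxN) g⁻¹ (Subgroup.mem_top _) hcj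
      · intro S
        rw [Subgroup.closure_le]
        rintro _ ⟨z, hz, rfl⟩
        exact Subgroup.pow_mem _ hz p
      · intro S S₁ h1 h2
        apply Subgroup.closure_mono
        apply Set.image_mono
        exact le_inf h2 (inf_le_right.trans (Subgroup.centralizer_le h1))
      · rw [Subgroup.zpowers_le]
        exact Subgroup.subset_closure ⟨z, hz, hzx⟩
    · by_cases hp : p = 2
      · subst hp
        exact weak_closure_LG _ hW hWZ (fun S => S ⊓ Subgroup.centralizer (S : Set G))
          (fun S => le_rfl)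
          (fun S S₁ h1 h2 => le_inf h2 (inf_le_right.trans (Subgroup.centralizer_le h1)))
          (Subgroup.zpowers x) (Subgroup.centralizer (Subgroup.zpowers x : Set G))
          (Cfsg.Agent.Lib.Helper17.centralizer_le_normalizer' _)
          (fun H S hSH hS hSi hAζ hAR hAN hL => loc_two hS4 hW x H S hSH hS hSi
            (hAζ (Subgroup.mem_zpowers x)) (hAR (Subgroup.mem_zpowers x)) hAN hL)
          ⊤ S le_top S.2 hSi (Subgroup.zpowers_le.mpr hxZS) (inf_le_right.trans hxN) g⁻¹
          (Subgroup.mem_top _) hcj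
      · refine weak_closure_LG _ hW hWZ (fun S => S ⊓ Subgroup.centralizer (S : Set G))
          (fun S => le_rfl)
          (fun S S₁ h1 h2 => le_inf h2 (inf_le_right.trans (Subgroup.centralizer_le h1)))
          (Subgroup.zpowers x) (Subgroup.centralizer (Subgroup.zpowers x : Set G))
          (Cfsg.Agent.Lib.Helper17.centralizer_le_normalizer' _)
          (fun H S hSH hS hSi hAζ hAR hAN hL => loc_elt _ ?_ x H S hSH hS hSi
            (hAζ (Subgroup.mem_zpowers x)) (hAR (Subgroup.mem_zpowers x)) hAN hL)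
          ⊤ S le_top S.2 hSi (Subgroup.zpowers_le.mpr hxZS) (inf_le_right.trans hxN) g⁻¹
          (Subgroup.mem_top _) hcj
        intro H T hTH hT hTi hn
        obtain ⟨y, hyT, hyR, hq⟩ := exists_quadratic_elt hW hTH hT hTi hn
        refine ⟨y, hyT, hyR, fun U V _ hUZ => ?_⟩
        have hp3 : 3 ≤ p := by
          have := (Fact.out : p.Prime).two_le
          omega
        obtain ⟨n, hn⟩ : ∃ n, p - 1 = n + 2 := ⟨p - 3, by omega⟩
        rw [hn, iter_eq_bot]
        · exact bot_le
        · rw [eq_bot_iff, ← hq]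
          exact Subgroup.commutator_mono (Subgroup.commutator_mono hUZ le_rfl) le_rfl
  have h2 := mem_centralizer_zpowers.mp h1
  calc g * x * g⁻¹ = g * (x * g⁻¹) := by group
    _ = g * (g⁻¹ * x) := by rw [h2]
    _ = x := by group

end Cfsg.Agent.S2799
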