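import Cfsg.Statements.S2800
import Cfsg.Agent.Lib.Helper17.ThA

set_option autoImplicit false
open Cfsg

namespace Cfsg.Agent.S2800

/-- Let S be a Sylow p-subgroup of the finite group G and J(S) the subgroup generated by the abelian subgroups of S of largest order. Suppose p is odd, or the symmetric group of degree 4 is not involved in G. If both C_G(Z(S)) and N_G(J(S)) have normal p-complements, then G has a normal p-complement. -/
theorem result {G : Type*} [Group G] [Finite G] {p : ℕ} [Fact p.Prime] (S : Sylow p G) (h : p ≠ 2 ∨ ¬ Cfsg.Involves (Equiv.Perm (Fin 4)) G) (hC : Cfsg.HasNormalPComplement p ↥(Subgroup.centralizer (((S : Subgroup G) ⊓ Subgroup.centralizer ((S : Subgroup G) : Set G) : Subgroup G) : Set G))) (hN : Cfsg.HasNormalPComplement p ↥(Subgroup.normalizer ((Cfsg.thompsonSubgroupAOf (S : Subgroup G)) : Set G))) : Cfsg.HasNormalPComplement p G := by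
  rw [Cfsg.Agent.Lib.Helper5.npc_iff] at hC hN ⊢
  refine Cfsg.Agent.Lib.Helper5.npc_functor2 (Cfsg.Agent.Lib.Helper17.jA_char (p := p))
    (Cfsg.Agent.Lib.Helper5.zF_char (p := p)) True
    (fun X _ => p ≠ 2 ∨ ¬ Cfsg.Involves (Equiv.Perm (Fin 4)) X) ?_ ?_ ?_ G h S S
    ⟨le_rfl, fun x _ g hg => hg⟩ (fun _ => rfl) hN
    (by rw [Cfsg.Agent.Lib.Helper5.iF_zF]; exact hC)
  · intro X _ M hX
    exact hX.imp id (fun h' h'' => h' (Cfsg.Agent.Lib.Helper17.involves_of_subgroup M h''))
  · intro X _ N _ hX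
    exact hX.imp id (fun h' h'' => h' (Cfsg.Agent.Lib.Helper17.involves_of_quotient N h''))
  · intro X _ _ hX T D _ hfull h1 h2 hc hq hco
    rw [hfull trivial] at h1 h2
    rw [Cfsg.Agent.Lib.Helper5.iF_zF] at h2
    rw [Cfsg.Agent.Lib.Helper17.iF_jA] at h1
    by_cases hp : p = 2
    · subst hp
      rcases hX with hp' | hS4
      · exact absurd rfl hp'
      · exact Cfsg.Agent.Lib.Helper17.final_thompsonA_two hS4 T h1 h2 hc hq hco
    · exact Cfsg.Agent.Lib.Helper17.final_thompsonA_odd hp T h1 h2 hc hq hco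

end Cfsg.Agent.S2800
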