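import Cfsg.Statements.S2804
import Cfsg.Agent.Lib.Helper17.Subn

set_option autoImplicit false
open Cfsg

namespace Cfsg.Agent.S2804

/-- Let L be a finite group and p a prime with C_L(O_p(L)) ≤ O_p(L), V a p-reduced normal subgroup of L and K a subnormal subgroup of L. Then [V, O^p(K)] is contained in K and is a p-reduced normal subgroup of K, where O^p(K) is the subgroup of K generated by its elements of order prime to p. -/
theorem result {L : Type*} [Group L] [Finite L] {p : ℕ} [Fact p.Prime] (hchar : Subgroup.centralizer (Cfsg.pCore p L : Set L) ≤ Cfsg.pCore p L) (V : Subgroup L) (hV : Cfsg.IsPReducedNormal p V) (K : Subgroup L) (hK : K.IsSubnormal) : ⁅V, (Cfsg.pResidual p ↥K).map K.subtype⁆ ≤ K ∧ Cfsg.IsPReducedNormal p ((⁅V, (Cfsg.pResidual p ↥K).map K.subtype⁆).subgroupOf K) := by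
  open Cfsg.Agent.Lib.Helper17 in
  have hV' : PRed p V ⊤ := isPReducedNormal_iff_top.mp hV
  set R := (pResidual p K).map K.subtype with hR
  have hVn : V.Normal := hV.1
  have hVcore : V ≤ pCore p L := by have := hV'.le_core; rwa [pCoreOf_top] at this
  have hVR : V ≤ Subgroup.normalizer (R : Set L) := hVcore.trans (pCore_le_normalizer_opOf hK)
  have hWR : ⁅V, R⁆ ≤ R := Subgroup.le_normalizer_iff_commutator_le_right.mp hVR
  have hRK : R ≤ K := pResidual_map_subtype_le p K
  have hWK : ⁅V, R⁆ ≤ K := hWR.trans hRK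
  refine ⟨hWK, ?_⟩
  rw [isPReducedNormal_iff, Subgroup.subgroupOf_map_subtype, inf_of_le_left hWK]
  have hWV : ⁅V, R⁆ ≤ V := Subgroup.commutator_le_left V R
  refine ⟨hWK, hV'.2.1.mono hWV,
    le_normalizer_commutator (le_top.trans hV'.2.2.1) (le_normalizer_opOf p K), ?_⟩
  intro D hDK hDn hp
  have hDsub : D.IsSubnormal := Subgroup.IsSubnormal.step D K hDK hK
    ((Subgroup.normal_subgroupOf_iff_le_normalizer hDK).mpr hDn)
  have h1 : D ≤ Subgroup.centralizer (V : Set L) := by
    apply hV'.2.2.subnormal_le hDsub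
    apply pMod_of_coprime_mem
    intro x hx hc
    obtain ⟨k, hk⟩ := hp x hx
    have hxW : x ∈ Subgroup.centralizer ((⁅V, R⁆ : Subgroup L) : Set L) :=
      mem_of_pow_p_pow_mem hc hk
    have hxR : x ∈ R := mem_opOf (hDK hx) hc
    rw [Subgroup.mem_centralizer_iff]
    intro v hv
    have hw : x * v * x⁻¹ * v⁻¹ ∈ ⁅V, R⁆ := by
      rw [Subgroup.commutator_comm]; exact Subgroup.commutator_mem_commutator hxR hv
    symm
    apply conj_eq_of_commute_of_coprime (k := 1) hc
    · rw [pow_one]; exact hV'.2.1.2 _ (hWV hw)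
    · exact (Subgroup.mem_centralizer_iff.mp hxW _ hw).symm
  exact h1.trans (Subgroup.centralizer_le hWV)

end Cfsg.Agent.S2804
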