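import Cfsg.Statements.S2805
import Cfsg.Agent.Lib.Helper17.Trace

set_option autoImplicit false
open Cfsg

namespace Cfsg.Agent.S2805

open Subgroup Cfsg.Agent.Lib.Helper17

variable {G : Type*} [Group G]

/-- equivariant averaging over the cosets of `T` in `L` -/
theorem trace_fix [Finite G] {L T V S : Subgroup G}
    (hV : ∀ a ∈ V, ∀ b ∈ V, a * b = b * a) (hLV : L ≤ normalizer (V : Set G))
    (hSV : S ≤ normalizer (V : Set G)) (hSL : S ≤ normalizer (L : Set G))
    (hST : S ≤ normalizer (T : Set G))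
    {z : G} (hz : z ∈ V) (hzT : ∀ t ∈ T, t * z = z * t)
    (hzS : ∀ s ∈ S, ∀ g ∈ L, g * (s * z * s⁻¹ * z⁻¹) = (s * z * s⁻¹ * z⁻¹) * g) :
    ∃ τ ∈ V, (∀ g ∈ L, g * τ = τ * g) ∧
      ∀ s ∈ S, s * (τ * (z ^ (T.relIndex L))⁻¹) = (τ * (z ^ (T.relIndex L))⁻¹) * s := by
  classical
  let _ : CommGroup V :=
    { (inferInstance : Group V) with mul_comm := fun a b => Subtype.ext (hV a a.2 b b.2) }
  let _ : Fintype (L ⧸ T.subgroupOf L) := Fintype.ofFinite _
  let cm : normalizer (V : Set G) → (V →* V) := fun g =>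
    { toFun := fun v => ⟨g * v * (g : G)⁻¹, conj_mem_of_le_normalizer le_rfl g.2 v.2⟩
      map_one' := by apply Subtype.ext; simp
      map_mul' := by intro a b; apply Subtype.ext; simp }
  have cm_val : ∀ (g : normalizer (V : Set G)) (v : V), ((cm g v : V) : G) = g * v * (g : G)⁻¹ :=
    fun _ _ => rfl
  let zz : V := ⟨z, hz⟩
  let f : L ⧸ T.subgroupOf L → V := fun q => cm ⟨q.out, hLV q.out.2⟩ zz
  have hf : ∀ g : L, f (QuotientGroup.mk g) = cm ⟨g, hLV g.2⟩ zz := by
    intro g
    obtain ⟨t, ht⟩ := QuotientGroup.mk_out_eq_mul (T.subgroupOf L) g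
    apply Subtype.ext
    show (((QuotientGroup.mk g : L ⧸ T.subgroupOf L).out : L) : G) * z *
      (((QuotientGroup.mk g : L ⧸ T.subgroupOf L).out : L) : G)⁻¹ = g * z * (g : G)⁻¹
    rw [ht]
    have h1 : ((t : L) : G) * z = z * ((t : L) : G) := hzT _ t.2
    show ((g : G) * ((t : L) : G)) * z * ((g : G) * ((t : L) : G))⁻¹ = g * z * (g : G)⁻¹
    calc ((g : G) * ((t : L) : G)) * z * ((g : G) * ((t : L) : G))⁻¹
        = (g : G) * (((t : L) : G) * z) * ((t : L) : G)⁻¹ * (g : G)⁻¹ := by group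
      _ = g * z * (g : G)⁻¹ := by rw [h1]; group
  have hcard : Fintype.card (L ⧸ T.subgroupOf L) = T.relIndex L := by
    rw [Subgroup.relIndex, Subgroup.index, Nat.card_eq_fintype_card]
  refine ⟨((∏ q, f q : V) : G), (∏ q, f q : V).2, ?_, ?_⟩
  · intro g hg
    have h1 : cm ⟨g, hLV hg⟩ (∏ q, f q) = ∏ q, f q := by
      rw [map_prod]
      rw [← Equiv.prod_comp (MulAction.toPerm (⟨g, hg⟩ : L)) f]
      apply Finset.prod_congr rfl
      intro q _
      induction q using QuotientGroup.induction_on with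
      | H a =>
        show cm ⟨g, hLV hg⟩ (f (QuotientGroup.mk a)) = f ((⟨g, hg⟩ : L) • (QuotientGroup.mk a))
        rw [MulAction.Quotient.smul_mk, hf, smul_eq_mul, hf]
        apply Subtype.ext
        simp [cm_val, mul_assoc]
    have h2 := congrArg Subtype.val h1
    have h3 : g * ((∏ q, f q : V) : G) * g⁻¹ = ((∏ q, f q : V) : G) := h2
    calc g * ((∏ q, f q : V) : G) = (g * ((∏ q, f q : V) : G) * g⁻¹) * g := by group
      _ = ((∏ q, f q : V) : G) * g := by rw [h3]
  · intro s hs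
    let e : L ≃ L :=
      { toFun := fun g => ⟨s * g * s⁻¹, conj_mem_of_le_normalizer hSL hs g.2⟩
        invFun := fun g => ⟨s⁻¹ * g * s, by
          have := conj_mem_of_le_normalizer hSL (S.inv_mem hs) g.2
          rwa [inv_inv] at this⟩
        left_inv := by intro g; apply Subtype.ext; simp [mul_assoc]
        right_inv := by intro g; apply Subtype.ext; simp [mul_assoc] }
    let σ : L ⧸ T.subgroupOf L ≃ L ⧸ T.subgroupOf L := Quotient.congr e (by
      intro a b
      show QuotientGroup.leftRel (T.subgroupOf L) a b ↔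
        QuotientGroup.leftRel (T.subgroupOf L) (e a) (e b)
      rw [QuotientGroup.leftRel_apply, QuotientGroup.leftRel_apply, mem_subgroupOf, mem_subgroupOf]
      have e1 : (((e a)⁻¹ * e b : L) : G) = s * ((a⁻¹ * b : L) : G) * s⁻¹ := by
        show (s * (a : G) * s⁻¹)⁻¹ * (s * (b : G) * s⁻¹) = s * ((a : G)⁻¹ * (b : G)) * s⁻¹
        group
      rw [e1]
      exact mem_normalizer_iff.mp (hST hs) _)
    let a : V := cm ⟨s, hSV hs⟩ zz * zz⁻¹
    have ha : ∀ g ∈ L, g * (a : G) = (a : G) * g := fun g hg => hzS s hs g hg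
    have h1 : ∀ q, cm ⟨s, hSV hs⟩ (f q) = f (σ q) * a := by
      intro q
      induction q using QuotientGroup.induction_on with
      | H g =>
        have e2 : σ (QuotientGroup.mk g) = QuotientGroup.mk (e g) := rfl
        rw [e2, hf, hf]
        apply Subtype.ext
        have h3 := ha _ (e g).2
        show s * ((g : G) * z * (g : G)⁻¹) * s⁻¹ =
          ((e g : L) : G) * z * ((e g : L) : G)⁻¹ * (a : G)
        have h4 : ((e g : L) : G) * z * ((e g : L) : G)⁻¹ * (a : G)
            = ((e g : L) : G) * z * (((e g : L) : G)⁻¹ * (a : G)) := by group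
        have h5 : ((e g : L) : G)⁻¹ * (a : G) = (a : G) * ((e g : L) : G)⁻¹ := by
          have := congrArg (fun x => ((e g : L) : G)⁻¹ * x * ((e g : L) : G)⁻¹) h3
          simp only [mul_assoc, inv_mul_cancel_left, mul_inv_cancel, mul_one] at this
          exact this.symm
        rw [h4, h5]
        have h6 : z * (a : G) = s * z * s⁻¹ := by
          have : (a : G) = s * z * s⁻¹ * z⁻¹ := rfl
          have h7 := hV z hz a a.2
          rw [h7, this]; group
        calc s * ((g : G) * z * (g : G)⁻¹) * s⁻¹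
            = (s * (g : G) * s⁻¹) * (s * z * s⁻¹) * (s * (g : G) * s⁻¹)⁻¹ := by group
          _ = (s * (g : G) * s⁻¹) * (z * (a : G)) * (s * (g : G) * s⁻¹)⁻¹ := by rw [h6]
          _ = ((e g : L) : G) * z * ((a : G) * ((e g : L) : G)⁻¹) := by
              show _ = (s * (g : G) * s⁻¹) * z * ((a : G) * (s * (g : G) * s⁻¹)⁻¹)
              group
    have h2 : cm ⟨s, hSV hs⟩ (∏ q, f q) = (∏ q, f q) * a ^ (T.relIndex L) := by
      rw [map_prod, Finset.prod_congr rfl (fun q _ => h1 q), Finset.prod_mul_distrib,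
        Finset.prod_const, Finset.card_univ, hcard, Equiv.prod_comp σ f]
    have h3 : cm ⟨s, hSV hs⟩ (zz ^ (T.relIndex L)) = zz ^ (T.relIndex L) * a ^ (T.relIndex L) := by
      rw [map_pow, ← mul_pow]
      congr 1
      show _ = zz * (cm ⟨s, hSV hs⟩ zz * zz⁻¹)
      rw [mul_comm zz, inv_mul_cancel_right]
    have h4 : cm ⟨s, hSV hs⟩ ((∏ q, f q) * (zz ^ (T.relIndex L))⁻¹)
        = (∏ q, f q) * (zz ^ (T.relIndex L))⁻¹ := by
      rw [map_mul, map_inv, h2, h3, mul_inv, mul_mul_mul_comm, mul_inv_cancel, mul_one]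
    have h5 := congrArg Subtype.val h4
    have h6 : s * (((∏ q, f q : V) : G) * (z ^ (T.relIndex L))⁻¹) * s⁻¹
        = ((∏ q, f q : V) : G) * (z ^ (T.relIndex L))⁻¹ := h5
    calc s * (((∏ q, f q : V) : G) * (z ^ (T.relIndex L))⁻¹)
        = (s * (((∏ q, f q : V) : G) * (z ^ (T.relIndex L))⁻¹) * s⁻¹) * s := by group
      _ = _ := by rw [h6]

theorem key2 [Finite G] {p : ℕ} [Fact p.Prime] {C R S A : Subgroup G} (hR : IsSyl p R C)
    (hA : EA p A) (hCA : C ≤ normalizer (A : Set G)) (hSA : S ≤ normalizer (A : Set G))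
    (hSC : S ≤ normalizer (C : Set G)) (hSR : S ≤ normalizer (R : Set G))
    (hfix : ∀ a ∈ A, (∀ s ∈ S, s * a = a * s) → ∀ g ∈ C, g * a = a * g)
    {f : G} (hf : f ∈ A) (hfR : ∀ t ∈ R, t * f = f * t)
    (hfS : ∀ s ∈ S, ∀ g ∈ C, g * (s * f * s⁻¹ * f⁻¹) = (s * f * s⁻¹ * f⁻¹) * g) :
    ∀ g ∈ C, g * f = f * g := by
  obtain ⟨τ, hτA, hτC, hτS⟩ := trace_fix hA.1 hCA hSA hSC hSR hf hfR hfS
  intro g hg
  have h1 := hfix _ (A.mul_mem hτA (A.inv_mem (A.pow_mem hf _))) hτS g hg
  have c1 : Commute g τ := hτC g hg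
  have c2 : Commute g (τ * (f ^ (R.relIndex C))⁻¹) := h1
  have c3 : Commute g (f ^ (R.relIndex C)) := by
    have : f ^ (R.relIndex C) = (τ * (f ^ (R.relIndex C))⁻¹)⁻¹ * τ := by group
    rw [this]
    exact c2.inv_right.mul_right c1
  obtain ⟨m, hm⟩ := exists_pow_eq_self_of_coprime
    (coprime_orderOf_of_pow_eq_one (hA.2 f hf) hR.not_dvd_relIndex)
  have c4 := c3.pow_right m
  rw [hm] at c4
  exact c4

theorem key3 [Finite G] {p : ℕ} [Fact p.Prime] {C R S A U : Subgroup G} (hR : IsSyl p R C)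
    (hA : EA p A) (hCA : C ≤ normalizer (A : Set G)) (hSA : S ≤ normalizer (A : Set G))
    (hSC : S ≤ normalizer (C : Set G)) (hSR : S ≤ normalizer (R : Set G))
    (hfix : ∀ a ∈ A, (∀ s ∈ S, s * a = a * s) → ∀ g ∈ C, g * a = a * g)
    (hSp : IsPGroup p S) (hUA : U ≤ A) (hUS : U ≤ S) (hSU : S ≤ normalizer (U : Set G))
    (hUR : U ≤ centralizer (R : Set G)) : U ≤ centralizer (C : Set G) := by
  by_contra hcon
  obtain ⟨Y, hY⟩ := Set.Finite.exists_minimal
    (s := {Y : Subgroup G | Y ≤ U ∧ S ≤ normalizer (Y : Set G) ∧ ¬ Y ≤ centralizer (C : Set G)})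
    (Set.toFinite _) ⟨U, le_rfl, hSU, hcon⟩
  obtain ⟨⟨hYU, hSY, hYC⟩, hmin⟩ := hY
  have hne : Y ≠ ⊥ := by
    rintro rfl
    exact hYC bot_le
  have h1 : ⁅Y, S⁆ ≤ Y := commutator_le_left_of_le_normalizer hSY
  have h2 : ⁅Y, S⁆ ≠ Y := commutator_ne_self_of_isPGroup hSp (hYU.trans hUS) hne
  have h3 : ⁅Y, S⁆ ≤ centralizer (C : Set G) := by
    by_contra h4
    have h5 := hmin (y := ⁅Y, S⁆) ⟨h1.trans hYU, le_normalizer_commutator hSY le_normalizer, h4⟩ h1
    exact h2 (le_antisymm h1 h5)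
  apply hYC
  intro f hf
  rw [mem_centralizer_iff]
  intro g hg
  apply key2 hR hA hCA hSA hSC hSR hfix (hUA (hYU hf)) _ _ g hg
  · intro t ht
    exact mem_centralizer_iff.mp (hUR (hYU hf)) t ht
  · intro s hs g hg
    have h6 : s * f * s⁻¹ * f⁻¹ ∈ ⁅Y, S⁆ := by
      rw [commutator_comm]
      exact commutator_mem_commutator hs hf
    exact mem_centralizer_iff.mp (h3 h6) g hg

theorem mem_omegaZ {p : ℕ} {S : Subgroup G} {z : G} (h1 : z ∈ S) (h2 : ∀ s ∈ S, s * z = z * s)
    (h3 : z ^ p = 1) : z ∈ omegaOne p (S ⊓ centralizer (S : Set G)) :=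
  subset_closure ⟨⟨h1, mem_centralizer_iff.mpr h2⟩, h3⟩

theorem le_centralizer_omegaZ {p : ℕ} {S X : Subgroup G}
    (h : ∀ z ∈ S, (∀ s ∈ S, s * z = z * s) → z ^ p = 1 → ∀ x ∈ X, x * z = z * x) :
    X ≤ centralizer (omegaOne p (S ⊓ centralizer (S : Set G)) : Set G) := by
  rw [le_centralizer_iff]
  unfold omegaOne
  rw [closure_le]
  rintro z ⟨⟨hzS, hzc⟩, hzp⟩
  exact mem_centralizer_iff.mpr (h z hzS (mem_centralizer_iff.mp hzc) hzp)

theorem step [Finite G] {p : ℕ} [Fact p.Prime] {K M S : Subgroup G} (hKM : K ≤ M)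
    (hn : M ≤ normalizer (K : Set G))
    (hM : M ⊓ centralizer (pCoreOf p M : Set G) ≤ pCoreOf p M) (hS : IsSyl p S M) :
    K ⊓ centralizer (omegaOne p (S ⊓ centralizer (S : Set G)) : Set G) =
      K ⊓ centralizer
        (omegaOne p ((S ⊓ K) ⊓ centralizer ((S ⊓ K : Subgroup G) : Set G)) : Set G) := by
  have hR : IsSyl p (S ⊓ K) K := hS.inf_normal hKM hn
  set R := S ⊓ K with hRdef
  apply le_antisymm
  · refine le_inf inf_le_left ?_
    set Z := omegaOne p (S ⊓ centralizer (S : Set G)) with hZ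
    set C := K ⊓ centralizer (Z : Set G) with hC
    set QK := pCoreOf p K with hQK
    set A := omegaOne p (QK ⊓ centralizer (QK : Set G)) with hA
    rw [le_centralizer_iff]
    have hK : K ⊓ centralizer (QK : Set G) ≤ QK := charP_of_normal hKM hn hM
    have hSK : S ≤ normalizer (K : Set G) := hS.le.trans hn
    have hSZ : S ≤ normalizer (Z : Set G) :=
      le_normalizer_omegaOne (le_normalizer_center le_normalizer)
    have hZS : Z ≤ centralizer (S : Set G) := (omegaOne_le p _).trans inf_le_right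
    have hRC : R ≤ C := le_inf inf_le_right (by
      rw [le_centralizer_iff]
      exact hZS.trans (centralizer_le (inf_le_left : R ≤ S)))
    have hQR : QK ≤ R := pCoreOf_le_isSyl hR
    have hSR : S ≤ normalizer (R : Set G) := le_normalizer_inf le_normalizer hSK
    apply key3 (S := S) (A := A) (hR.of_le hRC inf_le_left) (ea_omegaOne_center p QK)
    · exact inf_le_left.trans
        (le_normalizer_omegaOne (le_normalizer_center (le_normalizer_pCoreOf p K)))
    · exact le_normalizer_omegaOne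
        (le_normalizer_center (hSK.trans (normalizer_le_normalizer_pCoreOf p K)))
    · exact le_normalizer_inf hSK
        (hSZ.trans (Cfsg.Agent.Lib.Helper17.normalizer_le_normalizer_centralizer Z))
    · exact hSR
    · intro a ha hs g hg
      have haS : a ∈ S := (hQR (((omegaOne_le p _).trans inf_le_left) ha)).1
      have haZ : a ∈ Z := mem_omegaZ haS hs ((ea_omegaOne_center p QK).2 a ha)
      exact (mem_centralizer_iff.mp hg.2 a haZ).symm
    · exact hS.isPGroup
    · unfold omegaOne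
      rw [closure_le]
      rintro u ⟨⟨huR, huc⟩, hup⟩
      have h1 : u ∈ centralizer (QK : Set G) := centralizer_le hQR huc
      exact subset_closure ⟨⟨hK ⟨huR.2, h1⟩, h1⟩, hup⟩
    · exact (omegaOne_le p _).trans (inf_le_left.trans inf_le_left)
    · exact le_normalizer_omegaOne (le_normalizer_center hSR)
    · exact (omegaOne_le p _).trans inf_le_right
  · refine le_inf inf_le_left ?_
    apply le_centralizer_omegaZ
    intro z hzS hzc hzp x hx
    set Q := pCoreOf p M with hQ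
    set V := omegaOne p (Q ⊓ centralizer (Q : Set G)) with hV
    have hQS : Q ≤ S := pCoreOf_le_isSyl hS
    have hzQc : z ∈ centralizer (Q : Set G) :=
      mem_centralizer_iff.mpr (fun s hs => hzc s (hQS hs))
    have hzQ : z ∈ Q := hM ⟨hS.le hzS, hzQc⟩
    have hzV : z ∈ V := subset_closure ⟨⟨hzQ, hzQc⟩, hzp⟩
    have hMV : M ≤ normalizer (V : Set G) :=
      le_normalizer_omegaOne (le_normalizer_center (le_normalizer_pCoreOf p M))
    obtain ⟨τ, hτV, hτK, w, hw, e⟩ := trace_syl hR (ea_omegaOne_center p Q) (hKM.trans hMV) hzV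
      (fun t ht => hzc t ht.1)
    have hVS : V ≤ S := ((omegaOne_le p _).trans inf_le_left).trans hQS
    have hwV : w ∈ V := commutator_le_left_of_le_normalizer
      ((pResidual_map_subtype_le p K).trans (hKM.trans hMV)) hw
    have hwK : w ∈ K :=
      ((commutator_mono le_rfl (pResidual_map_subtype_le p K)).trans
        (le_normalizer_iff_commutator_le_right.mp ((hVS.trans hS.le).trans hn))) hw
    have ew : w = τ⁻¹ * z := by rw [e]; group
    have hwR : ∀ t ∈ R, t * w = w * t := by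
      intro t ht
      have c1 : Commute t τ := hτK t ht.2
      have c2 : Commute t z := hzc t ht.1
      rw [ew]
      exact c1.inv_right.mul_right c2
    have hwZ := mem_omegaZ (S := R) ⟨hVS hwV, hwK⟩ hwR ((ea_omegaOne_center p Q).2 w hwV)
    have c1 : Commute x τ := hτK x hx.1
    have c2 : Commute x w := (mem_centralizer_iff.mp hx.2 w hwZ).symm
    rw [e]
    exact c1.mul_right c2

theorem main [Finite G] {p : ℕ} [Fact p.Prime] {T : Subgroup G} (hT : IsSyl p T ⊤)
    (hG : centralizer (pCore p G : Set G) ≤ pCore p G) {L : Subgroup G} (hL : L.IsSubnormal) :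
    IsSyl p (T ⊓ L) L ∧
    L ⊓ centralizer (omegaOne p (T ⊓ centralizer (T : Set G)) : Set G) =
      L ⊓ centralizer
        (omegaOne p ((T ⊓ L) ⊓ centralizer ((T ⊓ L : Subgroup G) : Set G)) : Set G) := by
  induction hL with
  | top => rw [inf_top_eq]; exact ⟨hT, rfl⟩
  | step H K h_le hK hN ih =>
    have hn : K ≤ normalizer (H : Set G) := (normal_subgroupOf_iff_le_normalizer h_le).mp hN
    have e1 : (T ⊓ K) ⊓ H = T ⊓ H := by rw [inf_assoc, inf_eq_right.mpr h_le]
    have h1 := step h_le hn (charP_of_subnormal hK hG) ih.1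
    have h2 := ih.1.inf_normal h_le hn
    rw [e1] at h1 h2
    refine ⟨h2, ?_⟩
    rw [← h1, ← inf_eq_left.mpr h_le, inf_assoc, ih.2, ← inf_assoc]

/-- Kieler's Lemma: let H be a finite group of characteristic p (C_H(O_p(H)) ≤ O_p(H)), T a Sylow p-subgroup of H and L a subnormal subgroup of H. Then C_L(Ω₁(Z(T))) = C_L(Ω₁(Z(T ∩ L))), Ω₁(Z(·)) denoting the elements of order dividing p in the centre. -/
theorem result {H : Type*} [Group H] [Finite H] {p : ℕ} [Fact p.Prime] (hH : Subgroup.centralizer (Cfsg.pCore p H : Set H) ≤ Cfsg.pCore p H) (T : Sylow p H) (L : Subgroup H) (hL : L.IsSubnormal) : L ⊓ Subgroup.centralizer ((Cfsg.omegaOne p ((T : Subgroup H) ⊓ Subgroup.centralizer ((T : Subgroup H) : Set H))) : Set H) = L ⊓ Subgroup.centralizer ((Cfsg.omegaOne p (((T : Subgroup H) ⊓ L) ⊓ Subgroup.centralizer ((((T : Subgroup H) ⊓ L) : Subgroup H) : Set H))) : Set H) := by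
  exact (main (isSyl_top T) hH hL).2

end Cfsg.Agent.S2805
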