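import Cfsg.Statements.S2810
import Cfsg.Agent.Lib.Helper17.Core

set_option autoImplicit false
open Cfsg

namespace Cfsg.Agent.S2810

open Cfsg.Agent.Lib.Helper17 in
open scoped commutatorElement in
theorem le_sectionKernel_iff {G : Type*} [Group G] (K N L : Subgroup G) [N.Normal] :
    L ≤ Cfsg.sectionKernel K N ↔ ⁅K, L⁆ ≤ N := by
  rw [Subgroup.commutator_le]
  unfold Cfsg.sectionKernel
  constructor
  · intro h k hk l hl
    have h1 := h hl
    rw [Subgroup.mem_comap, Subgroup.mem_centralizer_iff] at h1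
    have h2 := h1 (QuotientGroup.mk' N k) ⟨k, hk, rfl⟩
    rw [← QuotientGroup.eq_one_iff, commutatorElement_def]
    have h3 : (QuotientGroup.mk' N k) * (QuotientGroup.mk' N l) * (QuotientGroup.mk' N k)⁻¹ *
        (QuotientGroup.mk' N l)⁻¹ = 1 := by
      rw [h2]; group
    simpa using h3
  · intro h l hl
    rw [Subgroup.mem_comap, Subgroup.mem_centralizer_iff]
    rintro _ ⟨k, hk, rfl⟩
    have h1 := h k hk l hl
    rw [← QuotientGroup.eq_one_iff, commutatorElement_def] at h1
    have h3 : (QuotientGroup.mk' N k) * (QuotientGroup.mk' N l) * (QuotientGroup.mk' N k)⁻¹ *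
        (QuotientGroup.mk' N l)⁻¹ = 1 := by
      simpa using h1
    calc (QuotientGroup.mk' N k) * (QuotientGroup.mk' N l)
        = ((QuotientGroup.mk' N k) * (QuotientGroup.mk' N l) * (QuotientGroup.mk' N k)⁻¹ *
        (QuotientGroup.mk' N l)⁻¹) * ((QuotientGroup.mk' N l) * (QuotientGroup.mk' N k)) := by group
      _ = (QuotientGroup.mk' N l) * (QuotientGroup.mk' N k) := by rw [h3, one_mul]

theorem sectionKernel_normal {G : Type*} [Group G] (K N : Subgroup G) [N.Normal] [K.Normal] :
    (Cfsg.sectionKernel K N).Normal := by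
  unfold Cfsg.sectionKernel
  have : (K.map (QuotientGroup.mk' N)).Normal :=
    Subgroup.Normal.map inferInstance _ (QuotientGroup.mk'_surjective N)
  infer_instance

/-- Let H be a finite group of characteristic p and L a subgroup of H centralizing every factor of some H-invariant chain 1 = A₀ ≤ A₁ ≤ … ≤ Aₙ = O_p(H) of normal subgroups (that is, [A_{i+1}, L] ≤ Aᵢ for each i). Then L ≤ O_p(H). -/
theorem result {H : Type*} [Group H] [Finite H] {p : ℕ} [Fact p.Prime] (hchar : Subgroup.centralizer (Cfsg.pCore p H : Set H) ≤ Cfsg.pCore p H) (L : Subgroup H) (n : ℕ) (A : Fin (n + 1) → Subgroup H) (h0 : A 0 = ⊥) (hn : A (Fin.last n) = Cfsg.pCore p H) (hmono : Monotone A) (hnorm : ∀ i, (A i).Normal) (hcent : ∀ i : Fin n, ⁅A i.succ, L⁆ ≤ A i.castSucc) : L ≤ Cfsg.pCore p H := by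
  open Cfsg.Agent.Lib.Helper17 in
  have hn' : ∀ i, (A i).Normal := hnorm
  let C : Subgroup H := ⨅ i : Fin n,
    haveI := hnorm i.castSucc
    Cfsg.sectionKernel (A i.succ) (A i.castSucc)
  have hCn : C.Normal := by
    apply Subgroup.normal_iInf_normal
    intro i
    haveI := hnorm i.castSucc
    haveI := hnorm i.succ
    exact sectionKernel_normal _ _
  have hLC : L ≤ C := by
    apply le_iInf
    intro i
    haveI := hnorm i.castSucc
    exact (le_sectionKernel_iff _ _ _).mpr (hcent i)
  have hCc : ∀ i : Fin n, ⁅A i.succ, C⁆ ≤ A i.castSucc := by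
    intro i
    haveI := hnorm i.castSucc
    exact (le_sectionKernel_iff _ _ _).mp (iInf_le _ i)
  let R : ℕ → Subgroup H := fun j => A ⟨n - j, Nat.lt_succ_of_le (Nat.sub_le n j)⟩
  have hR0 : R 0 = Cfsg.pCore p H := by
    rw [← hn]; rfl
  have hCp : IsPGroup p C := by
    refine isPGroup_of_stab_chain (R := R) (n := n) ?_ ?_ ?_ ?_ ?_
    · rw [hR0]; exact pCore_isPGroup
    · intro i
      apply hmono
      show (⟨n - i, _⟩ : Fin (n+1)) ≤ ⟨n - 0, _⟩
      simp [Fin.le_def]
    · show A ⟨n - n, _⟩ = ⊥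
      rw [← h0]; congr 1; simp
    · intro j
      by_cases hj : j < n
      · have := hCc ⟨n - j - 1, by omega⟩
        have e1 : (⟨n - j - 1, by omega⟩ : Fin n).succ = ⟨n - j, Nat.lt_succ_of_le (Nat.sub_le n j)⟩ := by
          ext; simp; omega
        have e2 : (⟨n - j - 1, by omega⟩ : Fin n).castSucc =
            ⟨n - (j + 1), Nat.lt_succ_of_le (Nat.sub_le n (j + 1))⟩ := by
          ext; simp; omega
        rw [e1, e2] at this
        exact this
      · have e : R j = ⊥ := by
          show A ⟨n - j, _⟩ = ⊥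
          rw [← h0]; congr 1; ext; simp; omega
        rw [e, Subgroup.commutator_bot_left]
        exact bot_le
    · rw [hR0]
      exact pCore_isPGroup.to_le (inf_le_right.trans hchar)
  exact hLC.trans (le_pCore hCn hCp)

end Cfsg.Agent.S2810
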