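import Cfsg.Statements.S2813
import Cfsg.Agent.Lib.Helper17.Core

set_option autoImplicit false
open Cfsg

namespace Cfsg.Agent.S2813

/-- Let K be a subgroup of the finite group H with O_p(K) = 1 and Y a p-subgroup of N_H(K) with [K, Y, Y] = 1. Then [K, Y] = 1. -/
theorem result {H : Type*} [Group H] [Finite H] {p : ℕ} [Fact p.Prime] (K : Subgroup H) (hO : Cfsg.pCore p ↥K = ⊥) (Y : Subgroup H) (hY : IsPGroup p ↥Y) (hYK : Y ≤ Subgroup.normalizer (K : Set H)) (hq : ⁅⁅K, Y⁆, Y⁆ = ⊥) : ⁅K, Y⁆ = ⊥ := by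
  open Cfsg.Agent.Lib.Helper17 in
  open scoped commutatorElement in
  set D := ⁅K, Y⁆ with hD
  have hDK : D ≤ K := Subgroup.le_normalizer_iff_commutator_le_left.mp hYK
  have hKD : K ≤ Subgroup.normalizer (D : Set H) := Subgroup.normalizer_commutator_ge_left K Y
  have hYD : Y ≤ Subgroup.normalizer (D : Set H) := Subgroup.normalizer_commutator_ge_right K Y
  have hDY : D ≤ Subgroup.centralizer (Y : Set H) :=
    Subgroup.commutator_eq_bot_iff_le_centralizer.mp hq
  -- Y ⊴ M = D ⊔ Y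
  have hMY : D ⊔ Y ≤ Subgroup.normalizer (Y : Set H) :=
    sup_le (hDY.trans (centralizer_le_normalizer' Y)) Subgroup.le_normalizer
  -- M ⊴ X = K ⊔ Y
  have hKM : K ≤ Subgroup.normalizer ((D ⊔ Y : Subgroup H) : Set H) := by
    apply le_normalizer_of_conj_mem
    intro k hk x hx
    have hmap : (D ⊔ Y).map (MulAut.conj k).toMonoidHom ≤ D ⊔ Y := by
      rw [Subgroup.map_sup, map_conj_eq_of_mem_normalizer (hKD hk)]
      refine sup_le le_sup_left ?_
      rintro _ ⟨y, hy, rfl⟩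
      have e : (MulAut.conj k).toMonoidHom y = ⁅k, y⁆ * y := by
        simp [MulAut.conj_apply, commutatorElement_def]
      rw [e]
      exact (D ⊔ Y).mul_mem (Subgroup.mem_sup_left (Subgroup.commutator_mem_commutator hk hy))
        (Subgroup.mem_sup_right hy)
    exact hmap (conj_mem_map_conj hx)
  have hXM : K ⊔ Y ≤ Subgroup.normalizer ((D ⊔ Y : Subgroup H) : Set H) :=
    sup_le hKM (le_sup_right.trans Subgroup.le_normalizer)
  have hMX : D ⊔ Y ≤ K ⊔ Y := sup_le_sup_right hDK Y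
  have h1 : Y ≤ Cfsg.pCoreOf p (D ⊔ Y) := le_pCoreOf le_sup_right hMY hY
  have h2 : Y ≤ Cfsg.pCoreOf p (K ⊔ Y) := h1.trans (pCoreOf_le_pCoreOf_of_normal hMX hXM)
  have hXK : K ⊔ Y ≤ Subgroup.normalizer (K : Set H) := sup_le Subgroup.le_normalizer hYK
  have h3 : D ≤ Cfsg.pCoreOf p (K ⊔ Y) ⊓ K := by
    refine le_inf ?_ hDK
    exact (Subgroup.commutator_mono le_rfl h2).trans
      (Subgroup.le_normalizer_iff_commutator_le_right.mp
        (le_sup_left.trans (le_normalizer_pCoreOf p (K ⊔ Y))))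
  have h4 : D ≤ Cfsg.pCoreOf p K := h3.trans (inf_pCoreOf_le_pCoreOf le_sup_left)
  rw [pCoreOf_eq_bot_iff.mpr hO] at h4
  exact le_bot_iff.mp h4

end Cfsg.Agent.S2813
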