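import Cfsg.Statements.S2814
import Cfsg.Agent.Lib.Helper17.Subn

set_option autoImplicit false
open Cfsg

namespace Cfsg.Agent.S2814

/-- Let A be a subgroup of the finite group H and K the subnormal closure of A (intersection of the subnormal subgroups containing A). Then K is the normal closure of A inside K and N_H(A) ≤ N_H(K); K = A·O^p(K), O^p(K) being generated by the elements of K of order prime to p; and if A is a p-group, O^p(K) = [O^p(K), A]. -/
theorem result {H : Type*} [Group H] [Finite H] {p : ℕ} [Fact p.Prime] (A : Subgroup H) (K : Subgroup H) (hK : K = Cfsg.subnormalClosure A) : (Subgroup.normalClosure ((A.subgroupOf K : Subgroup ↥K) : Set ↥K)).map K.subtype = K ∧ Subgroup.normalizer (A : Set H) ≤ Subgroup.normalizer (K : Set H) ∧ A ⊔ (Cfsg.pResidual p ↥K).map K.subtype = K ∧ (IsPGroup p ↥A → ⁅(Cfsg.pResidual p ↥K).map K.subtype, A⁆ = (Cfsg.pResidual p ↥K).map K.subtype) := by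
  open Cfsg.Agent.Lib.Helper17 in
  subst hK
  set K := subnormalClosure A with hKdef
  have hKsub : K.IsSubnormal := subnormalClosure_isSubnormal A
  have hAK : A ≤ K := le_subnormalClosure A
  have hmin : ∀ U : Subgroup H, A ≤ U → U.IsSubnormal → K ≤ U :=
    fun U h1 h2 => subnormalClosure_le h1 h2
  set R := (pResidual p K).map K.subtype with hR
  have hRK : R ≤ K := pResidual_map_subtype_le p K
  have h3 : A ⊔ R = K := by
    apply le_antisymm (sup_le hAK hRK)
    apply hmin _ le_sup_left
    have hq : IsPGroup p (K ⧸ pResidual p K) := pResidual_quotient_isPGroup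
    have : Group.IsNilpotent (K ⧸ pResidual p K) := hq.isNilpotent
    have h4 : (((A.subgroupOf K).map (QuotientGroup.mk' (pResidual p K))).comap
        (QuotientGroup.mk' (pResidual p K))).IsSubnormal := (isSubnormal_of_isNilpotent _).comap _
    rw [Subgroup.comap_map_eq, QuotientGroup.ker_mk'] at h4
    have h5 := h4.trans' hKsub
    rwa [Subgroup.map_sup, Subgroup.subgroupOf_map_subtype, inf_of_le_left hAK] at h5
  refine ⟨?_, ?_, h3, ?_⟩
  · apply le_antisymm (Subgroup.map_subtype_le _)
    apply hmin
    · intro a ha
      exact ⟨⟨a, hAK ha⟩, Subgroup.subset_normalClosure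
        (show (⟨a, hAK ha⟩ : K) ∈ A.subgroupOf K from ha), rfl⟩
    · exact (Subgroup.normalClosure_normal.isSubnormal).trans' hKsub
  · intro g hg
    have key : ∀ g ∈ Subgroup.normalizer (A : Set H), K ≤ K.map (MulAut.conj g).toMonoidHom := by
      intro g hg
      apply hmin
      · calc A = A.map (MulAut.conj g).toMonoidHom := (map_conj_eq_of_mem_normalizer hg).symm
          _ ≤ _ := Subgroup.map_mono hAK
      · exact hKsub.map (MulAut.conj g).surjective
    rw [mem_normalizer_iff_map_conj]
    apply le_antisymm _ (key g hg)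
    have := key g⁻¹ (inv_mem hg)
    rw [le_map_conj_iff, inv_inv] at this
    exact this
  · intro hAp
    have hAnR : A ≤ Subgroup.normalizer (R : Set H) := hAK.trans (le_normalizer_opOf p K)
    have hCR : ⁅R, A⁆ ≤ R := Subgroup.le_normalizer_iff_commutator_le_left.mp hAnR
    apply le_antisymm hCR
    set C := ⁅R, A⁆ with hC
    have hAnC : A ≤ Subgroup.normalizer (C : Set H) := Subgroup.normalizer_commutator_ge_right R A
    have hRnC : R ≤ Subgroup.normalizer (C : Set H) := Subgroup.normalizer_commutator_ge_left R A
    have hKU : K ≤ Subgroup.normalizer ((A ⊔ C : Subgroup H) : Set H) := by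
      rw [← h3]
      apply sup_le (le_sup_left.trans Subgroup.le_normalizer)
      apply le_normalizer_of_conj_mem
      intro r hr x hx
      have : A ⊔ C ≤ (A ⊔ C).comap (MulAut.conj r).toMonoidHom := by
        apply sup_le
        · intro a ha
          show (MulAut.conj r) a ∈ A ⊔ C
          have e : (MulAut.conj r) a = (r * a * r⁻¹ * a⁻¹) * a := by simp
          rw [e]
          exact mul_mem (Subgroup.mem_sup_right (Subgroup.commutator_mem_commutator hr ha))
            (Subgroup.mem_sup_left ha)
        · intro c hc
          show (MulAut.conj r) c ∈ A ⊔ C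
          exact Subgroup.mem_sup_right (by simpa using conj_mem_of_le_normalizer hRnC hr hc)
      simpa using this hx
    have hUK : A ⊔ C ≤ K := sup_le hAK (hCR.trans hRK)
    have hKle : K ≤ A ⊔ C := hmin _ le_sup_left (Subgroup.IsSubnormal.step _ K hUK hKsub
      ((Subgroup.normal_subgroupOf_iff_le_normalizer hUK).mpr hKU))
    calc R ≤ opOf p (A ⊔ C) := pResidual_map_subtype_mono p hKle
      _ ≤ C := opOf_le_of_pMod ((pMod_of_isPGroup hAp C).sup hAnC)

end Cfsg.Agent.S2814
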