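import Cfsg.Statements.S2815
import Cfsg.Agent.Lib.Helper10.Components
import Cfsg.Agent.Lib.Helper17.PIrr

set_option autoImplicit false
open Cfsg

namespace Cfsg.Agent.S2815

/-- Let H be a finite group and p a prime dividing its order with O_p(H) = 1, and suppose K = O^p(H) (generated by the elements of order prime to p) is quasisimple. Then K = F*(H); for every nontrivial p-subgroup Y of H, K = [K, Y] and K lies in the subgroup generated by the K-conjugates of Y; every normal subgroup of H not containing K has order prime to p; and H is p-irreducible. -/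
theorem result {H : Type*} [Group H] [Finite H] {p : ℕ} [Fact p.Prime] (hp : p ∣ Nat.card H) (hO : Cfsg.pCore p H = ⊥) (hq : Cfsg.IsQuasisimple ↥(Cfsg.pResidual p H)) : Cfsg.pResidual p H = Cfsg.generalizedFittingSubgroup H ∧ (∀ Y : Subgroup H, IsPGroup p ↥Y → Y ≠ ⊥ → ⁅Cfsg.pResidual p H, Y⁆ = Cfsg.pResidual p H ∧ Cfsg.pResidual p H ≤ ⨆ k : ↥(Cfsg.pResidual p H), Y.map (MulAut.conj (k : H)).toMonoidHom) ∧ (∀ C : Subgroup H, C.Normal → ¬ Cfsg.pResidual p H ≤ C → (Nat.card ↥C).Coprime p) ∧ Cfsg.IsPIrreducible p H := by
  open Cfsg.Agent.Lib.Helper17 Cfsg.Agent.Lib.Helper10 in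
  open scoped commutatorElement in
  set K := Cfsg.pResidual p H with hKdef
  have hKn : K.Normal := pResidual_normal' p
  have hKc : Cfsg.IsComponent K := ⟨hKn.isSubnormal, hq⟩
  have hKperf : ⁅K, K⁆ = K := component_perfect hKc
  set C := Subgroup.centralizer (K : Set H) with hCdef
  have hCn : C.Normal := inferInstance
  -- Sylow p-subgroup of C is trivial
  obtain ⟨R, hR⟩ := exists_isSyl p C
  have hopC : opOf p C ≤ K ⊓ Subgroup.centralizer (C : Set H) := by
    rw [opOf, pResidual_map_subtype_le_iff]
    intro g hg hc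
    have hgK : g ∈ K := mem_pResidual_of_coprime hc
    refine ⟨hgK, ?_⟩
    show g ∈ Subgroup.centralizer (C : Set H)
    rw [Subgroup.mem_centralizer_iff]
    intro c hc'
    exact (Subgroup.mem_centralizer_iff.mp hc' g hgK).symm
  have hCle : C ≤ opOf p C ⊔ R := hR.le_sup_of_pMod (pMod_opOf p C)
  have hRbot : R = ⊥ := by
    have h1 : C ≤ Subgroup.normalizer (R : Set H) := by
      refine hCle.trans (sup_le ?_ Subgroup.le_normalizer)
      refine (hopC.trans inf_le_right).trans ?_
      exact (Subgroup.centralizer_le hR.le).trans (centralizer_le_normalizer' R)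
    have h2 : R ≤ Cfsg.pCoreOf p C := le_pCoreOf hR.le h1 hR.isPGroup
    have h3 := h2.trans (pCoreOf_le_pCore_of_subnormal hCn.isSubnormal)
    rw [hO] at h3
    exact le_bot_iff.mp h3
  have hCK : C ≤ K := by
    rw [hRbot, sup_bot_eq] at hCle
    exact hCle.trans (hopC.trans inf_le_left)
  have hCcop : (Nat.card C).Coprime p := by
    rw [Nat.coprime_comm, Nat.Prime.coprime_iff_not_dvd (Fact.out : p.Prime)]
    intro h
    exact hR.ne_bot h hRbot
  have h3 : ∀ N : Subgroup H, N.Normal → ¬ K ≤ N → (Nat.card ↥N).Coprime p := by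
    intro N hN hKN
    rcases component_le_or_commutator_eq_bot H K N hKc hN.isSubnormal with h | h
    · exact absurd h hKN
    · rw [Subgroup.commutator_comm, Subgroup.commutator_eq_bot_iff_le_centralizer] at h
      exact coprime_card_of_le h hCcop
  have hncl : ¬ Cfsg.IsPClosed p H := by
    intro hcl
    obtain ⟨P⟩ : Nonempty (Sylow p H) := inferInstance
    have h1 : (P : Subgroup H) ≤ Cfsg.pCore p H := le_pCore (hcl P) P.isPGroup'
    rw [hO] at h1
    exact (isSyl_top P).ne_bot (by rwa [Subgroup.card_top]) (le_bot_iff.mp h1)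
  refine ⟨?_, ?_, h3, hncl, ?_⟩
  · apply le_antisymm
    · exact (component_le_layer hKc).trans (layer_le_genFitting H)
    · unfold Cfsg.generalizedFittingSubgroup
      apply sup_le
      · rw [layer_le_iff]
        intro L hL
        rcases components_eq_or_commute hL hKc with h | h
        · exact h.le
        · rw [Subgroup.commutator_eq_bot_iff_le_centralizer] at h
          exact h.trans hCK
      · have h := component_commutator_fitting hKc
        rw [Subgroup.commutator_comm, Subgroup.commutator_eq_bot_iff_le_centralizer] at h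
        exact h.trans hCK
  · intro Y hY hYne
    have hKY : ⁅K, Y⁆ = K := by
      have hle : ⁅K, Y⁆ ≤ K := commutator_le_left_of_le_normalizer (top_le_normalizer_of_normal hKn Y)
      have hsn : (⁅K, Y⁆ : Subgroup H).IsSubnormal := by
        apply Subgroup.IsSubnormal.step _ K hle hKn.isSubnormal
        rw [Subgroup.normal_subgroupOf_iff_le_normalizer hle]
        apply le_normalizer_of_conj_mem
        intro k hk x hx
        have h1 : ⁅K, Y⁆ ≤ (⁅K, Y⁆ : Subgroup H).comap (MulAut.conj k).toMonoidHom := by
          rw [Subgroup.commutator_le]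
          intro a ha y hy
          show k * ⁅a, y⁆ * k⁻¹ ∈ ⁅K, Y⁆
          have e : k * ⁅a, y⁆ * k⁻¹ = ⁅k * a, y⁆ * ⁅k, y⁆⁻¹ := by
            simp only [commutatorElement_def]; group
          rw [e]
          exact Subgroup.mul_mem _ (Subgroup.commutator_mem_commutator (K.mul_mem hk ha) hy)
            (Subgroup.inv_mem _ (Subgroup.commutator_mem_commutator hk hy))
        exact h1 hx
      rcases component_le_or_commutator_eq_bot H K _ hKc hsn with h | h
      · exact le_antisymm hle h
      · exfalso
        have h1 : ⁅⁅K, K⁆, Y⁆ = ⊥ := by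
          apply Subgroup.commutator_commutator_eq_bot_of_rotate
          · rw [Subgroup.commutator_comm]; exact h
          · rw [Subgroup.commutator_comm Y K, Subgroup.commutator_comm]; exact h
        rw [hKperf, Subgroup.commutator_comm, Subgroup.commutator_eq_bot_iff_le_centralizer] at h1
        apply hYne
        have h2 := inf_eq_bot_of_coprime_of_isPGroup (coprime_card_of_le h1 hCcop) hY
        rwa [inf_idem] at h2
    refine ⟨hKY, ?_⟩
    conv_lhs => rw [← hKY]
    rw [Subgroup.commutator_le]
    intro k hk y hy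
    rw [commutatorElement_def]
    apply Subgroup.mul_mem
    · exact Subgroup.mem_iSup_of_mem (⟨k, hk⟩ : ↥K) (conj_mem_map_conj hy)
    · apply Subgroup.mem_iSup_of_mem (⟨1, K.one_mem⟩ : ↥K)
      show y⁻¹ ∈ Y.map (MulAut.conj (1 : H)).toMonoidHom
      rw [map_conj_one]
      exact Y.inv_mem hy
  · intro N hN hNcl
    by_contra hKN
    apply hNcl
    intro P
    have h1 := h3 N hN hKN
    have h2 : (P : Subgroup ↥N) = ⊥ := by
      have := inf_eq_bot_of_coprime_of_isPGroup (X := (P : Subgroup ↥N)) (Q := (P : Subgroup ↥N))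
        (Nat.Coprime.coprime_dvd_left (Subgroup.card_subgroup_dvd_card _) h1) P.isPGroup'
      rwa [inf_idem] at this
    rw [h2]
    infer_instance

end Cfsg.Agent.S2815
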