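import Cfsg.Statements.S2816
import Cfsg.Agent.Lib.Helper17.FStar2

set_option autoImplicit false
open Cfsg

namespace Cfsg.Agent.S2816

/-- Let H be a finite group and p a prime with O_p(H) = 1, and Y a p-subgroup of H. Then for every subnormal subgroup K of H containing Y, [F*(H), Y] = [F*(K), Y] = [F*(K), Y, Y]; and if Y₀ ≤ Y with [F*(H), Y, Y₀] = 1 then Y₀ = 1 (in particular [F*(H), Y] = 1 forces Y = 1). -/
theorem result {H : Type*} [Group H] [Finite H] {p : ℕ} [Fact p.Prime] (hO : Cfsg.pCore p H = ⊥) (Y : Subgroup H) (hY : IsPGroup p ↥Y) : (∀ K : Subgroup H, K.IsSubnormal → Y ≤ K → ⁅Cfsg.generalizedFittingSubgroup H, Y⁆ = ⁅(Cfsg.generalizedFittingSubgroup ↥K).map K.subtype, Y⁆ ∧ ⁅(Cfsg.generalizedFittingSubgroup ↥K).map K.subtype, Y⁆ = ⁅⁅(Cfsg.generalizedFittingSubgroup ↥K).map K.subtype, Y⁆, Y⁆) ∧ (∀ Y₀ : Subgroup H, Y₀ ≤ Y → ⁅⁅Cfsg.generalizedFittingSubgroup H, Y⁆, Y₀⁆ = ⊥ → Y₀ = ⊥) := by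
  open Cfsg.Agent.Lib.Helper17 in
  set F := Cfsg.generalizedFittingSubgroup H with hF
  have hFn : F.Normal := Cfsg.Agent.Lib.Helper10.genFitting_normal H
  have hYF : Y ≤ Subgroup.normalizer (F : Set H) := top_le_normalizer_of_normal hFn Y
  have A0 := le_commutator_sup_centralizer_top hO hY (le_refl F) hFn.isSubnormal hYF
  have A1 := commutator_commutator_eq_of_sup_eq hYF A0
  have hFYF : ⁅F, Y⁆ ≤ F := commutator_le_left_of_le_normalizer hYF
  refine ⟨?_, ?_⟩
  · intro K hK hYK
    have claim1 : ⁅F, Y⁆ ≤ K := by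
      induction hK with
      | top => exact le_top
      | step K K' h_le _ hN ih =>
        have hn := (Subgroup.normal_subgroupOf_iff_le_normalizer h_le).mp hN
        have h1 := ih (hYK.trans h_le)
        rw [A1]
        refine (Subgroup.commutator_mono h1 hYK).trans ?_
        rw [Subgroup.commutator_comm]
        exact commutator_le_left_of_le_normalizer hn
    have hFK : (Cfsg.generalizedFittingSubgroup ↥K).map K.subtype = F ⊓ K := map_genFitting_eq hK
    rw [hFK]
    have e1 : ⁅F, Y⁆ = ⁅F ⊓ K, Y⁆ := by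
      apply le_antisymm
      · conv_lhs => rw [A1]
        exact Subgroup.commutator_mono (le_inf hFYF claim1) le_rfl
      · exact Subgroup.commutator_mono inf_le_left le_rfl
    refine ⟨e1, ?_⟩
    rw [← e1]
    exact A1
  · intro Y₀ hY₀ h
    have h1 : Y₀ ≤ Subgroup.centralizer ((⁅F, Y⁆ : Subgroup H) : Set H) := by
      rw [Subgroup.commutator_comm, Subgroup.commutator_eq_bot_iff_le_centralizer] at h
      exact h
    have h2 : Y₀ ≤ Subgroup.centralizer ((F ⊓ Subgroup.centralizer (Y : Set H) : Subgroup H) : Set H) := by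
      rw [Subgroup.le_centralizer_iff]
      exact inf_le_right.trans (Subgroup.centralizer_le hY₀)
    have h3 : Y₀ ≤ Subgroup.centralizer (F : Set H) := by
      rw [Subgroup.le_centralizer_iff] at h1 h2 ⊢
      exact A0.trans (sup_le h1 h2)
    exact eq_bot_of_isPGroup_of_coprime (hY.to_le hY₀) h3 (centralizer_genFitting_coprime hO)

end Cfsg.Agent.S2816
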