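import Cfsg.Statements.S2817
import Cfsg.Agent.Lib.Helper17.FStar3
import Cfsg.Agent.S0028

set_option autoImplicit false
open Cfsg

namespace Cfsg.Agent.S2817

/-- Let H be a finite group and p a prime with O_p(H) = 1, Q a p-subgroup of H, L = [F*(H), Q], and F the largest normal subgroup of F*(H) centralized by Q (a normal subgroup of F*(H) centralized by Q and containing every such). Then F = C_{F*(H)}(LQ); L = [L, Q]; L ∩ F ≤ Φ(L); every p-subgroup B of N_H(Q) with [L, B] ≤ F satisfies [L, B] = 1; and C_H(FL) has order prime to p. -/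
theorem result {H : Type*} [Group H] [Finite H] {p : ℕ} [Fact p.Prime] (hO : Cfsg.pCore p H = ⊥) (Q : Subgroup H) (hQ : IsPGroup p ↥Q) (L : Subgroup H) (hL : L = ⁅Cfsg.generalizedFittingSubgroup H, Q⁆) (F : Subgroup H) (hF : F ≤ Cfsg.generalizedFittingSubgroup H ∧ Cfsg.generalizedFittingSubgroup H ≤ Subgroup.normalizer (F : Set H) ∧ Q ≤ Subgroup.centralizer (F : Set H) ∧ ∀ N : Subgroup H, N ≤ Cfsg.generalizedFittingSubgroup H → Cfsg.generalizedFittingSubgroup H ≤ Subgroup.normalizer (N : Set H) → Q ≤ Subgroup.centralizer (N : Set H) → N ≤ F) : F = Cfsg.generalizedFittingSubgroup H ⊓ Subgroup.centralizer ((L ⊔ Q : Subgroup H) : Set H) ∧ ⁅L, Q⁆ = L ∧ L ⊓ F ≤ (frattini ↥L).map L.subtype ∧ (∀ B : Subgroup H, IsPGroup p ↥B → B ≤ Subgroup.normalizer (Q : Set H) → ⁅L, B⁆ ≤ F → ⁅L, B⁆ = ⊥) ∧ (Nat.card ↥(Subgroup.centralizer ((F ⊔ L : Subgroup H) : Set H))).Coprime p := by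
  open Cfsg.Agent.Lib.Helper17 Cfsg.Agent.Lib.Helper10 in
  open scoped commutatorElement in
  set Fs := Cfsg.generalizedFittingSubgroup H with hFs
  obtain ⟨hF1, hF2, hF3, hF4⟩ := hF
  have hFsn : Fs.Normal := genFitting_normal H
  have hnFs : ∀ X : Subgroup H, X ≤ Subgroup.normalizer (Fs : Set H) :=
    fun X => top_le_normalizer_of_normal hFsn X
  have A0 := le_commutator_sup_centralizer_top hO hQ (le_refl Fs) hFsn.isSubnormal (hnFs Q)
  have A1 := commutator_commutator_eq_of_sup_eq (hnFs Q) A0
  rw [← hL] at A0 A1
  have hLFs : L ≤ Fs := by rw [hL]; exact commutator_le_left_of_le_normalizer (hnFs Q)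
  have hFsL : Fs ≤ Subgroup.normalizer (L : Set H) := by
    rw [hL]; exact le_normalizer_commutator_left Fs Q
  have hQL : Q ≤ Subgroup.normalizer (L : Set H) := by
    rw [hL]; exact le_normalizer_commutator (hnFs Q) Subgroup.le_normalizer
  have hLsn : L.IsSubnormal := by
    apply Subgroup.IsSubnormal.step _ Fs hLFs hFsn.isSubnormal
    rwa [Subgroup.normal_subgroupOf_iff_le_normalizer hLFs]
  have hFQ : ⁅F, Q⁆ = ⊥ := by
    rw [Subgroup.commutator_comm, Subgroup.commutator_eq_bot_iff_le_centralizer]; exact hF3
  -- L centralizes F
  have hLF : L ≤ Subgroup.centralizer (F : Set H) := by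
    rw [← Subgroup.commutator_eq_bot_iff_le_centralizer, hL]
    apply Subgroup.commutator_commutator_eq_bot_of_rotate
    · rw [Subgroup.commutator_comm Q F, hFQ, Subgroup.commutator_bot_left]
    · rw [eq_bot_iff, ← hFQ]
      exact Subgroup.commutator_mono (commutator_le_left_of_le_normalizer hF2) le_rfl
  have ha : F = Fs ⊓ Subgroup.centralizer ((L ⊔ Q : Subgroup H) : Set H) := by
    apply le_antisymm
    · refine le_inf hF1 ?_
      rw [Subgroup.le_centralizer_iff]
      exact sup_le hLF hF3
    · apply hF4 _ inf_le_left
      · refine A0.trans (sup_le ?_ ?_)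
        · refine le_trans ?_ (centralizer_le_normalizer' _)
          rw [Subgroup.le_centralizer_iff]
          exact inf_le_right.trans (Subgroup.centralizer_le (SetLike.coe_subset_coe.mpr (le_sup_left : L ≤ L ⊔ Q)))
        · apply le_normalizer_inf (hnFs _)
          refine le_trans ?_ (normalizer_le_normalizer_centralizer _)
          exact le_normalizer_sup (inf_le_left.trans hFsL)
            (inf_le_right.trans (centralizer_le_normalizer' Q))
      · rw [Subgroup.le_centralizer_iff]
        exact inf_le_right.trans (Subgroup.centralizer_le (SetLike.coe_subset_coe.mpr (le_sup_right : Q ≤ L ⊔ Q)))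
  -- D = L ⊓ F lies in L'
  have hcopF := fitting_coprime_of_pCore_eq_bot hO
  have hDL' : L ⊓ F ≤ ⁅L, L⁆ := by
    have h1 : L ⊓ Subgroup.centralizer (Q : Set H) ≤ ⁅L, L⁆ := by
      apply inf_centralizer_le_of_quotient (A := Cfsg.fittingSubgroup H ⊓ L)
        (le_normalizer_commutator Subgroup.le_normalizer Subgroup.le_normalizer)
        (le_normalizer_commutator hQL hQL) hQL le_rfl _ inf_le_right
        (le_commutator_sup_fitting hLsn hLFs)
      · obtain ⟨n, hn⟩ := IsPGroup.iff_card.mp hQ
        rw [hn]
        exact (Nat.Coprime.pow_right n (coprime_card_of_le inf_le_left hcopF)).symm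
      · rw [← A1]; exact le_sup_left
    refine le_trans (inf_le_inf_left _ ?_) h1
    rw [Subgroup.le_centralizer_iff]; exact hF3
  refine ⟨ha, A1.symm, ?_, ?_, ?_⟩
  · -- L ⊓ F ≤ Φ(L)
    intro d hd
    have hdL : d ∈ L := hd.1
    refine ⟨⟨d, hdL⟩, ?_, rfl⟩
    apply center_inf_commutator_le_frattini
    constructor
    · show (⟨d, hdL⟩ : ↥L) ∈ Subgroup.center ↥L
      rw [Subgroup.mem_center_iff]
      intro l
      apply Subtype.ext
      exact (Subgroup.mem_centralizer_iff.mp (hLF l.2) d hd.2).symm
    · have h2 : ⁅L, L⁆ ≤ (commutator ↥L).map L.subtype := by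
        rw [commutator_def, Subgroup.map_commutator, ← MonoidHom.range_eq_map, Subgroup.range_subtype]
      obtain ⟨y, hy, e⟩ := h2 (hDL' hd)
      have : y = ⟨d, hdL⟩ := Subtype.ext e
      rwa [← this]
  · intro B hB hBQ hLB
    have hBL : B ≤ Subgroup.normalizer (L : Set H) := by
      rw [hL]; exact le_normalizer_commutator (hnFs B) hBQ
    have hLBD : ⁅L, B⁆ ≤ L ⊓ F := le_inf (commutator_le_left_of_le_normalizer hBL) hLB
    have h1 : ⁅⁅L, B⁆, L⁆ = ⊥ := by
      rw [Subgroup.commutator_eq_bot_iff_le_centralizer]
      refine (hLBD.trans inf_le_right).trans ?_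
      rw [Subgroup.le_centralizer_iff]; exact hLF
    have h2 : ⁅⁅L, L⁆, B⁆ = ⊥ := by
      apply Subgroup.commutator_commutator_eq_bot_of_rotate
      · exact h1
      · rw [Subgroup.commutator_comm B L]; exact h1
    have h3 := commutator_commutator_eq_of_sup_eq hBL
      (le_commutator_sup_centralizer_top hO hB hLFs hLsn hBL)
    rw [h3, eq_bot_iff, ← h2]
    exact Subgroup.commutator_mono (hLBD.trans hDL') le_rfl
  · obtain ⟨P, hP⟩ := exists_isSyl p (Subgroup.centralizer ((F ⊔ L : Subgroup H) : Set H))
    apply coprime_card_of_sylow_eq_bot hP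
    have hPp := hP.isPGroup
    have hPFL : F ⊔ L ≤ Subgroup.centralizer (P : Set H) := by
      rw [Subgroup.le_centralizer_iff]; exact hP.le
    have hPFs : Fs ≤ Subgroup.centralizer (P : Set H) := by
      rw [hFs]
      unfold Cfsg.generalizedFittingSubgroup
      apply sup_le
      · rw [layer_le_iff]
        intro K hK
        refine le_trans ?_ hPFL
        rcases component_le_or_commutator_eq_bot H K L hK hLsn with h | h
        · exact h.trans le_sup_right
        · refine le_trans ?_ le_sup_left
          have hKFs : K ≤ Fs := (component_le_layer hK).trans (layer_le_genFitting H)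
          apply hF4 K hKFs
          · rw [hFs]
            unfold Cfsg.generalizedFittingSubgroup
            apply sup_le (layer_le_normalizer_component hK)
            have := component_commutator_fitting hK
            rw [Subgroup.commutator_comm, Subgroup.commutator_eq_bot_iff_le_centralizer] at this
            exact this.trans (centralizer_le_normalizer' K)
          · have h1 : ⁅⁅K, Q⁆, K⁆ = ⊥ := by
              rw [eq_bot_iff, ← h, Subgroup.commutator_comm K L, hL]
              exact Subgroup.commutator_mono (Subgroup.commutator_mono hKFs le_rfl) le_rfl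
            have h2 : ⁅⁅K, K⁆, Q⁆ = ⊥ := by
              apply Subgroup.commutator_commutator_eq_bot_of_rotate
              · exact h1
              · rw [Subgroup.commutator_comm Q K]; exact h1
            rw [component_perfect hK, Subgroup.commutator_comm,
              Subgroup.commutator_eq_bot_iff_le_centralizer] at h2
            exact h2
      · rw [Cfsg.Agent.S0009.result]
        apply iSup_le
        intro r
        by_cases hr : (r : ℕ) = p
        · rw [hr, hO]; exact bot_le
        · have : Fact (r : ℕ).Prime := ⟨r.2⟩
          set R := Cfsg.pCore (r : ℕ) H with hR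
          have hRn : R.Normal := Cfsg.pCore_normal _ _
          have hnR : ∀ X : Subgroup H, X ≤ Subgroup.normalizer (R : Set H) :=
            fun X => top_le_normalizer_of_normal hRn X
          have hRr : IsPGroup (r : ℕ) R := pCore_isPGroup
          have hRFs : R ≤ Fs := (pCore_le_fitting (r : ℕ)).trans (fitting_le_genFitting H)
          have hcopr : ∀ Y : Subgroup H, IsPGroup p Y → (Nat.card Y).Coprime (r : ℕ) := by
            intro Y hY
            obtain ⟨n, hn⟩ := IsPGroup.iff_card.mp hY
            rw [hn]
            exact Nat.Coprime.pow_left n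
              ((Nat.coprime_primes (Fact.out : p.Prime) r.2).mpr (fun h => hr h.symm))
          set R₁ := ⁅R, Q⁆ with hR₁
          have hR₁R : R₁ ≤ R := commutator_le_left_of_le_normalizer (hnR Q)
          have hR₁L : R₁ ≤ L := by rw [hL]; exact Subgroup.commutator_mono hRFs le_rfl
          rw [Subgroup.le_centralizer_iff]
          apply Cfsg.Agent.S0028.result (r : ℕ) R₁ P R (hRr.to_le hR₁R) (hcopr P hPp) hRr
            ((hR₁L.trans le_sup_right).trans hPFL) (hnR _) (hnR _)
          -- C_R(R₁) is centralized by P
          set R₂ := R ⊓ Subgroup.centralizer (R₁ : Set H) with hR₂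
          have hQR₁ : Q ≤ Subgroup.normalizer (R₁ : Set H) :=
            le_normalizer_commutator (hnR Q) Subgroup.le_normalizer
          have hQR₂ : Q ≤ Subgroup.normalizer (R₂ : Set H) :=
            le_normalizer_inf (hnR Q) (hQR₁.trans (normalizer_le_normalizer_centralizer R₁))
          have hcop2 : (Nat.card Q).Coprime (Nat.card R₂) := by
            obtain ⟨n, hn⟩ := IsPGroup.iff_card.mp (hRr.to_le (inf_le_left : R₂ ≤ R))
            rw [hn]
            exact Nat.Coprime.pow_right n (hcopr Q hQ)
          have h26 := Cfsg.Agent.S0026.result Q R₂ hQR₂ hcop2 (Or.inl (isSolvable_of_isPGroup hQ))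
          rw [← h26]
          apply sup_le
          · exact ((Subgroup.commutator_mono inf_le_left le_rfl).trans
              (hR₁L.trans le_sup_right)).trans hPFL
          · refine le_trans ?_ (le_sup_left.trans hPFL)
            rw [ha]
            refine le_inf ((inf_le_left.trans inf_le_left).trans hRFs) ?_
            rw [Subgroup.le_centralizer_iff]
            apply sup_le
            · -- L centralizes T
              rw [hL, Subgroup.commutator_le]
              intro x hx q hq
              have hx' := genFitting_le_pCore_sup_centralizer (r : ℕ) hx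
              rw [mem_sup_of_le_normalizer
                (Subgroup.le_normalizer.trans (normalizer_le_normalizer_centralizer _))] at hx'
              obtain ⟨y, hy, c, hc, rfl⟩ := hx'
              have e1 : ⁅y * c, q⁆ = y * ⁅c, q⁆ * y⁻¹ * ⁅y, q⁆ := by
                simp only [commutatorElement_def]; group
              rw [e1]
              have hcq : ⁅c, q⁆ ∈ Subgroup.centralizer (R : Set H) := by
                rw [commutatorElement_def]
                have e2 : c * q * c⁻¹ * q⁻¹ = c * (q * c⁻¹ * q⁻¹) := by group
                rw [e2]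
                exact Subgroup.mul_mem _ hc (conj_mem_of_le_normalizer
                  ((hnR Q).trans (normalizer_le_normalizer_centralizer R)) hq
                  (Subgroup.inv_mem _ hc))
              have hyc : y * ⁅c, q⁆ * y⁻¹ = ⁅c, q⁆ := by
                rw [Subgroup.mem_centralizer_iff.mp hcq y hy]; group
              rw [hyc]
              apply Subgroup.mul_mem
              · exact Subgroup.centralizer_le (show ((R₂ ⊓ Subgroup.centralizer (Q : Set H) :
                  Subgroup H) : Set H) ⊆ R from inf_le_left.trans inf_le_left) hcq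
              · have h5 : R₁ ≤ Subgroup.centralizer ((R₂ ⊓ Subgroup.centralizer (Q : Set H) :
                    Subgroup H) : Set H) := by
                  rw [Subgroup.le_centralizer_iff]
                  exact inf_le_left.trans inf_le_right
                exact h5 (Subgroup.commutator_mem_commutator hy hq)
            · rw [Subgroup.le_centralizer_iff]
              exact inf_le_right
    have h6 : P ≤ Subgroup.centralizer (Fs : Set H) := by
      rw [Subgroup.le_centralizer_iff]; exact hPFs
    exact eq_bot_of_isPGroup_of_coprime hPp h6 (centralizer_genFitting_coprime hO)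

end Cfsg.Agent.S2817
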