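import Cfsg.Statements.S2818
import Cfsg.Agent.Lib.Helper17.Nil
import Cfsg.Agent.S0013

set_option autoImplicit false
open Cfsg

namespace Cfsg.Agent.S2818

/-- Let P be a finite p-subgroup of a group G and H a subgroup of N_G(P) with [P, H] ≤ Ω₁(Z(P)) (the elements of order dividing p in the centre of P). Then H centralizes the Frattini subgroup of P. -/
theorem result {G : Type*} [Group G] [Finite G] {p : ℕ} [Fact p.Prime] (P : Subgroup G) (hP : IsPGroup p ↥P) (H : Subgroup G) (hH : H ≤ Subgroup.normalizer (P : Set G)) (h : ⁅P, H⁆ ≤ Cfsg.omegaOne p (P ⊓ Subgroup.centralizer (P : Set G))) : ⁅(frattini ↥P).map P.subtype, H⁆ = ⊥ := by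
  open Cfsg.Agent.Lib.Helper17 in
  rw [Subgroup.commutator_eq_bot_iff_le_centralizer]
  set Z := omegaOne p (P ⊓ Subgroup.centralizer (P : Set G)) with hZ
  have hZea : EA p Z := ea_omegaOne_center p P
  have hZc : Z ≤ Subgroup.centralizer (P : Set G) := (omegaOne_le _ _).trans inf_le_right
  have hconj : ∀ h' ∈ H, ∀ x ∈ P, ∃ z ∈ Z, h' * x * h'⁻¹ = z * x := by
    intro h' hh x hx
    refine ⟨h' * x * h'⁻¹ * x⁻¹, ?_, by group⟩
    apply h
    rw [Subgroup.commutator_comm]
    exact Subgroup.commutator_mem_commutator hh hx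
  have hcomm' : ∀ z ∈ Z, ∀ x ∈ P, z * x = x * z := fun z hz x hx =>
    (Subgroup.mem_centralizer_iff.mp (hZc hz) x hx).symm
  have mem_of : ∀ u : G, (∀ h' ∈ H, h' * u * h'⁻¹ = u) → u ∈ Subgroup.centralizer (H : Set G) := by
    intro u hu
    rw [Subgroup.mem_centralizer_iff]
    intro h' hh
    have := hu h' hh
    calc h' * u = h' * u * h'⁻¹ * h' := by group
      _ = u * h' := by rw [this]
  have hcommle : commutator P ≤ (Subgroup.centralizer (H : Set G)).subgroupOf P := by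
    rw [commutator_eq_closure, Subgroup.closure_le]
    rintro _ ⟨x, y, rfl⟩
    apply mem_of
    intro h' hh
    obtain ⟨z₁, hz₁, e₁⟩ := hconj h' hh x x.2
    obtain ⟨z₂, hz₂, e₂⟩ := hconj h' hh y y.2
    have c1 := hcomm' z₁ hz₁
    have c2 := hcomm' z₂ hz₂
    have hz₁P : z₁ ∈ P := ((omegaOne_le _ _).trans inf_le_left) hz₁
    have hz₂P : z₂ ∈ P := ((omegaOne_le _ _).trans inf_le_left) hz₂
    show h' * ((x : G) * y * (x : G)⁻¹ * (y : G)⁻¹) * h'⁻¹ = (x : G) * y * (x : G)⁻¹ * (y : G)⁻¹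
    calc h' * ((x : G) * y * (x : G)⁻¹ * (y : G)⁻¹) * h'⁻¹
        = (h' * x * h'⁻¹) * (h' * y * h'⁻¹) * (h' * x * h'⁻¹)⁻¹ * (h' * y * h'⁻¹)⁻¹ := by group
      _ = (z₁ * x) * (z₂ * y) * (z₁ * x)⁻¹ * (z₂ * y)⁻¹ := by rw [e₁, e₂]
      _ = (x : G) * y * (x : G)⁻¹ * (y : G)⁻¹ := by
        have a1 : z₁ * (x : G) = x * z₁ := c1 x x.2
        have a2 : z₂ * (y : G) = y * z₂ := c2 y y.2
        have a3 : z₁ * (y : G) = y * z₁ := c1 y y.2
        have a4 : z₂ * (x : G) = x * z₂ := c2 x x.2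
        have a5 : z₁ * z₂ = z₂ * z₁ := c1 z₂ hz₂P
        have b1 : (z₁ * (x : G)) * (z₂ * y) = (x * y) * (z₁ * z₂) := by
          calc (z₁ * (x : G)) * (z₂ * y) = z₁ * ((x : G) * z₂) * y := by group
            _ = z₁ * (z₂ * x) * y := by rw [a4]
            _ = (z₁ * z₂) * (x * y) := by group
            _ = z₁ * (z₂ * x) * y := by group
            _ = z₁ * (x * z₂) * y := by rw [a4]
            _ = (z₁ * x) * (z₂ * y) := by group
            _ = (x * z₁) * (y * z₂) := by rw [a1, a2]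
            _ = x * (z₁ * y) * z₂ := by group
            _ = x * (y * z₁) * z₂ := by rw [a3]
            _ = (x * y) * (z₁ * z₂) := by group
        have b2 : (z₂ * (y : G)) * (z₁ * x) = (y * x) * (z₁ * z₂) := by
          calc (z₂ * (y : G)) * (z₁ * x) = (y * z₂) * (x * z₁) := by rw [a1, a2]
            _ = y * (z₂ * x) * z₁ := by group
            _ = y * (x * z₂) * z₁ := by rw [a4]
            _ = (y * x) * (z₂ * z₁) := by group
            _ = (y * x) * (z₁ * z₂) := by rw [a5]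
        calc (z₁ * (x : G)) * (z₂ * y) * (z₁ * x)⁻¹ * (z₂ * y)⁻¹
            = ((z₁ * (x : G)) * (z₂ * y)) * ((z₂ * y) * (z₁ * x))⁻¹ := by group
          _ = ((x * y) * (z₁ * z₂)) * ((y * x) * (z₁ * z₂))⁻¹ := by rw [b1, b2]
          _ = (x : G) * y * (x : G)⁻¹ * (y : G)⁻¹ := by group
  have hnorm : ((Subgroup.centralizer (H : Set G)).subgroupOf P).Normal :=
    Subgroup.Normal.of_commutator_le _ hcommle
  have h13 := Cfsg.Agent.S0013.result p hP ((Subgroup.centralizer (H : Set G)).subgroupOf P)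
    hcommle (by
      intro x
      apply mem_of
      intro h' hh
      obtain ⟨z, hz, e⟩ := hconj h' hh x x.2
      show h' * ((x ^ p : P) : G) * h'⁻¹ = ((x ^ p : P) : G)
      rw [Subgroup.coe_pow, ← conj_pow, e, (show Commute z (x : G) from hcomm' z hz x x.2).mul_pow,
        hZea.2 z hz, one_mul])
  rintro _ ⟨f, hf, rfl⟩
  exact h13 hf

end Cfsg.Agent.S2818
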