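import Cfsg.Statements.S2819
import Cfsg.Agent.Lib.Helper17.Nil
import Cfsg.Agent.S0013

set_option autoImplicit false
open Cfsg

namespace Cfsg.Agent.S2819

/-- Let P be a finite p-subgroup of a group G, H a subgroup of N_G(P), and Y a subgroup of H centralizing the derived subgroup P' such that [P, Y] is elementary abelian. Then O^p(⟨Y^H⟩), the subgroup of the normal closure of Y in H generated by its elements of order prime to p, centralizes the Frattini subgroup of P. -/
theorem result {G : Type*} [Group G] [Finite G] {p : ℕ} [Fact p.Prime] (P : Subgroup G) (hP : IsPGroup p ↥P) (H : Subgroup G) (hH : H ≤ Subgroup.normalizer (P : Set G)) (Y : Subgroup G) (hYH : Y ≤ H) (hYc : Y ≤ Subgroup.centralizer ((⁅P, P⁆ : Subgroup G) : Set G)) (hel : Cfsg.IsElementaryAbelian p ⁅P, Y⁆) (NY : Subgroup G) (hNY : NY = (Subgroup.normalClosure ((Y.subgroupOf H : Subgroup ↥H) : Set ↥H)).map H.subtype) : (Cfsg.pResidual p ↥NY).map NY.subtype ≤ Subgroup.centralizer (((frattini ↥P).map P.subtype : Subgroup G) : Set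 G) := by
  open Cfsg.Agent.Lib.Helper17 in
  subst hNY
  set P' : Subgroup G := ⁅P, P⁆ with hP'
  set F₂ := agemoSup p P with hF₂
  have hea : EA p ⁅P, Y⁆ := (isElementaryAbelian_iff).mp hel
  have hHP' : H ≤ Subgroup.normalizer (P' : Set G) := le_normalizer_commutator hH hH
  have hPP' : P ≤ Subgroup.normalizer (P' : Set G) :=
    le_normalizer_commutator Subgroup.le_normalizer Subgroup.le_normalizer
  have hcP : ⁅P, Y⁆ ≤ P := by
    rw [Subgroup.commutator_le]
    intro x hx y hy
    rw [commutatorElement_def]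
    have := conj_mem_of_le_normalizer hH (hYH hy) (P.inv_mem hx)
    have e : x * y * x⁻¹ * y⁻¹ = x * (y * x⁻¹ * y⁻¹) := by group
    rw [e]; exact P.mul_mem hx this
  have hF₂Y : F₂ ≤ stabMod Y P' := by
    apply sup_le
    · intro c hc
      refine ⟨hPP' (Subgroup.commutator_le_self P hc), fun y hy => ?_⟩
      have h1 := Subgroup.mem_centralizer_iff.mp (hYc hy) c hc
      have e : c * y * c⁻¹ * y⁻¹ = 1 := by rw [h1]; group
      rw [e]; exact one_mem _
    · rw [Subgroup.closure_le]
      rintro _ ⟨x, hx, rfl⟩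
      refine ⟨hPP' (P.pow_mem hx p), fun y hy => ?_⟩
      have hc : y * x * y⁻¹ * x⁻¹ ∈ ⁅P, Y⁆ := by
        rw [Subgroup.commutator_comm]
        exact Subgroup.commutator_mem_commutator hy hx
      have h1 := mul_pow_mem_commutator (hcP hc) hx p
      rw [hea.2 _ hc, inv_one, mul_one] at h1
      have e : y * x * y⁻¹ * x⁻¹ * x = y * x * y⁻¹ := by group
      rw [e, conj_pow] at h1
      have h2 := P'.inv_mem h1
      have e2 : x ^ p * y * (x ^ p)⁻¹ * y⁻¹ = (y * x ^ p * y⁻¹ * (x ^ p)⁻¹)⁻¹ := by group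
      rw [e2]; exact h2
  have hYF₂ : Y ≤ stabMod F₂ P' := le_stabMod_symm hF₂Y (hYH.trans hHP')
  set K := stabMod F₂ P' ⊓ Subgroup.centralizer (P' : Set G) with hK
  have hHK : H ≤ Subgroup.normalizer (K : Set G) :=
    le_normalizer_inf (le_normalizer_stabMod (le_normalizer_agemoSup hH) hHP')
      (hHP'.trans (normalizer_le_normalizer_centralizer P'))
  have hNYK := map_normalClosure_le (Y := Y) (N := H) (E := K) (le_inf hYF₂ hYc) hHK
  have hpm : PMod p K (Subgroup.centralizer (F₂ : Set G)) := by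
    apply pMod_of_stab_two (hP.to_le (agemoSup_le p P)) (R := P') le_sup_left
      (commutator_le_of_le_stabMod inf_le_left)
    rw [Subgroup.commutator_eq_bot_iff_le_centralizer, Subgroup.le_centralizer_iff]
    exact inf_le_right
  have h1 := opOf_le_of_pMod (hpm.mono_left hNYK)
  refine h1.trans (Subgroup.centralizer_le ?_)
  have hcommle : commutator P ≤ F₂.subgroupOf P := by
    intro x hx
    show (x : G) ∈ F₂
    apply (le_sup_left : P' ≤ F₂)
    rw [hP', ← Subgroup.map_subtype_commutator]
    exact ⟨x, hx, rfl⟩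
  have hnorm : (F₂.subgroupOf P).Normal := Subgroup.Normal.of_commutator_le _ hcommle
  have h13 := Cfsg.Agent.S0013.result p hP (F₂.subgroupOf P) hcommle (by
      intro x
      show ((x ^ p : P) : G) ∈ F₂
      apply (le_sup_right : Subgroup.closure {y | ∃ x ∈ P, y = x ^ p} ≤ F₂)
      exact Subgroup.subset_closure ⟨x, x.2, by simp⟩)
  rintro _ ⟨f, hf, rfl⟩
  exact h13 hf

end Cfsg.Agent.S2819
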