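import Cfsg.Statements.S2821
import Cfsg.Agent.Lib.Helper17.PRed

set_option autoImplicit false
open Cfsg

namespace Cfsg.Agent.S2821

/-- Let H be a finite group, p a prime, T a Sylow p-subgroup and L a subgroup of characteristic p containing T; let Y_L be the largest p-reduced normal subgroup of L (the join of the normal elementary abelian p-subgroups V of L with O_p(L/C_L(V)) = 1). Then T₀ := C_T(Y_L) is a Sylow p-subgroup of C_H(Y_L); moreover O_p(L) ≤ T₀ ≤ C_L(Y_L) and Ω₁(Z(T)) ≤ Z_L ≤ Y_L ≤ Ω₁(Z(O_p(L))), where Z_L is generated by the Ω₁(Z(S)) over the Sylow p-subgroups S of L. -/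
theorem result {H : Type*} [Group H] [Finite H] {p : ℕ} [Fact p.Prime] (T : Sylow p H) (L : Subgroup H) (hTL : (T : Subgroup H) ≤ L) (hL : Subgroup.centralizer (Cfsg.pCore p ↥L : Set ↥L) ≤ Cfsg.pCore p ↥L) (T₀ : Subgroup H) (hT₀ : T₀ = (T : Subgroup H) ⊓ Subgroup.centralizer (((Cfsg.largestPReducedOf p L) : Subgroup H) : Set H)) : (∃ P : Sylow p ↥(Subgroup.centralizer (((Cfsg.largestPReducedOf p L) : Subgroup H) : Set H)), (P : Subgroup ↥(Subgroup.centralizer (((Cfsg.largestPReducedOf p L) : Subgroup H) : Set H))) = T₀.subgroupOf (Subgroup.centralizer (((Cfsg.largestPReducedOf p L) : Subgroup H) : Set H))) ∧ (Cfsg.pCoreOf p L) ≤ T₀ ∧ T₀ ≤ L ⊓ Subgroup.centralizer (((Cfsg.largestPReducedOf p L) : Subgroup H) : Set H) ∧ (Cfsg.omegaOne p ((T : Subgroup H) ⊓ Subgroup.centralizer (((T : Subgroup H) : Subgroup H) : Set H))) ≤ Cfsg.sylowCenterClosure p L ∧ Cfsg.sylowCenterClosure p L ≤ (Cfsg.largestPReducedOf p L) ∧ (Cfsg.largestPReducedOf p L) ≤ (Cfsg.omegaOne p ((Cfsg.pCoreOf p L) ⊓ Subgroup.centralizer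 (((Cfsg.pCoreOf p L) : Subgroup H) : Set H))) := by
  open Cfsg.Agent.Lib.Helper17 in
  subst hT₀
  have hchar := Cfsg.Agent.Lib.Helper17.charP_iff.mp hL
  have hT : IsSyl p (T : Subgroup H) L := (isSyl_top T).of_le hTL le_top
  have hY := pRed_largest p L
  set Y := largestPReducedOf p L with hYdef
  refine ⟨?_, ?_, ?_, ?_, ?_, hY.le_omega⟩
  · have hTN : IsSyl p (T : Subgroup H) (Subgroup.normalizer (Y : Set H)) :=
      (isSyl_top T).of_le (hTL.trans hY.2.2.1) le_top
    have h1 : IsSyl p ((T : Subgroup H) ⊓ Subgroup.centralizer (Y : Set H))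
        (Subgroup.centralizer (Y : Set H)) :=
      hTN.inf_normal (centralizer_le_normalizer' Y) (normalizer_le_normalizer_centralizer Y)
    obtain ⟨P, hP⟩ := h1
    refine ⟨P, ?_⟩
    rw [← hP, Subgroup.subgroupOf,
      Subgroup.comap_map_eq_self_of_injective (Subgroup.subtype_injective _)]
  · exact le_inf (pCoreOf_le_isSyl hT) hY.core_le_centralizer
  · exact inf_le_inf_right _ hTL
  · obtain ⟨S, hS⟩ := hT
    unfold sylowCenterClosure
    have := le_iSup (fun S : Sylow p L => omegaOne p (((S : Subgroup L).map L.subtype) ⊓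
      Subgroup.centralizer (((S : Subgroup L).map L.subtype : Subgroup H) : Set H))) S
    simp only [hS] at this
    exact this
  · unfold sylowCenterClosure
    apply iSup_le
    intro S
    have hS : IsSyl p ((S : Subgroup L).map L.subtype) L := isSyl_of_sylow S
    apply PRed.le_largest_of_parabolic hchar hS le_rfl hS.le
    refine ⟨(omegaOne_le _ _).trans inf_le_left, ea_omegaOne_center p _,
      le_normalizer_omegaOne (le_normalizer_center Subgroup.le_normalizer), ?_⟩
    intro D hD _ _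
    exact hD.trans (Subgroup.le_centralizer_iff.mp ((omegaOne_le _ _).trans inf_le_right))

end Cfsg.Agent.S2821
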