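import Cfsg.Statements.S2823
import Cfsg.Agent.Lib.Helper17.Trace
import Cfsg.Agent.S2821

set_option autoImplicit false
open Cfsg

namespace Cfsg.Agent.S2823

/-- Let H be a finite group, p a prime, T a Sylow p-subgroup and L a subgroup of characteristic p containing T; let Z_L be the subgroup generated by the Ω₁(Z(S)) over the Sylow p-subgroups S of L and O^p(L) the subgroup generated by the elements of L of order prime to p. Then Z_L = Ω₁(Z(L))·[Z_L, O^p(L)] and [Z_L, L] = [Z_L, O^p(L)]. -/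
theorem result {H : Type*} [Group H] [Finite H] {p : ℕ} [Fact p.Prime] (T : Sylow p H) (L : Subgroup H) (hTL : (T : Subgroup H) ≤ L) (hL : Subgroup.centralizer (Cfsg.pCore p ↥L : Set ↥L) ≤ Cfsg.pCore p ↥L) : Cfsg.sylowCenterClosure p L = (Cfsg.omegaOne p (L ⊓ Subgroup.centralizer ((L : Subgroup H) : Set H))) ⊔ ⁅Cfsg.sylowCenterClosure p L, (Cfsg.pResidual p ↥L).map L.subtype⁆ ∧ ⁅Cfsg.sylowCenterClosure p L, L⁆ = ⁅Cfsg.sylowCenterClosure p L, (Cfsg.pResidual p ↥L).map L.subtype⁆ := by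
  open Cfsg.Agent.Lib.Helper17 in
  have hT : IsSyl p (T : Subgroup H) L := (isSyl_top T).of_le hTL le_top
  have hVY : Cfsg.sylowCenterClosure p L ≤ Cfsg.largestPReducedOf p L :=
    (Cfsg.Agent.S2821.result T L hTL hL _ rfl).2.2.2.2.1
  have hY := pRed_largest p L
  have hea : EA p (Cfsg.sylowCenterClosure p L) := hY.2.1.mono hVY
  have hVL : Cfsg.sylowCenterClosure p L ≤ L := hVY.trans hY.1
  have hLV := le_normalizer_sylowCenterClosure p L
  set V := Cfsg.sylowCenterClosure p L with hV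
  set X := (Cfsg.pResidual p ↥L).map L.subtype with hX
  have hXL : X ≤ L := pResidual_map_subtype_le p L
  have hWV : ⁅V, X⁆ ≤ V := commutator_le_left_of_le_normalizer (hXL.trans hLV)
  have hLW : L ≤ Subgroup.normalizer ((⁅V, X⁆ : Subgroup H) : Set H) :=
    le_normalizer_commutator hLV (le_normalizer_opOf p L)
  have hOc : Cfsg.omegaOne p (L ⊓ Subgroup.centralizer (L : Set H)) ≤
      Subgroup.centralizer (L : Set H) := (omegaOne_le _ _).trans inf_le_right
  have ha : V = Cfsg.omegaOne p (L ⊓ Subgroup.centralizer (L : Set H)) ⊔ ⁅V, X⁆ := by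
    apply le_antisymm
    · rw [hV, sylowCenterClosure_le_iff]
      intro S hS x hx hc hp
      obtain ⟨τ, hτV, hτ, w, hw, e⟩ := trace_syl hS hea hLV (mem_sylowCenterClosure hS hx hc hp) hc
      rw [e]
      refine mul_mem (Subgroup.mem_sup_left ?_) (Subgroup.mem_sup_right hw)
      exact Subgroup.subset_closure
        ⟨⟨hVL hτV, Subgroup.mem_centralizer_iff.mpr hτ⟩, hea.2 τ hτV⟩
    · apply sup_le _ hWV
      unfold Cfsg.omegaOne
      rw [Subgroup.closure_le]
      rintro x ⟨⟨hxL, hxc⟩, hxp⟩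
      have hxc' := Subgroup.mem_centralizer_iff.mp hxc
      have hzp : IsPGroup p (Subgroup.zpowers x) := by
        rw [IsPGroup.iff_card, Nat.card_zpowers]
        exact (Nat.dvd_prime_pow (Fact.out : p.Prime)).mp
          (by rw [pow_one]; exact orderOf_dvd_of_pow_eq_one hxp) |>.imp fun _ h => h.2
      obtain ⟨m, hm, hle⟩ := hT.exists_conj_ge (A := Subgroup.zpowers x)
        (by rwa [Subgroup.zpowers_le]) hzp
      have h1 := hle (Subgroup.mem_zpowers x)
      rw [mem_map_conj] at h1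
      have h2 : m⁻¹ * x * m = x := by
        have := hxc' m hm
        calc m⁻¹ * x * m = m⁻¹ * (x * m) := by group
          _ = m⁻¹ * (m * x) := by rw [this]
          _ = x := by group
      rw [h2] at h1
      exact mem_sylowCenterClosure hT h1 (fun s hs => hxc' s (hTL hs)) hxp
  refine ⟨ha, le_antisymm ?_ (Subgroup.commutator_mono le_rfl hXL)⟩
  rw [Subgroup.commutator_le]
  intro v hv g hg
  rw [ha, mem_sup_of_le_normalizer ((hOc.trans
    (Subgroup.centralizer_le (hWV.trans hVL))).trans (centralizer_le_normalizer' _))] at hv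
  obtain ⟨τ, hτ, w, hw, rfl⟩ := hv
  have hτc := Subgroup.mem_centralizer_iff.mp (hOc hτ)
  have hwL : w ∈ L := hVL (hWV hw)
  have h1 := hτc (w * g * w⁻¹) (L.mul_mem (L.mul_mem hwL hg) (L.inv_mem hwL))
  rw [commutatorElement_def]
  have e : τ * w * g * (τ * w)⁻¹ * g⁻¹ = w * (g * w⁻¹ * g⁻¹) := by
    calc τ * w * g * (τ * w)⁻¹ * g⁻¹ = τ * (w * g * w⁻¹) * τ⁻¹ * g⁻¹ := by group
      _ = (w * g * w⁻¹ * τ) * τ⁻¹ * g⁻¹ := by rw [← h1]
      _ = w * (g * w⁻¹ * g⁻¹) := by group
  rw [e]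
  exact mul_mem hw (conj_mem_of_le_normalizer hLW hg (inv_mem hw))

end Cfsg.Agent.S2823
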