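import Cfsg.Statements.S2824
import Cfsg.Agent.Lib.Helper17.PRed

set_option autoImplicit false
open Cfsg

namespace Cfsg.Agent.S2824

/-- Let H be a finite group, p a prime, T a Sylow p-subgroup, L and M subgroups of characteristic p containing T, Y_L the largest p-reduced normal subgroup of L and T₀ = C_T(Y_L). If M·C_H(Y_L) = L·C_H(Y_L), then L* := N_M(T₀) has Y_{L*} = Y_L and L·C_H(Y_L) = L*·C_H(Y_L). -/
theorem result {H : Type*} [Group H] [Finite H] {p : ℕ} [Fact p.Prime] (T : Sylow p H) (L M : Subgroup H) (hTL : (T : Subgroup H) ≤ L) (hTM : (T : Subgroup H) ≤ M) (hL : Subgroup.centralizer (Cfsg.pCore p ↥L : Set ↥L) ≤ Cfsg.pCore p ↥L) (hM : Subgroup.centralizer (Cfsg.pCore p ↥M : Set ↥M) ≤ Cfsg.pCore p ↥M) (T₀ : Subgroup H) (hT₀ : T₀ = (T : Subgroup H) ⊓ Subgroup.centralizer (((Cfsg.largestPReducedOf p L) : Subgroup H) : Set H)) (hfac : M ⊔ Subgroup.centralizer (((Cfsg.largestPReducedOf p L) : Subgroup H) : Set H) = L ⊔ Subgroup.centralizer (((Cfsg.largestPReducedOf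 p L) : Subgroup H) : Set H)) (Ls : Subgroup H) (hLs : Ls = M ⊓ Subgroup.normalizer ((T₀ : Subgroup H) : Set H)) : (Cfsg.largestPReducedOf p Ls) = (Cfsg.largestPReducedOf p L) ∧ L ⊔ Subgroup.centralizer (((Cfsg.largestPReducedOf p L) : Subgroup H) : Set H) = Ls ⊔ Subgroup.centralizer (((Cfsg.largestPReducedOf p L) : Subgroup H) : Set H) := by
  open Cfsg.Agent.Lib.Helper17 in
  subst hT₀ hLs
  have hcharL := Cfsg.Agent.Lib.Helper17.charP_iff.mp hL
  have hTL' : IsSyl p (T : Subgroup H) L := (isSyl_top T).of_le hTL le_top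
  have hTM' : IsSyl p (T : Subgroup H) M := (isSyl_top T).of_le hTM le_top
  have hY := pRed_largest p L
  have hYeq := largest_eq_omegaOne hcharL hTL' hY (fun V hV => hV.le_largest)
  set Y := largestPReducedOf p L with hYdef
  have hMn : M ≤ Subgroup.normalizer (Y : Set H) :=
    le_sup_left.trans (hfac.le.trans (sup_le hY.2.2.1 (centralizer_le_normalizer' Y)))
  have hsup := sup_centralizer_eq hTM' hMn
  set T₀ := (T : Subgroup H) ⊓ Subgroup.centralizer (Y : Set H) with hT₀
  set Ls := M ⊓ Subgroup.normalizer (T₀ : Set H) with hLs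
  have hsecond : L ⊔ Subgroup.centralizer (Y : Set H) = Ls ⊔ Subgroup.centralizer (Y : Set H) := by
    rw [hsup, hfac]
  refine ⟨?_, hsecond⟩
  have hTLs : (T : Subgroup H) ≤ Ls := le_inf hTM (le_normalizer_inf Subgroup.le_normalizer
    ((hTM.trans hMn).trans (normalizer_le_normalizer_centralizer Y)))
  have hTLs' : IsSyl p (T : Subgroup H) Ls := (isSyl_top T).of_le hTLs le_top
  apply le_antisymm
  · have hW := pRed_largest p Ls
    set W := largestPReducedOf p Ls with hWdef
    have hT₀core : T₀ ≤ pCoreOf p Ls :=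
      le_pCoreOf (le_inf (inf_le_left.trans hTM) Subgroup.le_normalizer) inf_le_right
        (T.2.to_le inf_le_left)
    have hWc : W ≤ Subgroup.centralizer (T₀ : Set H) :=
      Subgroup.le_centralizer_iff.mp (hT₀core.trans hW.core_le_centralizer)
    have hYT₀ : Y ≤ T₀ := le_inf (hY.le_core.trans (pCoreOf_le_isSyl hTL')) hY.2.1.le_centralizer
    have hWT₀ : W ≤ T₀ := le_inf (hW.le_core.trans (pCoreOf_le_isSyl hTLs'))
      (hWc.trans (Subgroup.centralizer_le hYT₀))
    exact le_of_le_of_eq (le_omegaOne (le_inf hWT₀ hWc) hW.2.1.2) hYeq.symm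
  · exact largest_le_of_sup_eq hTLs' hTL' hsecond.symm

end Cfsg.Agent.S2824
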