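import Cfsg.Statements.S2825
import Cfsg.Agent.Lib.Helper17.PRed2

set_option autoImplicit false
open Cfsg

namespace Cfsg.Agent.S2825

/-- Let L be a subnormal subgroup of the finite group H, p a prime, Y_H and Y_L the largest p-reduced normal subgroups. Then Y_H ∩ L = Y_H ∩ Y_L and this subgroup is a p-reduced normal subgroup of L; C_L(Y_L) = C_L(Y_H) = C_L(Y_H ∩ L); and if O^p(H) ≤ L, then [Y_L, L] = 1 if and only if [Y_H, H] = 1. -/
theorem result {H : Type*} [Group H] [Finite H] {p : ℕ} [Fact p.Prime] (L : Subgroup H) (hL : L.IsSubnormal) : Cfsg.largestPReduced p H ⊓ L = Cfsg.largestPReduced p H ⊓ (Cfsg.largestPReducedOf p L) ∧ Cfsg.IsPReducedNormal p ((Cfsg.largestPReduced p H ⊓ L).subgroupOf L) ∧ L ⊓ Subgroup.centralizer ((Cfsg.largestPReducedOf p L : Subgroup H) : Set H) = L ⊓ Subgroup.centralizer (Cfsg.largestPReduced p H : Set H) ∧ L ⊓ Subgroup.centralizer (Cfsg.largestPReduced p H : Set H) = L ⊓ Subgroup.centralizer ((Cfsg.largestPReduced p H ⊓ L : Subgroup H) : Set H) ∧ (Cfsg.pResidual p H ≤ L → (⁅(Cfsg.largestPReducedOf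 p L), L⁆ = ⊥ ↔ ⁅Cfsg.largestPReduced p H, (⊤ : Subgroup H)⁆ = ⊥)) := by
  open Cfsg.Agent.Lib.Helper17 in
  set Y := Cfsg.largestPReduced p H with hYdef
  have hY : PRed p Y ⊤ := pRed_largest_top p
  have key : PRed p (Y ⊓ L) L ∧
      L ⊓ Subgroup.centralizer ((Y ⊓ L : Subgroup H) : Set H) ≤ Subgroup.centralizer (Y : Set H) ∧
      L ⊓ Subgroup.centralizer (Y : Set H) ≤
        Subgroup.centralizer (Cfsg.largestPReducedOf p L : Set H) := by
    induction hL with
    | top =>
      refine ⟨by rwa [inf_top_eq], by rw [inf_top_eq]; exact inf_le_right, ?_⟩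
      rw [largestPReducedOf_top]
      exact inf_le_right
    | step L K h_le _ hN ih =>
      have hKL := (Subgroup.normal_subgroupOf_iff_le_normalizer h_le).mp hN
      obtain ⟨ih1, ih2, ih3⟩ := ih
      have e : Y ⊓ K ⊓ L = Y ⊓ L := by rw [inf_assoc, inf_eq_right.mpr h_le]
      refine ⟨?_, ?_, ?_⟩
      · have := ih1.inf_normal h_le hKL
        rwa [e] at this
      · have h1 := ih1.inf_centralizer_inf_le h_le hKL
        rw [e] at h1
        exact (le_inf (inf_le_left.trans h_le) h1).trans ih2
      · refine le_trans ?_ (inf_centralizer_largest_le h_le hKL)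
        exact le_inf inf_le_left ((inf_le_inf_right _ h_le).trans ih3)
  obtain ⟨k1, k2, k3⟩ := key
  have hYL := pRed_largest p L
  have hle : Y ⊓ L ≤ Cfsg.largestPReducedOf p L := k1.le_largest
  have h3 : L ⊓ Subgroup.centralizer ((Cfsg.largestPReducedOf p L : Subgroup H) : Set H) =
      L ⊓ Subgroup.centralizer (Y : Set H) := by
    apply le_antisymm
    · refine le_inf inf_le_left (le_trans ?_ k2)
      exact inf_le_inf_left _ (Subgroup.centralizer_le hle)
    · exact le_inf inf_le_left k3
  refine ⟨?_, ?_, h3, ?_, ?_⟩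
  · apply le_antisymm
    · exact le_inf inf_le_left hle
    · exact inf_le_inf_left _ hYL.1
  · rw [isPReducedNormal_iff, Subgroup.subgroupOf_map_subtype, inf_assoc, inf_idem]
    exact k1
  · apply le_antisymm
    · exact inf_le_inf_left _ (Subgroup.centralizer_le
        (show ((Y ⊓ L : Subgroup H) : Set H) ⊆ Y from inf_le_left))
    · exact le_inf inf_le_left k2
  · intro hres
    rw [Subgroup.commutator_eq_bot_iff_le_centralizer,
      Subgroup.commutator_eq_bot_iff_le_centralizer, Subgroup.le_centralizer_iff,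
      Subgroup.le_centralizer_iff (H := Y)]
    constructor
    · intro h
      have h4 : L ≤ Subgroup.centralizer (Y : Set H) := by
        have : L ≤ L ⊓ Subgroup.centralizer (Y : Set H) := by
          rw [← h3]; exact le_inf le_rfl h
        exact this.trans inf_le_right
      apply hY.2.2.2 ⊤ le_rfl Subgroup.le_normalizer
      apply pMod_of_coprime_mem
      intro g _ hc
      exact h4 (hres (mem_pResidual_of_coprime hc))
    · intro h
      have : L ≤ L ⊓ Subgroup.centralizer ((Cfsg.largestPReducedOf p L : Subgroup H) : Set H) := by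
        rw [h3]; exact le_inf le_rfl (le_top.trans h)
      exact this.trans inf_le_right

end Cfsg.Agent.S2825
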