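import Cfsg.Statements.S2826
import Cfsg.Agent.Lib.Helper17.Trace

set_option autoImplicit false
open Cfsg

namespace Cfsg.Agent.S2826

/-- Let H be a finite group of characteristic p, T a Sylow p-subgroup, and V a normal elementary abelian p-subgroup of H containing Ω₁(Z(T)). Then C_H(Ω₁(Z(T))) = C_H([V, O^p(H)] ∩ Ω₁(Z(T))), O^p(H) being generated by the elements of order prime to p. -/
theorem result {H : Type*} [Group H] [Finite H] {p : ℕ} [Fact p.Prime] (hH : Subgroup.centralizer (Cfsg.pCore p H : Set H) ≤ Cfsg.pCore p H) (T : Sylow p H) (V : Subgroup H) [V.Normal] (hV : Cfsg.IsElementaryAbelian p V) (hZV : (Cfsg.omegaOne p ((T : Subgroup H) ⊓ Subgroup.centralizer (((T : Subgroup H) : Subgroup H) : Set H))) ≤ V) : Subgroup.centralizer ((Cfsg.omegaOne p ((T : Subgroup H) ⊓ Subgroup.centralizer (((T : Subgroup H) : Subgroup H) : Set H))) : Set H) = Subgroup.centralizer (((⁅V, Cfsg.pResidual p H⁆ ⊓ (Cfsg.omegaOne p ((T : Subgroup H) ⊓ Subgroup.centralizer (((T : Subgroup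 H) : Subgroup H) : Set H)))) : Subgroup H) : Set H) := by
  open Cfsg.Agent.Lib.Helper17 in
  set Z := Cfsg.omegaOne p ((T : Subgroup H) ⊓ Subgroup.centralizer ((T : Subgroup H) : Set H)) with hZ
  apply le_antisymm (Subgroup.centralizer_le inf_le_right)
  intro c hc
  rw [Subgroup.mem_centralizer_iff]
  intro z hz
  have hea : EA p V := isElementaryAbelian_iff.mp hV
  have hzT : ∀ t ∈ (T : Subgroup H), t * z = z * t :=
    Subgroup.mem_centralizer_iff.mp (omegaOne_le _ _ hz).2
  have hVn : (⊤ : Subgroup H) ≤ Subgroup.normalizer (V : Set H) := by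
    rw [Subgroup.normalizer_eq_top_iff.mpr inferInstance]
  obtain ⟨τ, hτV, hτ, w, hw, e⟩ := trace_syl (isSyl_top T) hea hVn (hZV hz) hzT
  rw [opOf_top] at hw
  have hVT : V ≤ (T : Subgroup H) := (le_pCore inferInstance hea.isPGroup).trans (pCore_le_sylow T)
  have hwV : w ∈ V := Subgroup.commutator_le_left V _ hw
  have hwZ : w ∈ Z := by
    apply Subgroup.subset_closure
    refine ⟨⟨hVT hwV, ?_⟩, hea.2 w hwV⟩
    show w ∈ Subgroup.centralizer ((T : Subgroup H) : Set H)
    rw [Subgroup.mem_centralizer_iff]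
    intro t ht
    have h1 := hzT t ht
    have h2 := hτ t trivial
    have ew : w = τ⁻¹ * z := by rw [e]; group
    rw [ew]
    calc t * (τ⁻¹ * z) = τ⁻¹ * (τ * t) * τ⁻¹ * z := by group
      _ = τ⁻¹ * (t * τ) * τ⁻¹ * z := by rw [h2]
      _ = τ⁻¹ * (t * z) := by group
      _ = τ⁻¹ * (z * t) := by rw [h1]
      _ = τ⁻¹ * z * t := by group
  have h1 := Subgroup.mem_centralizer_iff.mp hc w ⟨hw, hwZ⟩
  have h2 := hτ c trivial
  rw [e]
  calc τ * w * c = τ * (w * c) := by group
    _ = τ * (c * w) := by rw [h1]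
    _ = (τ * c) * w := by group
    _ = (c * τ) * w := by rw [h2]
    _ = c * (τ * w) := by group

end Cfsg.Agent.S2826
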