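import Cfsg.Statements.S2827
import Cfsg.Agent.Lib.Helper17.PIrr

set_option autoImplicit false
open Cfsg

namespace Cfsg.Agent.S2827

/-- Let H be a finite p-irreducible group (not p-closed, and O^p(H) lies in every normal subgroup that is not p-closed) and T a Sylow p-subgroup. Then H is generated by the conjugates of T and H = H'·T; O^p(H) ≤ H'; and for every normal subgroup Y of T not contained in O_p(H), O^p(H) = [O^p(H), Y] and O^p(H) is contained in the normal closure of Y in H. -/
theorem result {H : Type*} [Group H] [Finite H] {p : ℕ} [Fact p.Prime] (hH : Cfsg.IsPIrreducible p H) (T : Sylow p H) : Subgroup.normalClosure ((T : Subgroup H) : Set H) = ⊤ ∧ commutator H ⊔ (T : Subgroup H) = ⊤ ∧ Cfsg.pResidual p H ≤ commutator H ∧ ∀ Y : Subgroup H, Y ≤ (T : Subgroup H) → (T : Subgroup H) ≤ Subgroup.normalizer (Y : Set H) → ¬ Y ≤ Cfsg.pCore p H → ⁅Cfsg.pResidual p H, Y⁆ = Cfsg.pResidual p H ∧ Cfsg.pResidual p H ≤ Subgroup.normalClosure (Y : Set H) := by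
  open Cfsg.Agent.Lib.Helper17 in
  have h2 : commutator H ⊔ (T : Subgroup H) = ⊤ :=
    IsPIrreducible.eq_top_of_sylow_le hH T (Subgroup.Normal.of_commutator_le _ le_sup_left) le_sup_right
  refine ⟨IsPIrreducible.eq_top_of_sylow_le hH T Subgroup.normalClosure_normal Subgroup.subset_normalClosure, h2,
    pResidual_le_of_sup_eq_top inferInstance T.2 h2, ?_⟩
  intro Y hYT hTY hYc
  have hYp : IsPGroup p Y := T.2.to_le hYT
  have hcl : Cfsg.pResidual p H ≤ Subgroup.normalClosure (Y : Set H) := by
    apply hH.2 _ Subgroup.normalClosure_normal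
    intro h
    exact hYc (le_pCore_of_isPClosed Subgroup.normalClosure_normal h Subgroup.subset_normalClosure hYp)
  refine ⟨?_, hcl⟩
  set R := Cfsg.pResidual p H with hR
  have hRn : R.Normal := pResidual_normal' p
  apply le_antisymm (Subgroup.commutator_le_left R Y)
  set K : Subgroup H := ⁅R, Y⁆ with hK
  have hTK : (T : Subgroup H) ≤ Subgroup.normalizer (K : Set H) :=
    le_normalizer_commutator (top_le_normalizer_of_normal hRn _) hTY
  have hRK : R ≤ Subgroup.normalizer (K : Set H) := Subgroup.normalizer_commutator_ge_left R Y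
  have htop : R ⊔ (T : Subgroup H) = ⊤ := pResidual_sup_sylow T
  have hYKn : (Y ⊔ K).Normal := by
    apply normal_of_top_le_normalizer
    rw [← htop]
    exact sup_le (le_normalizer_sup_commutator Y R) (le_normalizer_sup hTY hTK)
  have h3 : R ≤ Y ⊔ K := hcl.trans (Subgroup.normalClosure_le_normal (show (Y : Set H) ⊆ ((Y ⊔ K : Subgroup H) : Set H) from (le_sup_left : Y ≤ Y ⊔ K)))
  have h4 : PMod p (Y ⊔ K) K := (pMod_of_isPGroup hYp K).sup (hYT.trans hTK)
  have h5 := opOf_le_of_pMod (h4.mono_left h3)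
  rwa [opOf_pResidual] at h5

end Cfsg.Agent.S2827
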