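import Cfsg.Statements.S2828
import Cfsg.Agent.Lib.Helper17.QuotP

set_option autoImplicit false
open Cfsg

namespace Cfsg.Agent.S2828

/-- Let H be a finite group, p a prime and D a normal p-subgroup of H. Then H is p-irreducible if and only if H/D is p-irreducible, and H is strongly p-irreducible if and only if H/D is strongly p-irreducible. -/
theorem result {H : Type*} [Group H] [Finite H] {p : ℕ} [Fact p.Prime] (D : Subgroup H) [D.Normal] (hD : IsPGroup p ↥D) : (Cfsg.IsPIrreducible p H ↔ Cfsg.IsPIrreducible p (H ⧸ D)) ∧ (Cfsg.IsStronglyPIrreducible p H ↔ Cfsg.IsStronglyPIrreducible p (H ⧸ D)) := by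
  open Cfsg.Agent.Lib.Helper17 in
  have hsurj := QuotientGroup.mk'_surjective D
  set π := QuotientGroup.mk' D with hπ
  have hres : Cfsg.pResidual p (H ⧸ D) = (Cfsg.pResidual p H).map π :=
    le_antisymm (pResidual_le_map π hsurj) (map_pResidual_le π)
  have hdown : ∀ N : Subgroup H, N.Normal → Cfsg.pResidual p (H ⧸ D) ≤ N.map π →
      Cfsg.pResidual p H ≤ N := by
    intro N hN h
    rw [hres, Subgroup.map_le_iff_le_comap, QuotientGroup.comap_map_mk'] at h
    have h4 : PMod p (D ⊔ N) N := (pMod_of_isPGroup hD N).sup (top_le_normalizer_of_normal hN _)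
    have h5 := opOf_le_of_pMod (h4.mono_left h)
    rwa [opOf_pResidual] at h5
  have hup : ∀ N' : Subgroup (H ⧸ D), Cfsg.pResidual p H ≤ N'.comap π →
      Cfsg.pResidual p (H ⧸ D) ≤ N' := by
    intro N' h
    rw [hres, Subgroup.map_le_iff_le_comap]
    exact h
  have hcomm : ∀ N : Subgroup H, ⁅N.map π, (⊤ : Subgroup (H ⧸ D))⁆ ≤ Cfsg.pCore p (H ⧸ D) ↔
      ⁅N, (⊤ : Subgroup H)⁆ ≤ Cfsg.pCore p H := by
    intro N
    rw [← Subgroup.map_top_of_surjective π hsurj, ← Subgroup.map_commutator,
      Subgroup.map_le_iff_le_comap, comap_pCore_quotient D hD]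
  constructor
  · constructor
    · rintro ⟨h1, h2⟩
      refine ⟨fun h => h1 ((isPClosed_quotient_iff D hD).mp h), fun N' hN' hc => hup N' ?_⟩
      apply h2 _ (hN'.comap π)
      intro h
      apply hc
      have := (isPClosed_map_quotient_iff D hD (hN'.comap π)).mpr h
      rwa [Subgroup.map_comap_eq_self_of_surjective hsurj] at this
    · rintro ⟨h1, h2⟩
      refine ⟨fun h => h1 ((isPClosed_quotient_iff D hD).mpr h), fun N hN hc => hdown N hN ?_⟩
      apply h2 _ (hN.map π hsurj)
      intro h
      exact hc ((isPClosed_map_quotient_iff D hD hN).mp h)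
  · constructor
    · rintro ⟨h1, h2⟩
      refine ⟨fun h => h1 ((isPClosed_quotient_iff D hD).mp h), fun N' hN' hc => hup N' ?_⟩
      apply h2 _ (hN'.comap π)
      intro h
      apply hc
      have := (hcomm (N'.comap π)).mpr h
      rwa [Subgroup.map_comap_eq_self_of_surjective hsurj] at this
    · rintro ⟨h1, h2⟩
      refine ⟨fun h => h1 ((isPClosed_quotient_iff D hD).mpr h), fun N hN hc => hdown N hN ?_⟩
      apply h2 _ (hN.map π hsurj)
      intro h
      exact hc ((hcomm N).mp h)

end Cfsg.Agent.S2828
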