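import Cfsg.Statements.S2829
import Cfsg.Agent.Lib.Helper17.PIrr

set_option autoImplicit false
open Cfsg

namespace Cfsg.Agent.S2829

/-- Every strongly p-irreducible finite group is p-irreducible. -/
theorem result {H : Type*} [Group H] [Finite H] {p : ℕ} [Fact p.Prime] (hH : Cfsg.IsStronglyPIrreducible p H) : Cfsg.IsPIrreducible p H := by
  open Cfsg.Agent.Lib.Helper17 in
  refine ⟨hH.1, fun N hN hNc => hH.2 N hN ?_⟩
  intro hle
  apply hNc
  obtain ⟨S, hS⟩ := exists_isSyl p N
  apply isPClosed_of_isSyl hS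
  apply le_normalizer_of_conj_mem
  intro n hn s hs
  have hc : n * s * n⁻¹ * s⁻¹ ∈ N ⊓ Cfsg.pCore p H := by
    refine ⟨?_, hle (Subgroup.commutator_mem_commutator hn (Subgroup.mem_top s))⟩
    exact N.mul_mem (N.mul_mem (N.mul_mem hn (hS.le hs)) (N.inv_mem hn)) (N.inv_mem (hS.le hs))
  have hle2 : N ⊓ Cfsg.pCore p H ≤ S := by
    refine le_trans ?_ (pCoreOf_le_isSyl hS)
    apply le_pCoreOf inf_le_left
    · exact le_normalizer_inf Subgroup.le_normalizer (top_le_normalizer_of_normal inferInstance N)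
    · exact pCore_isPGroup.to_le inf_le_right
  have e : n * s * n⁻¹ = (n * s * n⁻¹ * s⁻¹) * s := by group
  rw [e]
  exact S.mul_mem (hle2 hc) hs

end Cfsg.Agent.S2829
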