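import Cfsg.Statements.S2830
import Cfsg.Agent.Lib.Helper17.PClosed

set_option autoImplicit false
open Cfsg

namespace Cfsg.Agent.S2830

/-- Let H act by conjugation on the elementary abelian p-subgroup V of a finite group G (H ≤ N(V)), with H p-irreducible and O^p(H) not centralizing V. Then C_H(V) is p-closed and C_T(V) ≤ O_p(H) for every p-subgroup T of H. If in addition O_p(H) centralizes V, then C_T(V) = T ∩ O_p(H) for every p-subgroup T of H, and V is p-reduced for H: O_p(H/C_H(V)) = 1. -/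
theorem result {G : Type*} [Group G] [Finite G] {p : ℕ} [Fact p.Prime] (V H : Subgroup G) (hV : Cfsg.IsElementaryAbelian p V) (hHV : H ≤ Subgroup.normalizer (V : Set G)) (hH : Cfsg.IsPIrreducible p ↥H) (hnc : ¬ (Cfsg.pResidual p ↥H).map H.subtype ≤ Subgroup.centralizer (V : Set G)) [hn : ((Subgroup.centralizer (V : Set G)).subgroupOf H).Normal] : Cfsg.IsPClosed p ↥(H ⊓ Subgroup.centralizer (V : Set G)) ∧ (∀ T : Subgroup G, T ≤ H → IsPGroup p ↥T → T ⊓ Subgroup.centralizer (V : Set G) ≤ Cfsg.pCoreOf p H) ∧ (Cfsg.pCoreOf p H ≤ Subgroup.centralizer (V : Set G) → (∀ T : Subgroup G, T ≤ H → IsPGroup p ↥T → T ⊓ Subgroup.centralizer (V : Set G) = T ⊓ Cfsg.pCoreOf p H) ∧ Cfsg.pCore p (↥H ⧸ (Subgroup.centralizer (V : Set G)).subgroupOf H) = ⊥) := by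
  open Cfsg.Agent.Lib.Helper17 in
  set C := Subgroup.centralizer (V : Set G) with hC
  set N := C.subgroupOf H with hN
  have hnot : ¬ Cfsg.pResidual p ↥H ≤ N := by
    intro h
    apply hnc
    rintro _ ⟨x, hx, rfl⟩
    exact h hx
  have hNc : Cfsg.IsPClosed p ↥N := by
    by_contra h
    exact hnot (hH.2 N hn h)
  have h1 : Cfsg.IsPClosed p ↥(H ⊓ C) := isPClosed_subgroupOf_iff.mp hNc
  have h2 : ∀ T : Subgroup G, T ≤ H → IsPGroup p ↥T → T ⊓ C ≤ Cfsg.pCoreOf p H := by
    intro T hT hTp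
    exact le_pCoreOf_of_isPClosed inf_le_left (le_normalizer_inf_centralizer hHV) h1
      (inf_le_inf_right _ hT) (hTp.to_le inf_le_left)
  refine ⟨h1, h2, fun hcore => ⟨fun T hT hTp => ?_, ?_⟩⟩
  · exact le_antisymm (le_inf inf_le_left (h2 T hT hTp)) (inf_le_inf_left _ hcore)
  · rw [pCore_quotient_eq_bot_iff]
    intro D hD hpm
    by_cases hDc : Cfsg.IsPClosed p ↥D
    · obtain ⟨S, hS⟩ := exists_isSyl p D
      refine (hS.le_sup_of_pMod hpm).trans (sup_le le_rfl ?_)
      refine (le_pCore_of_isPClosed hD hDc hS.le hS.isPGroup).trans ?_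
      intro x hx
      exact hcore ⟨x, hx, rfl⟩
    · exfalso
      apply hnot
      have h3 := opOf_le_of_pMod (hpm.mono_left (hH.2 D hD hDc))
      rwa [opOf_pResidual] at h3

end Cfsg.Agent.S2830
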