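import Cfsg.Statements.S2831
import Cfsg.Agent.Lib.Helper17.PIrr

set_option autoImplicit false
open Cfsg

namespace Cfsg.Agent.S2831

/-- Let H be a finite group with Sylow p-subgroup T such that H is T-minimal (H is generated by the conjugates of T and T lies in exactly one maximal subgroup of H). Then H is p-irreducible: H is not p-closed and O^p(H) lies in every normal subgroup of H that is not p-closed. -/
theorem result {H : Type*} [Group H] [Finite H] {p : ℕ} [Fact p.Prime] (T : Sylow p H) (hmin : Cfsg.IsMinimalOver (T : Subgroup H)) : Cfsg.IsPIrreducible p H := by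
  open Cfsg.Agent.Lib.Helper17 in
  obtain ⟨hcl, M, ⟨hMc, hTM⟩, hMu⟩ := hmin
  have hle : ∀ X : Subgroup H, (T : Subgroup H) ≤ X → X ≠ ⊤ → X ≤ M :=
    fun X h1 h2 => le_of_unique_coatom hMu h1 h2
  have hnn : ∀ N : Subgroup H, N.Normal → (T : Subgroup H) ≤ N → N = ⊤ := by
    intro N hN hTN
    rw [eq_top_iff, ← hcl]
    exact Subgroup.normalClosure_le_normal hTN
  constructor
  · intro hc
    exact hMc.1 (top_le_iff.mp ((hnn _ (hc T) le_rfl).ge.trans hTM))
  · intro N hN hNc
    have hS : IsSyl p ((T : Subgroup H) ⊓ N) N :=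
      (isSyl_top T).inf_normal le_top (top_le_normalizer_of_normal hN ⊤)
    have hTS : (T : Subgroup H) ≤ Subgroup.normalizer (((T : Subgroup H) ⊓ N : Subgroup H) : Set H) :=
      le_normalizer_inf Subgroup.le_normalizer (top_le_normalizer_of_normal hN _)
    have hNS : Subgroup.normalizer (((T : Subgroup H) ⊓ N : Subgroup H) : Set H) ≤ M := by
      apply hle _ hTS
      intro h
      apply hNc
      apply isPClosed_of_isSyl hS
      rw [h]; exact le_top
    apply pResidual_le_of_sup_eq_top hN T.2
    by_contra hne
    have hNM : N ≤ M := le_sup_left.trans (hle _ le_sup_right hne)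
    apply hMc.1
    rw [eq_top_iff]
    intro x _
    obtain ⟨n, hn, hx⟩ := frattini_arg hS (top_le_normalizer_of_normal hN ⊤) (Subgroup.mem_top x)
    have := M.mul_mem (hNM hn) (hNS hx)
    simpa using this

end Cfsg.Agent.S2831
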