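import Cfsg.Statements.S2832
import Cfsg.Agent.Lib.Helper17.Quot

set_option autoImplicit false
open Cfsg

namespace Cfsg.Agent.S2832

/-- Let H be a finite group with Sylow p-subgroup T such that H is T-minimal (generated by the conjugates of T, with T in exactly one maximal subgroup), and let N be a normal subgroup of H. Then either H/N is a p-group or H/N is minimal over the image of T in the same sense. -/
theorem result {H : Type*} [Group H] [Finite H] {p : ℕ} [Fact p.Prime] (T : Sylow p H) (hmin : Cfsg.IsMinimalOver (T : Subgroup H)) (N : Subgroup H) [N.Normal] : IsPGroup p (H ⧸ N) ∨ Cfsg.IsMinimalOver ((T : Subgroup H).map (QuotientGroup.mk' N)) := by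
  open Cfsg.Agent.Lib.Helper17 in
  obtain ⟨hcl, M, ⟨hMc, hTM⟩, hMu⟩ := hmin
  have hsurj := QuotientGroup.mk'_surjective N
  by_cases h : N ⊔ (T : Subgroup H) = ⊤
  · left
    have hpm : PMod p ⊤ N := by
      rw [← h, sup_comm]
      exact (pMod_of_isPGroup T.2 N).sup (top_le_normalizer_of_normal inferInstance _)
    intro x'
    obtain ⟨x, rfl⟩ := hsurj x'
    obtain ⟨k, hk⟩ := hpm x trivial
    refine ⟨k, ?_⟩
    rw [← map_pow]
    exact (QuotientGroup.eq_one_iff _).mpr hk
  · right
    have hNM : N ≤ M := le_sup_left.trans (le_of_unique_coatom hMu le_sup_right h)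
    constructor
    · have h1 : Subgroup.normalClosure ((T : Subgroup H) : Set H) ≤
          (Subgroup.normalClosure (((T : Subgroup H).map (QuotientGroup.mk' N) : Subgroup (H ⧸ N)) :
            Set (H ⧸ N))).comap (QuotientGroup.mk' N) := by
        apply Subgroup.normalClosure_le_normal
        intro t ht
        exact Subgroup.subset_normalClosure (Subgroup.mem_map_of_mem _ ht)
      rw [hcl, top_le_iff] at h1
      rw [← Subgroup.map_comap_eq_self_of_surjective hsurj (Subgroup.normalClosure _), h1,
        Subgroup.map_top_of_surjective _ hsurj]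
    · refine ⟨M.map (QuotientGroup.mk' N), ⟨isCoatom_map_mk' hMc hNM, Subgroup.map_mono hTM⟩, ?_⟩
      rintro X ⟨hXc, hTX⟩
      have h1 := hMu (X.comap (QuotientGroup.mk' N))
        ⟨Subgroup.isCoatom_comap_of_surjective hsurj hXc, Subgroup.map_le_iff_le_comap.mp hTX⟩
      rw [← h1, Subgroup.map_comap_eq_self_of_surjective hsurj]

end Cfsg.Agent.S2832
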