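import Cfsg.Statements.S2833
import Cfsg.Agent.Lib.Helper17.Trace

set_option autoImplicit false
open Cfsg

namespace Cfsg.Agent.S2833

/-- Let V be a subgroup of a finite group G normalized by the subgroup L, let X ≤ L and g ∈ L with [V, X, X] = 1 and L generated by X and gXg⁻¹. Put W = [V, L]. Then W = [V, X]·[V, gXg⁻¹], C_W(X) = [V, X], and C_W(L) = [V, X] ∩ [V, gXg⁻¹]. -/
theorem result {G : Type*} [Group G] [Finite G] (V L : Subgroup G) (hLV : L ≤ Subgroup.normalizer (V : Set G)) (X : Subgroup G) (hX : X ≤ L) (g : G) (hg : g ∈ L) (hq : ⁅⁅V, X⁆, X⁆ = ⊥) (hgen : X ⊔ X.map (MulAut.conj g).toMonoidHom = L) (W : Subgroup G) (hW : W = ⁅V, L⁆) : ⁅V, X⁆ ⊔ ⁅V, X.map (MulAut.conj g).toMonoidHom⁆ = W ∧ W ⊓ Subgroup.centralizer (X : Set G) = ⁅V, X⁆ ∧ W ⊓ Subgroup.centralizer (L : Set G) = ⁅V, X⁆ ⊓ ⁅V, X.map (MulAut.conj g).toMonoidHom⁆ := by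
  open Cfsg.Agent.Lib.Helper17 in
  subst hW
  set X' := X.map (MulAut.conj g).toMonoidHom with hX'def
  have hX' : X' ≤ L := map_conj_le_of_le_of_mem hX hg
  have hmap : (⁅V, X⁆ : Subgroup G).map (MulAut.conj g).toMonoidHom = ⁅V, X'⁆ := by
    rw [Subgroup.map_commutator, map_conj_eq_of_mem_normalizer (hLV hg)]
  have hq' : ⁅⁅V, X'⁆, X'⁆ = ⊥ := by
    rw [← hmap, hX'def, ← Subgroup.map_commutator, hq, Subgroup.map_bot]
  have hA : ⁅V, X⁆ ≤ V := commutator_le_left_of_le_normalizer (hX.trans hLV)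
  have hB : ⁅V, X'⁆ ≤ V := commutator_le_left_of_le_normalizer (hX'.trans hLV)
  have hAc : ⁅V, X⁆ ≤ Subgroup.centralizer (X : Set G) :=
    Subgroup.commutator_eq_bot_iff_le_centralizer.mp hq
  have hBc : ⁅V, X'⁆ ≤ Subgroup.centralizer (X' : Set G) :=
    Subgroup.commutator_eq_bot_iff_le_centralizer.mp hq'
  have hstab : ∀ Z : Subgroup G, Z ≤ L → ⁅V, Z⁆ ≤ ⁅V, X⁆ ⊔ ⁅V, X'⁆ →
      Z ≤ stabMod V (⁅V, X⁆ ⊔ ⁅V, X'⁆) := by
    intro Z hZ hle z hz
    have h0 : ∀ f ∈ V, z * f * z⁻¹ * f⁻¹ ∈ ⁅V, X⁆ ⊔ ⁅V, X'⁆ := by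
      intro f hf
      apply hle
      rw [Subgroup.commutator_comm]
      exact Subgroup.commutator_mem_commutator hz hf
    refine ⟨?_, h0⟩
    have h1 : Subgroup.zpowers z ≤ Subgroup.normalizer ((⁅V, X⁆ ⊔ ⁅V, X'⁆ : Subgroup G) : Set G) := by
      apply le_normalizer_of_conj_mem
      intro k hk u hu
      have hkZ : k ∈ Z := (Subgroup.zpowers_le.mpr hz) hk
      have e : k * u * k⁻¹ = (k * u * k⁻¹ * u⁻¹) * u := by group
      rw [e]
      refine mul_mem (hle ?_) hu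
      rw [Subgroup.commutator_comm]
      exact Subgroup.commutator_mem_commutator hkZ (sup_le hA hB hu)
    exact h1 (Subgroup.mem_zpowers z)
  have h1 : ⁅V, X⁆ ⊔ ⁅V, X'⁆ = ⁅V, L⁆ := by
    apply le_antisymm (sup_le (Subgroup.commutator_mono le_rfl hX)
      (Subgroup.commutator_mono le_rfl hX'))
    apply commutator_le_of_le_stabMod
    rw [← hgen]
    exact sup_le (hstab X hX le_sup_left) (hstab X' hX' le_sup_right)
  have hcL : ∀ w : G, w ∈ Subgroup.centralizer (X : Set G) → w ∈ Subgroup.centralizer (X' : Set G) →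
      w ∈ Subgroup.centralizer (L : Set G) := by
    intro w h2 h3
    have h4 : L ≤ Subgroup.centralizer ({w} : Set G) := by
      rw [← hgen]
      apply sup_le
      · intro x hx
        rw [Subgroup.mem_centralizer_singleton_iff]
        exact Subgroup.mem_centralizer_iff.mp h2 x hx
      · intro x hx
        rw [Subgroup.mem_centralizer_singleton_iff]
        exact Subgroup.mem_centralizer_iff.mp h3 x hx
    rw [Subgroup.mem_centralizer_iff]
    intro l hl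
    exact Subgroup.mem_centralizer_singleton_iff.mp (h4 hl)
  have hswap : ∀ w : G, w ∈ Subgroup.centralizer (L : Set G) → (w ∈ ⁅V, X⁆ ↔ w ∈ ⁅V, X'⁆) := by
    intro w hw
    have h2 := Subgroup.mem_centralizer_iff.mp hw g hg
    have e : g⁻¹ * w * g = w := by
      calc g⁻¹ * w * g = g⁻¹ * (w * g) := by group
        _ = g⁻¹ * (g * w) := by rw [h2]
        _ = w := by group
    rw [← hmap, mem_map_conj, e]
  have h2 : ⁅V, L⁆ ⊓ Subgroup.centralizer (X : Set G) = ⁅V, X⁆ := by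
    apply le_antisymm _ (le_inf (Subgroup.commutator_mono le_rfl hX) hAc)
    rintro w ⟨hw, hwc⟩
    change w ∈ ⁅V, L⁆ at hw
    rw [← h1, mem_sup_of_le_normalizer
      (hA.trans (Subgroup.normalizer_commutator_ge_left V X'))] at hw
    obtain ⟨a, ha, b, hb, rfl⟩ := hw
    have hbc : b ∈ Subgroup.centralizer (X : Set G) := by
      have := mul_mem (inv_mem (hAc ha)) hwc
      simpa using this
    exact mul_mem ha ((hswap b (hcL b hbc (hBc hb))).mpr hb)
  refine ⟨h1, h2, ?_⟩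
  apply le_antisymm
  · rintro w ⟨hw, hwc⟩
    have h3 : w ∈ ⁅V, X⁆ := by
      rw [← h2]
      exact ⟨hw, Subgroup.centralizer_le hX hwc⟩
    exact ⟨h3, (hswap w hwc).mp h3⟩
  · rintro w ⟨hw1, hw2⟩
    exact ⟨Subgroup.commutator_mono le_rfl hX hw1, hcL w (hAc hw1) (hBc hw2)⟩

end Cfsg.Agent.S2833
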