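import Cfsg.Statements.S2835
import Cfsg.Agent.Lib.Helper17.PIrr

set_option autoImplicit false
open Cfsg

namespace Cfsg.Agent.S2835

/-- Let L be a finite group, L₀ a maximal subgroup, T a Sylow p-subgroup of L₀ and Y ≤ T, and suppose L is Y-minimal (generated by the conjugates of Y, with Y in exactly one maximal subgroup, necessarily L₀). Then N_L(T) ≤ L₀, O_p(L) ≤ L₀ and T is a Sylow p-subgroup of L; N_L(L₀) = L₀; L = ⟨Y, gYg⁻¹⟩ for each g ∈ L outside L₀; and if Y is abelian then Y ∩ gYg⁻¹ = C_Y(L) for each such g. -/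
theorem result {L : Type*} [Group L] [Finite L] {p : ℕ} [Fact p.Prime] (L₀ : Subgroup L) (hL₀ : IsCoatom L₀) (T : Sylow p ↥L₀) (Y : Subgroup L) (hYT : Y ≤ (T : Subgroup ↥L₀).map L₀.subtype) (hmin : Cfsg.IsMinimalOver Y) : Subgroup.normalizer (((T : Subgroup ↥L₀).map L₀.subtype : Subgroup L) : Set L) ≤ L₀ ∧ Cfsg.pCore p L ≤ L₀ ∧ (∃ P : Sylow p L, (P : Subgroup L) = (T : Subgroup ↥L₀).map L₀.subtype) ∧ Subgroup.normalizer (L₀ : Set L) = L₀ ∧ (∀ g : L, g ∉ L₀ → Y ⊔ Y.map (MulAut.conj g).toMonoidHom = ⊤) ∧ (IsMulCommutative ↥Y → ∀ g : L, g ∉ L₀ → Y ⊓ Y.map (MulAut.conj g).toMonoidHom = Y ⊓ Subgroup.center L) := by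
  open Cfsg.Agent.Lib.Helper17 in
  obtain ⟨hcl, M, ⟨hMc, hYM⟩, hMu⟩ := hmin
  set T' := (T : Subgroup ↥L₀).map L₀.subtype with hT'
  have hT : IsSyl p T' L₀ := isSyl_of_sylow T
  have hML : L₀ = M := hMu L₀ ⟨hL₀, hYT.trans hT.le⟩
  subst hML
  have hle : ∀ X : Subgroup L, Y ≤ X → X ≠ ⊤ → X ≤ L₀ :=
    fun X h1 h2 => le_of_unique_coatom hMu h1 h2
  have hnn : ∀ N : Subgroup L, N.Normal → Y ≤ N → N = ⊤ := by
    intro N hN hTN
    rw [eq_top_iff, ← hcl]
    exact Subgroup.normalClosure_le_normal hTN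
  have h1 : Subgroup.normalizer (T' : Set L) ≤ L₀ := by
    apply hle _ (hYT.trans Subgroup.le_normalizer)
    intro h
    have := hnn T' (Subgroup.normalizer_eq_top_iff.mp h) hYT
    exact hL₀.1 (top_le_iff.mp (this.ge.trans hT.le))
  have h3 : ∃ P : Sylow p L, (P : Subgroup L) = T' := by
    obtain ⟨P, hP⟩ := hT.isPGroup.exists_le_sylow
    refine ⟨P, ?_⟩
    by_contra hne
    have hlt : T' < (P : Subgroup L) := lt_of_le_of_ne hP (fun e => hne e.symm)
    obtain ⟨x, hxP, hxN, hxT⟩ := pgroup_normalizer_grow P.2 hlt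
    have hle2 : T' ⊔ Subgroup.zpowers x ≤ (P : Subgroup L) :=
      sup_le hP (by rwa [Subgroup.zpowers_le])
    have heq := hT.eq_of_le (A := T' ⊔ Subgroup.zpowers x)
      (sup_le hT.le (by rw [Subgroup.zpowers_le]; exact h1 hxN)) (P.2.to_le hle2) le_sup_left
    apply hxT
    rw [← heq]
    exact Subgroup.mem_sup_right (Subgroup.mem_zpowers x)
  have h4 : Subgroup.normalizer (L₀ : Set L) = L₀ := by
    apply le_antisymm _ Subgroup.le_normalizer
    apply hle _ (hYM.trans Subgroup.le_normalizer)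
    intro h
    exact hL₀.1 (hnn L₀ (Subgroup.normalizer_eq_top_iff.mp h) hYM)
  have h5 : ∀ g : L, g ∉ L₀ → Y ⊔ Y.map (MulAut.conj g).toMonoidHom = ⊤ := by
    intro g hg
    by_contra hne
    have h6 := hle _ le_sup_left hne
    have h7 : Y ≤ L₀.map (MulAut.conj g⁻¹).toMonoidHom :=
      le_map_conj_iff.mpr (by rw [inv_inv]; exact le_sup_right.trans h6)
    have h8 := hMu _ ⟨isCoatom_map_conj hL₀ g⁻¹, h7⟩
    have h9 : g⁻¹ ∈ Subgroup.normalizer (L₀ : Set L) := mem_normalizer_iff_map_conj.mpr h8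
    rw [h4] at h9
    exact hg (by simpa using L₀.inv_mem h9)
  refine ⟨h1, ?_, h3, h4, h5, ?_⟩
  · obtain ⟨P, hP⟩ := h3
    exact (pCore_le_sylow P).trans (hP.le.trans hT.le)
  · intro hYc g hg
    have hcomm : ∀ a ∈ Y, ∀ b ∈ Y, a * b = b * a := by
      intro a ha b hb
      have := mul_comm' (⟨a, ha⟩ : Y) ⟨b, hb⟩
      exact congrArg Subtype.val this
    apply le_antisymm
    · intro x hx
      refine ⟨hx.1, ?_⟩
      have hxc : (⊤ : Subgroup L) ≤ Subgroup.centralizer ({x} : Set L) := by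
        rw [← h5 g hg]
        apply sup_le
        · intro y hy
          rw [Subgroup.mem_centralizer_singleton_iff]
          exact hcomm y hy x hx.1
        · rintro _ ⟨y, hy, rfl⟩
          rw [Subgroup.mem_centralizer_singleton_iff]
          obtain ⟨x', hx', e⟩ := hx.2
          rw [← e]
          show g * y * g⁻¹ * (g * x' * g⁻¹) = g * x' * g⁻¹ * (g * y * g⁻¹)
          calc g * y * g⁻¹ * (g * x' * g⁻¹) = g * (y * x') * g⁻¹ := by group
            _ = g * (x' * y) * g⁻¹ := by rw [hcomm y hy x' hx']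
            _ = g * x' * g⁻¹ * (g * y * g⁻¹) := by group
      show x ∈ Subgroup.center L
      rw [Subgroup.mem_center_iff]
      intro y
      exact Subgroup.mem_centralizer_singleton_iff.mp (hxc (Subgroup.mem_top y))
    · intro x hx
      refine ⟨hx.1, x, hx.1, ?_⟩
      have := Subgroup.mem_center_iff.mp hx.2 g
      show g * x * g⁻¹ = x
      rw [this]; group

end Cfsg.Agent.S2835
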