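import Cfsg.Statements.S2836
import Cfsg.Agent.Lib.Helper17.Quot
import Cfsg.Agent.S2835

set_option autoImplicit false
open Cfsg

namespace Cfsg.Agent.S2836

/-- Let L be a finite group, L₀ a maximal subgroup, T a Sylow p-subgroup of L₀, Y ≤ T, and suppose L is Y-minimal. Let D be the intersection of the conjugates of L₀ (the core of L₀). Then D contains O_p(L) and D/O_p(L) is the Frattini subgroup of L/O_p(L), so D is p-closed; and every normal subgroup N of L contained in L₀ is p-closed with N/O_p(N) a nilpotent group of order prime to p. -/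
theorem result {L : Type*} [Group L] [Finite L] {p : ℕ} [Fact p.Prime] (L₀ : Subgroup L) (hL₀ : IsCoatom L₀) (T : Sylow p ↥L₀) (Y : Subgroup L) (hYT : Y ≤ (T : Subgroup ↥L₀).map L₀.subtype) (hmin : Cfsg.IsMinimalOver Y) : (Cfsg.pCore p L ≤ L₀.normalCore ∧ (L₀.normalCore).map (QuotientGroup.mk' (Cfsg.pCore p L)) = frattini (L ⧸ Cfsg.pCore p L) ∧ Cfsg.IsPClosed p ↥(L₀.normalCore)) ∧ ∀ (N : Subgroup L) [N.Normal], N ≤ L₀ → Cfsg.IsPClosed p ↥N ∧ Group.IsNilpotent (↥N ⧸ Cfsg.pCore p ↥N) ∧ (Nat.card (↥N ⧸ Cfsg.pCore p ↥N)).Coprime p := by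
  open Cfsg.Agent.Lib.Helper17 in
  obtain ⟨h1, h2, ⟨P, hP⟩, h4, h5, -⟩ := Cfsg.Agent.S2835.result L₀ hL₀ T Y hYT hmin
  obtain ⟨hcl, M, ⟨hMc, hYM⟩, hMu⟩ := hmin
  set T' := (T : Subgroup ↥L₀).map L₀.subtype with hT'
  have hT : IsSyl p T' L₀ := isSyl_of_sylow T
  have hML : L₀ = M := hMu L₀ ⟨hL₀, hYT.trans hT.le⟩
  subst hML
  have hle : ∀ X : Subgroup L, Y ≤ X → X ≠ ⊤ → X ≤ L₀ :=
    fun X h1 h2 => le_of_unique_coatom hMu h1 h2
  have hTtop : IsSyl p T' ⊤ := hP ▸ isSyl_top P
  set Q := Cfsg.pCore p L with hQ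
  have hQT : Q ≤ T' := hP ▸ pCore_le_sylow P
  have hsyl : ∀ N : Subgroup L, N.Normal → IsSyl p (T' ⊓ N) N := fun N hN =>
    hTtop.inf_normal le_top (top_le_normalizer_of_normal hN ⊤)
  have key : ∀ N : Subgroup L, N.Normal → N ≤ L₀ → (T' ⊓ N).Normal := by
    intro N hN hNL
    by_contra hnn
    have hTS : T' ≤ Subgroup.normalizer ((T' ⊓ N : Subgroup L) : Set L) :=
      le_normalizer_inf Subgroup.le_normalizer (top_le_normalizer_of_normal hN _)
    have hNS : Subgroup.normalizer ((T' ⊓ N : Subgroup L) : Set L) ≤ L₀ :=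
      hle _ (hYT.trans hTS) (fun h => hnn (Subgroup.normalizer_eq_top_iff.mp h))
    apply hL₀.1
    rw [eq_top_iff]
    intro x _
    obtain ⟨n, hn, hx⟩ := frattini_arg (hsyl N hN) (top_le_normalizer_of_normal hN ⊤)
      (Subgroup.mem_top x)
    have := L₀.mul_mem (hNL hn) (hNS hx)
    simpa using this
  have keyQ : ∀ N : Subgroup L, N.Normal → N ≤ L₀ → T' ⊓ N = Q ⊓ N := fun N hN hNL =>
    le_antisymm (le_inf (le_pCore (key N hN hNL) (hT.isPGroup.to_le inf_le_left)) inf_le_right)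
      (inf_le_inf_right _ hQT)
  have keyC : ∀ N : Subgroup L, N.Normal → N ≤ L₀ → Cfsg.IsPClosed p ↥N := fun N hN hNL =>
    isPClosed_of_isSyl (hsyl N hN) (top_le_normalizer_of_normal (key N hN hNL) N)
  set D := L₀.normalCore with hD
  have hDn : D.Normal := Subgroup.normalCore_normal L₀
  have hDL : D ≤ L₀ := Subgroup.normalCore_le L₀
  have hQD : Q ≤ D := Subgroup.normal_le_normalCore.mpr h2
  have hfr : D.map (QuotientGroup.mk' Q) = frattini (L ⧸ Q) := by
    apply le_antisymm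
    · unfold frattini Order.radical
      apply le_iInf₂
      intro X hX
      have hXc : IsCoatom (X.comap (QuotientGroup.mk' Q)) :=
        Subgroup.isCoatom_comap_of_surjective (QuotientGroup.mk'_surjective Q) hX
      rw [Subgroup.map_le_iff_le_comap]
      set X' := X.comap (QuotientGroup.mk' Q) with hX'
      have hQX : Q ≤ X' := le_comap_mk' Q X
      by_contra hDX
      have hsup : X' ⊔ D = ⊤ := by
        apply hXc.2
        exact lt_of_le_of_ne le_sup_left (fun e => hDX (by rw [e]; exact le_sup_right))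
      have hnd : ¬ p ∣ X'.relIndex ⊤ :=
        not_dvd_relIndex_of_supplement le_top le_top (top_le_normalizer_of_normal hDn ⊤) hsup.ge
          (hsyl D hDn) (by rw [keyQ D hDn hDL]; exact inf_le_left.trans hQX)
      obtain ⟨m, -, hm⟩ := exists_conj_le_of_not_dvd_relIndex le_top hnd hTtop
      have h7 : Y ≤ X'.map (MulAut.conj m⁻¹).toMonoidHom :=
        le_map_conj_iff.mpr (by rw [inv_inv]; exact (Subgroup.map_mono hYT).trans hm)
      have h8 := hMu _ ⟨isCoatom_map_conj hXc m⁻¹, h7⟩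
      apply hDX
      intro d hd
      have h9 : m⁻¹ * d * m⁻¹⁻¹ ∈ L₀ := hDL (hDn.conj_mem d hd m⁻¹)
      rw [← h8, mem_map_conj] at h9
      simpa [mul_assoc] using h9
    · intro x' hx'
      obtain ⟨x, rfl⟩ := QuotientGroup.mk'_surjective Q x'
      refine Subgroup.mem_map_of_mem _ ?_
      intro b
      have hQb : Q ≤ L₀.map (MulAut.conj b⁻¹).toMonoidHom := by
        intro q hq
        rw [mem_map_conj]
        have := (inferInstance : Q.Normal).conj_mem q hq b
        simpa using h2 this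
      have h6 := frattini_le_coatom (isCoatom_map_mk' (isCoatom_map_conj hL₀ b⁻¹) hQb) hx'
      rw [mk_mem_map_mk'_iff hQb, mem_map_conj] at h6
      simpa using h6
  refine ⟨⟨hQD, hfr, keyC D hDn hDL⟩, ?_⟩
  intro N hN hNL
  have hNc := keyC N hN hNL
  refine ⟨hNc, ?_, coprime_card_quotient_pCore_of_isPClosed hNc⟩
  set φ : N →* L ⧸ Q := (QuotientGroup.mk' Q).comp N.subtype with hφ
  have hcore : pCoreOf p N = Q ⊓ N := by
    rw [← keyQ N hN hNL]
    exact le_antisymm (pCoreOf_le_isSyl (hsyl N hN)) (le_pCoreOf inf_le_right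
      (top_le_normalizer_of_normal (key N hN hNL) N) (hT.isPGroup.to_le inf_le_left))
  have hker : φ.ker = Cfsg.pCore p ↥N := by
    ext x
    rw [MonoidHom.mem_ker, ← mem_pCoreOf_iff x.2, hcore]
    show (QuotientGroup.mk (x : L) : L ⧸ Q) = 1 ↔ _
    rw [QuotientGroup.eq_one_iff]
    exact ⟨fun h => ⟨h, x.2⟩, fun h => h.1⟩
  have hrange : φ.range ≤ frattini (L ⧸ Q) := by
    rw [← hfr]
    rintro _ ⟨n, rfl⟩
    exact Subgroup.mem_map_of_mem _ (Subgroup.normal_le_normalCore.mpr hNL n.2)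
  have hnil : Group.IsNilpotent φ.range := isNilpotent_of_le hrange frattini_nilpotent
  exact Group.nilpotent_of_mulEquiv
    ((QuotientGroup.quotientMulEquivOfEq hker.symm).trans (QuotientGroup.quotientKerEquivRange φ)).symm

end Cfsg.Agent.S2836
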