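import Cfsg.Statements.S2837
import Cfsg.Agent.Lib.Helper17.PIrr
import Cfsg.Agent.S2835
import Cfsg.Agent.S0012
import Cfsg.Agent.S0013

set_option autoImplicit false
open Cfsg

namespace Cfsg.Agent.S2837

/-- Let L be a finite group of characteristic p, L₀ a maximal subgroup, Y an elementary abelian p-subgroup of L₀ with L Y-minimal and O_p(L) ≤ N_L(Y). Put A = the normal closure of O_p(L) ∩ Y in L. Then for every g ∈ L outside L₀: Φ(A) = A' = [A ∩ Y, A] = [A ∩ Y, A ∩ gYg⁻¹] ≤ C_Y(L), and Y ∩ gYg⁻¹ = (A ∩ Y) ∩ (A ∩ gYg⁻¹) = C_Y(L) = C_A(L). -/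
theorem result {L : Type*} [Group L] [Finite L] {p : ℕ} [Fact p.Prime] (hchar : Subgroup.centralizer (Cfsg.pCore p L : Set L) ≤ Cfsg.pCore p L) (L₀ : Subgroup L) (hL₀ : IsCoatom L₀) (Y : Subgroup L) (hYL₀ : Y ≤ L₀) (hYel : Cfsg.IsElementaryAbelian p Y) (hmin : Cfsg.IsMinimalOver Y) (hOY : Cfsg.pCore p L ≤ Subgroup.normalizer (Y : Set L)) (A : Subgroup L) (hA : A = Subgroup.normalClosure (((Cfsg.pCore p L ⊓ Y : Subgroup L)) : Set L)) (g : L) (hg : g ∉ L₀) : (frattini ↥A).map A.subtype = ⁅A, A⁆ ∧ ⁅A, A⁆ = ⁅A ⊓ Y, A⁆ ∧ ⁅A ⊓ Y, A⁆ = ⁅A ⊓ Y, A ⊓ Y.map (MulAut.conj g).toMonoidHom⁆ ∧ ⁅A ⊓ Y, A⁆ ≤ Y ⊓ Subgroup.center L ∧ Y ⊓ Y.map (MulAut.conj g).toMonoidHom = Y ⊓ Subgroup.center L ∧ (A ⊓ Y) ⊓ (A ⊓ Y.map (MulAut.conj g).toMonoidHom) = Y ⊓ Subgroup.center L ∧ A ⊓ Subgroup.center L = Y ⊓ Subgroup.center L := by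
  open Cfsg.Agent.Lib.Helper17 in
  have hea : EA p Y := isElementaryAbelian_iff.mp hYel
  obtain ⟨_, ⟨T, rfl⟩, hYT⟩ := exists_isSyl_ge hYL₀ hea.isPGroup
  obtain ⟨-, -, -, -, h5, h6⟩ := Cfsg.Agent.S2835.result L₀ hL₀ T Y hYT hmin
  have htop := h5 g hg
  have hint := h6 hYel.1 g hg
  set Yg := Y.map (MulAut.conj g).toMonoidHom with hYg
  set Q := Cfsg.pCore p L with hQ
  have hQn : Q.Normal := inferInstance
  have hQN : ∀ X : Subgroup L, X ≤ Subgroup.normalizer (Q : Set L) :=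
    top_le_normalizer_of_normal hQn
  have heag : EA p Yg := by
    constructor
    · rintro _ ⟨a, ha, rfl⟩ _ ⟨b, hb, rfl⟩
      show g * a * g⁻¹ * (g * b * g⁻¹) = g * b * g⁻¹ * (g * a * g⁻¹)
      calc g * a * g⁻¹ * (g * b * g⁻¹) = g * (a * b) * g⁻¹ := by group
        _ = g * (b * a) * g⁻¹ := by rw [hea.1 a ha b hb]
        _ = g * b * g⁻¹ * (g * a * g⁻¹) := by group
    · rintro _ ⟨a, ha, rfl⟩
      show (g * a * g⁻¹) ^ p = 1
      rw [conj_pow, hea.2 a ha]; group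
  have hOYg : Q ≤ Subgroup.normalizer (Yg : Set L) := by
    rw [hYg, normalizer_map_conj]
    intro q hq
    rw [mem_map_conj]
    apply hOY
    have := hQn.conj_mem q hq g⁻¹
    simpa using this
  set Y₀ := Q ⊓ Y with hY₀
  set Y₁ := Q ⊓ Yg with hY₁
  have hY₁map : Y₀.map (MulAut.conj g).toMonoidHom = Y₁ := by
    rw [hY₀, map_conj_inf, map_conj_eq_of_mem_normalizer (hQN ⊤ (Subgroup.mem_top g))]
  have hQY₀ : Q ≤ Subgroup.normalizer (Y₀ : Set L) := le_normalizer_inf Subgroup.le_normalizer hOY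
  have hQY₁ : Q ≤ Subgroup.normalizer (Y₁ : Set L) := le_normalizer_inf Subgroup.le_normalizer hOYg
  -- general step
  have hstep : ∀ U U' : Subgroup L, Q ≤ Subgroup.normalizer (U : Set L) →
      U ≤ Subgroup.normalizer (((Q ⊓ U) ⊔ (Q ⊓ U') : Subgroup L) : Set L) := by
    intro U U' hU
    apply le_normalizer_of_conj_mem
    intro y hy x hx
    have h1 : (Q ⊓ U) ⊔ (Q ⊓ U') ≤ ((Q ⊓ U) ⊔ (Q ⊓ U')).comap (MulAut.conj y).toMonoidHom := by
      apply sup_le
      · intro u hu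
        apply Subgroup.mem_sup_left
        exact ⟨hQn.conj_mem u hu.1 y, U.mul_mem (U.mul_mem hy hu.2) (U.inv_mem hy)⟩
      · intro u hu
        show y * u * y⁻¹ ∈ (Q ⊓ U) ⊔ (Q ⊓ U')
        have e : y * u * y⁻¹ = (y * u * y⁻¹ * u⁻¹) * u := by group
        rw [e]
        refine mul_mem (Subgroup.mem_sup_left ⟨?_, ?_⟩) (Subgroup.mem_sup_right hu)
        · exact Q.mul_mem (hQn.conj_mem u hu.1 y) (Q.inv_mem hu.1)
        · have e2 : y * u * y⁻¹ * u⁻¹ = y * (u * y⁻¹ * u⁻¹) := by group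
          rw [e2]
          exact U.mul_mem hy (conj_mem_of_le_normalizer hU hu.1 (U.inv_mem hy))
    exact h1 hx
  have hBn : (Y₀ ⊔ Y₁).Normal := by
    apply normal_of_top_le_normalizer
    rw [← htop]
    refine sup_le (hstep Y Yg hOY) ?_
    have := hstep Yg Y hOYg
    rwa [sup_comm] at this
  have hAB : A = Y₀ ⊔ Y₁ := by
    rw [hA]
    apply le_antisymm
    · exact Subgroup.normalClosure_le_normal
        (show (Y₀ : Set L) ⊆ ((Y₀ ⊔ Y₁ : Subgroup L) : Set L) from (le_sup_left : Y₀ ≤ Y₀ ⊔ Y₁))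
    · apply sup_le (show Y₀ ≤ Subgroup.normalClosure (Y₀ : Set L) from Subgroup.subset_normalClosure)
      rw [← hY₁map]
      rintro _ ⟨u, hu, rfl⟩
      exact Subgroup.normalClosure_normal.conj_mem u (Subgroup.subset_normalClosure hu) g
  have hAQ : A ≤ Q := by rw [hAB]; exact sup_le inf_le_left inf_le_left
  have hAY : A ⊓ Y = Y₀ :=
    le_antisymm (le_inf (inf_le_left.trans hAQ) inf_le_right)
      (le_inf (by rw [hAB]; exact le_sup_left) inf_le_right)
  have hAYg : A ⊓ Yg = Y₁ :=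
    le_antisymm (le_inf (inf_le_left.trans hAQ) inf_le_right)
      (le_inf (by rw [hAB]; exact le_sup_right) inf_le_right)
  have hCle : ⁅Y₀, Y₁⁆ ≤ Y ⊓ Subgroup.center L := by
    rw [← hint]
    refine le_inf ?_ ?_
    · exact (commutator_le_left_of_le_normalizer (inf_le_left.trans hQY₀)).trans inf_le_right
    · rw [Subgroup.commutator_comm]
      exact (commutator_le_left_of_le_normalizer (inf_le_left.trans hQY₁)).trans inf_le_right
  have hCn : ∀ X : Subgroup L, X ≤ Subgroup.normalizer ((⁅Y₀, Y₁⁆ : Subgroup L) : Set L) := by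
    intro X
    apply le_normalizer_of_conj_mem
    intro k _ c hc
    have := Subgroup.mem_center_iff.mp (hCle hc).2 k
    have e : k * c * k⁻¹ = c := by rw [this]; group
    rw [e]; exact hc
  have hs00 : Y₀ ≤ stabMod Y₀ ⁅Y₀, Y₁⁆ := by
    intro h hh
    refine ⟨hCn _ hh, fun f hf => ?_⟩
    have e : h * f * h⁻¹ * f⁻¹ = 1 := by rw [hea.1 h hh.2 f hf.2]; group
    rw [e]; exact one_mem _
  have hs11 : Y₁ ≤ stabMod Y₁ ⁅Y₀, Y₁⁆ := by
    intro h hh
    refine ⟨hCn _ hh, fun f hf => ?_⟩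
    have e : h * f * h⁻¹ * f⁻¹ = 1 := by rw [heag.1 h hh.2 f hf.2]; group
    rw [e]; exact one_mem _
  have hs01 : Y₀ ≤ stabMod Y₁ ⁅Y₀, Y₁⁆ := fun h hh =>
    ⟨hCn _ hh, fun f hf => Subgroup.commutator_mem_commutator hh hf⟩
  have hs10 : Y₁ ≤ stabMod Y₀ ⁅Y₀, Y₁⁆ := le_stabMod_symm hs01 (hCn _)
  have hsB0 : Y₀ ≤ stabMod (Y₀ ⊔ Y₁) ⁅Y₀, Y₁⁆ := le_stabMod_symm (sup_le hs00 hs10) (hCn _)
  have hsB1 : Y₁ ≤ stabMod (Y₀ ⊔ Y₁) ⁅Y₀, Y₁⁆ := le_stabMod_symm (sup_le hs01 hs11) (hCn _)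
  have hAA : ⁅A, A⁆ = ⁅Y₀, Y₁⁆ := by
    rw [hAB]
    exact le_antisymm (commutator_le_of_le_stabMod (sup_le hsB0 hsB1))
      (Subgroup.commutator_mono le_sup_left le_sup_right)
  have hYA : ⁅A ⊓ Y, A⁆ = ⁅Y₀, Y₁⁆ := by
    rw [hAY]
    apply le_antisymm
    · rw [← hAA]
      exact Subgroup.commutator_mono (by rw [hAB]; exact le_sup_left) le_rfl
    · exact Subgroup.commutator_mono le_rfl (by rw [hAB]; exact le_sup_right)
  have hZY₀ : Y ⊓ Subgroup.center L ≤ Y₀ := by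
    refine le_inf ?_ inf_le_left
    apply le_pCore _ (hea.isPGroup.to_le inf_le_left)
    constructor
    intro n hn k
    have := Subgroup.mem_center_iff.mp hn.2 k
    have e : k * n * k⁻¹ = n := by rw [this]; group
    rw [e]; exact hn
  have hZY₁ : Y ⊓ Subgroup.center L ≤ Y₁ := by
    rw [← hY₁map]
    intro n hn
    refine ⟨n, hZY₀ hn, ?_⟩
    have := Subgroup.mem_center_iff.mp hn.2 g
    show g * n * g⁻¹ = n
    rw [this]; group
  have hAp : IsPGroup p A := pCore_isPGroup.to_le hAQ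
  refine ⟨?_, by rw [hAA, hYA], by rw [hYA, hAY, hAYg], by rw [hYA]; exact hCle, hint, ?_, ?_⟩
  · rw [← Subgroup.map_subtype_commutator]
    congr 1
    apply le_antisymm _ (Cfsg.Agent.S0012.result p hAp).1
    apply Cfsg.Agent.S0013.result p hAp _ le_rfl
    intro x
    have hx : (x : L) ∈ Y₀ ⊔ Y₁ := hAB ▸ x.2
    rw [mem_sup_of_le_normalizer (inf_le_left.trans hQY₁)] at hx
    obtain ⟨a, ha, b, hb, e⟩ := hx
    have haA : a ∈ A := by rw [hAB]; exact Subgroup.mem_sup_left ha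
    have hbA : b ∈ A := by rw [hAB]; exact Subgroup.mem_sup_right hb
    have h1 := mul_pow_mem_commutator haA hbA p
    rw [hea.2 a ha.2, heag.2 b hb.2, inv_one, mul_one, mul_one, ← e,
      ← Subgroup.map_subtype_commutator] at h1
    obtain ⟨c, hc, hce⟩ := h1
    have : c = x ^ p := Subtype.ext (by rw [Subgroup.coe_pow]; exact hce)
    rwa [← this]
  · rw [hAY, hAYg]
    exact le_antisymm ((inf_le_inf inf_le_right inf_le_right).trans hint.le) (le_inf hZY₀ hZY₁)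
  · apply le_antisymm
    · rintro a ⟨haA, haZ⟩
      refine ⟨?_, haZ⟩
      have hx : a ∈ Y₀ ⊔ Y₁ := hAB ▸ haA
      rw [mem_sup_of_le_normalizer (inf_le_left.trans hQY₁)] at hx
      obtain ⟨y₁, hy₁, y₂, hy₂, e⟩ := hx
      have haZ' := Subgroup.mem_center_iff.mp haZ
      have ey₂ : y₂ = y₁⁻¹ * a := by rw [e]; group
      have hc : (⊤ : Subgroup L) ≤ Subgroup.centralizer ({y₂} : Set L) := by
        rw [← htop]
        apply sup_le
        · intro y hy
          rw [Subgroup.mem_centralizer_singleton_iff, ey₂]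
          have c1 := hea.1 y hy y₁⁻¹ (Y.inv_mem hy₁.2)
          calc y * (y₁⁻¹ * a) = (y * y₁⁻¹) * a := by group
            _ = (y₁⁻¹ * y) * a := by rw [c1]
            _ = y₁⁻¹ * (y * a) := by group
            _ = y₁⁻¹ * (a * y) := by rw [haZ' y]
            _ = y₁⁻¹ * a * y := by group
        · intro y hy
          rw [Subgroup.mem_centralizer_singleton_iff]
          exact heag.1 y hy y₂ hy₂.2
      have hy₂Z : y₂ ∈ Subgroup.center L := by
        rw [Subgroup.mem_center_iff]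
        intro k
        exact Subgroup.mem_centralizer_singleton_iff.mp (hc (Subgroup.mem_top k))
      have hy₂Y : y₂ ∈ Y := by
        have h7 : y₂ ∈ Y.map (MulAut.conj g).toMonoidHom := hy₂.2
        rw [mem_map_conj] at h7
        have := Subgroup.mem_center_iff.mp hy₂Z g
        have e3 : g⁻¹ * y₂ * g = y₂ := by
          calc g⁻¹ * y₂ * g = g⁻¹ * (y₂ * g) := by group
            _ = g⁻¹ * (g * y₂) := by rw [this]
            _ = y₂ := by group
        rwa [e3] at h7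
      rw [e]
      exact Y.mul_mem hy₁.2 hy₂Y
    · exact le_inf (hZY₀.trans (by rw [hAB]; exact le_sup_left)) inf_le_right

end Cfsg.Agent.S2837
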