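import Cfsg.Statements.S2838
import Cfsg.Agent.Lib.Helper17.WC

set_option autoImplicit false
open Cfsg

namespace Cfsg.Agent.S2838

/-- For a nontrivial p-subgroup Q of a finite group H the following are equivalent: Q is a weakly closed subgroup (it is the only H-conjugate of itself inside some Sylow p-subgroup containing it); Q = P for every conjugate P of Q with [Q, P] ≤ Q ∩ P; Q is normal in N_H(R) for every p-subgroup R of H containing Q. -/
theorem result {H : Type*} [Group H] [Finite H] {p : ℕ} [Fact p.Prime] (Q : Subgroup H) (hQp : IsPGroup p ↥Q) (hQ1 : Q ≠ ⊥) : (Cfsg.IsWeaklyClosedSubgroup p Q ↔ ∀ g : H, ⁅Q, ((Q : Subgroup H).map (MulAut.conj (g : H)).toMonoidHom)⁆ ≤ Q ⊓ ((Q : Subgroup H).map (MulAut.conj (g : H)).toMonoidHom) → ((Q : Subgroup H).map (MulAut.conj (g : H)).toMonoidHom) = Q) ∧ (Cfsg.IsWeaklyClosedSubgroup p Q ↔ ∀ R : Subgroup H, IsPGroup p ↥R → Q ≤ R → Subgroup.normalizer ((R : Subgroup H) : Set H) ≤ Subgroup.normalizer ((Q : Subgroup H) : Set H)) := by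
  open Cfsg.Agent.Lib.Helper17 in
  have A_iff : IsWeaklyClosedSubgroup p Q ↔ WC p Q :=
    ⟨wc_of_isWeaklyClosedSubgroup, fun h => h.isWeaklyClosedSubgroup hQp⟩
  constructor
  · rw [A_iff]
    constructor
    · intro h g hg
      have h1 : Q ≤ Subgroup.normalizer ((Q.map (MulAut.conj g).toMonoidHom : Subgroup H) : Set H) :=
        Subgroup.le_normalizer_iff_commutator_le_right.mpr (hg.trans inf_le_right)
      exact h _ (hQp.to_sup_of_normal_right' (hQp.map _) h1) le_sup_left g le_sup_right
    · intro hB
      have hBx : ∀ x t : H, ⁅Q.map (MulAut.conj x).toMonoidHom,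
          (Q.map (MulAut.conj x).toMonoidHom).map (MulAut.conj t).toMonoidHom⁆ ≤
          Q.map (MulAut.conj x).toMonoidHom ⊓
            (Q.map (MulAut.conj x).toMonoidHom).map (MulAut.conj t).toMonoidHom →
          (Q.map (MulAut.conj x).toMonoidHom).map (MulAut.conj t).toMonoidHom =
            Q.map (MulAut.conj x).toMonoidHom := by
        intro x t h
        have h1 := Subgroup.map_mono (f := (MulAut.conj x⁻¹).toMonoidHom) h
        rw [Subgroup.map_commutator, map_conj_inf] at h1
        simp only [map_conj_map_conj, inv_mul_cancel, map_conj_one] at h1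
        have h2 := hB _ h1
        calc (Q.map (MulAut.conj x).toMonoidHom).map (MulAut.conj t).toMonoidHom
            = (Q.map (MulAut.conj (x⁻¹ * (t * x))).toMonoidHom).map (MulAut.conj x).toMonoidHom := by
              rw [map_conj_map_conj, map_conj_map_conj, mul_inv_cancel_left]
          _ = Q.map (MulAut.conj x).toMonoidHom := by rw [h2]
      have hC' : ∀ (R : Subgroup H), IsPGroup p R → ∀ x : H, Q.map (MulAut.conj x).toMonoidHom ≤ R →
          R ≤ Subgroup.normalizer ((Q.map (MulAut.conj x).toMonoidHom : Subgroup H) : Set H) := by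
        intro R hR x hx
        set P := Q.map (MulAut.conj x).toMonoidHom with hP
        by_contra hcon
        have hlt : R ⊓ Subgroup.normalizer (P : Set H) < R := by
          refine lt_of_le_of_ne inf_le_left fun h0 => hcon ?_
          rw [← h0]; exact inf_le_right
        obtain ⟨t, htR, htN, htA⟩ := pgroup_normalizer_grow hR hlt
        have hPA : P ≤ R ⊓ Subgroup.normalizer (P : Set H) := le_inf hx Subgroup.le_normalizer
        have hAt := map_conj_eq_of_mem_normalizer htN
        have hPtA : P.map (MulAut.conj t).toMonoidHom ≤ R ⊓ Subgroup.normalizer (P : Set H) := by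
          rw [← hAt]; exact Subgroup.map_mono hPA
        have hAPt : R ⊓ Subgroup.normalizer (P : Set H) ≤
            Subgroup.normalizer ((P.map (MulAut.conj t).toMonoidHom : Subgroup H) : Set H) := by
          rw [normalizer_map_conj P t]
          conv_lhs => rw [← hAt]
          exact Subgroup.map_mono inf_le_right
        have h1 : ⁅P, P.map (MulAut.conj t).toMonoidHom⁆ ≤ P ⊓ P.map (MulAut.conj t).toMonoidHom :=
          le_inf (Subgroup.le_normalizer_iff_commutator_le_left.mp (hPtA.trans inf_le_right))
            (Subgroup.le_normalizer_iff_commutator_le_right.mp (hPA.trans hAPt))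
        have h2 := hBx x t h1
        exact htA (Subgroup.mem_inf.mpr ⟨htR, mem_normalizer_iff_map_conj.mpr h2⟩)
      intro R hR hQR g hg
      apply hB
      have hRQ : R ≤ Subgroup.normalizer (Q : Set H) := by
        have := hC' R hR 1 (by rw [map_conj_one]; exact hQR)
        rwa [map_conj_one] at this
      exact le_inf (Subgroup.le_normalizer_iff_commutator_le_left.mp (hg.trans hRQ))
        (Subgroup.le_normalizer_iff_commutator_le_right.mp (hQR.trans (hC' R hR g hg)))
  · rw [A_iff]
    exact ⟨fun h R hR hQR => h.normalizer_le hR hQR, wc_of_normalizer_le⟩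

end Cfsg.Agent.S2838
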