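import Cfsg.Statements.S2839
import Cfsg.Agent.Lib.Helper17.WC

set_option autoImplicit false
open Cfsg

namespace Cfsg.Agent.S2839

theorem map_conj_hom {G G' : Type*} [Group G] [Group G'] (f : G →* G') (Q : Subgroup G) (g : G) :
    (Q.map f).map (MulAut.conj (f g)).toMonoidHom = (Q.map (MulAut.conj g).toMonoidHom).map f := by
  rw [Subgroup.map_map, Subgroup.map_map]
  congr 1
  ext x
  simp

/-- Let Q be a nontrivial p-subgroup of the finite group H that is a weakly closed subgroup, K a subgroup containing Q and N a normal subgroup of H. Then Q is a weakly closed subgroup of K; every H-conjugate of Q contained in K is a K-conjugate of Q; N_K(Q) contains a Sylow p-subgroup of K; N = N_N(Q)·O^p(N); and QN/N is a weakly closed subgroup of H/N. -/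
theorem result {H : Type*} [Group H] [Finite H] {p : ℕ} [Fact p.Prime] (Q : Subgroup H) (hQp : IsPGroup p ↥Q) (hQ1 : Q ≠ ⊥) (hwc : Cfsg.IsWeaklyClosedSubgroup p Q) (K : Subgroup H) (hQK : Q ≤ K) (N' : Subgroup H) [N'.Normal] : Cfsg.IsWeaklyClosedSubgroup p (Q.subgroupOf K) ∧ (∀ g : H, ((Q : Subgroup H).map (MulAut.conj (g : H)).toMonoidHom) ≤ K → ∃ k ∈ K, ((Q : Subgroup H).map (MulAut.conj (g : H)).toMonoidHom) = ((Q : Subgroup H).map (MulAut.conj (k : H)).toMonoidHom)) ∧ Cfsg.IsParabolic p ((Subgroup.normalizer ((Q : Subgroup H) : Set H)).subgroupOf K) ∧ (N' ⊓ Subgroup.normalizer ((Q : Subgroup H) : Set H)) ⊔ (Cfsg.pResidual p ↥N').map N'.subtype = N' ∧ Cfsg.IsWeaklyClosedSubgroup p (Q.map (QuotientGroup.mk' N')) := by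
  open Cfsg.Agent.Lib.Helper17 in
  have hwc' : WC p Q := wc_of_isWeaklyClosedSubgroup hwc
  obtain ⟨TK, hTK, hQTK⟩ := exists_isSyl_ge hQK hQp
  have hTKp := hTK.isPGroup
  obtain ⟨S, hS⟩ := hTK
  have hmemS : ∀ x : K, x ∈ (S : Subgroup K) ↔ (x : H) ∈ TK := by
    intro x
    rw [← hS]
    constructor
    · intro hx; exact Subgroup.mem_map_of_mem K.subtype hx
    · rintro ⟨y, hy, e⟩
      have : y = x := Subtype.ext e
      rwa [← this]
  have hQmap : (Q.subgroupOf K).map K.subtype = Q := by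
    rw [Subgroup.subgroupOf_map_subtype, inf_of_le_left hQK]
  refine ⟨⟨S, ?_, ?_⟩, fun g hg => hwc'.conj_in hQp hQK hg, ⟨S, ?_⟩, ?_, ?_⟩
  · intro x hx
    exact (hmemS x).mpr (hQTK hx)
  · intro k hk
    apply Subgroup.map_injective K.subtype_injective
    have e := map_conj_hom K.subtype (Q.subgroupOf K) k
    rw [← e, hQmap]
    apply hwc' TK hTKp hQTK
    have h1 := Subgroup.map_mono (f := K.subtype) hk
    rw [← e, hQmap, hS] at h1
    exact h1
  · intro x hx
    exact hwc'.le_normalizer hTKp hQTK ((hmemS x).mp hx)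
  · obtain ⟨T, hT⟩ := hQp.exists_le_sylow
    have hN'n : (⊤ : Subgroup H) ≤ Subgroup.normalizer (N' : Set H) := by
      rw [Subgroup.normalizer_eq_top_iff.mpr inferInstance]
    have h1 : IsSyl p ((T : Subgroup H) ⊓ N') N' := (isSyl_top T).inf_normal le_top hN'n
    have h2 := h1.le_sup_of_pMod (pMod_opOf p N')
    apply le_antisymm (sup_le inf_le_left (pResidual_map_subtype_le p N'))
    rw [sup_comm]
    exact h2.trans (sup_le_sup_left
      (le_inf inf_le_right (inf_le_left.trans (hwc'.le_normalizer T.2 hT))) _)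
  · apply WC.isWeaklyClosedSubgroup _ (hQp.map _)
    intro Rb hRb hQRb gb hgb
    obtain ⟨g, rfl⟩ := QuotientGroup.mk'_surjective N' gb
    rw [map_conj_hom] at hgb ⊢
    set R := Rb.comap (QuotientGroup.mk' N') with hR
    have hQR : Q ≤ R := Subgroup.map_le_iff_le_comap.mp hQRb
    have hgR : Q.map (MulAut.conj g).toMonoidHom ≤ R := Subgroup.map_le_iff_le_comap.mp hgb
    obtain ⟨k, hk, hEq⟩ := hwc'.conj_in hQp hQR hgR
    obtain ⟨TR, hTR, hQTR⟩ := exists_isSyl_ge hQR hQp
    have hmod : PMod p R N' := by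
      intro d hd
      obtain ⟨j, hj⟩ := hRb ⟨_, hd⟩
      refine ⟨j, ?_⟩
      have h2 := congrArg Subtype.val hj
      exact (QuotientGroup.eq_one_iff _).mp h2
    have hk' := hTR.le_sup_of_pMod hmod hk
    have hN'n : N' ≤ Subgroup.normalizer (TR : Set H) ∨ True := Or.inr trivial
    rw [sup_comm] at hk'
    have hTRn : TR ≤ Subgroup.normalizer (N' : Set H) := by
      rw [Subgroup.normalizer_eq_top_iff.mpr inferInstance]; exact le_top
    obtain ⟨t, ht, n, hn, rfl⟩ := (mem_sup_of_le_normalizer hTRn).mp hk'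
    -- t * n = (t n t⁻¹) * t
    have e1 : t * n = (t * n * t⁻¹) * t := by group
    have hn' : t * n * t⁻¹ ∈ N' := (inferInstance : N'.Normal).conj_mem n hn t
    rw [hEq, e1, ← map_conj_map_conj,
      map_conj_eq_of_mem_normalizer (hwc'.le_normalizer hTR.isPGroup hQTR ht), ← map_conj_hom]
    have e2 : (QuotientGroup.mk' N') (t * n * t⁻¹) = 1 := (QuotientGroup.eq_one_iff _).mpr hn'
    rw [e2, map_conj_one]

end Cfsg.Agent.S2839
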