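import Cfsg.Statements.S2840
import Cfsg.Agent.Lib.Helper17.WC

set_option autoImplicit false
open Cfsg

namespace Cfsg.Agent.S2840

/-- Let Q be a nontrivial p-subgroup of the finite group H that is a weakly closed subgroup and K a subgroup containing Q; let K° be the weak closure of Q in K (generated by the H-conjugates of Q inside K). Then K° is generated by the K-conjugates of Q, and K° is the subnormal closure of Q in K. -/
theorem result {H : Type*} [Group H] [Finite H] {p : ℕ} [Fact p.Prime] (Q : Subgroup H) (hQp : IsPGroup p ↥Q) (hQ1 : Q ≠ ⊥) (hwc : Cfsg.IsWeaklyClosedSubgroup p Q) (K : Subgroup H) (hQK : Q ≤ K) (Kc : Subgroup H) (hKc : Kc = Cfsg.weakClosure Q K) : Kc = ⨆ k : ↥K, ((Q : Subgroup H).map (MulAut.conj ((k : H) : H)).toMonoidHom) ∧ Kc = (Cfsg.subnormalClosure (Q.subgroupOf K)).map K.subtype := by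
  open Cfsg.Agent.Lib.Helper17 in
  have hwc' : WC p Q := wc_of_isWeaklyClosedSubgroup hwc
  subst hKc
  have hQmap : (Q.subgroupOf K).map K.subtype = Q := by
    rw [Subgroup.subgroupOf_map_subtype, inf_of_le_left hQK]
  have hKn : K ≤ Subgroup.normalizer (weakClosure Q K : Set H) := by
    apply le_normalizer_of_conj_mem
    intro k hk x hx
    have : weakClosure Q K ≤ (weakClosure Q K).comap (MulAut.conj k).toMonoidHom :=
      weakClosure_le_iff.mpr (fun g hg y hy => by
        show (MulAut.conj k) y ∈ weakClosure Q K
        have h1 : (Q.map (MulAut.conj g).toMonoidHom).map (MulAut.conj k).toMonoidHom ≤ K :=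
          map_conj_le_of_le_of_mem hg hk
        rw [map_conj_map_conj] at h1
        apply le_weakClosure h1
        rw [← map_conj_map_conj]
        exact Subgroup.mem_map_of_mem _ hy)
    simpa using this hx
  constructor
  · apply le_antisymm
    · rw [weakClosure_le_iff]
      intro g hg
      obtain ⟨k, hk, hEq⟩ := hwc'.conj_in hQp hQK hg
      rw [hEq]
      exact le_iSup (fun k : K => Q.map (MulAut.conj (k : H)).toMonoidHom) ⟨k, hk⟩
    · apply iSup_le
      intro k
      exact le_weakClosure (map_conj_le_of_le_of_mem hQK k.2)
  · apply le_antisymm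
    · have key : ∀ U : Subgroup K, U.IsSubnormal → Q.subgroupOf K ≤ U → ∀ g : H,
          Q.map (MulAut.conj g).toMonoidHom ≤ K →
          Q.map (MulAut.conj g).toMonoidHom ≤ U.map K.subtype := by
        intro U hU
        induction hU with
        | top =>
          intro _ g hg
          rw [← MonoidHom.range_eq_map, Subgroup.range_subtype]; exact hg
        | step U U₂ h_le _ hN ih =>
          intro hQU g hg
          have h1 := ih (hQU.trans h_le) g hg
          have hQU₂ : Q ≤ U₂.map K.subtype := by
            rw [← hQmap]; exact Subgroup.map_mono (hQU.trans h_le)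
          obtain ⟨s, hs, hEq⟩ := hwc'.conj_in hQp hQU₂ h1
          rw [Subgroup.normal_subgroupOf_iff_le_normalizer h_le] at hN
          have hn : U₂.map K.subtype ≤ Subgroup.normalizer ((U.map K.subtype : Subgroup H) : Set H) :=
            (Subgroup.map_mono hN).trans (Subgroup.le_normalizer_map _)
          rw [hEq, ← map_conj_eq_of_mem_normalizer (hn hs)]
          apply Subgroup.map_mono
          rw [← hQmap]; exact Subgroup.map_mono hQU
      rw [weakClosure_le_iff]
      intro g hg
      exact key _ (subnormalClosure_isSubnormal _) (le_subnormalClosure _) g hg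
    · rw [Subgroup.map_le_iff_le_comap]
      apply subnormalClosure_le
      · intro x hx
        exact self_le_weakClosure hQK hx
      · exact ((Subgroup.normal_subgroupOf_iff_le_normalizer
          (weakClosure_le_self Q K)).mpr hKn).isSubnormal

end Cfsg.Agent.S2840
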