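import Cfsg.Statements.S2841
import Cfsg.Agent.Lib.Helper17.WC

set_option autoImplicit false
open Cfsg

namespace Cfsg.Agent.S2841

/-- Let Q be a nontrivial p-subgroup of the finite group H that is a weakly closed subgroup and N a normal subgroup of H. Then N = N_N(Q)·[N, Q] and [N, Q] = (Q ∩ [N, Q])·[N, Q, Q]. -/
theorem result {H : Type*} [Group H] [Finite H] {p : ℕ} [Fact p.Prime] (Q : Subgroup H) (hQp : IsPGroup p ↥Q) (hQ1 : Q ≠ ⊥) (hwc : Cfsg.IsWeaklyClosedSubgroup p Q) (N' : Subgroup H) [N'.Normal] : (∀ n : H, n ∈ N' → ∃ a ∈ N' ⊓ Subgroup.normalizer ((Q : Subgroup H) : Set H), ∃ b ∈ ⁅N', Q⁆, n = a * b) ∧ (∀ c : H, c ∈ ⁅N', Q⁆ → ∃ a ∈ Q ⊓ ⁅N', Q⁆, ∃ b ∈ ⁅⁅N', Q⁆, Q⁆, c = a * b) := by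
  open Cfsg.Agent.Lib.Helper17 in
  have hwc' : WC p Q := wc_of_isWeaklyClosedSubgroup hwc
  have part1 : ∀ N : Subgroup H, Q ≤ Subgroup.normalizer (N : Set H) → ∀ n ∈ N,
      ∃ a ∈ N ⊓ Subgroup.normalizer (Q : Set H), ∃ b ∈ ⁅N, Q⁆, n = a * b := by
    intro N hQN n hn
    have hNM := le_normalizer_sup_commutator Q N
    have hcN : ⁅N, Q⁆ ≤ N := Subgroup.le_normalizer_iff_commutator_le_left.mp hQN
    have h1 : Q.map (MulAut.conj n⁻¹).toMonoidHom ≤ Q ⊔ ⁅N, Q⁆ := by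
      calc Q.map (MulAut.conj n⁻¹).toMonoidHom
          ≤ (Q ⊔ ⁅N, Q⁆).map (MulAut.conj n⁻¹).toMonoidHom := Subgroup.map_mono le_sup_left
        _ = Q ⊔ ⁅N, Q⁆ := map_conj_eq_of_mem_normalizer (hNM (N.inv_mem hn))
    obtain ⟨m, hm, hEq⟩ := hwc'.conj_in hQp le_sup_left h1
    obtain ⟨q, hq, c, hc, e⟩ := (mem_sup_of_le_normalizer
      (Subgroup.normalizer_commutator_ge_right N Q)).mp (inv_mem hm)
    have hm' : m = c⁻¹ * q⁻¹ := by
      have := congrArg (·⁻¹) e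
      simpa using this
    have h2 : Q.map (MulAut.conj n⁻¹).toMonoidHom = Q.map (MulAut.conj c⁻¹).toMonoidHom := by
      rw [hEq, hm', ← map_conj_map_conj,
        map_conj_eq_of_mem_normalizer (Subgroup.le_normalizer (Q.inv_mem hq))]
    have h3 : c * n⁻¹ ∈ Subgroup.normalizer (Q : Set H) := by
      rw [mem_normalizer_iff_map_conj, ← map_conj_map_conj, h2, map_conj_map_conj,
        mul_inv_cancel, map_conj_one]
    refine ⟨n * c⁻¹, Subgroup.mem_inf.mpr ⟨N.mul_mem hn (N.inv_mem (hcN hc)), ?_⟩, c, hc,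
      by group⟩
    have := inv_mem h3
    simpa using this
  have hQN' : Q ≤ Subgroup.normalizer (N' : Set H) := by
    rw [Subgroup.normalizer_eq_top_iff.mpr inferInstance]; exact le_top
  refine ⟨part1 N' hQN', ?_⟩
  set N₁ := ⁅N', Q⁆ with hN₁
  set N₂ := ⁅N₁, Q⁆ with hN₂
  have hQN₁ : Q ≤ Subgroup.normalizer (N₁ : Set H) := Subgroup.normalizer_commutator_ge_right N' Q
  have hQN₂ : Q ≤ Subgroup.normalizer (N₂ : Set H) := Subgroup.normalizer_commutator_ge_right N₁ Q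
  have hN₂₁ : N₂ ≤ N₁ := Subgroup.le_normalizer_iff_commutator_le_left.mp hQN₁
  have hA1 : N' ⊓ Subgroup.normalizer (Q : Set H) ≤ Subgroup.normalizer (N₁ : Set H) :=
    le_normalizer_commutator (inf_le_left.trans Subgroup.le_normalizer) inf_le_right
  have hA2 : N' ⊓ Subgroup.normalizer (Q : Set H) ≤ Subgroup.normalizer (N₂ : Set H) :=
    le_normalizer_commutator hA1 inf_le_right
  have hA3 : N' ⊓ Subgroup.normalizer (Q : Set H) ≤
      Subgroup.normalizer ((Q ⊔ N₂ : Subgroup H) : Set H) := le_normalizer_sup inf_le_right hA2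
  have hN'X : N' ≤ Subgroup.normalizer ((Q ⊔ N₂ : Subgroup H) : Set H) := by
    intro n hn
    obtain ⟨a, ha, b, hb, rfl⟩ := part1 N' hQN' n hn
    exact mul_mem (hA3 ha) (le_normalizer_sup_commutator Q N₁ hb)
  have hN₁X : N₁ ≤ Q ⊔ N₂ := by
    rw [hN₁, Subgroup.commutator_le]
    intro n hn q hq
    have hqX : q ∈ Q ⊔ N₂ := Subgroup.mem_sup_left hq
    exact mul_mem (conj_mem_of_le_normalizer hN'X hn hqX) (inv_mem hqX)
  intro c hc
  obtain ⟨q, hq, b, hb, rfl⟩ := (mem_sup_of_le_normalizer hQN₂).mp (hN₁X hc)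
  refine ⟨q, Subgroup.mem_inf.mpr ⟨hq, ?_⟩, b, hb, rfl⟩
  have := N₁.mul_mem hc (N₁.inv_mem (hN₂₁ hb))
  simpa using this

end Cfsg.Agent.S2841
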