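import Cfsg.Statements.S2842
import Cfsg.Agent.Lib.Helper17.WC

set_option autoImplicit false
open Cfsg

namespace Cfsg.Agent.S2842

/-- Let Q be a nontrivial p-subgroup of the finite group H that is a weakly closed subgroup with C_H(Q) ≤ Q, and Q ≤ L ≤ H. Suppose H has characteristic p, or more generally that C_H(y) has characteristic p for some nonidentity y ∈ C_{O_p(L)}(Q). Then [Q, C_H(O_p(L))] ≤ Q ∩ O_p(L), C_H(O_p(L)) is a p-group, and L has characteristic p. -/
theorem result {H : Type*} [Group H] [Finite H] {p : ℕ} [Fact p.Prime] (Q : Subgroup H) (hQp : IsPGroup p ↥Q) (hQ1 : Q ≠ ⊥) (hwc : Cfsg.IsWeaklyClosedSubgroup p Q) (hCQ : Subgroup.centralizer ((Q : Subgroup H) : Set H) ≤ Q) (L : Subgroup H) (hQL : Q ≤ L) (hyp : Subgroup.centralizer (Cfsg.pCore p H : Set H) ≤ Cfsg.pCore p H ∨ ∃ y : H, y ≠ 1 ∧ y ∈ (Cfsg.pCoreOf p L) ⊓ Subgroup.centralizer ((Q : Subgroup H) : Set H) ∧ Subgroup.centralizer (Cfsg.pCore p ↥(Subgroup.centralizer ({y} : Set H)) : Set ↥(Subgroup.centralizer ({y}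 : Set H))) ≤ Cfsg.pCore p ↥(Subgroup.centralizer ({y} : Set H))) : ⁅Q, Subgroup.centralizer (((Cfsg.pCoreOf p L) : Subgroup H) : Set H)⁆ ≤ Q ⊓ (Cfsg.pCoreOf p L) ∧ IsPGroup p ↥(Subgroup.centralizer (((Cfsg.pCoreOf p L) : Subgroup H) : Set H)) ∧ Subgroup.centralizer (Cfsg.pCore p ↥L : Set ↥L) ≤ Cfsg.pCore p ↥L := by
  open Cfsg.Agent.Lib.Helper17 in
  have hwc' : WC p Q := wc_of_isWeaklyClosedSubgroup hwc
  set P := pCoreOf p L with hP
  set C := Subgroup.centralizer (P : Set H) with hC
  have hLP : L ≤ Subgroup.normalizer (P : Set H) := le_normalizer_pCoreOf p L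
  have hLC : L ≤ Subgroup.normalizer (C : Set H) :=
    hLP.trans (normalizer_le_normalizer_centralizer P)
  have hcq : ∀ D : Subgroup H, IsPGroup p (D ⊓ Subgroup.centralizer (Q : Set H) : Subgroup H) :=
    fun D => hQp.to_le (inf_le_right.trans hCQ)
  have hCnQ : C ≤ Subgroup.normalizer (Q : Set H) := by
    rcases hyp with hchar | ⟨y, hy1, hyP, hychar⟩
    · have hX : (⊤ : Subgroup H) ⊓ Subgroup.centralizer (pCoreOf p (⊤ : Subgroup H) : Set H) ≤
          pCoreOf p ⊤ := by
        rw [pCoreOf_top]; exact inf_le_right.trans hchar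
      have := hwc'.centralizer_core_normalizes hQp hQL le_top hX
      rwa [top_inf_eq] at this
    · set X := Subgroup.centralizer ({y} : Set H) with hXdef
      have hX := Cfsg.Agent.Lib.Helper17.charP_iff.mp hychar
      have hCX : C ≤ X := Subgroup.centralizer_le (by
        intro z hz
        rw [Set.mem_singleton_iff.mp hz]
        exact hyP.1)
      have hQX : Q ≤ X := by
        intro q hq
        rw [hXdef, Subgroup.mem_centralizer_singleton_iff]
        exact (Subgroup.mem_centralizer_iff.mp hyP.2 q hq)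
      set L₃ := (L ⊓ X) ⊔ C with hL₃
      have hQL₃ : Q ≤ L₃ := (le_inf hQL hQX).trans le_sup_left
      have hL₃X : L₃ ≤ X := sup_le inf_le_right hCX
      have hn := hwc'.centralizer_core_normalizes hQp hQL₃ hL₃X hX
      have hL₃n : L₃ ≤ Subgroup.normalizer
          ((X ⊓ Subgroup.centralizer (pCoreOf p L₃ : Set H) : Subgroup H) : Set H) :=
        le_normalizer_inf (hL₃X.trans Subgroup.le_normalizer)
          ((le_normalizer_pCoreOf p L₃).trans (normalizer_le_normalizer_centralizer _))
      have ht := centralizer_core_tail hQp hQL₃ inf_le_right hL₃n hn (hcq _)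
      have hL₃char : L₃ ⊓ Subgroup.centralizer (pCoreOf p L₃ : Set H) ≤ pCoreOf p L₃ :=
        charP_of_isPGroup_centralizer (inf_le_inf_right _ hL₃X) ht.2
      have hCchar : C ⊓ Subgroup.centralizer (pCoreOf p C : Set H) ≤ pCoreOf p C :=
        charP_of_normal le_sup_right (sup_le (inf_le_left.trans hLC) Subgroup.le_normalizer)
          hL₃char
      apply hwc'.normalizes_of_stab hQp (hQL.trans hLC) (pCoreOf_isPGroup p C)
        ((hQL.trans hLC).trans (normalizer_le_normalizer_pCoreOf p C)) (le_normalizer_pCoreOf p C)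
      · exact (pCoreOf_isPGroup p C).to_le hCchar
      · have h2 : pCoreOf p C ⊓ L ≤ P :=
          le_pCoreOf inf_le_right (le_normalizer_inf
            (hLC.trans (normalizer_le_normalizer_pCoreOf p C)) Subgroup.le_normalizer)
            ((pCoreOf_isPGroup p C).to_le inf_le_left)
        have h1 : Q ⊓ pCoreOf p C ≤ P := (le_inf inf_le_right (inf_le_left.trans hQL)).trans h2
        exact Subgroup.centralizer_le h1
  have ht := centralizer_core_tail hQp hQL le_rfl hLC hCnQ (hcq C)
  exact ⟨ht.1, ht.2, Cfsg.Agent.Lib.Helper17.charP_iff.mpr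
    (charP_of_isPGroup_centralizer inf_le_right ht.2)⟩

end Cfsg.Agent.S2842
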