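import Cfsg.Statements.S2843
import Cfsg.Agent.Lib.Helper17.WC

set_option autoImplicit false
open Cfsg

namespace Cfsg.Agent.S2843

/-- Let Q be a nontrivial large p-subgroup of the finite group H, Q ≤ L ≤ H, and Y a nontrivial p-subgroup of H normalized by L. Let L° be the weak closure of Q in L (generated by the conjugates of Q inside L). Then L° equals the weak closure of Q in L·C_H(Y), and [L°, C_H(Y)] ≤ O_p(L°); in particular C_H(Y) normalizes L°. -/
theorem result {H : Type*} [Group H] [Finite H] {p : ℕ} [Fact p.Prime] (Q : Subgroup H) (hQp : IsPGroup p ↥Q) (hQ1 : Q ≠ ⊥) (hL : Cfsg.IsLarge Q) (L : Subgroup H) (hQL : Q ≤ L) (Y : Subgroup H) (hYp : IsPGroup p ↥Y) (hY1 : Y ≠ ⊥) (hLY : L ≤ Subgroup.normalizer ((Y : Subgroup H) : Set H)) : Cfsg.weakClosure Q L = Cfsg.weakClosure Q (L ⊔ Subgroup.centralizer ((Y : Subgroup H) : Set H)) ∧ ⁅Cfsg.weakClosure Q L, Subgroup.centralizer ((Y : Subgroup H) : Set H)⁆ ≤ (Cfsg.pCoreOf p (Cfsg.weakClosure Q L)) ∧ Subgroup.centralizer ((Y : Subgroup H) : Set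 H) ≤ Subgroup.normalizer (((Cfsg.weakClosure Q L) : Subgroup H) : Set H) := by
  open Cfsg.Agent.Lib.Helper17 in
  have hwc : WC p Q := isLarge_wc hL hQ1
  set C := Subgroup.centralizer (Y : Set H) with hC
  have hLC : L ≤ Subgroup.normalizer (C : Set H) :=
    hLY.trans (normalizer_le_normalizer_centralizer Y)
  have hconj : ∀ g : H, Q.map (MulAut.conj g).toMonoidHom ≤ L →
      C ≤ Subgroup.normalizer ((Q.map (MulAut.conj g).toMonoidHom : Subgroup H) : Set H) :=
    fun g hg => isLarge_centralizer_le_normalizer (isLarge_map_conj hL g) (hQp.map _) hYp hY1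
      (hg.trans hLY)
  have hCQ : C ≤ Subgroup.normalizer (Q : Set H) :=
    isLarge_centralizer_le_normalizer hL hQp hYp hY1 (hQL.trans hLY)
  set W := weakClosure Q L with hW
  have hWL : W ≤ L := weakClosure_le_self Q L
  have hCW : C ≤ Subgroup.normalizer (W : Set H) := by
    apply le_normalizer_of_conj_mem
    intro c hc x hx
    have : W ≤ W.comap (MulAut.conj c).toMonoidHom := weakClosure_le_iff.mpr (fun g hg y hy => by
        show (MulAut.conj c) y ∈ W
        exact le_weakClosure hg (by simpa using conj_mem_of_le_normalizer (hconj g hg) hc hy))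
    simpa using this hx
  refine ⟨?_, ?_, hCW⟩
  · apply le_antisymm (weakClosure_mono Q le_sup_left)
    rw [weakClosure_le_iff]
    intro g hg
    obtain ⟨k, hk, hEq⟩ := hwc.conj_in hQp (hQL.trans le_sup_left) hg
    obtain ⟨l, hl, c, hc, rfl⟩ := (mem_sup_of_le_normalizer hLC).mp hk
    rw [hEq, ← map_conj_map_conj, map_conj_eq_of_mem_normalizer (hCQ hc)]
    exact le_weakClosure (map_conj_le_of_le_of_mem hQL hl)
  · rw [Subgroup.commutator_comm]
    apply commutator_le_of_le_stabMod
    rw [hW, weakClosure_le_iff]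
    intro g hg q hq
    have hqW : q ∈ W := le_weakClosure hg hq
    refine ⟨le_normalizer_pCoreOf p W hqW, fun c hc => ?_⟩
    have h1 : Q.map (MulAut.conj g).toMonoidHom ⊓ C ≤ pCoreOf p (W ⊓ C) :=
      le_pCoreOf (le_inf (inf_le_left.trans (le_weakClosure hg)) inf_le_right)
        (le_normalizer_inf (inf_le_right.trans (hconj g hg))
          (inf_le_right.trans Subgroup.le_normalizer)) ((hQp.map _).to_le inf_le_left)
    have h2 : pCoreOf p (W ⊓ C) ≤ pCoreOf p W :=
      pCoreOf_le_pCoreOf_of_normal inf_le_left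
        (le_normalizer_inf Subgroup.le_normalizer (hWL.trans hLC))
    apply h2
    apply h1
    refine Subgroup.mem_inf.mpr ⟨?_, ?_⟩
    · have h3 := conj_mem_of_le_normalizer (hconj g hg) hc (inv_mem hq)
      have := mul_mem hq h3
      simpa [mul_assoc] using this
    · exact mul_mem (conj_mem_of_le_normalizer hLC (hg hq) hc) (inv_mem hc)

end Cfsg.Agent.S2843
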