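import Cfsg.Statements.S2844
import Cfsg.Agent.Lib.Helper17.WC

set_option autoImplicit false
open Cfsg

namespace Cfsg.Agent.S2844

/-- Let Q be a nontrivial large p-subgroup of the finite group H and Q• = O_p(N_H(Q)). Then for every g ∈ H outside N_H(Q): C_H(Q) ∩ C_H(gQg⁻¹) = 1, C_H(Q•) ∩ C_H(gQ•g⁻¹) = 1, Z(Q) ∩ Z(gQg⁻¹) = 1 and Z(Q•) ∩ Z(gQ•g⁻¹) = 1; moreover N_H(Q) = N_H(Q•) and Q• is large in H. -/
theorem result {H : Type*} [Group H] [Finite H] {p : ℕ} [Fact p.Prime] (Q : Subgroup H) (hQp : IsPGroup p ↥Q) (hQ1 : Q ≠ ⊥) (hL : Cfsg.IsLarge Q) (Qb : Subgroup H) (hQb : Qb = Cfsg.largeBullet p Q) : (∀ g : H, g ∉ Subgroup.normalizer ((Q : Subgroup H) : Set H) → Subgroup.centralizer ((Q : Subgroup H) : Set H) ⊓ Subgroup.centralizer ((((Q : Subgroup H).map (MulAut.conj (g : H)).toMonoidHom) : Subgroup H) : Set H) = ⊥ ∧ Subgroup.centralizer ((Qb : Subgroup H) : Set H) ⊓ Subgroup.centralizer ((((Qb : Subgroup H).map (MulAut.conj (g :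 H)).toMonoidHom) : Subgroup H) : Set H) = ⊥ ∧ (Q ⊓ Subgroup.centralizer ((Q : Subgroup H) : Set H)) ⊓ (((Q : Subgroup H).map (MulAut.conj (g : H)).toMonoidHom) ⊓ Subgroup.centralizer ((((Q : Subgroup H).map (MulAut.conj (g : H)).toMonoidHom) : Subgroup H) : Set H)) = ⊥ ∧ (Qb ⊓ Subgroup.centralizer ((Qb : Subgroup H) : Set H)) ⊓ (((Qb : Subgroup H).map (MulAut.conj (g : H)).toMonoidHom) ⊓ Subgroup.centralizer ((((Qb : Subgroup H).map (MulAut.conj (g : H)).toMonoidHom) : Subgroup H) : Set H)) = ⊥) ∧ Subgroup.normalizer ((Q : Subgroup H) : Set H) = Subgroup.normalizer ((Qb : Subgroup H) : Set H) ∧ Cfsg.IsLarge Qb := by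
  open Cfsg.Agent.Lib.Helper17 in
  subst hQb
  have hwc : WC p Q := isLarge_wc hL hQ1
  have hQQb : Q ≤ largeBullet p Q := le_pCoreOf Subgroup.le_normalizer le_rfl hQp
  have hQbp : IsPGroup p (largeBullet p Q) := pCoreOf_isPGroup p _
  have hNeq : Subgroup.normalizer (Q : Set H) = Subgroup.normalizer (largeBullet p Q : Set H) :=
    le_antisymm (le_normalizer_pCoreOf p _) (hwc.normalizer_le hQbp hQQb)
  have hCle : Subgroup.centralizer (largeBullet p Q : Set H) ≤ Subgroup.centralizer (Q : Set H) :=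
    Subgroup.centralizer_le hQQb
  refine ⟨?_, hNeq, ?_⟩
  · intro g hg
    have hk := isLarge_centralizer_inf_eq_bot hL hQp hQ1 hg
    have hCle' : Subgroup.centralizer
        (((largeBullet p Q).map (MulAut.conj g).toMonoidHom : Subgroup H) : Set H) ≤
        Subgroup.centralizer ((Q.map (MulAut.conj g).toMonoidHom : Subgroup H) : Set H) :=
      Subgroup.centralizer_le (Subgroup.map_mono hQQb)
    refine ⟨hk, ?_, ?_, ?_⟩
    · rw [eq_bot_iff, ← hk]
      exact inf_le_inf hCle hCle'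
    · rw [eq_bot_iff, ← hk]; exact inf_le_inf inf_le_right inf_le_right
    · rw [eq_bot_iff, ← hk]
      exact inf_le_inf (inf_le_right.trans hCle) (inf_le_right.trans hCle')
  · refine ⟨(hCle.trans hL.1).trans hQQb, ?_⟩
    intro U hU hne
    rw [← hNeq]; exact hL.2 U (hU.trans hCle) hne

end Cfsg.Agent.S2844
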