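import Cfsg.Statements.S2845
import Cfsg.Agent.Lib.Helper17.WC

set_option autoImplicit false
open Cfsg

namespace Cfsg.Agent.S2845

/-- Let Q be a nontrivial large p-subgroup of the finite group H. Then for every subgroup L ≥ Q with O_p(L) ≠ 1, C_H(O_p(L)) is a p-group and L has characteristic p, and either the weak closure L° of Q in L equals Q or C_H(L°) = 1; for every subgroup R of H containing a Sylow p-subgroup of H with O_p(R) ≠ 1, C_H(O_p(R)) ≤ O_p(R); and H has parabolic characteristic p. -/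
theorem result {H : Type*} [Group H] [Finite H] {p : ℕ} [Fact p.Prime] (Q : Subgroup H) (hQp : IsPGroup p ↥Q) (hQ1 : Q ≠ ⊥) (hL : Cfsg.IsLarge Q) : (∀ L : Subgroup H, Q ≤ L → Cfsg.pCore p ↥L ≠ ⊥ → IsPGroup p ↥(Subgroup.centralizer (((Cfsg.pCoreOf p L) : Subgroup H) : Set H)) ∧ Subgroup.centralizer (Cfsg.pCore p ↥L : Set ↥L) ≤ Cfsg.pCore p ↥L ∧ (Cfsg.weakClosure Q L = Q ∨ Subgroup.centralizer (((Cfsg.weakClosure Q L) : Subgroup H) : Set H) = ⊥)) ∧ (∀ R : Subgroup H, Cfsg.IsParabolic p R → Cfsg.pCore p ↥R ≠ ⊥ → Subgroup.centralizer (((Cfsg.pCoreOf p R) : Subgroup H) : Set H) ≤ (Cfsg.pCoreOf p R)) ∧ Cfsg.IsOfParabolicCharacteristic p H := by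
  open Cfsg.Agent.Lib.Helper17 in
  have main : ∀ Q' : Subgroup H, IsPGroup p Q' → Q' ≠ ⊥ → IsLarge Q' → ∀ L : Subgroup H, Q' ≤ L →
      pCoreOf p L ≠ ⊥ → IsPGroup p (Subgroup.centralizer (pCoreOf p L : Set H)) := by
    intro Q' hQ'p hQ'1 hL' L hQL hP
    have hLP : L ≤ Subgroup.normalizer (pCoreOf p L : Set H) := le_normalizer_pCoreOf p L
    have hCQ : Subgroup.centralizer (pCoreOf p L : Set H) ≤ Subgroup.normalizer (Q' : Set H) :=
      isLarge_centralizer_le_normalizer hL' hQ'p (pCoreOf_isPGroup p L) hP (hQL.trans hLP)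
    exact (centralizer_core_tail hQ'p hQL le_rfl
      (hLP.trans (normalizer_le_normalizer_centralizer _)) hCQ
      (hQ'p.to_le (inf_le_right.trans hL'.1))).2
  have partb : ∀ R : Subgroup H, IsParabolic p R → pCore p R ≠ ⊥ →
      Subgroup.centralizer (pCoreOf p R : Set H) ≤ pCoreOf p R := by
    rintro R ⟨T, hTR⟩ hne
    obtain ⟨g, hg⟩ := pgroup_le_conj_sylow hQp T
    have hQ'T : Q.map (MulAut.conj g⁻¹).toMonoidHom ≤ T := le_map_conj_iff.mp hg
    have hne' : pCoreOf p R ≠ ⊥ := fun h0 => hne (pCoreOf_eq_bot_iff.mp h0)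
    have hp := main _ (hQp.map _) (map_conj_ne_bot hQ1 _) (isLarge_map_conj hL g⁻¹) R
      (hQ'T.trans hTR) hne'
    have hRC : R ≤ Subgroup.normalizer
        ((Subgroup.centralizer (pCoreOf p R : Set H) : Subgroup H) : Set H) :=
      (le_normalizer_pCoreOf p R).trans (normalizer_le_normalizer_centralizer _)
    have h1 : IsPGroup p ((T : Subgroup H) ⊔ Subgroup.centralizer (pCoreOf p R : Set H) :
        Subgroup H) := T.2.to_sup_of_normal_right' hp (hTR.trans hRC)
    have h2 : (T : Subgroup H) ⊔ Subgroup.centralizer (pCoreOf p R : Set H) = T :=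
      T.3 h1 le_sup_left
    have hCT : Subgroup.centralizer (pCoreOf p R : Set H) ≤ T := by
      conv_rhs => rw [← h2]
      exact le_sup_right
    exact le_pCoreOf (hCT.trans hTR) hRC hp
  refine ⟨?_, partb, ?_⟩
  · intro L hQL hne
    have hne' : pCoreOf p L ≠ ⊥ := fun h0 => hne (pCoreOf_eq_bot_iff.mp h0)
    have hp := main Q hQp hQ1 hL L hQL hne'
    refine ⟨hp, Cfsg.Agent.Lib.Helper17.charP_iff.mpr
      (charP_of_isPGroup_centralizer inf_le_right hp), ?_⟩
    by_cases hall : ∀ g : H, Q.map (MulAut.conj g).toMonoidHom ≤ L →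
        Q.map (MulAut.conj g).toMonoidHom = Q
    · left
      apply le_antisymm
      · exact weakClosure_le_iff.mpr fun g hg => (hall g hg).le
      · exact self_le_weakClosure hQL
    · right
      push Not at hall
      obtain ⟨g, hg, hgne⟩ := hall
      have hgN : g ∉ Subgroup.normalizer (Q : Set H) :=
        fun h => hgne (map_conj_eq_of_mem_normalizer h)
      have hk := isLarge_centralizer_inf_eq_bot hL hQp hQ1 hgN
      rw [eq_bot_iff, ← hk]
      exact le_inf (Subgroup.centralizer_le (self_le_weakClosure hQL))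
        (Subgroup.centralizer_le (le_weakClosure hg))
  · intro R hR hne hpar
    apply Cfsg.Agent.Lib.Helper17.charP_iff.mpr
    apply inf_le_right.trans (partb _ hpar ?_)
    intro h0
    have h1 : R ≤ pCoreOf p (Subgroup.normalizer (R : Set H)) :=
      le_pCoreOf Subgroup.le_normalizer le_rfl hR
    rw [pCoreOf_eq_bot_iff.mpr h0] at h1
    exact hne (le_bot_iff.mp h1)

end Cfsg.Agent.S2845
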