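import Cfsg.Statements.S2847
import Cfsg.Agent.Lib.Helper17.FrakM
import Cfsg.Agent.S2824

set_option autoImplicit false
open Cfsg

namespace Cfsg.Agent.S2847

/-- Let H be a finite group of parabolic characteristic p, T a Sylow p-subgroup and L a subgroup containing T with O_p(L) ≠ 1 and C_H(O_p(L)) ≤ O_p(L). Then there are M ≥ T with the basic property (M ∈ 𝔐_H) and L* with T ≤ L* ≤ M, O_p(L*) ≠ 1, C_H(O_p(L*)) ≤ O_p(L*), such that Y_L = Y_{L*} ≤ Y_M and L·C_H(Y_L) = L*·C_H(Y_L), Y denoting largest p-reduced normal subgroups. -/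
theorem result {H : Type*} [Group H] [Finite H] {p : ℕ} [Fact p.Prime] (hH : Cfsg.IsOfParabolicCharacteristic p H) (T : Sylow p H) (L : Subgroup H) (hTL : (T : Subgroup H) ≤ L) (hL : L ∈ Cfsg.charPSubgroups p H) : ∃ M Ls : Subgroup H, (T : Subgroup H) ≤ M ∧ Cfsg.IsInFrakM p M ∧ (T : Subgroup H) ≤ Ls ∧ Ls ≤ M ∧ Ls ∈ Cfsg.charPSubgroups p H ∧ (Cfsg.largestPReducedOf p L) = (Cfsg.largestPReducedOf p Ls) ∧ (Cfsg.largestPReducedOf p L) ≤ (Cfsg.largestPReducedOf p M) ∧ L ⊔ Subgroup.centralizer (((Cfsg.largestPReducedOf p L) : Subgroup H) : Set H) = Ls ⊔ Subgroup.centralizer (((Cfsg.largestPReducedOf p L) : Subgroup H) : Set H) := by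
  open Cfsg.Agent.Lib.Helper17 in
  have hLL := mem_charPSubgroups_iff.mp hL
  obtain ⟨M, hTM, hM, hYLM, hE⟩ := exists_frakM hH T hTL hLL
  have hY := pRed_largest p L
  set Y := largestPReducedOf p L with hYdef
  set M' := M ⊓ (L ⊔ Subgroup.centralizer (Y : Set H)) with hM'
  have hTM' : (T : Subgroup H) ≤ M' := le_inf hTM (hTL.trans le_sup_left)
  have hfac : M' ⊔ Subgroup.centralizer (Y : Set H) = L ⊔ Subgroup.centralizer (Y : Set H) := by
    apply le_antisymm (sup_le inf_le_right le_sup_right)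
    apply sup_le _ le_sup_right
    intro l hl
    obtain ⟨m, hm, c, hc, rfl⟩ := hE l hl
    have hmem : m ∈ L ⊔ Subgroup.centralizer (Y : Set H) := by
      have := mul_mem (Subgroup.mem_sup_left hl : m * c ∈ L ⊔ Subgroup.centralizer (Y : Set H))
        (Subgroup.mem_sup_right (inv_mem hc))
      simpa using this
    exact mul_mem (Subgroup.mem_sup_left (Subgroup.mem_inf.mpr ⟨hm, hmem⟩))
      (Subgroup.mem_sup_right hc)
  have hMLL : LL p M := mem_charPSubgroups_iff.mp hM.1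
  have hM'LL : LL p M' := hMLL.of_le ((isSyl_top T).of_le hTM le_top) hTM' inf_le_left
  have h24 := Cfsg.Agent.S2824.result T L M' hTL hTM'
    (Cfsg.Agent.Lib.Helper17.charP_iff.mpr hLL.charP)
    (Cfsg.Agent.Lib.Helper17.charP_iff.mpr hM'LL.charP) _ rfl hfac _ rfl
  have hT₁ : (T : Subgroup H) ⊓ Subgroup.centralizer (Y : Set H) ≤
      M' ⊓ Subgroup.normalizer
        (((T : Subgroup H) ⊓ Subgroup.centralizer (Y : Set H) : Subgroup H) : Set H) :=
    le_inf (inf_le_left.trans hTM') Subgroup.le_normalizer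
  refine ⟨M, M' ⊓ Subgroup.normalizer
    (((T : Subgroup H) ⊓ Subgroup.centralizer (Y : Set H) : Subgroup H) : Set H), hTM, hM, ?_,
    inf_le_left.trans inf_le_left, ?_, h24.1.symm, hYLM, h24.2⟩
  · exact le_inf hTM' (le_normalizer_inf Subgroup.le_normalizer
      ((hTL.trans hY.2.2.1).trans (normalizer_le_normalizer_centralizer Y)))
  · apply mem_charPSubgroups_iff.mpr (ll_of_core_le hLL.1 hLL.2 ?_)
    exact (le_inf (pCoreOf_le_isSyl ((isSyl_top T).of_le hTL le_top)) hY.core_le_centralizer).trans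
      (le_pCoreOf hT₁ inf_le_right (T.2.to_le inf_le_left))

end Cfsg.Agent.S2847
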