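import Cfsg.Statements.S2846
import Cfsg.Agent.Lib.Helper17.FrakM
import Cfsg.Agent.S2847
import Cfsg.Agent.S2845
import Cfsg.Agent.S2843

set_option autoImplicit false
open Cfsg

namespace Cfsg.Agent.S2846

/-- Let Q be a nontrivial large p-subgroup of the finite group H, S a Sylow p-subgroup containing Q, and L a subgroup containing S with O_p(L) ≠ 1 and C_H(O_p(L)) ≤ O_p(L). Then there are a subgroup M containing S having the basic property (M ∈ 𝔐_H, writing Y_X for the largest p-reduced normal subgroup of X and 𝓛_H for the set of subgroups X with O_p(X) ≠ 1 and C_H(O_p(X)) ≤ O_p(X): M ∈ 𝓛_H, M·C_H(Y_M) is the only maximal member of 𝓛_H containing M and its largest p-reduced normal subgroup is again Y_M, C_M(Y_M) is p-closed, and the image of C_M(Y_M) in M/O_p(M) lies in the Frattini subgroup of M/O_p(M)) and a subgroup L* with S ≤ L* ≤ M, O_p(L*) ≠ 1, C_H(O_p(L*)) ≤ O_p(L*), such that L·C_H(Y_L) = L*·C_H(Y_L), the weak closures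 of Q in L and in L* agree and lie in that of M, and Y_L = Y_{L*} ≤ Y_M. If moreover Q is not normal in L, then Q is normal in neither L* nor M. -/
theorem result {H : Type*} [Group H] [Finite H] {p : ℕ} [Fact p.Prime] (Q : Subgroup H) (hQp : IsPGroup p ↥Q) (hQ1 : Q ≠ ⊥) (hLg : Cfsg.IsLarge Q) (S : Sylow p H) (hQS : Q ≤ (S : Subgroup H)) (L : Subgroup H) (hSL : (S : Subgroup H) ≤ L) (hL : L ∈ Cfsg.charPSubgroups p H) : ∃ M Ls : Subgroup H, (S : Subgroup H) ≤ M ∧ Cfsg.IsInFrakM p M ∧ (S : Subgroup H) ≤ Ls ∧ Ls ≤ M ∧ Ls ∈ Cfsg.charPSubgroups p H ∧ L ⊔ Subgroup.centralizer (((Cfsg.largestPReducedOf p L) : Subgroup H) : Set H) = Ls ⊔ Subgroup.centralizer (((Cfsg.largestPReducedOf p L) : Subgroup H) : Set H) ∧ Cfsg.weakClosure Q L = Cfsg.weakClosure Q Ls ∧ Cfsg.weakClosure Q Ls ≤ Cfsg.weakClosure Q M ∧ (Cfsg.largestPReducedOf p L) = (Cfsg.largestPReducedOf p Ls) ∧ (Cfsg.largestPReducedOf p Ls) ≤ (Cfsg.largestPReducedOf p M) ∧ (¬ L ≤ Subgroup.normalizer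 ((Q : Subgroup H) : Set H) → ¬ Ls ≤ Subgroup.normalizer ((Q : Subgroup H) : Set H) ∧ ¬ M ≤ Subgroup.normalizer ((Q : Subgroup H) : Set H)) := by
  open Cfsg.Agent.Lib.Helper17 in
  have hpar : IsOfParabolicCharacteristic p H := (Cfsg.Agent.S2845.result Q hQp hQ1 hLg).2.2
  have hwc : WC p Q := isLarge_wc hLg hQ1
  obtain ⟨M, Ls, h1, h2, h3, h4, h5, h6, h7, h8⟩ := Cfsg.Agent.S2847.result hpar S L hSL hL
  have hLL := mem_charPSubgroups_iff.mp hL
  have hY := pRed_largest p L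
  have sS : IsSyl p (S : Subgroup H) L := (isSyl_top S).of_le hSL le_top
  have hSne : (S : Subgroup H) ≠ ⊥ := fun h0 => hQ1 (le_bot_iff.mp (h0 ▸ hQS))
  have hYne := largest_ne_bot hLL.charP sS hSne
  have hLsY : Ls ≤ Subgroup.normalizer (largestPReducedOf p L : Set H) := by
    rw [h6]; exact (pRed_largest p Ls).2.2.1
  have hQL : Q ≤ L := hQS.trans hSL
  have hQLs : Q ≤ Ls := hQS.trans h3
  have w1 := (Cfsg.Agent.S2843.result Q hQp hQ1 hLg L hQL _ hY.2.1.isPGroup hYne hY.2.2.1).1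
  have w2 := (Cfsg.Agent.S2843.result Q hQp hQ1 hLg Ls hQLs _ hY.2.1.isPGroup hYne hLsY).1
  have hw : weakClosure Q L = weakClosure Q Ls := by rw [w1, w2, h8]
  refine ⟨M, Ls, h1, h2, h3, h4, h5, h8, hw, weakClosure_mono Q h4, h6, h6 ▸ h7, ?_⟩
  intro hnL
  have hnLs : ¬ Ls ≤ Subgroup.normalizer (Q : Set H) := by
    intro hLsQ
    apply hnL
    have hQw : weakClosure Q Ls = Q := le_antisymm (weakClosure_le_iff.mpr fun g hg => by
         obtain ⟨k, hk, hEq⟩ := hwc.conj_in hQp hQLs hg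
         rw [hEq, map_conj_eq_of_mem_normalizer (hLsQ hk)]) (self_le_weakClosure hQLs)
    have hLn := le_normalizer_weakClosure Q L
    rw [hw, hQw] at hLn
    exact hLn
  exact ⟨hnLs, fun h => hnLs (h4.trans h)⟩

end Cfsg.Agent.S2846
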