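import Cfsg.Statements.S2848
import Cfsg.Agent.Lib.Helper17.WC2

set_option autoImplicit false
open Cfsg

namespace Cfsg.Agent.S2848

/-- Standing hypotheses: G a finite group, S a Sylow p-subgroup, Q a nontrivial large p-subgroup of G contained in S (C_G(Q) ≤ Q and N_G(U) ≤ N_G(Q) for all nontrivial U ≤ C_G(Q)), and M a subgroup containing S with the basic property (M ∈ 𝔐_G(S)); Y_M denotes the largest p-reduced normal subgroup of M and M† = M·C_G(Y_M). Then O_p(M) is a weakly closed subgroup of M† (for p): it is the only M†-conjugate of itself inside some Sylow p-subgroup of M† containing it. -/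
theorem result {G : Type*} [Group G] [Finite G] {p : ℕ} [Fact p.Prime] (S : Sylow p G) (Q : Subgroup G) (hQp : IsPGroup p ↥Q) (hQ1 : Q ≠ ⊥) (hQS : Q ≤ (S : Subgroup G)) (hQ : Cfsg.IsLarge Q) (M : Subgroup G) (hSM : (S : Subgroup G) ≤ M) (hM : Cfsg.IsInFrakM p M) : Cfsg.IsWeaklyClosedSubgroup p (((Cfsg.pCoreOf p M)).subgroupOf (M ⊔ Subgroup.centralizer (((Cfsg.largestPReducedOf p M) : Subgroup G) : Set G))) := by
  open Cfsg.Agent.Lib.Helper17 in
  obtain ⟨_, _, _, _, hM5, _⟩ := hM
  have hY := pRed_largest p M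
  set Y := largestPReducedOf p M with hYdef
  have hS : IsSyl p (S : Subgroup G) M := (isSyl_top S).of_le hSM le_top
  have hT₀ := isSyl_inf_centralizer hS hY.2.2.1
  have h1 := hT₀.le_normalizer_of_isPClosed hM5
  have h2 : M ≤ Subgroup.normalizer
      (((S : Subgroup G) ⊓ Subgroup.centralizer (Y : Set G) : Subgroup G) : Set G) :=
    hT₀.le_normalizer_of_normal h1 (le_normalizer_inf_centralizer hY.2.2.1)
  have hP : pCoreOf p M = (S : Subgroup G) ⊓ Subgroup.centralizer (Y : Set G) :=
    le_antisymm (le_inf (pCoreOf_le_isSyl hS) hY.core_le_centralizer)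
      (le_pCoreOf (inf_le_left.trans hSM) h2 hT₀.isPGroup)
  have hMd : M ⊔ Subgroup.centralizer (Y : Set G) ≤ Subgroup.normalizer (Y : Set G) :=
    sup_le hY.2.2.1 (centralizer_le_normalizer' Y)
  apply isWeaklyClosedSubgroup_subgroupOf ((pCoreOf_le p M).trans le_sup_left)
    ((isSyl_top S).of_le (hSM.trans le_sup_left) le_top) (pCoreOf_le_isSyl hS)
  intro k hk hle
  apply map_conj_eq_of_le
  conv_rhs => rw [hP]
  refine le_inf hle ?_
  have h3 : (pCoreOf p M).map (MulAut.conj k).toMonoidHom ≤
      (Subgroup.centralizer (Y : Set G)).map (MulAut.conj k).toMonoidHom :=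
    Subgroup.map_mono hY.core_le_centralizer
  rwa [map_conj_eq_of_mem_normalizer
    ((hMd.trans (normalizer_le_normalizer_centralizer Y)) hk)] at h3

end Cfsg.Agent.S2848
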