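import Cfsg.Statements.S2849
import Cfsg.Agent.Lib.Helper17.WC2

set_option autoImplicit false
open Cfsg

namespace Cfsg.Agent.S2849

/-- Standing hypotheses: G a finite group, S a Sylow p-subgroup, Q a nontrivial large p-subgroup of G contained in S (C_G(Q) ≤ Q and N_G(U) ≤ N_G(Q) for all nontrivial U ≤ C_G(Q)), and M a subgroup containing S with the basic property (M ∈ 𝔐_G(S)); Y_M denotes the largest p-reduced normal subgroup of M and M† = M·C_G(Y_M). Suppose Y_M is asymmetric in G. Then for every subgroup R with Y_M ≤ R ≤ M†, the normal closure of Y_M in N_G(R) is elementary abelian. -/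
theorem result {G : Type*} [Group G] [Finite G] {p : ℕ} [Fact p.Prime] (S : Sylow p G) (Q : Subgroup G) (hQp : IsPGroup p ↥Q) (hQ1 : Q ≠ ⊥) (hQS : Q ≤ (S : Subgroup G)) (hQ : Cfsg.IsLarge Q) (M : Subgroup G) (hSM : (S : Subgroup G) ≤ M) (hM : Cfsg.IsInFrakM p M) (hasym : ¬ Cfsg.IsSymmetricIn (Cfsg.largestPReducedOf p M)) (R : Subgroup G) (hYR : (Cfsg.largestPReducedOf p M) ≤ R) (hRM : R ≤ (M ⊔ Subgroup.centralizer (((Cfsg.largestPReducedOf p M) : Subgroup G) : Set G))) : Cfsg.IsElementaryAbelian p ((Subgroup.normalClosure ((((Cfsg.largestPReducedOf p M)).subgroupOf (Subgroup.normalizer ((R : Subgroup G) : Set G)) : Subgroup ↥(Subgroup.normalizer ((R : Subgroup G) : Set G))) : Set ↥(Subgroup.normalizer ((R : Subgroup G) : Set G)))).map (Subgroup.normalizer ((R : Subgroup G) : Set G)).subtype) := by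
  open Cfsg.Agent.Lib.Helper17 in
  have hY := pRed_largest p M
  set Y := largestPReducedOf p M with hYdef
  set N := Subgroup.normalizer (R : Set G) with hN
  have hMd : M ⊔ Subgroup.centralizer (Y : Set G) ≤ Subgroup.normalizer (Y : Set G) :=
    sup_le hY.2.2.1 (centralizer_le_normalizer' Y)
  have hRN : R ≤ Subgroup.normalizer (Y : Set G) := hRM.trans hMd
  have hYN : Y ≤ N := hYR.trans Subgroup.le_normalizer
  have hcomm : ∀ g ∈ N, Y ≤ Subgroup.centralizer
      ((Y.map (MulAut.conj g).toMonoidHom : Subgroup G) : Set G) := by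
    intro g hg
    have hRg := map_conj_eq_of_mem_normalizer hg
    have h1 : Y.map (MulAut.conj g).toMonoidHom ≤ Subgroup.normalizer (Y : Set G) := by
      refine le_trans ?_ hRN
      rw [← hRg]; exact Subgroup.map_mono hYR
    have h2 : Y ≤ Subgroup.normalizer ((Y.map (MulAut.conj g).toMonoidHom : Subgroup G) : Set G) := by
      rw [normalizer_map_conj]
      refine hYR.trans ?_
      rw [← hRg]; exact Subgroup.map_mono hRN
    rw [← Subgroup.commutator_eq_bot_iff_le_centralizer]
    by_contra hne
    exact hasym ⟨g, hne, le_inf (Subgroup.le_normalizer_iff_commutator_le_left.mp h1)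
      (Subgroup.le_normalizer_iff_commutator_le_right.mp h2)⟩
  set W := (Subgroup.normalClosure ((Y.subgroupOf N : Subgroup N) : Set N)).map N.subtype with hW
  have hWn : N ≤ Subgroup.normalizer (W : Set G) := le_normalizer_map_normalClosure Y N
  have hYW : Y ≤ W := le_map_normalClosure hYN
  have hmin : ∀ E : Subgroup G, Y ≤ E → N ≤ Subgroup.normalizer (E : Set G) → W ≤ E :=
    fun E h1 h2 => map_normalClosure_le h1 h2
  set D : Subgroup G := ⨅ g : N, Subgroup.centralizer
    ((Y.map (MulAut.conj (g : G)).toMonoidHom : Subgroup G) : Set G) with hD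
  have hYD : Y ≤ D := le_iInf fun g => hcomm g g.2
  have hND : N ≤ Subgroup.normalizer (D : Set G) := by
    apply le_normalizer_of_conj_mem
    intro n hn x hx
    rw [hD, Subgroup.mem_iInf] at hx ⊢
    intro g
    have h1 := hx ⟨n⁻¹ * g, N.mul_mem (N.inv_mem hn) g.2⟩
    have h2 := conj_mem_map_conj (g := n) h1
    rw [← centralizer_map_conj, map_conj_map_conj, mul_inv_cancel_left] at h2
    exact h2
  have hWD : W ≤ D := hmin D hYD hND
  have hWcY : W ≤ Subgroup.centralizer (Y : Set G) := by
    refine hWD.trans ((iInf_le _ (1 : N)).trans ?_)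
    simp [map_conj_one]
  have hWab : W ≤ Subgroup.centralizer (W : Set G) :=
    hmin _ (Subgroup.le_centralizer_iff.mp hWcY)
      (hWn.trans (normalizer_le_normalizer_centralizer W))
  have hab : ∀ a ∈ W, ∀ b ∈ W, a * b = b * a :=
    fun a ha b hb => Subgroup.mem_centralizer_iff.mp (hWab hb) a ha
  have hWo : W ≤ omegaOne p W :=
    hmin _ (le_omegaOne hYW hY.2.1.2) (le_normalizer_omegaOne hWn)
  exact isElementaryAbelian_iff.mpr ((ea_omegaOne hab).mono hWo)

end Cfsg.Agent.S2849
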