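import Cfsg.Statements.S2864
import Cfsg.Agent.Lib.Helper17.FrakM
import Cfsg.Agent.S2845
import Cfsg.Agent.S0029
import Cfsg.Agent.S0012

set_option autoImplicit false
open Cfsg

namespace Cfsg.Agent.S2864

/-- Standing hypotheses: G a finite group, S a Sylow p-subgroup, Q a nontrivial large p-subgroup of G contained in S, M a subgroup containing S with the basic property (M ∈ 𝔐_G(S)); Y_M the largest p-reduced normal subgroup of M and M† = M·C_G(Y_M). Let I be a nontrivial normal p-subgroup of M and Y ≤ O_p(M†); let L be a subgroup of G containing Y and A a normal p-subgroup of L with I ≤ A ≤ M. If [Y, A] ≤ [I, A], then Y ≤ O_p(L). -/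
theorem result {G : Type*} [Group G] [Finite G] {p : ℕ} [Fact p.Prime] (S : Sylow p G) (Q : Subgroup G) (hQp : IsPGroup p ↥Q) (hQ1 : Q ≠ ⊥) (hQS : Q ≤ (S : Subgroup G)) (hQ : Cfsg.IsLarge Q) (M : Subgroup G) (hSM : (S : Subgroup G) ≤ M) (hM : Cfsg.IsInFrakM p M) (I : Subgroup G) (hI1 : I ≠ ⊥) (hIp : IsPGroup p ↥I) (hIM : I ≤ M ∧ M ≤ Subgroup.normalizer ((I : Subgroup G) : Set G)) (Y : Subgroup G) (hY : Y ≤ (Cfsg.pCoreOf p (M ⊔ Subgroup.centralizer (((Cfsg.largestPReducedOf p M) : Subgroup G) : Set G)))) (L : Subgroup G) (hYL : Y ≤ L) (A : Subgroup G) (hAp : IsPGroup p ↥A) (hAL : A ≤ L ∧ L ≤ Subgroup.normalizer ((A : Subgroup G) : Set G)) (hIA : I ≤ A) (hAM : A ≤ M) (hc : ⁅Y, A⁆ ≤ ⁅I, A⁆) : Y ≤ (Cfsg.pCoreOf p L) := by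
  open Cfsg.Agent.Lib.Helper17 in
  have hpar := (Cfsg.Agent.S2845.result Q hQp hQ1 hQ).2.1
  set Md := M ⊔ Subgroup.centralizer (largestPReducedOf p M : Set G) with hMd
  have hNI : Subgroup.normalizer (I : Set G) ≤ Md := by
    have hpb : IsParabolic p (Subgroup.normalizer (I : Set G)) := ⟨S, hSM.trans hIM.2⟩
    have hIcore : I ≤ pCoreOf p (Subgroup.normalizer (I : Set G)) :=
      le_pCoreOf Subgroup.le_normalizer le_rfl hIp
    have hne : pCore p (Subgroup.normalizer (I : Set G)) ≠ ⊥ := fun h0 =>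
      hI1 (le_bot_iff.mp ((pCoreOf_eq_bot_iff.mpr h0) ▸ hIcore))
    have hLL : Subgroup.normalizer (I : Set G) ∈ charPSubgroups p G := ⟨hne, hpar _ hpb hne⟩
    obtain ⟨X, hle, hX⟩ := (Set.toFinite (charPSubgroups p G)).exists_le_maximal hLL
    have hXmax : X ∈ maxCharPSubgroups p G :=
      ⟨hX.1, fun Z hZ hle => le_antisymm (hX.2 hZ hle) hle⟩
    have := hM.2.2.1 X hXmax (hIM.2.trans hle)
    exact hle.trans this.le
  have hYp : IsPGroup p Y := (pCoreOf_isPGroup p Md).to_le hY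
  have hstabn : ∀ F E : Subgroup G, L ≤ Subgroup.normalizer (F : Set G) →
      L ≤ Subgroup.normalizer (E : Set G) → L ≤ Subgroup.normalizer (stabMod F E : Set G) :=
    fun F E hF hE => le_normalizer_of_conj_mem fun c hc h hh =>
      conj_mem_stabMod (hE hc) (hF hc) hh
  have hYD : Y ≤ nclIn Y L := le_nclIn Y L
  have hDL : nclIn Y L ≤ L := nclIn_le hYL Subgroup.le_normalizer
  have hLD : L ≤ Subgroup.normalizer (nclIn Y L : Set G) := le_normalizer_nclIn Y L
  set D := nclIn Y L with hD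
  have hILA : nclIn I L ≤ A := nclIn_le hIA hAL.2
  have hLIL : L ≤ Subgroup.normalizer (nclIn I L : Set G) := le_normalizer_nclIn I L
  have hIIL : I ≤ nclIn I L := le_nclIn I L
  set IL := nclIn I L with hIL
  have hLn1 : L ≤ Subgroup.normalizer ((⁅IL, A⁆ : Subgroup G) : Set G) :=
    le_normalizer_commutator hLIL hAL.2
  have hD1 : D ≤ stabMod A ⁅IL, A⁆ := by
    apply nclIn_le _ (hstabn _ _ hAL.2 hLn1)
    intro y hy
    refine ⟨hLn1 (hYL hy), fun a ha => ?_⟩
    exact Subgroup.commutator_mono hIIL le_rfl (hc (Subgroup.commutator_mem_commutator hy ha))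
  have hAD : ⁅A, D⁆ ≤ ⁅A, A⁆ :=
    (commutator_le_of_le_stabMod hD1).trans (Subgroup.commutator_mono hILA le_rfl)
  have hEA : opOf p D ≤ Subgroup.centralizer (A : Set G) := by
    rw [pResidual_map_subtype_le_iff]
    intro x hx hcx
    have hzD : Subgroup.zpowers x ≤ D := by rwa [Subgroup.zpowers_le]
    have hcop : (Nat.card (Subgroup.zpowers x)).Coprime (Nat.card (frattini A)) := by
      obtain ⟨n, hn⟩ := IsPGroup.iff_card.mp (hAp.to_subgroup (frattini A))
      rw [hn, Nat.card_zpowers]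
      exact Nat.Coprime.pow_right n hcx
    have h29 := Cfsg.Agent.S0029.result (Subgroup.zpowers x) A
      ((hzD.trans hDL).trans hAL.2) hcop (by
        intro a ha k hk
        have h1 : a * k * a⁻¹ * k⁻¹ ∈ ⁅A, A⁆ := by
          apply hAD
          rw [Subgroup.commutator_comm]
          exact Subgroup.commutator_mem_commutator (hzD ha) hk
        rw [← Subgroup.map_subtype_commutator] at h1
        exact Subgroup.map_mono (Cfsg.Agent.S0012.result p hAp).1 h1)
    exact h29 (Subgroup.mem_zpowers x)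
  have hED : opOf p D ≤ D := pResidual_map_subtype_le p D
  have hDE : D ≤ Subgroup.normalizer (opOf p D : Set G) := le_normalizer_opOf p D
  have hLE : L ≤ Subgroup.normalizer (opOf p D : Set G) :=
    hLD.trans (normalizer_le_normalizer_opOf p D)
  have hmodE := pMod_opOf p D
  set E := opOf p D with hE
  have hEMd : E ≤ Md :=
    (hEA.trans (Subgroup.centralizer_le hIA)).trans ((centralizer_le_normalizer' I).trans hNI)
  have hLOE : L ≤ Subgroup.normalizer (pCoreOf p E : Set G) :=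
    hLE.trans (normalizer_le_normalizer_pCoreOf p E)
  have hinf : E ⊓ pCoreOf p Md ≤ pCoreOf p E :=
    le_pCoreOf inf_le_left (le_normalizer_inf Subgroup.le_normalizer
      (hEMd.trans (le_normalizer_pCoreOf p Md))) ((pCoreOf_isPGroup p Md).to_le inf_le_right)
  have hD2 : D ≤ stabMod E (pCoreOf p E) := by
    apply nclIn_le _ (hstabn _ _ hLE hLOE)
    intro y hy
    refine ⟨hLOE (hYL hy), fun e he => ?_⟩
    have h1 : y * e * y⁻¹ * e⁻¹ ∈ E :=
      mul_mem (conj_mem_of_le_normalizer hLE (hYL hy) he) (inv_mem he)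
    have h2 : y * e * y⁻¹ * e⁻¹ ∈ pCoreOf p Md := by
      have := mul_mem (hY hy) (conj_mem_of_le_normalizer (le_normalizer_pCoreOf p Md) (hEMd he)
        (inv_mem (hY hy)))
      simpa [mul_assoc] using this
    exact hinf (Subgroup.mem_inf.mpr ⟨h1, h2⟩)
  have hED2 : ⁅E, D⁆ ≤ pCoreOf p E := commutator_le_of_le_stabMod hD2
  obtain ⟨TD, hTD, hYTD⟩ := exists_isSyl_ge hYD hYp
  have hOE : pCoreOf p E ≤ TD :=
    (pCoreOf_le_pCoreOf_of_normal hED hDE).trans (pCoreOf_le_isSyl hTD)
  have hETD : E ≤ Subgroup.normalizer (TD : Set G) :=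
    le_normalizer_of_conj_mem fun e he t ht => by
      have h1 : e * t * e⁻¹ * t⁻¹ ∈ TD :=
        hOE (hED2 (Subgroup.commutator_mem_commutator he (hTD.le ht)))
      have := mul_mem h1 ht
      simpa using this
  have hDTD : D ≤ Subgroup.normalizer (TD : Set G) :=
    (hTD.le_sup_of_pMod hmodE).trans (sup_le hETD Subgroup.le_normalizer)
  exact hYTD.trans ((le_pCoreOf hTD.le hDTD hTD.isPGroup).trans
    (pCoreOf_le_pCoreOf_of_normal hDL hLD))

end Cfsg.Agent.S2864
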