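import Cfsg.Statements.S2872
import Cfsg.Agent.Lib.Helper17.ThTransfer
import Cfsg.Agent.Lib.Helper1.Frattini

set_option autoImplicit false
open Cfsg

namespace Cfsg.Agent.S2872

/-- Let S be a Sylow 2-subgroup of the finite group G. Then G has a proper normal subgroup of 2-power index (O²(G) ≠ G), or Ω₁(Z(S)) is contained in the Frattini subgroup of S, or N_G(S) acts nontrivially on Ω₁(Z(S)) by conjugation. -/
theorem result {G : Type*} [Group G] [Finite G] (S : Sylow 2 G) : Cfsg.pResidual 2 G ≠ ⊤ ∨ Cfsg.omegaOne 2 ((S : Subgroup G) ⊓ Subgroup.centralizer ((S : Subgroup G) : Set G)) ≤ (frattini ↥(S : Subgroup G)).map (S : Subgroup G).subtype ∨ ∃ g ∈ Subgroup.normalizer ((S : Subgroup G) : Set G), ∃ z ∈ Cfsg.omegaOne 2 ((S : Subgroup G) ⊓ Subgroup.centralizer ((S : Subgroup G) : Set G)), g * z * g⁻¹ ≠ z := by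
  open Cfsg.Agent.Lib.Helper17 in
  by_contra hcon
  push Not at hcon
  obtain ⟨h1, h2, h3⟩ := hcon
  have hex : ∃ z, z ∈ (S : Subgroup G) ⊓ Subgroup.centralizer ((S : Subgroup G) : Set G) ∧
      z ^ 2 = 1 ∧ z ∉ (frattini ↥(S : Subgroup G)).map (S : Subgroup G).subtype := by
    by_contra hno
    push Not at hno
    apply h2
    unfold Cfsg.omegaOne
    rw [Subgroup.closure_le]
    rintro z ⟨hz1, hz2⟩
    exact hno z hz1 hz2
  obtain ⟨z, hz, hz2, hzΦ⟩ := hex
  have hzΩ : z ∈ Cfsg.omegaOne 2 ((S : Subgroup G) ⊓ Subgroup.centralizer ((S : Subgroup G) : Set G)) :=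
    Subgroup.subset_closure ⟨hz, hz2⟩
  have hzΦ' : (⟨z, hz.1⟩ : ↥(S : Subgroup G)) ∉ frattini ↥(S : Subgroup G) := by
    intro h
    exact hzΦ ⟨_, h, rfl⟩
  rw [Cfsg.Agent.Lib.Helper1.mem_frattini_iff] at hzΦ'
  push Not at hzΦ'
  obtain ⟨M', hM', hzM'⟩ := hzΦ'
  have hidx := (Cfsg.Agent.Lib.Helper1.pgroup_coatom S.isPGroup' M' hM').2
  obtain ⟨N, hNn, hNi, -⟩ := exists_index_two_of_central S (M'.map (S : Subgroup G).subtype)
    (Subgroup.map_subtype_le _) (by rw [Subgroup.relIndex, Subgroup.subgroupOf, Subgroup.comap_map_eq_self_of_injective (Subgroup.subtype_injective _)]; exact hidx) z hz.1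
    (fun s hs => Subgroup.mem_centralizer_iff.mp hz.2 s hs) hz2
    (by
      rintro ⟨y, hy, e⟩
      have : y = ⟨z, hz.1⟩ := Subtype.ext e
      rw [this] at hy
      exact hzM' hy)
    (fun g hg => h3 g hg z hzΩ)
  have hP : IsPGroup 2 (G ⧸ N) := IsPGroup.of_card (n := 1) (by rw [pow_one]; exact hNi)
  have := pResidual_le_of_isPGroup_quotient hP
  rw [h1, top_le_iff] at this
  rw [this, Subgroup.index_top] at hNi
  omega

end Cfsg.Agent.S2872
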