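import Cfsg.Statements.S2873
import Mathlib
import Cfsg.Agent.Lib.Helper23.Fitting

set_option autoImplicit false
open Cfsg

namespace Cfsg.Agent.S2873

section
open Subgroup DihedralGroup

variable {G : Type*} [Group G] [Finite G] {p : ℕ} [Fact p.Prime]

structure Setup (π : G →* DihedralGroup p) (Q : Subgroup G) : Prop where
  odd : p ≠ 2
  surj : Function.Surjective π
  ker : ∀ x, x ∈ Q ↔ π x = 1
  two : IsPGroup 2 Q
  cent : ∀ R : Sylow p G, ∀ x ∈ Q, (∀ y ∈ R, x * y = y * x) → x = 1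

variable {π : G →* DihedralGroup p} {Q : Subgroup G}

theorem two_ne (hr : p ≠ 2) : (2 : ZMod p) ≠ 0 := by
  intro h
  have h2 : ((2 : ℕ) : ZMod p) = 0 := by exact_mod_cast h
  rw [ZMod.natCast_eq_zero_iff] at h2
  have := (Nat.prime_dvd_prime_iff_eq (Fact.out : p.Prime) Nat.prime_two).1 h2
  exact hr this

theorem rot_of_mem (S : Setup π Q) (R : Sylow p G) {y : G} (hy : y ∈ R) : ∃ i, π y = r i := by
  rcases h : π y with i | i
  · exact ⟨i, rfl⟩
  · exfalso
    obtain ⟨k, hk⟩ := R.2 ⟨y, hy⟩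
    have h1 : y ^ p ^ k = 1 := by simpa using congrArg Subtype.val hk
    have h2 : (π y) ^ p ^ k = 1 := by rw [← map_pow, h1, map_one]
    rw [h] at h2
    have h3 := orderOf_dvd_of_pow_eq_one h2
    rw [orderOf_sr] at h3
    have h4 := Nat.Prime.dvd_of_dvd_pow Nat.prime_two h3
    exact S.odd ((Nat.prime_dvd_prime_iff_eq Nat.prime_two (Fact.out : p.Prime)).1 h4).symm

theorem triv_of_mem (S : Setup π Q) (R : Sylow p G) {y : G} (hy : y ∈ R) (h : π y = 1) : y = 1 := by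
  have hd := IsPGroup.disjoint_of_ne p 2 S.odd (R : Subgroup G) Q R.2 S.two
  exact Subgroup.disjoint_def.1 hd hy ((S.ker y).2 h)

theorem inj_norm (S : Setup π Q) (R : Sylow p G) {x y : G}
    (hx : x ∈ normalizer ((R : Subgroup G) : Set G)) (hy : y ∈ normalizer ((R : Subgroup G) : Set G))
    (h : π x = π y) : x = y := by
  have hu : x⁻¹ * y ∈ normalizer ((R : Subgroup G) : Set G) := mul_mem (inv_mem hx) hy
  have hu1 : π (x⁻¹ * y) = 1 := by rw [map_mul, map_inv, h, inv_mul_cancel]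
  have : x⁻¹ * y = 1 := by
    apply S.cent R _ ((S.ker _).2 hu1)
    intro t ht
    have h1 : (x⁻¹ * y) * t * (x⁻¹ * y)⁻¹ ∈ (R : Subgroup G) := (mem_normalizer_iff.1 hu t).1 ht
    have h2 : (x⁻¹ * y) * t * (x⁻¹ * y)⁻¹ * t⁻¹ = 1 := by
      apply triv_of_mem S R (mul_mem h1 (inv_mem ht))
      rw [map_mul, map_mul, map_mul, map_inv, map_inv, hu1]; simp
    have h3 : (x⁻¹ * y) * t * (x⁻¹ * y)⁻¹ = t := by
      rw [mul_inv_eq_one] at h2; exact h2
    rw [mul_inv_eq_iff_eq_mul] at h3; exact h3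
  rw [inv_mul_eq_one] at this; exact this

theorem surj_norm (S : Setup π Q) (R : Sylow p G) (d : DihedralGroup p) :
    ∃ x ∈ normalizer ((R : Subgroup G) : Set G), π x = d := by
  have hn : ((R : Subgroup G).map π).Normal := by
    constructor
    intro n hn g
    obtain ⟨y, hy, rfl⟩ := hn
    obtain ⟨i, hi⟩ := rot_of_mem S R hy
    rcases g with j | j
    · have : r j * π y * (r j)⁻¹ = π y := by rw [hi]; simp
      rw [this]; exact ⟨y, hy, rfl⟩
    · have : sr j * π y * (sr j)⁻¹ = π y⁻¹ := by rw [map_inv, hi]; simp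
      rw [this]; exact ⟨y⁻¹, inv_mem hy, rfl⟩
  have hK : (((R : Subgroup G).map π).comap π).Normal := hn.comap π
  have h1 : normalizer ((R : Subgroup G) : Set G) ⊔ ((R : Subgroup G).map π).comap π = ⊤ :=
    Sylow.normalizer_sup_eq_top' (N := ((R : Subgroup G).map π).comap π) R (le_comap_map π _)
  rw [comap_map_eq, ← sup_assoc, sup_eq_left.2 (le_normalizer : (R : Subgroup G) ≤ normalizer ((R : Subgroup G) : Set G))] at h1
  have h2 : (normalizer ((R : Subgroup G) : Set G)).map π = ⊤ := by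
    have := congrArg (Subgroup.map π) h1
    rw [Subgroup.map_sup, (Subgroup.map_eq_bot_iff _).2 le_rfl, sup_bot_eq, ← MonoidHom.range_eq_map,
      MonoidHom.range_eq_top.2 S.surj] at this
    exact this
  have h3 : d ∈ (normalizer ((R : Subgroup G) : Set G)).map π := by rw [h2]; trivial
  obtain ⟨x, hx, rfl⟩ := h3
  exact ⟨x, hx, rfl⟩

theorem inv_norm {a z : G} (h : a * z * a⁻¹ = z⁻¹) : a ∈ normalizer ((zpowers z : Subgroup G) : Set G) := by
  have h' : a⁻¹ * z * a = z⁻¹ := by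
    have : z = a⁻¹ * z⁻¹ * a := by rw [← h]; group
    calc a⁻¹ * z * a = (a⁻¹ * z⁻¹ * a)⁻¹ := by group
      _ = z⁻¹ := by rw [← this]
  rw [mem_normalizer_iff]
  intro x
  constructor
  · rintro ⟨n, rfl⟩
    refine ⟨-n, ?_⟩
    show z ^ (-n) = a * z ^ n * a⁻¹
    rw [← conj_zpow, h, inv_zpow, zpow_neg]
  · rintro ⟨n, hn⟩
    refine ⟨-n, ?_⟩
    have hn' : z ^ n = a * x * a⁻¹ := hn
    show z ^ (-n) = x
    have : x = a⁻¹ * z ^ n * (a⁻¹)⁻¹ := by rw [hn']; group
    rw [this, ← conj_zpow, inv_inv, h', inv_zpow, zpow_neg]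

/-- Lemma L -/
theorem exists_sylow (S : Setup π Q) {w : G} {k : ZMod p} (hw : π w = r k) (hk : k ≠ 0) :
    ∃ (R : Sylow p G) (m : ℕ), (R : Subgroup G) = zpowers (w ^ m) := by
  obtain ⟨n, hn⟩ := IsPGroup.iff_card.1 S.two
  have hwr : w ^ p ∈ Q := by
    rw [S.ker, map_pow, hw, r_pow]; simp
  have hz1 : (w ^ 2 ^ n) ^ p = 1 := by
    rw [← pow_mul, mul_comm, pow_mul]
    have := pow_card_eq_one' (G := Q) (x := ⟨w ^ p, hwr⟩)
    rw [hn] at this
    simpa using congrArg Subtype.val this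
  have hπz : π (w ^ 2 ^ n) = r (k * (2 : ZMod p) ^ n) := by
    rw [map_pow, hw, r_pow]; push_cast; rfl
  have hk' : k * (2 : ZMod p) ^ n ≠ 0 := mul_ne_zero hk (pow_ne_zero _ (two_ne S.odd))
  have hz0 : w ^ 2 ^ n ≠ 1 := by
    intro h
    rw [h, map_one, one_def] at hπz
    exact hk' (r.inj hπz).symm
  have ho : orderOf (w ^ 2 ^ n) = p := orderOf_eq_prime hz1 hz0
  have hp : IsPGroup p (zpowers (w ^ 2 ^ n)) := by
    apply IsPGroup.of_card (n := 1)
    rw [Nat.card_zpowers, ho, pow_one]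
  obtain ⟨R, hR⟩ := hp.exists_le_sylow
  refine ⟨R, 2 ^ n, le_antisymm ?_ hR⟩
  intro y hy
  obtain ⟨i, hi⟩ := rot_of_mem S R hy
  set z := w ^ 2 ^ n with hz
  have hzR : z ∈ R := hR (mem_zpowers z)
  set j : ℕ := (i * (k * (2 : ZMod p) ^ n)⁻¹).val with hj
  have h1 : π (z ^ j) = r i := by
    rw [map_pow, hπz, r_pow, hj, ZMod.natCast_val, ZMod.cast_id', id]
    rw [mul_comm i, mul_inv_cancel_left₀ hk']
  have h2 : y * (z ^ j)⁻¹ = 1 := by
    apply triv_of_mem S R (mul_mem hy (inv_mem (pow_mem hzR j)))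
    rw [map_mul, map_inv, h1, hi, mul_inv_cancel]
  rw [mul_inv_eq_one] at h2
  rw [h2]
  exact pow_mem (mem_zpowers z) j


theorem norm_of_eq {a b : G} (ha : a * a = 1) (hb : b * b = 1) {H : Subgroup G} {m : ℕ}
    (hR : H = zpowers ((b * a) ^ m)) :
    a ∈ normalizer (H : Set G) ∧ b ∈ normalizer (H : Set G) := by
  have hai : a⁻¹ = a := inv_eq_of_mul_eq_one_left ha
  have hbi : b⁻¹ = b := inv_eq_of_mul_eq_one_left hb
  have h1 : a * (b * a) * a⁻¹ = (b * a)⁻¹ := by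
    rw [mul_inv_rev, hai, hbi]
    calc a * (b * a) * a = a * b * (a * a) := by group
      _ = a * b := by rw [ha, mul_one]
  have h2 : b * (b * a) * b⁻¹ = (b * a)⁻¹ := by
    rw [mul_inv_rev, hai, hbi]
    calc b * (b * a) * b = (b * b) * a * b := by group
      _ = a * b := by rw [hb, one_mul]
  constructor
  · rw [hR]; apply inv_norm; rw [← conj_pow, h1, inv_pow]
  · rw [hR]; apply inv_norm; rw [← conj_pow, h2, inv_pow]

theorem conj1 (S : Setup π Q) {a b : G} (ha : a * a = 1) (hb : b * b = 1) {i j : ZMod p}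
    (hπa : π a = sr i) (hπb : π b = sr j) (hij : i ≠ j) : ∃ g : G, g * a * g⁻¹ = b := by
  have hw : π (b * a) = r (i - j) := by rw [map_mul, hπa, hπb, sr_mul_sr]
  obtain ⟨R, m, hR⟩ := exists_sylow S hw (sub_ne_zero.2 hij)
  obtain ⟨haR, hbR⟩ := norm_of_eq ha hb hR
  obtain ⟨g, hg, hπg⟩ := surj_norm S R (r ((i - j) * 2⁻¹))
  refine ⟨g, inj_norm S R (mul_mem (mul_mem hg haR) (inv_mem hg)) hbR ?_⟩
  rw [map_mul, map_mul, map_inv, hπg, hπa, hπb]
  simp only [r_mul_sr, inv_r, sr_mul_r]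
  congr 1
  have h2 := two_ne S.odd
  field_simp
  ring

theorem conj2 (S : Setup π Q) {a b : G} (ha : a * a = 1) (hb : b * b = 1) {i j : ZMod p}
    (hπa : π a = sr i) (hπb : π b = sr j) : ∃ g : G, g * a * g⁻¹ = b := by
  obtain ⟨k, hki, hkj⟩ : ∃ k : ZMod p, i ≠ k ∧ k ≠ j := by
    by_cases h : i + 1 = j
    · refine ⟨i + 2, ?_, ?_⟩
      · intro h'
        exact two_ne S.odd (by simpa using h'.symm)
      · rw [← h]
        intro h'
        have h3 : (2 : ZMod p) = 1 := add_left_cancel h'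
        have h4 : (1 : ZMod p) + 1 = 1 + 0 := by rw [add_zero, one_add_one_eq_two, h3]
        exact one_ne_zero (add_left_cancel h4)
    · exact ⟨i + 1, by simp, h⟩
  obtain ⟨R⟩ : Nonempty (Sylow p G) := inferInstance
  obtain ⟨c, hc, hπc⟩ := surj_norm S R (sr k)
  have hcc : c * c = 1 :=
    inj_norm S R (mul_mem hc hc) (one_mem _) (by rw [map_mul, hπc, map_one]; simp)
  obtain ⟨g1, h1⟩ := conj1 S ha hcc hπa hπc hki
  obtain ⟨g2, h2⟩ := conj1 S hcc hb hπc hπb hkj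
  exact ⟨g2 * g1, by rw [← h2, ← h1]; group⟩

theorem conj_sq {a q : G} (ha : a * a = 1) : (q * a * q⁻¹) * (q * a * q⁻¹) = 1 := by
  calc (q * a * q⁻¹) * (q * a * q⁻¹) = q * (a * a) * q⁻¹ := by group
    _ = 1 := by rw [ha]; group

theorem key (S : Setup π Q) {a a' : G} (ha : a * a = 1) (ha' : a' * a' = 1) {i j : ZMod p}
    (hπa : π a = sr i) (hπa' : π a' = sr j) (hij : i ≠ j) {q q' s s' : G}
    (hq : q ∈ Q) (hq' : q' ∈ Q) (hs : s ∈ Q)
    (h : (q * a * q⁻¹) * (q' * a' * q'⁻¹) = (s * a * s⁻¹) * (s' * a' * s'⁻¹)) :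
    q * a * q⁻¹ = s * a * s⁻¹ ∧ q' * a' * q'⁻¹ = s' * a' * s'⁻¹ := by
  have e1 : π (q * a * q⁻¹) = sr i := by rw [map_mul, map_mul, map_inv, (S.ker q).1 hq, hπa]; simp
  have e2 : π (q' * a' * q'⁻¹) = sr j := by
    rw [map_mul, map_mul, map_inv, (S.ker q').1 hq', hπa']; simp
  have e3 : π (s * a * s⁻¹) = sr i := by rw [map_mul, map_mul, map_inv, (S.ker s).1 hs, hπa]; simp
  have hw : π ((q * a * q⁻¹) * (q' * a' * q'⁻¹)) = r (j - i) := by rw [map_mul, e1, e2, sr_mul_sr]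
  obtain ⟨R, m, hR⟩ := exists_sylow S hw (sub_ne_zero.2 hij.symm)
  obtain ⟨-, h1⟩ := norm_of_eq (conj_sq ha') (conj_sq ha) hR
  rw [h] at hR
  obtain ⟨-, h2⟩ := norm_of_eq (conj_sq ha') (conj_sq ha) hR
  have h3 := inj_norm S R h1 h2 (e1.trans e3.symm)
  refine ⟨h3, ?_⟩
  rw [h3] at h
  exact mul_left_cancel h

theorem mem_cent {a q s : G} (h : q * a * q⁻¹ = s * a * s⁻¹) : s⁻¹ * q ∈ centralizer ({a} : Set G) := by
  rw [mem_centralizer_singleton_iff]
  have h1 : q * a = s * a * s⁻¹ * q := by rw [← h]; group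
  calc s⁻¹ * q * a = s⁻¹ * (q * a) := by group
    _ = s⁻¹ * (s * a * s⁻¹ * q) := by rw [h1]
    _ = a * (s⁻¹ * q) := by group

theorem card_ge (S : Setup π Q) {a a' : G} (ha : a * a = 1) (ha' : a' * a' = 1) {i j : ZMod p}
    (hπa : π a = sr i) (hπa' : π a' = sr j) (hij : i ≠ j) :
    Nat.card Q ≤ Nat.card ↥(Q ⊓ centralizer ({a} : Set G)) * Nat.card ↥(Q ⊓ centralizer ({a'} : Set G)) := by
  classical
  have hmem : ∀ x : Q × Q, ((x.1 : G) * a * (x.1 : G)⁻¹) * ((x.2 : G) * a' * (x.2 : G)⁻¹) * (a * a')⁻¹ ∈ Q := by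
    intro x
    rw [S.ker]
    simp only [map_mul, map_inv, (S.ker _).1 x.1.2, (S.ker _).1 x.2.2]
    simp
  let F : Q × Q → Q := fun x => ⟨_, hmem x⟩
  have hF : ∀ x y, F x = F y → (y.1 : G)⁻¹ * x.1 ∈ Q ⊓ centralizer ({a} : Set G) ∧
      (y.2 : G)⁻¹ * x.2 ∈ Q ⊓ centralizer ({a'} : Set G) := by
    intro x y h
    have h1 := mul_right_cancel (congrArg Subtype.val h)
    obtain ⟨h2, h3⟩ := key S ha ha' hπa hπa' hij x.1.2 x.2.2 y.1.2 h1
    exact ⟨Subgroup.mem_inf.2 ⟨Q.mul_mem (Q.inv_mem y.1.2) x.1.2, mem_cent h2⟩,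
      Subgroup.mem_inf.2 ⟨Q.mul_mem (Q.inv_mem y.2.2) x.2.2, mem_cent h3⟩⟩
  let s : Q → Q × Q := Function.invFun F
  have hs : ∀ x, F (s (F x)) = F x := fun x => Function.invFun_eq ⟨x, rfl⟩
  let E : Q × Q → Q × (↥(Q ⊓ centralizer ({a} : Set G)) × ↥(Q ⊓ centralizer ({a'} : Set G))) :=
    fun x => (F x, ⟨_, (hF x (s (F x)) (hs x).symm).1⟩, ⟨_, (hF x (s (F x)) (hs x).symm).2⟩)
  have hE : Function.Injective E := by
    intro x y h
    have h1 : F x = F y := congrArg Prod.fst h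
    have h2 : ((s (F x)).1 : G)⁻¹ * x.1 = ((s (F y)).1 : G)⁻¹ * y.1 :=
      congrArg (fun t => (t.2.1 : G)) h
    have h3 : ((s (F x)).2 : G)⁻¹ * x.2 = ((s (F y)).2 : G)⁻¹ * y.2 :=
      congrArg (fun t => (t.2.2 : G)) h
    rw [h1] at h2 h3
    exact Prod.ext (Subtype.ext (mul_left_cancel h2)) (Subtype.ext (mul_left_cancel h3))
  have := Nat.card_le_card_of_injective E hE
  rw [Nat.card_prod, Nat.card_prod, Nat.card_prod] at this
  exact Nat.le_of_mul_le_mul_left this Nat.card_pos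

theorem card_le (S : Setup π Q) {a a' : G} {i j : ZMod p}
    (hπa : π a = sr i) (hπa' : π a' = sr j) (hij : i ≠ j) :
    Nat.card ↥(Q ⊓ centralizer ({a} : Set G)) * Nat.card ↥(Q ⊓ centralizer ({a'} : Set G)) ≤ Nat.card Q := by
  have hw : π (a * a') = r (j - i) := by rw [map_mul, hπa, hπa', sr_mul_sr]
  obtain ⟨R, m, hR⟩ := exists_sylow S hw (sub_ne_zero.2 hij.symm)
  have hd : Disjoint (Q ⊓ centralizer ({a} : Set G)) (Q ⊓ centralizer ({a'} : Set G)) := by
    rw [Subgroup.disjoint_def]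
    intro x h1 h2
    apply S.cent R x h1.1
    intro y hy
    have hy' : y ∈ (R : Subgroup G) := hy
    rw [hR] at hy'
    obtain ⟨n, rfl⟩ := hy'
    have c1 : Commute x a := mem_centralizer_singleton_iff.1 h1.2
    have c2 : Commute x a' := mem_centralizer_singleton_iff.1 h2.2
    exact (((c1.mul_right c2).pow_right m).zpow_right n)
  rw [← Nat.card_prod]
  refine Nat.card_le_card_of_injective
    (fun t => (⟨(t.1 : G) * (t.2 : G), mul_mem t.1.2.1 t.2.2.1⟩ : Q)) ?_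
  intro t u h
  exact mul_injective_of_disjoint hd (congrArg Subtype.val h)

theorem card_conj_le (hQ : Q.Normal) {a a' g : G} (h : g * a * g⁻¹ = a') :
    Nat.card ↥(Q ⊓ centralizer ({a} : Set G)) ≤ Nat.card ↥(Q ⊓ centralizer ({a'} : Set G)) := by
  refine Nat.card_le_card_of_injective
    (fun x => (⟨g * (x : G) * g⁻¹, Subgroup.mem_inf.2 ⟨hQ.conj_mem _ x.2.1 g, ?_⟩⟩ : ↥(Q ⊓ centralizer ({a'} : Set G)))) ?_
  · rw [mem_centralizer_singleton_iff, ← h]
    have := mem_centralizer_singleton_iff.1 x.2.2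
    calc g * (x : G) * g⁻¹ * (g * a * g⁻¹) = g * ((x : G) * a) * g⁻¹ := by group
      _ = g * (a * (x : G)) * g⁻¹ := by rw [this]
      _ = _ := by group
  · intro x y hxy
    have h1 : g * (x : G) * g⁻¹ = g * (y : G) * g⁻¹ := congrArg Subtype.val hxy
    exact Subtype.ext (mul_left_cancel (mul_right_cancel h1))

theorem refl_of (S : Setup π Q) {b : G} (hb : b * b = 1) (hbQ : b ∉ Q) : ∃ j, π b = sr j := by
  rcases h : π b with k | k
  · exfalso
    apply hbQ
    rw [S.ker, h]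
    have h1 : (r k * r k : DihedralGroup p) = 1 := by rw [← h, ← map_mul, hb, map_one]
    rw [r_mul_r, one_def] at h1
    have h2 : k + k = 0 := r.inj h1
    have h3 : 2 * k = 0 := by rw [two_mul]; exact h2
    rcases mul_eq_zero.1 h3 with h4 | h4
    · exact absurd h4 (two_ne S.odd)
    · rw [h4, one_def]
  · exact ⟨k, rfl⟩

end

/-- Let G be a finite group and r an odd prime such that G ⧸ O₂(G) is dihedral of order 2r, and let R be a Sylow r-subgroup of G with C_{O₂(G)}(R) = 1. Then N_G(R) is dihedral of order 2r; for any involution a of N_G(R), every involution of G outside O₂(G) is conjugate to a; and |C_{O₂(G)}(a)|² = |O₂(G)|. -/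
theorem result {G : Type*} [Group G] [Finite G] {r : ℕ} [Fact r.Prime] (hr : r ≠ 2) [hN : (Cfsg.pCore 2 G).Normal] (hquot : Nonempty (G ⧸ Cfsg.pCore 2 G ≃* DihedralGroup r)) (R : Sylow r G) (hC : Cfsg.pCore 2 G ⊓ Subgroup.centralizer ((R : Subgroup G) : Set G) = ⊥) : Nonempty (↥(Subgroup.normalizer ((R : Subgroup G) : Set G)) ≃* DihedralGroup r) ∧ ∀ a : G, a ∈ Subgroup.normalizer ((R : Subgroup G) : Set G) → orderOf a = 2 → (∀ b : G, orderOf b = 2 → b ∉ Cfsg.pCore 2 G → ∃ g : G, g * a * g⁻¹ = b) ∧ Nat.card ↥(Cfsg.pCore 2 G ⊓ Subgroup.centralizer ({a} : Set G)) ^ 2 = Nat.card ↥(Cfsg.pCore 2 G) := by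
  classical
  obtain ⟨e⟩ := hquot
  let π : G →* DihedralGroup r := e.toMonoidHom.comp (QuotientGroup.mk' (Cfsg.pCore 2 G))
  have hker : ∀ x, x ∈ Cfsg.pCore 2 G ↔ π x = 1 := by
    intro x
    show x ∈ Cfsg.pCore 2 G ↔ e (QuotientGroup.mk x) = 1
    rw [map_eq_one_iff e e.injective, QuotientGroup.eq_one_iff]
  have S : Setup π (Cfsg.pCore 2 G) :=
    { odd := hr
      surj := e.surjective.comp (QuotientGroup.mk'_surjective _)
      ker := hker
      two := Cfsg.Agent.Lib.Helper23.isPGroup_pCore 2 G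
      cent := by
        intro R' x hx hc
        obtain ⟨g, rfl⟩ := MulAction.exists_smul_eq G R R'
        have hmem : ∀ t ∈ R, g * t * g⁻¹ ∈ (g • R : Sylow r G) := by
          intro t ht
          have : g * t * g⁻¹ ∈ ((g • R : Sylow r G) : Subgroup G) := by
            rw [Sylow.smul_def]
            exact Subgroup.smul_mem_pointwise_smul t (MulAut.conj g) (R : Subgroup G) ht
          exact this
        have h1 : g⁻¹ * x * g ∈ Cfsg.pCore 2 G ⊓ Subgroup.centralizer ((R : Subgroup G) : Set G) := by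
          refine Subgroup.mem_inf.2 ⟨?_, ?_⟩
          · have := hN.conj_mem x hx g⁻¹
            rwa [inv_inv] at this
          · rw [Subgroup.mem_centralizer_iff]
            intro t ht
            have h2 := hc _ (hmem t ht)
            calc t * (g⁻¹ * x * g) = g⁻¹ * ((g * t * g⁻¹) * x) * g := by group
              _ = g⁻¹ * (x * (g * t * g⁻¹)) * g := by rw [h2]
              _ = g⁻¹ * x * g * t := by group
        rw [hC, Subgroup.mem_bot] at h1
        have h3 : x = g * (g⁻¹ * x * g) * g⁻¹ := by group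
        rw [h3, h1]; group }
  refine ⟨⟨MulEquiv.ofBijective (π.comp (Subgroup.normalizer ((R : Subgroup G) : Set G)).subtype)
    ⟨fun x y h => Subtype.ext (inj_norm S R x.2 y.2 h), fun d => ?_⟩⟩, ?_⟩
  · obtain ⟨x, hx, h⟩ := surj_norm S R d
    exact ⟨⟨x, hx⟩, h⟩
  intro a haN hao
  have haa : a * a = 1 := by rw [← pow_two, ← hao]; exact pow_orderOf_eq_one a
  have haQ : a ∉ Cfsg.pCore 2 G := by
    intro h
    have h1 : a = 1 := inj_norm S R haN (one_mem _) (by rw [(hker a).1 h, map_one])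
    rw [h1, orderOf_one] at hao
    omega
  obtain ⟨i, hπa⟩ := refl_of S haa haQ
  refine ⟨?_, ?_⟩
  · intro b hbo hbQ
    have hbb : b * b = 1 := by rw [← pow_two, ← hbo]; exact pow_orderOf_eq_one b
    obtain ⟨j, hπb⟩ := refl_of S hbb hbQ
    exact conj2 S haa hbb hπa hπb
  · obtain ⟨a', ha'N, hπa'⟩ := surj_norm S R (DihedralGroup.sr (i + 1))
    have ha'a' : a' * a' = 1 :=
      inj_norm S R (mul_mem ha'N ha'N) (one_mem _) (by rw [map_mul, hπa', map_one]; simp)
    have hij : i ≠ i + 1 := by simp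
    obtain ⟨g, hg⟩ := conj1 S haa ha'a' hπa hπa' hij
    have hg' : g⁻¹ * a' * g⁻¹⁻¹ = a := by rw [← hg]; group
    have hcard := le_antisymm (card_conj_le hN hg) (card_conj_le hN hg')
    have h1 := card_ge S haa ha'a' hπa hπa' hij
    have h2 := card_le S hπa hπa' hij
    rw [pow_two]
    have h3 := le_antisymm h2 h1
    rw [← hcard] at h3
    exact h3

end Cfsg.Agent.S2873
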