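import Cfsg.Statements.S2879
import Mathlib
import Cfsg.Agent.Lib.Helper14.SL23Aut
import Cfsg.Agent.Lib.Helper14.QDSelfCent
import Cfsg.Agent.Lib.Helper1.Fitting
import Cfsg.Agent.Lib.Helper5.PCore
-- import your own Cfsg.Agent.* helpers here

set_option autoImplicit false
open Cfsg

namespace Cfsg.Agent.S2879

/-- Let G be a finite solvable group with O(G) = 1 whose Sylow 2-subgroup T is dihedral of order at least 8 or semidihedral, with G ≠ T and Z(T) normal in G. Then G has a normal subgroup isomorphic to SL₂(3). -/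
theorem result {G : Type*} [Group G] [Finite G] (hsol : IsSolvable G) (hO : Cfsg.oddCore G = ⊥) (T : Sylow 2 G) (hT : (∃ n : ℕ, 4 ≤ n ∧ Nonempty (↥(T : Subgroup G) ≃* DihedralGroup n)) ∨ Cfsg.IsQuasiDihedral ↥(T : Subgroup G)) (hne : (T : Subgroup G) ≠ ⊤) (hZ : ((T : Subgroup G) ⊓ Subgroup.centralizer ((T : Subgroup G) : Set G)).Normal) : ∃ U : Subgroup G, U.Normal ∧ Nonempty (↥U ≃* Matrix.SpecialLinearGroup (Fin 2) (ZMod 3)) := by
  classical
  have : Fact (Nat.Prime 2) := ⟨Nat.prime_two⟩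
  have hsol' : Group.IsSolvable G := hsol
  have hsc : Cfsg.Agent.Lib.Helper14.SelfCent (T : Subgroup G) ∧ 8 ≤ Nat.card (T : Subgroup G) := by
    rcases hT with ⟨n, hn, ⟨e⟩⟩ | hq
    · have : NeZero n := ⟨by omega⟩
      have hp : IsPGroup 2 (DihedralGroup n) := T.2.of_equiv e
      refine ⟨Cfsg.Agent.Lib.Helper14.SelfCent.of_injective e.toMonoidHom e.injective
        (Cfsg.Agent.Lib.Helper14.selfCent_dihedral n hp), ?_⟩
      rw [Nat.card_congr e.toEquiv, Nat.card_eq_fintype_card, DihedralGroup.card]; omega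
    · refine ⟨Cfsg.Agent.Lib.Helper14.selfCent_quasiDihedral hq, ?_⟩
      obtain ⟨n, hn, hc, -⟩ := hq
      rw [hc]
      calc 8 = 2 ^ 3 := by norm_num
        _ ≤ 2 ^ (n + 1) := Nat.pow_le_pow_right (by norm_num) (by omega)
  obtain ⟨R, hRdef⟩ : ∃ R, R = Cfsg.pCore 2 G := ⟨_, rfl⟩
  have hRn : R.Normal := hRdef ▸ Cfsg.Agent.Lib.Helper1.pCore_normal 2
  have hR2 : IsPGroup 2 R := hRdef ▸ Cfsg.Agent.Lib.Helper5.pCore_isPGroup
  have hRT : R ≤ T := hRdef ▸ Cfsg.Agent.Lib.Helper5.pCore_le_sylow T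
  have hC : Subgroup.centralizer (R : Set G) ≤ R :=
    hRdef ▸ Cfsg.Agent.Lib.Helper1.centralizer_pCore_le 2 hO
  -- an element of odd prime order
  have hidx1 : (T : Subgroup G).index ≠ 1 := fun h => hne (Subgroup.index_eq_one.mp h)
  obtain ⟨r, hr, hrd⟩ := Nat.exists_prime_and_dvd hidx1
  have hr2 : r ≠ 2 := by
    rintro rfl
    exact T.not_dvd_index hrd
  have : Fact r.Prime := ⟨hr⟩
  obtain ⟨g, hg⟩ := exists_prime_orderOf_dvd_card' r
    (hrd.trans (Subgroup.index_dvd_card (T : Subgroup G)))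
  have hgo : Odd (orderOf g) := hg ▸ hr.odd_of_ne_two hr2
  have hgR : ∀ k : ℕ, g ^ k ∈ R → g ^ k = 1 := by
    intro k hk
    obtain ⟨j, hj⟩ := hR2 ⟨g ^ k, hk⟩
    have hj' : (g ^ k) ^ 2 ^ j = 1 := congrArg Subtype.val hj
    have h1 : orderOf (g ^ k) ∣ 2 ^ j := orderOf_dvd_of_pow_eq_one hj'
    have h2 : orderOf (g ^ k) ∣ r := hg ▸ orderOf_pow_dvd k
    have h3 : Nat.Coprime (2 ^ j) r :=
      Nat.Coprime.pow_left j ((Nat.coprime_primes Nat.prime_two hr).mpr (Ne.symm hr2))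
    exact orderOf_eq_one_iff.mp (Nat.eq_one_of_dvd_coprimes h3 h1 h2)
  have hg1 : g ≠ 1 := by
    rintro rfl
    rw [orderOf_one] at hg
    exact hr.one_lt.ne hg
  have hgC : g ∉ Subgroup.centralizer (R : Set G) := by
    intro h
    have := hgR 1 (by rw [pow_one]; exact hC h)
    rw [pow_one] at this
    exact hg1 this
  have hgN : g ∈ Subgroup.normalizer (R : Set G) := by
    rw [Subgroup.normalizer_eq_top]; trivial
  have hRsc : Cfsg.Agent.Lib.Helper14.SelfCent R :=
    Cfsg.Agent.Lib.Helper14.SelfCent.of_injective (Subgroup.inclusion hRT)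
      (Subgroup.inclusion_injective _) hsc.1
  rcases hRsc.aut_cases hR2 with h | h | ⟨⟨ψ⟩⟩
  · exfalso
    apply hgC
    obtain ⟨k, hk⟩ := (IsPGroup.iff_orderOf.mp h) (R.normalizerMonoidHom ⟨g, hgN⟩)
    have h1 : orderOf (R.normalizerMonoidHom ⟨g, hgN⟩) ∣ orderOf g := by
      have := orderOf_map_dvd R.normalizerMonoidHom (⟨g, hgN⟩ : Subgroup.normalizer (R : Set G))
      rwa [Subgroup.orderOf_mk] at this
    have h2 : Nat.Coprime (orderOf (R.normalizerMonoidHom ⟨g, hgN⟩)) (orderOf g) := by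
      rw [hk]; exact Nat.Coprime.pow_left k (Nat.coprime_two_left.mpr hgo)
    have h3 := orderOf_eq_one_iff.mp (Nat.eq_one_of_dvd_coprimes h2 dvd_rfl h1)
    have h4 : (⟨g, hgN⟩ : Subgroup.normalizer (R : Set G)) ∈ R.normalizerMonoidHom.ker := h3
    rw [Subgroup.normalizerMonoidHom_ker, Subgroup.mem_subgroupOf] at h4
    exact h4
  · exfalso
    obtain ⟨Z, hZdef⟩ : ∃ Z, Z = (T : Subgroup G) ⊓ Subgroup.centralizer ((T : Subgroup G) : Set G) :=
      ⟨_, rfl⟩
    rw [← hZdef] at hZ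
    have hZT : Z ≤ T := hZdef ▸ inf_le_left
    have hZ2 : IsPGroup 2 Z := T.2.to_le hZT
    have hZR : Z ≤ R := hRdef ▸ Cfsg.Agent.Lib.Helper5.le_pCore hZ hZ2
    have hTnt : Nontrivial (T : Subgroup G) := by
      rw [← Finite.one_lt_card_iff_nontrivial]
      have := hsc.2
      omega
    have hcnt : Nontrivial (Subgroup.center (T : Subgroup G)) := T.2.center_nontrivial
    obtain ⟨⟨z', hz'c⟩, hz'1⟩ := exists_ne (1 : Subgroup.center (T : Subgroup G))
    have hzZ : (z' : G) ∈ Z := by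
      rw [hZdef]
      refine Subgroup.mem_inf.mpr ⟨z'.2, ?_⟩
      rw [Subgroup.mem_centralizer_iff]
      intro y hy
      exact congrArg Subtype.val (Subgroup.mem_center_iff.mp hz'c ⟨y, hy⟩)
    have hz1 : (z' : G) ≠ 1 := by
      intro h1
      apply hz'1
      apply Subtype.ext
      apply Subtype.ext
      exact h1
    have hcardZ : Nat.card Z = 2 := by
      have h1 : Nat.card Z ∣ 4 := h.card_four ▸ Subgroup.card_dvd_of_le hZR
      have h2 : Nat.card Z ≠ 1 := by
        intro h2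
        have := Subgroup.card_eq_one.mp h2
        rw [this, Subgroup.mem_bot] at hzZ
        exact hz1 hzZ
      have h3 : Nat.card Z ≠ 4 := by
        intro h3
        have h4 : Z = R := Subgroup.eq_of_le_of_card_ge hZR (by rw [h3, h.card_four])
        have h5 : (T : Subgroup G) ≤ Subgroup.centralizer (R : Set G) := by
          rw [← h4, hZdef]
          intro t ht
          rw [Subgroup.mem_centralizer_iff]
          intro y hy
          exact (Subgroup.mem_centralizer_iff.mp (Subgroup.mem_inf.mp hy).2 t ht).symm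
        have h6 := Subgroup.card_le_of_le (h5.trans hC)
        rw [h.card_four] at h6
        have := hsc.2
        omega
      have h4 : Nat.card Z ≤ 4 := Nat.le_of_dvd (by norm_num) h1
      interval_cases hh : Nat.card Z <;> simp_all
    have hfix : g * z' * g⁻¹ = z' := by
      obtain ⟨w, -, hw⟩ := (Nat.card_eq_two_iff' (1 : Z)).mp hcardZ
      have e1 := hw ⟨z', hzZ⟩ (fun h1 => hz1 (congrArg Subtype.val h1))
      have e2 := hw ⟨g * z' * g⁻¹, hZ.conj_mem _ hzZ g⟩ (fun h1 => by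
        have h2 : g * z' * g⁻¹ = 1 := congrArg Subtype.val h1
        apply hz1
        have : (z' : G) = g⁻¹ * (g * z' * g⁻¹) * g := by group
        rw [this, h2]; group)
      exact congrArg Subtype.val (e2.trans e1.symm)
    exact hgC (Cfsg.Agent.Lib.Helper14.klein_fix R h g hgN hgo z' (hZR hzZ) hz1 hfix)
  · have hg3 : g ^ 3 = 1 :=
      hgR 3 (hC (Cfsg.Agent.Lib.Helper14.SL23.cube_mem_centralizer R ψ g hgN hgo))
    obtain ⟨h1, h2⟩ := Cfsg.Agent.Lib.Helper14.SL23.normal_sl23 R ψ hC g hg3 hgC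
    exact ⟨_, h1, h2⟩

end Cfsg.Agent.S2879
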