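import Cfsg.Statements.S2880
import Cfsg.Agent.Lib.Helper14.Pairing

set_option autoImplicit false
open Cfsg

namespace Cfsg.Agent.S2880

open scoped commutatorElement in
theorem struct {E : Type*} [Group E] [Finite E] (hE : Cfsg.IsExtraspecial 2 E) :
    (∀ u ∈ Subgroup.center E, ∀ w ∈ Subgroup.center E, w ≠ 1 → (u = 1 ↔ u * w ≠ 1)) ∧
    (∀ x y : E, x * y * x⁻¹ * y⁻¹ ∈ Subgroup.center E) ∧
    (∀ x : E, x ^ 2 ∈ Subgroup.center E) ∧ (∀ u ∈ Subgroup.center E, u ^ 2 = 1) := by
  obtain ⟨⟨hP, hΦ, hC⟩, hcard⟩ := hE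
  have hsq : ∀ u ∈ Subgroup.center E, u ^ 2 = 1 := by
    intro u hu
    have h1 : (⟨u, hu⟩ : Subgroup.center E) ^ Nat.card (Subgroup.center E) = 1 := pow_card_eq_one'
    rw [hcard] at h1
    exact congrArg Subtype.val h1
  have huniq := (Nat.card_eq_two_iff' (1 : Subgroup.center E)).mp hcard
  have hcomm : ∀ x y : E, x * y * x⁻¹ * y⁻¹ ∈ Subgroup.center E := by
    intro x y
    rw [← hC, ← commutatorElement_def]
    exact Subgroup.commutator_mem_commutator (Subgroup.mem_top x) (Subgroup.mem_top y)
  refine ⟨?_, hcomm, ?_, hsq⟩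
  · intro u hu w hw hw1
    constructor
    · rintro rfl
      rwa [one_mul]
    · intro h
      by_contra hu1
      obtain ⟨z, -, hz⟩ := huniq
      have e1 : (⟨u, hu⟩ : Subgroup.center E) = z := hz _ (fun h => hu1 (congrArg Subtype.val h))
      have e2 : (⟨w, hw⟩ : Subgroup.center E) = z := hz _ (fun h => hw1 (congrArg Subtype.val h))
      have e3 : u = w := congrArg Subtype.val (e1.trans e2.symm)
      apply h
      rw [e3, ← pow_two]
      exact hsq w hw
  · intro x
    rw [Subgroup.mem_center_iff]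
    intro y
    have hc := hcomm x y
    have hc2 := hsq _ hc
    have hcz := Subgroup.mem_center_iff.mp hc
    set c := x * y * x⁻¹ * y⁻¹ with hcdef
    have e1 : x * y = c * (y * x) := by rw [hcdef]; group
    have e2 : x ^ 2 * y = c ^ 2 * (y * x ^ 2) := by
      calc x ^ 2 * y = x * (x * y) := by simp only [pow_two, mul_assoc]
        _ = x * (c * (y * x)) := by rw [e1]
        _ = (x * c) * (y * x) := by group
        _ = (c * x) * (y * x) := by rw [hcz x]
        _ = c * (x * y) * x := by group
        _ = c * (c * (y * x)) * x := by rw [e1]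
        _ = c ^ 2 * (y * x ^ 2) := by simp only [pow_two, mul_assoc]
    rw [e2, hc2, one_mul]

theorem sq_flip {E : Type*} [Group E] [Finite E] (hE : Cfsg.IsExtraspecial 2 E) (y b : E)
    (hb : b ^ 2 = 1) (hyb : y * b ≠ b * y) : (y ^ 2 = 1 ↔ (y * b) ^ 2 ≠ 1) := by
  obtain ⟨h1, h2, h3, h4⟩ := struct hE
  have hbi : b⁻¹ = b := by
    rw [inv_eq_iff_mul_eq_one, ← pow_two]; exact hb
  have hw : y⁻¹ * b * y⁻¹⁻¹ * b⁻¹ ∈ Subgroup.center E := h2 y⁻¹ b
  have hw1 : y⁻¹ * b * y⁻¹⁻¹ * b⁻¹ ≠ 1 := by
    intro h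
    apply hyb
    have : y⁻¹ * b * y = b := by
      have h5 : y⁻¹ * b * y⁻¹⁻¹ * b⁻¹ * b = b := by rw [h, one_mul]
      rw [inv_inv] at h5
      simpa using h5
    calc y * b = y * (y⁻¹ * b * y) := by rw [this]
      _ = b * y := by group
  have e : (y * b) ^ 2 = y ^ 2 * (y⁻¹ * b * y⁻¹⁻¹ * b⁻¹) := by
    rw [hbi, inv_inv]; simp only [pow_two, mul_assoc, mul_inv_cancel_left]
  rw [e]
  exact h1 _ (h3 y) _ hw hw1

theorem orderOf_eq_four_iff {E : Type*} [Group E] [Finite E] (hE : Cfsg.IsExtraspecial 2 E)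
    (x : E) : orderOf x = 4 ↔ x ^ 2 ≠ 1 := by
  obtain ⟨h1, h2, h3, h4⟩ := struct hE
  constructor
  · intro h h'
    have := orderOf_dvd_of_pow_eq_one h'
    rw [h] at this
    omega
  · intro h
    have := orderOf_eq_prime_pow (p := 2) (n := 1) (x := x) (by simpa using h)
      (by have := h4 _ (h3 x); rw [← pow_mul] at this; simpa using this)
    simpa using this

/-- Let E be an extraspecial 2-group of order 2^(2m+1) of plus type, that is, containing an elementary abelian subgroup of order 2^(m+1) (equivalently, a central product of m dihedral groups of order 8). Then E has exactly 2^(2m) − 2^m elements of order 4. -/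
theorem result {E : Type*} [Group E] [Finite E] (m : ℕ) (hm : 1 ≤ m) (hE : Cfsg.IsExtraspecial 2 E) (hcard : Nat.card E = 2 ^ (2 * m + 1)) (hplus : ∃ A : Subgroup E, Cfsg.IsElementaryAbelian 2 A ∧ Nat.card A = 2 ^ (m + 1)) : Nat.card {x : E // orderOf x = 4} = 2 ^ (2 * m) - 2 ^ m := by
  classical
  obtain ⟨A, ⟨hAc, hA2⟩, hAcard⟩ := hplus
  have hstruct := struct hE
  have hcardZ : Nat.card (Subgroup.center E) = 2 := hE.2
  -- C_E(A) = A
  have hpair := Cfsg.Agent.Lib.Helper14.comm_pairing (p := 2) (Subgroup.center E) ⊤ A le_rfl hcardZ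
    (by
      intro x _ y _
      rw [commutatorElement_def]
      exact hstruct.2.1 x y)
  rw [Subgroup.relIndex_top_right, Subgroup.coe_top, Subgroup.centralizer_univ] at hpair
  have hAle : A ≤ Subgroup.centralizer (A : Set E) := by
    intro a ha b hb
    exact congrArg Subtype.val (hAc.is_comm.comm ⟨b, hb⟩ ⟨a, ha⟩)
  have hCA : Subgroup.centralizer (A : Set E) = A := by
    symm
    apply Subgroup.eq_of_le_of_card_ge hAle
    -- |A| ≤ 2 * |A : A ∩ Z|
    have h1 : Nat.card A ≤ 2 * (Subgroup.center E).relIndex A := by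
      rw [← Subgroup.inf_relIndex_right, ← Subgroup.relIndex_bot_left,
        ← Subgroup.relIndex_mul_relIndex ⊥ (Subgroup.center E ⊓ A) A bot_le inf_le_right,
        Subgroup.relIndex_bot_left]
      apply Nat.mul_le_mul_right
      rw [← hcardZ]
      exact Subgroup.card_le_of_le inf_le_left
    have h2 := Subgroup.card_mul_index (Subgroup.centralizer (A : Set E))
    rw [hpair, hcard] at h2
    rw [hAcard] at h1 ⊢
    have h3 : 2 ^ m ≤ (Subgroup.center E).relIndex A := by
      rw [pow_succ] at h1; omega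
    by_contra hcon
    push Not at hcon
    have h4 : 2 ^ (m + 1) * 2 ^ m < Nat.card (Subgroup.centralizer (A : Set E)) *
        (Subgroup.center E).relIndex A :=
      Nat.mul_lt_mul_of_lt_of_le hcon h3 (lt_of_lt_of_le (by positivity) h3)
    rw [h2, ← pow_add] at h4
    have : m + 1 + m = 2 * m + 1 := by ring
    rw [this] at h4
    exact lt_irrefl _ h4
  have := Fintype.ofFinite E
  -- g x = number of a ∈ A with (x a)^2 ≠ 1
  let g : E → ℕ := fun x => (Finset.univ.filter (fun a : A => (x * (a : E)) ^ 2 ≠ 1)).card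
  have hg0 : ∀ x ∈ A, g x = 0 := by
    intro x hx
    rw [Finset.card_eq_zero, Finset.filter_eq_empty_iff]
    intro a _
    rw [not_not]
    exact hA2 _ (A.mul_mem hx a.2)
  have hg1 : ∀ x ∉ A, 2 * g x = Nat.card A := by
    intro x hx
    have hx' : x ∉ Subgroup.centralizer (A : Set E) := by rwa [hCA]
    rw [Subgroup.mem_centralizer_iff] at hx'
    push Not at hx'
    obtain ⟨b, hb, hbx⟩ := hx'
    have hflip : ∀ a : A, ((x * (a : E)) ^ 2 = 1 ↔ (x * ((a * ⟨b, hb⟩ : A) : E)) ^ 2 ≠ 1) := by
      intro a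
      have h1 : x * (a : E) * b ≠ b * (x * (a : E)) := by
        intro h
        apply hbx
        have hab : (a : E) * b = b * a := congrArg Subtype.val (hAc.is_comm.comm a ⟨b, hb⟩)
        have : x * b * a = b * x * a := by
          calc x * b * a = x * ((a : E) * b) := by rw [hab]; group
            _ = x * (a : E) * b := by group
            _ = b * (x * (a : E)) := h
            _ = b * x * a := by group
        exact (mul_right_cancel this).symm
      have := sq_flip hE (x * (a : E)) b (hA2 b hb) h1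
      rw [this]
      simp only [Subgroup.coe_mul, mul_assoc]
    have hcard_eq : (Finset.univ.filter (fun a : A => (x * (a : E)) ^ 2 ≠ 1)).card =
        (Finset.univ.filter (fun a : A => ¬ (x * (a : E)) ^ 2 ≠ 1)).card := by
      apply Finset.card_bij (fun a _ => a * ⟨b, hb⟩)
      · intro a ha
        rw [Finset.mem_filter] at ha ⊢
        refine ⟨Finset.mem_univ _, ?_⟩
        intro h
        exact ha.2 ((hflip a).mpr h)
      · intro a _ a' _ h
        exact mul_right_cancel h
      · intro a ha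
        rw [Finset.mem_filter, not_not] at ha
        refine ⟨a * ⟨b, hb⟩⁻¹, ?_, by group⟩
        rw [Finset.mem_filter]
        refine ⟨Finset.mem_univ _, ?_⟩
        intro h
        have := (hflip (a * ⟨b, hb⟩⁻¹)).mp h
        rw [inv_mul_cancel_right] at this
        exact this ha.2
    have hsum := Finset.card_filter_add_card_filter_not
      (s := (Finset.univ : Finset A)) (fun a : A => (x * (a : E)) ^ 2 ≠ 1)
    rw [← hcard_eq, Finset.card_univ, ← Nat.card_eq_fintype_card] at hsum
    show 2 * (Finset.univ.filter (fun a : A => (x * (a : E)) ^ 2 ≠ 1)).card = Nat.card A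
    omega
  set N := (Finset.univ.filter (fun x : E => x ^ 2 ≠ 1)).card with hN
  have hNcard : Nat.card {x : E // orderOf x = 4} = N := by
    apply Nat.subtype_card
    intro x
    rw [Finset.mem_filter, orderOf_eq_four_iff hE]
    simp
  have hAc' : (Finset.univ.filter (fun x : E => x ∈ A)).card = Nat.card A := by
    symm
    apply Nat.subtype_card
    intro x
    simp
  have hsum1 : ∑ x : E, g x = Nat.card A * N := by
    have h1 : ∀ x : E, g x = ∑ a : A, if (x * (a : E)) ^ 2 ≠ 1 then 1 else 0 := by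
      intro x
      exact Finset.card_filter _ _
    simp_rw [h1]
    rw [Finset.sum_comm]
    have h2 : ∀ a : A, (∑ x : E, if (x * (a : E)) ^ 2 ≠ 1 then 1 else 0) = N := by
      intro a
      rw [hN, Finset.card_filter]
      exact Equiv.sum_comp (Equiv.mulRight (a : E)) (fun x => if x ^ 2 ≠ 1 then 1 else 0)
    simp_rw [h2]
    rw [Finset.sum_const, Finset.card_univ, ← Nat.card_eq_fintype_card, smul_eq_mul]
  have hsum2 : 2 * ∑ x : E, g x = (Nat.card E - Nat.card A) * Nat.card A := by
    rw [Finset.mul_sum]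
    have h1 : ∀ x : E, 2 * g x = if x ∈ A then 0 else Nat.card A := by
      intro x
      split_ifs with hx
      · rw [hg0 x hx]
      · exact hg1 x hx
    simp_rw [h1]
    rw [Finset.sum_ite, Finset.sum_const_zero, zero_add, Finset.sum_const, smul_eq_mul]
    congr 1
    have := Finset.card_filter_add_card_filter_not (s := (Finset.univ : Finset E)) (fun x => x ∈ A)
    rw [hAc', Finset.card_univ, ← Nat.card_eq_fintype_card] at this
    omega
  rw [hNcard]
  rw [hsum1, hcard, hAcard] at hsum2
  have h5 : 2 * N = 2 ^ (2 * m + 1) - 2 ^ (m + 1) := by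
    have hpos : 0 < 2 ^ (m + 1) := by positivity
    apply Nat.eq_of_mul_eq_mul_right hpos
    rw [← hsum2]; ring
  have h6 : 2 ^ (2 * m + 1) = 2 * 2 ^ (2 * m) := by rw [pow_succ]; ring
  have h7 : 2 ^ (m + 1) = 2 * 2 ^ m := by rw [pow_succ]; ring
  rw [h6, h7] at h5
  omega

end Cfsg.Agent.S2880
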