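import Cfsg.Statements.S2881
import Cfsg.Agent.S2880

set_option autoImplicit false
open Cfsg

namespace Cfsg.Agent.S2881

theorem four_dvd_of_five_dvd (m : ℕ) (h : 5 ∣ 2 ^ m - 1) : 4 ∣ m := by
  have h16 : ∀ q : ℕ, 16 ^ q % 5 = 1 := by
    intro q
    rw [Nat.pow_mod]
    simp
  have hm : m = 4 * (m / 4) + m % 4 := (Nat.div_add_mod m 4).symm
  have hr : m % 4 < 4 := Nat.mod_lt _ (by norm_num)
  have e : 2 ^ m = 16 ^ (m / 4) * 2 ^ (m % 4) := by
    conv_lhs => rw [hm, pow_add, pow_mul]
    norm_num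
  have hpos : 1 ≤ 2 ^ m := Nat.one_le_two_pow
  have h1 : 2 ^ m % 5 = 1 := by omega
  rw [e, Nat.mul_mod, h16] at h1
  rw [Nat.dvd_iff_mod_eq_zero]
  clear e hm hpos h
  generalize m % 4 = r at hr h1
  interval_cases r
  · rfl
  · norm_num at h1
  · norm_num at h1
  · norm_num at h1

/-- Let E be an extraspecial 2-group of order 2^(2m+1) of plus type (containing an elementary abelian subgroup of order 2^(m+1)), and let ω be an automorphism of E of order 5 whose fixed points are exactly the centre of E. Then m is divisible by 4. -/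
theorem result {E : Type*} [Group E] [Finite E] (m : ℕ) (hm : 1 ≤ m) (hE : Cfsg.IsExtraspecial 2 E) (hcard : Nat.card E = 2 ^ (2 * m + 1)) (hplus : ∃ A : Subgroup E, Cfsg.IsElementaryAbelian 2 A ∧ Nat.card A = 2 ^ (m + 1)) (ω : E ≃* E) (hω : orderOf ω = 5) (hfix : ∀ x : E, ω x = x ↔ x ∈ Subgroup.center E) : 4 ∣ m := by
  classical
  have hcount := Cfsg.Agent.S2880.result m hm hE hcard hplus
  have hstruct := Cfsg.Agent.S2880.struct hE
  let X : SubMulAction (MulAut E) E :=
    { carrier := {x | orderOf x = 4}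
      smul_mem' := by
        intro σ x hx
        show orderOf (σ x) = 4
        rw [MulEquiv.orderOf_eq]
        exact hx }
  have hP : IsPGroup 5 (Subgroup.zpowers (ω : MulAut E)) := by
    have : Fact (Nat.Prime 5) := ⟨by norm_num⟩
    rw [IsPGroup.iff_card]
    exact ⟨1, by rw [Nat.card_zpowers, pow_one]; exact hω⟩
  have : Fact (Nat.Prime 5) := ⟨by norm_num⟩
  have hmod := hP.card_modEq_card_fixedPoints (α := X)
  have hfix0 : Nat.card (MulAction.fixedPoints (Subgroup.zpowers (ω : MulAut E)) X) = 0 := by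
    have : IsEmpty (MulAction.fixedPoints (Subgroup.zpowers (ω : MulAut E)) X) := by
      constructor
      rintro ⟨⟨x, hx⟩, hfx⟩
      have h1 := hfx ⟨ω, Subgroup.mem_zpowers _⟩
      have h2 : ω x = x := congrArg Subtype.val h1
      have h3 := (hfix x).mp h2
      have h4 := hstruct.2.2.2 x h3
      have h5 : orderOf x = 4 := hx
      have := orderOf_dvd_of_pow_eq_one h4
      rw [h5] at this
      omega
    exact Nat.card_of_isEmpty
  have hX : Nat.card X = 2 ^ (2 * m) - 2 ^ m := hcount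
  rw [hfix0, hX] at hmod
  have h5 : 5 ∣ 2 ^ (2 * m) - 2 ^ m := (Nat.modEq_zero_iff_dvd).mp hmod
  have e : 2 ^ (2 * m) - 2 ^ m = 2 ^ m * (2 ^ m - 1) := by
    rw [Nat.mul_sub, mul_one, ← pow_add]; congr 2; ring
  rw [e] at h5
  apply four_dvd_of_five_dvd
  exact (Nat.Coprime.dvd_of_dvd_mul_left (Nat.Coprime.pow_right m (by norm_num)) h5)

end Cfsg.Agent.S2881
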