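import Cfsg.Statements.S2905
import Cfsg.Agent.Lib.Helper17.PMin
import Cfsg.Agent.S2836

set_option autoImplicit false
open Cfsg

namespace Cfsg.Agent.S2905

theorem prime_dvd_card_sup {G : Type*} [Group G] [Finite G] {A B : Subgroup G} (hA : A.Normal)
    {q : ℕ} (hq : q.Prime) (h : q ∣ Nat.card (A ⊔ B : Subgroup G)) :
    q ∣ Nat.card A ∨ q ∣ Nat.card B := by
  have h1 : Nat.card (A ⊔ B : Subgroup G) = Nat.card A * A.relIndex (A ⊔ B) := by
    have := Subgroup.relIndex_mul_relIndex ⊥ A (A ⊔ B) bot_le le_sup_left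
    rw [Subgroup.relIndex_bot_left, Subgroup.relIndex_bot_left] at this
    exact this.symm
  rw [h1, Subgroup.relIndex_sup_left] at h
  rcases (Nat.Prime.dvd_mul hq).mp h with h | h
  · exact Or.inl h
  · exact Or.inr (h.trans (Subgroup.relIndex_dvd_card A B))

theorem prime_eq_of_dvd_card {G : Type*} [Group G] [Finite G] {A : Subgroup G} {p q : ℕ}
    [hp : Fact p.Prime] (hA : IsPGroup p A) (hq : q.Prime) (h : q ∣ Nat.card A) : q = p := by
  obtain ⟨n, hn⟩ := IsPGroup.iff_card.mp hA
  rw [hn] at h
  exact (Nat.prime_dvd_prime_iff_eq hq hp.1).mp (hq.dvd_of_dvd_pow h)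

/-- Let P be a finite p-minimal group (a Sylow p-subgroup S is not normal and lies in a unique maximal subgroup M of P) and let F be the normal core of M. Then: every subnormal subgroup N of P contained in M satisfies N ∩ S ≤ O_p(P); if O^p(P) has a normal Sylow p-subgroup then the order of P has at most two prime divisors; every normal subgroup N of P either contains O^p(P) or is contained in F; and O^p(P)F ⧸ F is a minimal normal subgroup of P ⧸ F. -/
theorem result {P : Type*} [Group P] [Finite P] {p : ℕ} [Fact p.Prime] (hP : Cfsg.IsPMinimal p P) (S : Sylow p P) (M : Subgroup P) (hM : IsCoatom M) (hSM : (S : Subgroup P) ≤ M) [hF : M.normalCore.Normal] : (∀ N : Subgroup P, N.IsSubnormal → N ≤ M → N ⊓ (S : Subgroup P) ≤ Cfsg.pCore p P) ∧ ((∀ T : Sylow p ↥(Cfsg.pResidual p P), (T : Subgroup ↥(Cfsg.pResidual p P)).Normal) → (Nat.card P).primeFactors.card ≤ 2) ∧ (∀ N : Subgroup P, N.Normal → Cfsg.pResidual p P ≤ N ∨ N ≤ M.normalCore) ∧ (∀ N : Subgroup P, N.Normal → M.normalCore ≤ N → N ≤ Cfsg.pResidual p P ⊔ M.normalCore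 → N = M.normalCore ∨ N = Cfsg.pResidual p P ⊔ M.normalCore) ∧ M.normalCore < Cfsg.pResidual p P ⊔ M.normalCore := by
  open Cfsg.Agent.Lib.Helper17 in
  obtain ⟨hnn, M', ⟨hMc', hSM'⟩, hMu'⟩ := hP S
  have hMM : M = M' := hMu' M ⟨hM, hSM⟩
  subst hMM
  have hle : ∀ X : Subgroup P, (S : Subgroup P) ≤ X → X ≠ ⊤ → X ≤ M :=
    fun X h1 h2 => le_of_unique_coatom hMu' h1 h2
  have hSylM : IsSyl p (S : Subgroup P) M := (isSyl_top S).of_le hSM le_top
  obtain ⟨T, hT⟩ := hSylM
  have h36 := Cfsg.Agent.S2836.result M hM T (S : Subgroup P) (le_of_eq hT.symm)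
    (isMinimalOver_of_isPMinimal hP S)
  have hcl : Cfsg.IsPClosed p ↥(M.normalCore) := h36.1.2.2
  have hRn : (Cfsg.pResidual p P).Normal := pResidual_normal' p
  have h3 : ∀ N : Subgroup P, N.Normal → Cfsg.pResidual p P ≤ N ∨ N ≤ M.normalCore := by
    intro N hN
    by_cases hNM : N ≤ M
    · exact Or.inr (Subgroup.normal_le_normalCore.mpr hNM)
    · left
      apply pResidual_le_of_sup_eq_top hN S.isPGroup'
      by_contra h
      exact hNM (le_sup_left.trans (hle _ le_sup_right h))
  have hRM : ¬ Cfsg.pResidual p P ≤ M := by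
    intro h
    apply hM.1
    rw [eq_top_iff, ← pResidual_sup_sylow S]
    exact sup_le h hSM
  refine ⟨?_, ?_, h3, ?_, ?_⟩
  · intro N hN hNM
    have h1 : N ≤ M.normalCore := le_normalCore_of_isSubnormal' hle hSM hN hNM
    exact le_pCore_of_isPClosed hF hcl (inf_le_left.trans h1) (S.isPGroup'.to_le inf_le_right)
  · intro hT
    set R := Cfsg.pResidual p P with hR
    obtain ⟨T₀⟩ : Nonempty (Sylow p ↥R) := inferInstance
    have hT₀n := hT T₀
    have : (T₀ : Subgroup ↥R).Characteristic := Sylow.characteristic_of_normal T₀ hT₀n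
    set D := (T₀ : Subgroup ↥R).map R.subtype with hD
    have hDn : D.Normal := inferInstance
    have hDs : IsSyl p D R := isSyl_of_sylow T₀
    have hDp : IsPGroup p D := hDs.isPGroup
    -- for each prime r ≠ p an S-invariant {p,r}-subgroup containing a Sylow r-subgroup
    have key : ∀ r : ℕ, r.Prime → r ≠ p → ∃ E : Subgroup P,
        (S : Subgroup P) ≤ Subgroup.normalizer (E : Set P) ∧
        (∀ q : ℕ, q.Prime → q ∣ Nat.card E → q = p ∨ q = r) ∧ ¬ r ∣ E.index := by
      intro r hr hrp
      have : Fact r.Prime := ⟨hr⟩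
      obtain ⟨Q⟩ : Nonempty (Sylow r P) := inferInstance
      have hQR : (Q : Subgroup P) ≤ R := by
        intro x hx
        apply mem_pResidual_of_coprime
        have h1 := Q.isPGroup'.orderOf_coprime (n := p)
          ((Nat.coprime_primes hr (Fact.out : p.Prime)).mpr hrp) ⟨x, hx⟩
        rwa [Subgroup.orderOf_mk] at h1
      have hQs : IsSyl r (Q : Subgroup P) R := (isSyl_top Q).of_le hQR le_top
      set K := Subgroup.normalizer ((Q : Subgroup P) : Set P) ⊔ D with hK
      have hnd : ¬ p ∣ K.relIndex ⊤ := by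
        apply not_dvd_relIndex_of_supplement (D := R) (T₀ := D) le_top le_top
          (top_le_normalizer_of_normal hRn ⊤) _ hDs le_sup_right
        intro x hx
        obtain ⟨n, hn, hx'⟩ := frattini_arg hQs (top_le_normalizer_of_normal hRn ⊤) hx
        have : x = n * (n⁻¹ * x) := by group
        rw [this]
        exact Subgroup.mul_mem _ (Subgroup.mem_sup_right hn)
          (Subgroup.mem_sup_left (Subgroup.mem_sup_left hx'))
      obtain ⟨m, -, hm⟩ := exists_conj_le_of_not_dvd_relIndex le_top hnd (isSyl_top S)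
      have hKE : K ≤ Subgroup.normalizer ((D ⊔ (Q : Subgroup P) : Subgroup P) : Set P) := by
        apply sup_le
        · exact le_normalizer_sup (top_le_normalizer_of_normal hDn _) le_rfl
        · exact le_sup_left.trans Subgroup.le_normalizer
      refine ⟨(D ⊔ (Q : Subgroup P)).map (MulAut.conj m⁻¹).toMonoidHom, ?_, ?_, ?_⟩
      · rw [normalizer_map_conj, le_map_conj_iff, inv_inv]
        exact hm.trans hKE
      · intro q hq hqd
        rw [card_map_conj] at hqd
        rcases prime_dvd_card_sup hDn hq hqd with h | h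
        · exact Or.inl (prime_eq_of_dvd_card hDp hq h)
        · exact Or.inr (prime_eq_of_dvd_card Q.isPGroup' hq h)
      · intro h
        have h1 : ((D ⊔ (Q : Subgroup P)).map (MulAut.conj m⁻¹).toMonoidHom).index =
            (D ⊔ (Q : Subgroup P)).index := by
          have h2 := Subgroup.card_mul_index ((D ⊔ (Q : Subgroup P)).map (MulAut.conj m⁻¹).toMonoidHom)
          have h3 := Subgroup.card_mul_index (D ⊔ (Q : Subgroup P))
          rw [card_map_conj] at h2
          exact Nat.eq_of_mul_eq_mul_left Nat.card_pos (h2.trans h3.symm)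
        rw [h1] at h
        exact Q.not_dvd_index (h.trans (Subgroup.index_dvd_of_le le_sup_right))
    by_cases hex : ∃ r : ℕ, r.Prime ∧ r ≠ p ∧ ∃ E : Subgroup P,
        (S : Subgroup P) ≤ Subgroup.normalizer (E : Set P) ∧
        (∀ q : ℕ, q.Prime → q ∣ Nat.card E → q = p ∨ q = r) ∧ E ⊔ (S : Subgroup P) = ⊤
    · obtain ⟨r, hr, hrp, E, hSE, hq, htop⟩ := hex
      have hEn : E.Normal := by
        apply normal_of_top_le_normalizer
        rw [← htop]
        exact sup_le Subgroup.le_normalizer hSE
      have hsub : (Nat.card P).primeFactors ⊆ {p, r} := by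
        intro q hq'
        have hqp := Nat.prime_of_mem_primeFactors hq'
        have hqd := Nat.dvd_of_mem_primeFactors hq'
        rw [← Subgroup.card_top (G := P), ← htop] at hqd
        simp only [Finset.mem_insert, Finset.mem_singleton]
        rcases prime_dvd_card_sup hEn hqp hqd with h | h
        · exact hq q hqp h
        · exact Or.inl (prime_eq_of_dvd_card S.isPGroup' hqp h)
      exact (Finset.card_le_card hsub).trans Finset.card_le_two
    · exfalso
      push_neg at hex
      apply hM.1
      rw [← Subgroup.index_eq_one, Nat.eq_one_iff_not_exists_prime_dvd]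
      intro r hr hrd
      by_cases hrp : r = p
      · subst hrp
        exact S.not_dvd_index (hrd.trans (Subgroup.index_dvd_of_le hSM))
      · obtain ⟨E, hSE, hq, hnd⟩ := key r hr hrp
        have h1 := hex r hr hrp E hSE hq
        have h2 : E ≤ M := le_sup_left.trans (hle _ le_sup_right h1)
        exact hnd (hrd.trans (Subgroup.index_dvd_of_le h2))
  · intro N hN h1 h2
    rcases h3 N hN with h | h
    · exact Or.inr (le_antisymm h2 (sup_le h h1))
    · exact Or.inl (le_antisymm h h1)
  · refine lt_of_le_of_ne le_sup_right ?_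
    intro h
    apply hRM
    have : Cfsg.pResidual p P ≤ M.normalCore := by rw [h]; exact le_sup_left
    exact this.trans (Subgroup.normalCore_le M)

end Cfsg.Agent.S2905
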