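import Cfsg.Statements.S2911
import Cfsg.Agent.Lib.Helper17.ThTransfer

set_option autoImplicit false
open Cfsg

namespace Cfsg.Agent.S2911

abbrev A := Multiplicative (ZMod 2) × DihedralGroup 4
def c : A := (Multiplicative.ofAdd 1, 1)
def t : A := (1, DihedralGroup.r 2)
def r : A := (1, DihedralGroup.r 1)
set_option maxRecDepth 100000 in
theorem F1 : ∀ x : A, (∀ y : A, y * x = x * y) → x = 1 ∨ x = c ∨ x = t ∨ x = c * t := by decide
set_option maxRecDepth 100000 in
theorem F2 : ∀ y : A, y * y = 1 ∨ y * y = t := by decide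
theorem F3 : (∀ y : A, y * c = c * y) ∧ c * c = 1 ∧ c ≠ 1 ∧ c ≠ t ∧ t ≠ 1 ∧ t * t = 1 ∧
    r * r = t := by decide

/-- A finite group whose Sylow 2-subgroups are isomorphic to the direct product of a group of order 2 and a dihedral group of order 8 has a subgroup of index two. -/
theorem result {G : Type*} [Group G] [Finite G] (S : Sylow 2 G) (hS : Nonempty (↥(S : Subgroup G) ≃* Multiplicative (ZMod 2) × DihedralGroup 4)) : ∃ H : Subgroup G, H.index = 2 := by
  open Cfsg.Agent.Lib.Helper17 in
  obtain ⟨e⟩ := hS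
  obtain ⟨hc1, hc2, hc3, hc4, ht1, ht2, hr⟩ := F3
  set zS : ↥(S : Subgroup G) := e.symm c with hzS
  set tS : ↥(S : Subgroup G) := e.symm t with htS
  set rS : ↥(S : Subgroup G) := e.symm r with hrS
  have P1 : ∀ y : ↥(S : Subgroup G), y * y = 1 ∨ y * y = tS := by
    intro y
    rcases F2 (e y) with h | h
    · left; apply e.injective; rw [map_mul, h, map_one]
    · right; apply e.injective; rw [map_mul, h, e.apply_symm_apply]
  have P2 : ∀ x : ↥(S : Subgroup G), (∀ y, y * x = x * y) →
      x = 1 ∨ x = zS ∨ x = tS ∨ x = zS * tS := by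
    intro x hx
    have h1 : ∀ y : A, y * e x = e x * y := by
      intro y
      have := congrArg e (hx (e.symm y))
      rwa [map_mul, map_mul, e.apply_symm_apply] at this
    rcases F1 (e x) h1 with h | h | h | h
    · left; apply e.injective; rw [h, map_one]
    · right; left; apply e.injective; rw [h, e.apply_symm_apply]
    · right; right; left; apply e.injective; rw [h, e.apply_symm_apply]
    · right; right; right; apply e.injective
      rw [h, map_mul, e.apply_symm_apply, e.apply_symm_apply]
  have hzc : ∀ y : ↥(S : Subgroup G), y * zS = zS * y := by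
    intro y
    apply e.injective
    rw [map_mul, map_mul, e.apply_symm_apply]
    exact hc1 _
  have hzz : zS * zS = 1 := by
    apply e.injective; rw [map_mul, e.apply_symm_apply, hc2, map_one]
  have hz1 : zS ≠ 1 := fun h => hc3 (by rw [← e.apply_symm_apply c, ← hzS, h, map_one])
  have hzt : zS ≠ tS := fun h => hc4 (e.symm.injective h)
  have ht1' : tS ≠ 1 := fun h => ht1 (by rw [← e.apply_symm_apply t, ← htS, h, map_one])
  have htt : tS * tS = 1 := by
    apply e.injective; rw [map_mul, e.apply_symm_apply, ht2, map_one]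
  have hrr : rS * rS = tS := by
    apply e.injective; rw [map_mul, e.apply_symm_apply, e.apply_symm_apply, hr]
  -- conjugation by elements of the normalizer
  have hconj : ∀ g ∈ Subgroup.normalizer ((S : Subgroup G) : Set G), ∀ s : ↥(S : Subgroup G),
      g * s * g⁻¹ ∈ (S : Subgroup G) := fun g hg s =>
    conj_mem_of_le_normalizer le_rfl hg s.2
  have htfix : ∀ g ∈ Subgroup.normalizer ((S : Subgroup G) : Set G), g * (tS : G) * g⁻¹ = tS := by
    intro g hg
    have h1 := P1 ⟨g * rS * g⁻¹, hconj g hg rS⟩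
    have e1 : g * (tS : G) * g⁻¹ = (g * rS * g⁻¹) * (g * rS * g⁻¹) := by
      rw [← hrr]; simp only [Subgroup.coe_mul]; group
    rcases h1 with h | h
    · exfalso
      have h2 : (g * (rS : G) * g⁻¹) * (g * rS * g⁻¹) = 1 := congrArg Subtype.val h
      rw [← e1] at h2
      apply ht1'
      apply Subtype.ext
      have : (tS : G) = g⁻¹ * (g * (tS : G) * g⁻¹) * g := by group
      rw [this, h2]; simp
    · rw [e1]; exact congrArg Subtype.val h
  have hsq : ∀ g ∈ Subgroup.normalizer ((S : Subgroup G) : Set G),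
      g * (zS : G) * g⁻¹ = zS ∨ g * (zS : G) * g⁻¹ = zS * tS := by
    intro g hg
    have hginv : g⁻¹ ∈ Subgroup.normalizer ((S : Subgroup G) : Set G) := inv_mem hg
    have hcen : ∀ y : ↥(S : Subgroup G), y * (⟨g * zS * g⁻¹, hconj g hg zS⟩ : ↥(S : Subgroup G)) =
        ⟨g * zS * g⁻¹, hconj g hg zS⟩ * y := by
      intro y
      apply Subtype.ext
      have h1 := congrArg Subtype.val (hzc ⟨g⁻¹ * y * g⁻¹⁻¹, hconj g⁻¹ hginv y⟩)
      simp only [Subgroup.coe_mul, inv_inv] at h1
      show (y : G) * (g * zS * g⁻¹) = g * zS * g⁻¹ * y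
      calc (y : G) * (g * zS * g⁻¹) = g * ((g⁻¹ * y * g) * zS) * g⁻¹ := by group
        _ = g * (zS * (g⁻¹ * y * g)) * g⁻¹ := by rw [h1]
        _ = g * zS * g⁻¹ * y := by group
    rcases P2 _ hcen with h | h | h | h
    · exfalso
      have h2 : g * (zS : G) * g⁻¹ = 1 := congrArg Subtype.val h
      apply hz1
      apply Subtype.ext
      have : (zS : G) = g⁻¹ * (g * (zS : G) * g⁻¹) * g := by group
      rw [this, h2]; simp
    · exact Or.inl (congrArg Subtype.val h)
    · exfalso
      have h2 : g * (zS : G) * g⁻¹ = tS := congrArg Subtype.val h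
      apply hzt
      apply Subtype.ext
      have h3 : g * (zS : G) * g⁻¹ = g * (tS : G) * g⁻¹ := by rw [h2, htfix g hg]
      simpa using h3
    · exact Or.inr (congrArg Subtype.val h)
  have hfix2 : ∀ g ∈ Subgroup.normalizer ((S : Subgroup G) : Set G),
      Commute (g ^ 2) (zS : G) := by
    intro g hg
    have h1 : g * (g * (zS : G) * g⁻¹) * g⁻¹ = zS := by
      rcases hsq g hg with h | h
      · rw [h, h]
      · rw [h]
        have : g * ((zS : G) * tS) * g⁻¹ = (g * zS * g⁻¹) * (g * tS * g⁻¹) := by group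
        rw [this, h, htfix g hg, mul_assoc]
        have h2 : (tS : G) * tS = 1 := congrArg Subtype.val htt
        rw [h2, mul_one]
    show g ^ 2 * (zS : G) = zS * g ^ 2
    calc g ^ 2 * (zS : G) = (g * (g * (zS : G) * g⁻¹) * g⁻¹) * g ^ 2 := by
          simp only [pow_two]; group
      _ = zS * g ^ 2 := by rw [h1]
  have hfix : ∀ g ∈ Subgroup.normalizer ((S : Subgroup G) : Set G), g * (zS : G) * g⁻¹ = zS := by
    intro g hg
    set N := Subgroup.normalizer ((S : Subgroup G) : Set G) with hN
    have hn : ((S : Subgroup G).subgroupOf N).Normal := Subgroup.normal_in_normalizer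
    have h1 := Subgroup.pow_index_mem ((S : Subgroup G).subgroupOf N) ⟨g, hg⟩
    have h2 : g ^ ((S : Subgroup G).relIndex N) ∈ (S : Subgroup G) := h1
    have hodd : ¬ 2 ∣ (S : Subgroup G).relIndex N := fun h =>
      S.not_dvd_index (h.trans (Subgroup.relIndex_dvd_index_of_le Subgroup.le_normalizer))
    have h3 : Commute (g ^ ((S : Subgroup G).relIndex N)) (zS : G) :=
      congrArg Subtype.val (hzc ⟨_, h2⟩)
    have h4 := hfix2 g hg
    obtain ⟨k, hk⟩ : ∃ k, (S : Subgroup G).relIndex N = 2 * k + 1 := ⟨(S : Subgroup G).relIndex N / 2, by omega⟩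
    have h5 : Commute g (zS : G) := by
      have e1 : g = g ^ ((S : Subgroup G).relIndex N) * ((g ^ 2) ^ k)⁻¹ := by
        rw [hk, ← pow_mul, pow_succ]; group
      rw [e1]
      exact h3.mul_left (h4.pow_left k).inv_left
    rw [h5.eq]; group
  -- the subgroup of index two of `S`
  let f : ↥(S : Subgroup G) →* Multiplicative (ZMod 2) :=
    (MonoidHom.fst _ _).comp e.toMonoidHom
  have hfsurj : Function.Surjective f := by
    intro a
    exact ⟨e.symm (a, 1), by simp [f]⟩
  have hidx : f.ker.index = 2 := by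
    rw [Subgroup.index_ker, MonoidHom.range_eq_top.mpr hfsurj]
    simp
  obtain ⟨N, -, hNi, -⟩ := exists_index_two_of_central S (f.ker.map (S : Subgroup G).subtype)
    (Subgroup.map_subtype_le _) (by rw [Subgroup.relIndex, Subgroup.subgroupOf, Subgroup.comap_map_eq_self_of_injective (Subgroup.subtype_injective _)]; exact hidx) (zS : G) zS.2
    (fun s hs => congrArg Subtype.val (hzc ⟨s, hs⟩))
    (by rw [pow_two]; exact congrArg Subtype.val hzz)
    (by
      rintro ⟨y, hy, e'⟩
      have : y = zS := Subtype.ext e'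
      rw [this] at hy
      have h1 : f zS = 1 := hy
      have h2 : f zS = Multiplicative.ofAdd 1 := by simp [f, hzS, c]
      rw [h2] at h1
      exact absurd h1 (by decide))
    hfix
  exact ⟨N, hNi⟩

end Cfsg.Agent.S2911
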