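import Cfsg.Statements.S2968
-- import your own Cfsg.Agent.* helpers here
import Mathlib
import Cfsg.Agent.Lib.Helper18.Isolated

set_option autoImplicit false
open Cfsg

namespace Cfsg.Agent.S2968

/-- Let G be a finite group, p a prime, P a Sylow p-subgroup of G and x ∈ P an element of p-power order which is isolated in G (the only conjugate of x commuting with x is x itself). Then x lies in the centre of P, and the subgroup generated by x is both strongly closed and weakly closed in P with respect to G. -/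
theorem result {G : Type*} [Group G] [Finite G] {p : ℕ} [Fact p.Prime] (P : Sylow p G) (x : G) (hxP : x ∈ (P : Subgroup G)) (hx : ∃ k : ℕ, orderOf x = p ^ k) (hiso : Cfsg.IsIsolated x) : x ∈ (P : Subgroup G) ⊓ Subgroup.centralizer ((P : Subgroup G) : Set G) ∧ Cfsg.IsStronglyClosed (Subgroup.zpowers x) (P : Subgroup G) ∧ Cfsg.IsWeaklyClosed (Subgroup.zpowers x) (P : Subgroup G) := by
  classical
  have hPc := Lib.Helper18.IsIsolated.le_centralizer hiso P.isPGroup' hxP
  have hxZ : x ∈ Subgroup.centralizer ((P : Subgroup G) : Set G) := by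
    rw [Subgroup.mem_centralizer_iff]; intro y hy
    exact (Subgroup.mem_centralizer_singleton_iff.mp (hPc hy))
  have hzP : Subgroup.zpowers x ≤ (P : Subgroup G) := Subgroup.zpowers_le.mpr hxP
  refine ⟨⟨hxP, hxZ⟩, ⟨hzP, ?_⟩, ⟨hzP, ?_⟩⟩
  · intro y hy g hgy
    obtain ⟨n, rfl⟩ := Subgroup.mem_zpowers_iff.mp hy
    set u := g * x ^ n * g⁻¹ with hu
    have hxK : x ∈ Subgroup.centralizer ({u} : Set G) :=
      Subgroup.mem_centralizer_singleton_iff.mpr ((Subgroup.mem_centralizer_iff.mp hxZ) u hgy).symm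
    have hgK : g * x * g⁻¹ ∈ Subgroup.centralizer ({u} : Set G) := by
      refine Subgroup.mem_centralizer_singleton_iff.mpr ?_
      have hc : x * x ^ n = x ^ n * x := ((Commute.refl x).zpow_right n).eq
      calc g * x * g⁻¹ * u = g * (x * x ^ n) * g⁻¹ := by rw [hu]; group
        _ = g * (x ^ n * x) * g⁻¹ := by rw [hc]
        _ = u * (g * x * g⁻¹) := by rw [hu]; group
    obtain ⟨c, hc, hce⟩ := Lib.Helper18.IsIsolated.conj_in hiso hx hxK hgK
    have h1 : c * u * c⁻¹ = x ^ n := by
      calc c * u * c⁻¹ = (c * (g * x * g⁻¹) * c⁻¹) ^ n := by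
            rw [hu, conj_zpow, conj_zpow]
        _ = x ^ n := by rw [hce]
    have hcu : c * u = u * c := Subgroup.mem_centralizer_singleton_iff.mp hc
    have h2 : u = x ^ n := by rw [← h1, hcu]; group
    rw [h2]; exact Subgroup.zpow_mem _ (Subgroup.mem_zpowers x) n
  · intro g hg
    have h1 : g * x * g⁻¹ ∈ (P : Subgroup G) := hg ⟨x, Subgroup.mem_zpowers x, rfl⟩
    have h2 : Commute x (g * x * g⁻¹) := ((Subgroup.mem_centralizer_iff.mp hxZ) _ h1).symm
    have h3 := hiso g h2
    rw [MonoidHom.map_zpowers]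
    show Subgroup.zpowers (g * x * g⁻¹) = Subgroup.zpowers x
    rw [h3]

end Cfsg.Agent.S2968
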