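import Cfsg.Statements.S2969
-- import your own Cfsg.Agent.* helpers here
import Mathlib
import Cfsg.Agent.Lib.Helper18.Isolated

set_option autoImplicit false
open Cfsg

namespace Cfsg.Agent.S2969

/-- Let G be a finite group, p a prime and x ∈ G an element of p-power order which is isolated in G. If R is a p-subgroup of G containing x, then N_G(R) ≤ C_G(x); in particular x lies in the centre of R. Moreover, if x lies in a normal subgroup N of a subgroup H of G, then H = N·C_H(x). -/
theorem result {G : Type*} [Group G] [Finite G] {p : ℕ} [Fact p.Prime] (x : G) (hx : ∃ k : ℕ, orderOf x = p ^ k) (hiso : Cfsg.IsIsolated x) : (∀ R : Subgroup G, IsPGroup p ↥R → x ∈ R → Subgroup.normalizer (R : Set G) ≤ Subgroup.centralizer ({x} : Set G)) ∧ (∀ H N : Subgroup G, N ≤ H → H ≤ Subgroup.normalizer (N : Set G) → x ∈ N → N ⊔ (H ⊓ Subgroup.centralizer ({x} : Set G)) = H) := by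
  classical
  refine ⟨fun R hR hxR => Lib.Helper18.IsIsolated.normalizer_le_centralizer hiso hR hxR, ?_⟩
  intro H N hNH hHN hxN
  apply le_antisymm (sup_le hNH inf_le_left)
  intro h hh
  obtain ⟨T, hT, hxT⟩ := Lib.Helper17.exists_isSyl_ge (Subgroup.zpowers_le.mpr hxN)
    (Lib.Helper18.isPGroup_zpowers hx)
  obtain ⟨n, hn, hnm⟩ := Lib.Helper17.frattini_arg hT hHN hh
  have h1 := Lib.Helper18.IsIsolated.normalizer_le_centralizer hiso hT.isPGroup
    (hxT (Subgroup.mem_zpowers x)) hnm
  have h2 : h = n * (n⁻¹ * h) := by group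
  rw [h2]
  exact mul_mem ((le_sup_left : N ≤ _) hn)
    ((le_sup_right : H ⊓ Subgroup.centralizer ({x} : Set G) ≤ _)
      ⟨H.mul_mem (H.inv_mem (hNH hn)) hh, h1⟩)

end Cfsg.Agent.S2969
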