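import Cfsg.Statements.S2970
-- import your own Cfsg.Agent.* helpers here
import Mathlib
import Cfsg.Agent.Lib.Helper18.Isolated

set_option autoImplicit false
open Cfsg

namespace Cfsg.Agent.S2970

theorem mem_of_pow_mem_of_pow_mem {G : Type*} [Group G] {H : Subgroup G} {g : G} {a b : ℕ}
    (hab : a.Coprime b) (ha : g ^ a ∈ H) (hb : g ^ b ∈ H) : g ∈ H := by
  have h := Nat.gcd_eq_gcd_ab a b
  rw [hab] at h
  have h2 : g = (g ^ a) ^ (a.gcdA b) * (g ^ b) ^ (a.gcdB b) := by
    rw [← zpow_natCast, ← zpow_natCast, ← zpow_mul, ← zpow_mul, ← zpow_add, ← h]; simp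
  rw [h2]; exact H.mul_mem (H.zpow_mem ha _) (H.zpow_mem hb _)

theorem conj_pow_zpow {G : Type*} [Group G] {g a : G} {k : ℤ} (h : g * a * g⁻¹ = a ^ k) (j : ℕ) :
    g ^ j * a * (g ^ j)⁻¹ = a ^ (k ^ j) := by
  induction j with
  | zero => simp
  | succ j ih =>
    calc g ^ (j + 1) * a * (g ^ (j + 1))⁻¹ = g ^ j * (g * a * g⁻¹) * (g ^ j)⁻¹ := by
          rw [pow_succ]; group
      _ = g ^ j * a ^ k * (g ^ j)⁻¹ := by rw [h]
      _ = (g ^ j * a * (g ^ j)⁻¹) ^ k := by rw [conj_zpow]
      _ = a ^ (k ^ (j + 1)) := by rw [ih, ← zpow_mul, pow_succ]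

/-- Let G be a finite group, p a prime and x ∈ G an element of p-power order which is isolated in G. Then the image of x in any quotient G ⧸ N is isolated in G ⧸ N; and if x ≠ 1 and the Sylow p-subgroups of G are cyclic, then G has a normal p-complement. -/
theorem result {G : Type*} [Group G] [Finite G] {p : ℕ} [Fact p.Prime] (x : G) (hx : ∃ k : ℕ, orderOf x = p ^ k) (hiso : Cfsg.IsIsolated x) : (∀ (N : Subgroup G) [N.Normal], Cfsg.IsIsolated (QuotientGroup.mk x : G ⧸ N)) ∧ (x ≠ 1 → (∀ P : Sylow p G, IsCyclic ↥(P : Subgroup G)) → Cfsg.HasNormalPComplement p G) := by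
  classical
  constructor
  · intro N _ gbar hcomm
    obtain ⟨g, rfl⟩ := QuotientGroup.mk_surjective gbar
    let K := (Subgroup.centralizer ({(QuotientGroup.mk (g * x * g⁻¹) : G ⧸ N)} : Set (G ⧸ N))).comap
      (QuotientGroup.mk' N)
    have hxK : x ∈ K := by
      show (QuotientGroup.mk x : G ⧸ N) ∈ Subgroup.centralizer _
      exact Subgroup.mem_centralizer_singleton_iff.mpr hcomm
    have hgK : g * x * g⁻¹ ∈ K := by
      show (QuotientGroup.mk (g * x * g⁻¹) : G ⧸ N) ∈ Subgroup.centralizer _
      exact Subgroup.mem_centralizer_singleton_iff.mpr rfl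
    obtain ⟨c, hc, hce⟩ := Lib.Helper18.IsIsolated.conj_in hiso hx hxK hgK
    have hc' : (QuotientGroup.mk c : G ⧸ N) * (QuotientGroup.mk (g * x * g⁻¹) : G ⧸ N)
        = (QuotientGroup.mk (g * x * g⁻¹) : G ⧸ N) * (QuotientGroup.mk c : G ⧸ N) :=
      Subgroup.mem_centralizer_singleton_iff.mp hc
    have h1 := congrArg (QuotientGroup.mk : G → G ⧸ N) hce
    rw [QuotientGroup.mk_mul, QuotientGroup.mk_mul, hc', QuotientGroup.mk_inv,
      mul_inv_cancel_right] at h1
    exact h1
  · intro hx1 hcyc
    obtain ⟨P, hxP⟩ := (Lib.Helper18.isPGroup_zpowers hx).exists_le_sylow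
    have hxP' : x ∈ (P : Subgroup G) := hxP (Subgroup.mem_zpowers x)
    obtain ⟨⟨a, haP⟩, ha⟩ := (hcyc P).exists_generator
    have hgen : ∀ y ∈ (P : Subgroup G), ∃ i : ℤ, a ^ i = y := by
      intro y hy
      obtain ⟨i, hi⟩ := Subgroup.mem_zpowers_iff.mp (ha ⟨y, hy⟩)
      exact ⟨i, by simpa using congrArg Subtype.val hi⟩
    obtain ⟨m, hm⟩ := IsPGroup.iff_card.mp P.isPGroup'
    have hPab : (P : Subgroup G) ≤ Subgroup.centralizer ((P : Subgroup G) : Set G) := by
      intro y hy
      rw [Subgroup.mem_centralizer_iff]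
      intro z hz
      obtain ⟨i, rfl⟩ := hgen y hy
      obtain ⟨j, rfl⟩ := hgen z hz
      rw [← zpow_add, ← zpow_add, add_comm]
    have hNC : Subgroup.normalizer ((P : Subgroup G) : Set G)
        ≤ Subgroup.centralizer ((P : Subgroup G) : Set G) := by
      intro g hg
      have hpow : g ^ p ^ m ∈ Subgroup.centralizer ((P : Subgroup G) : Set G) := by
        obtain ⟨k, hk⟩ := hgen _ ((Subgroup.mem_normalizer_iff.mp hg a).mp haP)
        obtain ⟨i, hi⟩ := hgen x hxP'
        have hgx : g * x = x * g := Subgroup.mem_centralizer_singleton_iff.mp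
          (Lib.Helper18.IsIsolated.normalizer_le_centralizer hiso P.isPGroup' hxP' hg)
        have h1 : x ^ k = x := by
          calc x ^ k = (a ^ k) ^ i := by rw [← hi, ← zpow_mul, ← zpow_mul, mul_comm]
            _ = (g * a * g⁻¹) ^ i := by rw [hk]
            _ = g * x * g⁻¹ := by rw [conj_zpow, hi]
            _ = x := by rw [hgx]; group
        have h2 : x ^ (k - 1) = 1 := by rw [zpow_sub, h1, zpow_one, mul_inv_cancel]
        have h3 : (orderOf x : ℤ) ∣ k - 1 := orderOf_dvd_iff_zpow_eq_one.mpr h2
        obtain ⟨e, he⟩ := hx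
        have he0 : e ≠ 0 := by
          rintro rfl
          rw [pow_zero, orderOf_eq_one_iff] at he
          exact hx1 he
        have h4 : (p : ℤ) ∣ k - 1 := by
          refine dvd_trans ?_ h3
          rw [he]
          exact_mod_cast dvd_pow_self p he0
        have h5 := dvd_sub_pow_of_dvd_sub h4 m
        rw [one_pow] at h5
        have h6 : (orderOf a : ℤ) ∣ k ^ p ^ m - 1 := by
          have h7 : orderOf a ∣ p ^ m := by
            rw [← hm]
            have := orderOf_dvd_natCard (⟨a, haP⟩ : (P : Subgroup G))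
            rwa [Subgroup.orderOf_mk] at this
          refine dvd_trans ?_ h5
          refine dvd_trans (Int.natCast_dvd_natCast.mpr h7) ?_
          push_cast
          exact pow_dvd_pow _ (Nat.le_succ m)
        have h8 : a ^ (k ^ p ^ m) = a := by
          have := orderOf_dvd_iff_zpow_eq_one.mp h6
          rw [zpow_sub, zpow_one, mul_inv_eq_one] at this
          exact this
        have h9 := conj_pow_zpow hk.symm (p ^ m)
        rw [h8] at h9
        rw [Subgroup.mem_centralizer_iff]
        intro y hy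
        obtain ⟨j, rfl⟩ := hgen y hy
        have h10 : g ^ p ^ m * a = a * g ^ p ^ m := by
          calc g ^ p ^ m * a = (g ^ p ^ m * a * (g ^ p ^ m)⁻¹) * g ^ p ^ m := by group
            _ = a * g ^ p ^ m := by rw [h9]
        exact ((Commute.zpow_right (show Commute (g ^ p ^ m) a from h10) j).eq).symm
      have hCN : Subgroup.centralizer ((P : Subgroup G) : Set G)
          ≤ Subgroup.normalizer ((P : Subgroup G) : Set G) :=
        Lib.Helper17.centralizer_le_normalizer' _
      have hnorm : ((Subgroup.centralizer ((P : Subgroup G) : Set G)).subgroupOf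
          (Subgroup.normalizer ((P : Subgroup G) : Set G))).Normal :=
        (Subgroup.normal_subgroupOf_iff_le_normalizer hCN).mpr
          (Lib.Helper17.normalizer_le_normalizer_centralizer _)
      have hidx : g ^ ((Subgroup.centralizer ((P : Subgroup G) : Set G)).relIndex
          (Subgroup.normalizer ((P : Subgroup G) : Set G)))
          ∈ Subgroup.centralizer ((P : Subgroup G) : Set G) := by
        have := Subgroup.pow_index_mem ((Subgroup.centralizer ((P : Subgroup G) : Set G)).subgroupOf
          (Subgroup.normalizer ((P : Subgroup G) : Set G))) ⟨g, hg⟩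
        exact this
      have hcop : ((Subgroup.centralizer ((P : Subgroup G) : Set G)).relIndex
          (Subgroup.normalizer ((P : Subgroup G) : Set G))).Coprime (p ^ m) := by
        apply Nat.Coprime.pow_right
        apply Nat.Coprime.symm
        rw [Nat.Prime.coprime_iff_not_dvd Fact.out]
        intro hdvd
        apply P.not_dvd_index
        refine hdvd.trans ?_
        refine (Subgroup.relIndex_dvd_of_le_left _ hPab).trans ?_
        exact Subgroup.relIndex_dvd_index_of_le Subgroup.le_normalizer
      exact mem_of_pow_mem_of_pow_mem hcop hidx hpow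
    exact ⟨P, _, inferInstance, MonoidHom.ker_transferSylow_isComplement' P hNC⟩

end Cfsg.Agent.S2970
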