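import Cfsg.Statements.S2971
-- import your own Cfsg.Agent.* helpers here
import Mathlib
import Cfsg.Agent.Lib.Helper18.MinNonCyclic
import Cfsg.Agent.S2970

set_option autoImplicit false
open Cfsg

namespace Cfsg.Agent.S2971

/-- Let G be a finite group and p an odd prime such that G has p-rank at most 1 (no elementary abelian subgroup of order p²). If x ∈ G is an isolated element of order p, then x is central modulo the largest normal subgroup of G of order prime to p. -/
theorem result {G : Type*} [Group G] [Finite G] {p : ℕ} [Fact p.Prime] (hp : p ≠ 2) (hrk : Cfsg.PRankLE p 1 G) (x : G) (hx : orderOf x = p) (hiso : Cfsg.IsIsolated x) : Cfsg.InZStar p x := by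
  classical
  have hcyc : ∀ P : Sylow p G, IsCyclic ↥(P : Subgroup G) := by
    intro P
    apply Lib.Helper18.isCyclic_of_odd_rank_one hp _ ↥(P : Subgroup G) rfl P.isPGroup'
    intro A hA hAp
    have h1 := hrk (A.map (P : Subgroup G).subtype) (by
      refine ⟨⟨?_⟩⟩
      rintro ⟨_, ⟨a, ha, rfl⟩⟩ ⟨_, ⟨b, hb, rfl⟩⟩
      apply Subtype.ext
      have := hA.is_comm.comm ⟨a, ha⟩ ⟨b, hb⟩
      have h2 : a * b = b * a := congrArg Subtype.val this
      exact congrArg (fun z : ↥(P : Subgroup G) => (z : G)) h2) (by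
      rintro _ ⟨a, ha, rfl⟩
      have := hAp a ha
      exact congrArg Subtype.val this)
    rwa [Subgroup.card_map_of_injective (P : Subgroup G).subtype_injective, pow_one] at h1
  have hx1 : x ≠ 1 := by
    rintro rfl
    rw [orderOf_one] at hx
    exact (Fact.out : p.Prime).one_lt.ne hx
  obtain ⟨P, N, hN, hcompl⟩ := (Cfsg.Agent.S2970.result x ⟨1, by rw [hx, pow_one]⟩ hiso).2 hx1 hcyc
  have hNle : N ≤ pPrimeCore p G := by
    apply le_sSup
    refine ⟨hN, ?_⟩
    rw [← hcompl.index_eq_card]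
    exact ((Nat.Prime.coprime_iff_not_dvd Fact.out).mpr P.not_dvd_index).symm
  have hsup : N ⊔ (P : Subgroup G) = ⊤ := hcompl.sup_eq_top
  have hrep : ∀ a : G, ∃ y ∈ (P : Subgroup G), (QuotientGroup.mk a : G ⧸ N) = QuotientGroup.mk y := by
    intro a
    have ha : a ∈ N ⊔ (P : Subgroup G) := by rw [hsup]; trivial
    rw [Subgroup.mem_sup_of_normal_left] at ha
    obtain ⟨n, hn, y, hy, rfl⟩ := ha
    refine ⟨y, hy, ?_⟩
    rw [QuotientGroup.mk_mul, (QuotientGroup.eq_one_iff n).mpr hn, one_mul]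
  have hPcomm : ∀ a ∈ (P : Subgroup G), ∀ b ∈ (P : Subgroup G), a * b = b * a := by
    intro a ha b hb
    obtain ⟨g, hg⟩ := (hcyc P).exists_generator
    obtain ⟨i, hi⟩ := Subgroup.mem_zpowers_iff.mp (hg ⟨a, ha⟩)
    obtain ⟨j, hj⟩ := Subgroup.mem_zpowers_iff.mp (hg ⟨b, hb⟩)
    have : (⟨a, ha⟩ : (P : Subgroup G)) * ⟨b, hb⟩ = ⟨b, hb⟩ * ⟨a, ha⟩ := by
      rw [← hi, ← hj, ← zpow_add, ← zpow_add, add_comm]
    exact congrArg Subtype.val this
  intro g
  apply hNle
  rw [← QuotientGroup.eq_one_iff]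
  obtain ⟨y1, hy1, h1⟩ := hrep g
  obtain ⟨y2, hy2, h2⟩ := hrep x
  rw [QuotientGroup.mk_mul, QuotientGroup.mk_mul, QuotientGroup.mk_mul, QuotientGroup.mk_inv,
    QuotientGroup.mk_inv, h1, h2, ← QuotientGroup.mk_mul, hPcomm y1 hy1 y2 hy2, QuotientGroup.mk_mul]
  group

end Cfsg.Agent.S2971
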