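import Cfsg.Statements.S2972
-- import your own Cfsg.Agent.* helpers here
import Mathlib
import Cfsg.Agent.Lib.Helper18.PPrime
import Cfsg.Agent.Lib.Helper18.Isolated

set_option autoImplicit false
open Cfsg

namespace Cfsg.Agent.S2972

/-- Let G be a finite group, p a prime and x ∈ G an isolated element of order p (the only conjugate of x commuting with x is x) which is not central modulo the largest normal subgroup of order prime to p, while x is central modulo the largest normal subgroup of order prime to p in every proper subgroup containing x, and the image of x is so in every quotient of G by a nontrivial normal subgroup (a minimal counterexample to the Z*_p statement). Then the derived subgroup G' is a non-abelian simple group and G = G'⟨x⟩. -/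
theorem result {G : Type*} [Group G] [Finite G] {p : ℕ} [Fact p.Prime] (x : G) (hx : orderOf x = p) (hiso : Cfsg.IsIsolated x) (hnz : ¬ Cfsg.InZStar p x) (hmin : ∀ (H : Subgroup G) (hxH : x ∈ H), H ≠ ⊤ → Cfsg.InZStar p (⟨x, hxH⟩ : ↥H)) (hquot : ∀ (N : Subgroup G) [N.Normal], N ≠ ⊥ → Cfsg.InZStar p (QuotientGroup.mk x : G ⧸ N)) : IsSimpleGroup ↥(commutator G) ∧ ¬ IsMulCommutative ↥(commutator G) ∧ commutator G ⊔ Subgroup.zpowers x = ⊤ := by
  classical
  have hp : p.Prime := Fact.out
  have hnc : ¬ (∀ g : G, g * x * g⁻¹ = x) := by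
    intro h; apply hnz; intro g; rw [h g, mul_inv_cancel]; exact one_mem _
  have hO : pPrimeCore p G = ⊥ := by
    by_contra hne
    apply hnz
    intro g
    have h1 := hquot (pPrimeCore p G) hne (QuotientGroup.mk g)
    exact Lib.Helper18.comap_pPrimeCore_quotient_le h1
  have hstar : ∀ H : Subgroup G, H.Normal → x ∈ H → H = ⊤ := by
    intro H hH hxH
    by_contra hne
    apply hnc
    have h1 := hmin H hxH hne
    have hcomm : ∀ h ∈ H, h * x * h⁻¹ * x⁻¹ = 1 := by
      intro h hh
      have h2 := h1 ⟨h, hh⟩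
      have h3 : h * x * h⁻¹ * x⁻¹ ∈ (pPrimeCore p H).map H.subtype := ⟨_, h2, rfl⟩
      have h4 := Lib.Helper18.ppc_map_le H h3
      rwa [hO, Subgroup.mem_bot] at h4
    intro g
    apply hiso
    have h5 := hcomm _ (hH.conj_mem x hxH g)
    exact (mul_inv_eq_iff_eq_mul.mp (mul_inv_eq_one.mp h5)).symm
  have hsupn : ∀ N : Subgroup G, N.Normal → (∀ g : G, g * x * g⁻¹ * x⁻¹ ∈ N) →
      N ⊔ Subgroup.zpowers x = ⊤ := by
    intro N hN hc
    apply hstar _ _ ((le_sup_right : Subgroup.zpowers x ≤ _) (Subgroup.mem_zpowers x))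
    refine ⟨fun n hn g => ?_⟩
    rw [Subgroup.mem_sup_of_normal_left] at hn
    obtain ⟨a, ha, z, hz, rfl⟩ := hn
    obtain ⟨i, rfl⟩ := Subgroup.mem_zpowers_iff.mp hz
    have h1 : g * x * g⁻¹ ∈ N ⊔ Subgroup.zpowers x := by
      have e : g * x * g⁻¹ = (g * x * g⁻¹ * x⁻¹) * x := by group
      rw [e]
      exact mul_mem ((le_sup_left : N ≤ _) (hc g))
        ((le_sup_right : Subgroup.zpowers x ≤ _) (Subgroup.mem_zpowers x))
    have e : g * (a * x ^ i) * g⁻¹ = (g * a * g⁻¹) * (g * x * g⁻¹) ^ i := by
      rw [conj_zpow]; group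
    rw [e]
    exact mul_mem ((le_sup_left : N ≤ _) (hN.conj_mem a ha g)) (Subgroup.zpow_mem _ h1 i)
  have hGx : commutator G ⊔ Subgroup.zpowers x = ⊤ := by
    apply hsupn _ inferInstance
    intro g
    exact Subgroup.commutator_mem_commutator (Subgroup.mem_top g) (Subgroup.mem_top x)
  have hclaim : ∀ N : Subgroup G, N.Normal → N ≠ ⊥ → commutator G ≤ N := by
    intro N hN hNne
    by_cases hH : N ⊔ Subgroup.zpowers x = ⊤
    · rw [commutator_def, Subgroup.commutator_le]
      have hrep : ∀ a : G, ∃ i : ℤ, (QuotientGroup.mk a : G ⧸ N) = (QuotientGroup.mk x) ^ i := by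
        intro a
        have ha : a ∈ N ⊔ Subgroup.zpowers x := by rw [hH]; trivial
        rw [Subgroup.mem_sup_of_normal_left] at ha
        obtain ⟨n, hn, z, hz, rfl⟩ := ha
        obtain ⟨i, rfl⟩ := Subgroup.mem_zpowers_iff.mp hz
        refine ⟨i, ?_⟩
        rw [QuotientGroup.mk_mul, (QuotientGroup.eq_one_iff n).mpr hn, one_mul, QuotientGroup.mk_zpow]
      intro a _ b _
      rw [← QuotientGroup.eq_one_iff, commutatorElement_def]
      obtain ⟨i, hi⟩ := hrep a
      obtain ⟨j, hj⟩ := hrep b
      rw [QuotientGroup.mk_mul, QuotientGroup.mk_mul, QuotientGroup.mk_mul, QuotientGroup.mk_inv,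
        QuotientGroup.mk_inv, hi, hj, ← zpow_add, add_comm, zpow_add]
      group
    · exfalso
      apply hH
      have hxH : x ∈ N ⊔ Subgroup.zpowers x :=
        (le_sup_right : Subgroup.zpowers x ≤ _) (Subgroup.mem_zpowers x)
      have h1 := hmin _ hxH hH
      set H := N ⊔ Subgroup.zpowers x with hHdef
      have hNH : N ≤ H := le_sup_left
      set Y := (pPrimeCore p H).map H.subtype ⊓ N with hY
      have hYle : Y ≤ pPrimeCore p G := by
        apply Lib.Helper18.le_pPrimeCore_of_normal_normal N inf_le_right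
        · apply Lib.Helper17.le_normalizer_inf _ Subgroup.le_normalizer
          apply hNH.trans
          have h2 : (((pPrimeCore p H).map H.subtype).subgroupOf H).Normal := by
            rw [Subgroup.subgroupOf, Subgroup.comap_map_eq_self_of_injective H.subtype_injective]
            infer_instance
          exact (Subgroup.normal_subgroupOf_iff_le_normalizer (Subgroup.map_subtype_le _)).mp h2
        · have h2 : Nat.card Y ∣ Nat.card ((pPrimeCore p H).map H.subtype) :=
            Subgroup.card_dvd_of_le inf_le_left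
          rw [Subgroup.card_map_of_injective H.subtype_injective] at h2
          exact Nat.Coprime.coprime_dvd_left h2 Lib.Helper5.pPrimeCore_coprime
      have hNx : ∀ n ∈ N, n * x * n⁻¹ * x⁻¹ = 1 := by
        intro n hn
        have h2 := h1 ⟨n, hNH hn⟩
        have h3 : n * x * n⁻¹ * x⁻¹ ∈ Y := by
          refine ⟨⟨_, h2, rfl⟩, ?_⟩
          have e : n * x * n⁻¹ * x⁻¹ = n * (x * n⁻¹ * x⁻¹) := by group
          rw [e]
          exact N.mul_mem hn (hN.conj_mem _ (N.inv_mem hn) x)
        have h4 := hYle h3
        rwa [hO, Subgroup.mem_bot] at h4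
      have hxC : x ∈ Subgroup.centralizer (N : Set G) := by
        rw [Subgroup.mem_centralizer_iff]
        intro n hn
        exact mul_inv_eq_iff_eq_mul.mp (mul_inv_eq_one.mp (hNx n hn))
      have hCtop : Subgroup.centralizer (N : Set G) = ⊤ := hstar _ inferInstance hxC
      have hNZ : N ≤ Subgroup.center G := by
        intro n hn
        rw [Subgroup.mem_center_iff]
        intro g
        have : g ∈ Subgroup.centralizer (N : Set G) := by rw [hCtop]; trivial
        exact ((Subgroup.mem_centralizer_iff.mp this) n hn).symm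
      have hNp : IsPGroup p N := by
        rintro ⟨n, hn⟩
        obtain ⟨k, hk⟩ := Lib.Helper17.exists_pow_p_pow_coprime (p := p) n
        refine ⟨k, Subtype.ext ?_⟩
        show n ^ p ^ k = 1
        have hyN : n ^ p ^ k ∈ N := N.pow_mem hn _
        have h2 : Subgroup.zpowers (n ^ p ^ k) ≤ pPrimeCore p G := by
          apply Lib.Helper18.le_pPrimeCore_of_normal_normal N (Subgroup.zpowers_le.mpr hyN)
          · apply Lib.Helper17.le_normalizer_of_conj_mem
            intro a _ z hz
            have hzN : z ∈ N := (Subgroup.zpowers_le.mpr hyN) hz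
            have := (Subgroup.mem_center_iff.mp (hNZ hzN)) a
            rw [this, mul_inv_cancel_right]
            exact hz
          · rw [Nat.card_zpowers]; exact hk
        have h3 := h2 (Subgroup.mem_zpowers _)
        rwa [hO, Subgroup.mem_bot] at h3
      set K := (pPrimeCore p (G ⧸ N)).comap (QuotientGroup.mk' N) with hK
      have hNK : N ≤ K := by
        intro n hn
        show (QuotientGroup.mk n : G ⧸ N) ∈ pPrimeCore p (G ⧸ N)
        rw [(QuotientGroup.eq_one_iff n).mpr hn]
        exact one_mem _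
      have hKx : K ⊔ Subgroup.zpowers x = ⊤ := by
        apply hsupn K inferInstance
        intro g
        exact hquot N hNne (QuotientGroup.mk g)
      have hidx : ¬ p ∣ N.relIndex K := by
        have h2 := Lib.Helper5.card_mul_relIndex hNK
        rw [hK, Lib.Helper18.card_comap_mk'] at h2
        have h3 := Nat.eq_of_mul_eq_mul_left Nat.card_pos h2
        rw [← hK] at h3
        rw [h3]
        exact (Nat.Prime.coprime_iff_not_dvd hp).mp (Lib.Helper5.pPrimeCore_coprime).symm
      have hKN : K ≤ N := Lib.Helper18.le_of_central_of_pPrimeCore_eq_bot hO K hNZ hNp hidx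
      exact top_le_iff.mp (hKx ▸ sup_le_sup_right hKN _)
  have hncomm : ¬ IsMulCommutative ↥(commutator G) := by
    intro hcomm
    have hGp : IsPGroup p (commutator G) := by
      rintro ⟨n, hn⟩
      obtain ⟨k, hk⟩ := Lib.Helper17.exists_pow_p_pow_coprime (p := p) n
      refine ⟨k, Subtype.ext ?_⟩
      show n ^ p ^ k = 1
      have hyN : n ^ p ^ k ∈ commutator G := Subgroup.pow_mem _ hn _
      have h2 : Subgroup.zpowers (n ^ p ^ k) ≤ pPrimeCore p G := by
        apply Lib.Helper18.le_pPrimeCore_of_normal_normal (commutator G)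
          (Subgroup.zpowers_le.mpr hyN)
        · apply Lib.Helper17.le_normalizer_of_conj_mem
          intro a ha z hz
          have hzN : z ∈ commutator G := (Subgroup.zpowers_le.mpr hyN) hz
          have h3 := hcomm.is_comm.comm ⟨a, ha⟩ ⟨z, hzN⟩
          have h4 : a * z = z * a := congrArg Subtype.val h3
          rw [h4, mul_inv_cancel_right]
          exact hz
        · rw [Nat.card_zpowers]; exact hk
      have h3 := h2 (Subgroup.mem_zpowers _)
      rwa [hO, Subgroup.mem_bot] at h3
    have hxp : IsPGroup p (Subgroup.zpowers x) :=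
      Lib.Helper18.isPGroup_zpowers ⟨1, by rw [hx, pow_one]⟩
    have htop : IsPGroup p (⊤ : Subgroup G) := hGx ▸ hGp.to_sup_of_normal_left hxp
    have h1 := Lib.Helper18.IsIsolated.le_centralizer hiso htop (Subgroup.mem_top x)
    apply hnc
    intro g
    have h2 := Subgroup.mem_centralizer_singleton_iff.mp (h1 (Subgroup.mem_top g))
    rw [h2, mul_inv_cancel_right]
  refine ⟨?_, hncomm, hGx⟩
  have hnt : Nontrivial ↥(commutator G) := by
    by_contra hcon
    rw [not_nontrivial_iff_subsingleton] at hcon
    exact hncomm ⟨⟨fun a b => Subsingleton.elim _ _⟩⟩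
  refine ⟨fun L hL => ?_⟩
  by_contra hcon
  push Not at hcon
  obtain ⟨hLbot, hLtop⟩ := hcon
  set L' := L.map (commutator G).subtype with hL'
  have hL'le : L' ≤ commutator G := Subgroup.map_subtype_le _
  have hL'n : commutator G ≤ Subgroup.normalizer (L' : Set G) := by
    have h2 : (L'.subgroupOf (commutator G)).Normal := by
      rw [hL', Subgroup.subgroupOf,
        Subgroup.comap_map_eq_self_of_injective (commutator G).subtype_injective]
      exact hL
    exact (Subgroup.normal_subgroupOf_iff_le_normalizer hL'le).mp h2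
  have hcore : L'.normalCore = ⊥ := by
    by_contra hne
    have h1 := (hclaim _ inferInstance hne).trans (Subgroup.normalCore_le L')
    apply hLtop
    rw [eq_top_iff]
    rintro ⟨a, ha⟩ _
    obtain ⟨b, hb, hba⟩ := h1 ha
    have : b = ⟨a, ha⟩ := Subtype.ext hba
    rwa [← this]
  obtain ⟨P, hxP⟩ := (Lib.Helper18.isPGroup_zpowers (p := p) (x := x)
    ⟨1, by rw [hx, pow_one]⟩).exists_le_sylow
  have hxP' : x ∈ (P : Subgroup G) := hxP (Subgroup.mem_zpowers x)
  have hPc := Lib.Helper18.IsIsolated.le_centralizer hiso P.isPGroup' hxP'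
  have hPL : (P : Subgroup G) ⊓ L' = ⊥ := by
    rw [eq_bot_iff]
    rintro y ⟨hyP, hyL⟩
    rw [← hcore]
    intro g
    have hg : g ∈ commutator G ⊔ Subgroup.zpowers x := by rw [hGx]; trivial
    rw [Subgroup.mem_sup_of_normal_left] at hg
    obtain ⟨n, hn, z, hz, rfl⟩ := hg
    obtain ⟨i, rfl⟩ := Subgroup.mem_zpowers_iff.mp hz
    have hyx : Commute y x := Subgroup.mem_centralizer_singleton_iff.mp (hPc hyP)
    have h1 : x ^ i * y * (x ^ i)⁻¹ = y := by
      rw [((hyx.zpow_right i).eq).symm, mul_inv_cancel_right]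
    have e : n * x ^ i * y * (n * x ^ i)⁻¹ = n * (x ^ i * y * (x ^ i)⁻¹) * n⁻¹ := by group
    rw [e, h1]
    exact Lib.Helper17.conj_mem_of_le_normalizer hL'n hn hyL
  have hs1 : Lib.Helper17.IsSyl p ((P : Subgroup G) ⊓ commutator G) (commutator G) :=
    (Lib.Helper17.isSyl_top P).inf_normal le_top (by rw [Subgroup.normalizer_eq_top])
  have hs2 := hs1.inf_normal hL'le hL'n
  have hbot : ((P : Subgroup G) ⊓ commutator G) ⊓ L' = ⊥ := by
    rw [eq_bot_iff, ← hPL]
    exact inf_le_inf_right _ inf_le_left
  have hndvd : ¬ p ∣ Nat.card L' := fun hd => hs2.ne_bot hd hbot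
  have hL'bot : L' ≤ pPrimeCore p G :=
    Lib.Helper18.le_pPrimeCore_of_normal_normal (commutator G) hL'le hL'n
      ((Nat.Prime.coprime_iff_not_dvd hp).mpr hndvd).symm
  rw [hO, le_bot_iff] at hL'bot
  exact hLbot ((Subgroup.map_eq_bot_iff_of_injective _ (commutator G).subtype_injective).mp hL'bot)

end Cfsg.Agent.S2972
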