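import Cfsg.Statements.S2975
-- import your own Cfsg.Agent.* helpers here
import Mathlib
import Cfsg.Agent.Lib.Helper18.PPrime
import Cfsg.Agent.Lib.Helper18.Isolated
import Cfsg.Agent.S2969
import Cfsg.Agent.S0023

set_option autoImplicit false
open Cfsg

namespace Cfsg.Agent.S2975

/-- Let G be a finite group, p a prime and x ∈ G an isolated element of order p (the only conjugate of x commuting with x is x) which is not central modulo the largest normal subgroup of order prime to p, while x is central modulo the largest normal subgroup of order prime to p in every proper subgroup containing x, and the image of x is so in every quotient of G by a nontrivial normal subgroup (a minimal counterexample to the Z*_p statement). Then for every prime q, every q-subgroup of G that is normalized by x and maximal among the q-subgroups normalized by x is either trivial or a Sylow q-subgroup of G; and C_G(x) permutes the x-invariant Sylow q-subgroups of G transitively by conjugation. -/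
theorem result {G : Type*} [Group G] [Finite G] {p : ℕ} [Fact p.Prime] (x : G) (hx : orderOf x = p) (hiso : Cfsg.IsIsolated x) (hnz : ¬ Cfsg.InZStar p x) (hmin : ∀ (H : Subgroup G) (hxH : x ∈ H), H ≠ ⊤ → Cfsg.InZStar p (⟨x, hxH⟩ : ↥H)) (hquot : ∀ (N : Subgroup G) [N.Normal], N ≠ ⊥ → Cfsg.InZStar p (QuotientGroup.mk x : G ⧸ N)) (q : ℕ) [Fact q.Prime] : (∀ Q : Subgroup G, IsPGroup q ↥Q → x ∈ Subgroup.normalizer (Q : Set G) → (∀ R : Subgroup G, IsPGroup q ↥R → x ∈ Subgroup.normalizer (R : Set G) → Q ≤ R → R = Q) → Q = ⊥ ∨ ∃ S : Sylow q G, (S : Subgroup G) = Q) ∧ (∀ S₁ S₂ : Sylow q G, x ∈ Subgroup.normalizer ((S₁ : Subgroup G) : Set G) → x ∈ Subgroup.normalizer ((S₂ : Subgroup G) : Set G) → ∃ c ∈ Subgroup.centralizer ({x} : Set G), (S₁ : Subgroup G).map (MulAut.conj c).toMonoidHom = (S₂ : Subgroup G)) := by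
  classical
  have hp : p.Prime := Fact.out
  have hq : q.Prime := Fact.out
  have hxk : ∃ k : ℕ, orderOf x = p ^ k := ⟨1, by rw [hx, pow_one]⟩
  have hxp : IsPGroup p (Subgroup.zpowers x) := Lib.Helper18.isPGroup_zpowers hxk
  have hO : pPrimeCore p G = ⊥ := by
    by_contra hne
    apply hnz
    intro g
    have h1 := hquot (pPrimeCore p G) hne (QuotientGroup.mk g)
    exact Lib.Helper18.comap_pPrimeCore_quotient_le h1
  constructor
  · intro Q hQ hxQ hmax
    by_cases hqp : q = p
    · subst hqp
      right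
      have hzQ : Subgroup.zpowers x ≤ Subgroup.normalizer (Q : Set G) := Subgroup.zpowers_le.mpr hxQ
      have hsup : IsPGroup q (Subgroup.zpowers x ⊔ Q : Subgroup G) :=
        hxp.to_sup_of_normal_right' hQ hzQ
      obtain ⟨P, hP⟩ := hsup.exists_le_sylow
      refine ⟨P, ?_⟩
      apply hmax P P.isPGroup' _ (le_sup_right.trans hP)
      exact Subgroup.le_normalizer
        (hP ((le_sup_left : Subgroup.zpowers x ≤ _) (Subgroup.mem_zpowers x)))
    · by_cases hQbot : Q = ⊥
      · left; exact hQbot
      right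
      set H := Subgroup.normalizer (Q : Set G) with hH
      have hQH : Q ≤ H := Subgroup.le_normalizer
      have hqpcop : q.Coprime p := (Nat.coprime_primes hq hp).mpr hqp
      have hcopQ : (Nat.card Q).Coprime p := by
        obtain ⟨k, hk⟩ := IsPGroup.iff_card.mp hQ
        rw [hk]; exact Nat.Coprime.pow_left k hqpcop
      have hHtop : H ≠ ⊤ := by
        intro h
        have hQn : Q.Normal := Subgroup.normalizer_eq_top_iff.mp h
        have := Lib.Helper5.le_pPrimeCore hQn hcopQ
        rw [hO, le_bot_iff] at this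
        exact hQbot this
      have hZ := hmin H hxQ hHtop
      set O := (pPrimeCore p H).map H.subtype with hOdef
      have hOH : O ≤ H := Subgroup.map_subtype_le _
      have hHO : H ≤ Subgroup.normalizer (O : Set G) := by
        have h2 : (O.subgroupOf H).Normal := by
          rw [hOdef, Subgroup.subgroupOf, Subgroup.comap_map_eq_self_of_injective H.subtype_injective]
          infer_instance
        exact (Subgroup.normal_subgroupOf_iff_le_normalizer hOH).mp h2
      have hOcop : (Nat.card O).Coprime p := by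
        rw [hOdef, Subgroup.card_map_of_injective H.subtype_injective]
        exact Lib.Helper5.pPrimeCore_coprime
      have hcommO : ∀ h ∈ H, h * x * h⁻¹ * x⁻¹ ∈ O := fun h hh => ⟨_, hZ ⟨h, hh⟩, rfl⟩
      set C := H ⊓ Subgroup.centralizer ({x} : Set G) with hC
      have hzH : Subgroup.zpowers x ≤ H := Subgroup.zpowers_le.mpr hxQ
      have hzC : Subgroup.zpowers x ≤ C :=
        Subgroup.zpowers_le.mpr ⟨hxQ, Subgroup.mem_centralizer_singleton_iff.mpr rfl⟩
      have hY : H ≤ Subgroup.normalizer ((Subgroup.zpowers x ⊔ O : Subgroup G) : Set G) := by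
        apply Lib.Helper17.le_normalizer_of_conj_mem
        intro h hh y hy
        rw [Lib.Helper17.mem_sup_of_le_normalizer (hzH.trans hHO)] at hy
        obtain ⟨a, ha, b, hb, rfl⟩ := hy
        obtain ⟨i, rfl⟩ := Subgroup.mem_zpowers_iff.mp ha
        have h1 : h * x * h⁻¹ ∈ Subgroup.zpowers x ⊔ O := by
          have e : h * x * h⁻¹ = (h * x * h⁻¹ * x⁻¹) * x := by group
          rw [e]
          exact mul_mem ((le_sup_right : O ≤ _) (hcommO h hh))
            ((le_sup_left : Subgroup.zpowers x ≤ _) (Subgroup.mem_zpowers x))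
        have e : h * (x ^ i * b) * h⁻¹ = (h * x * h⁻¹) ^ i * (h * b * h⁻¹) := by
          rw [conj_zpow]; group
        rw [e]
        exact mul_mem (Subgroup.zpow_mem _ h1 i)
          ((le_sup_right : O ≤ _) (Lib.Helper17.conj_mem_of_le_normalizer hHO hh hb))
      have hOC : C ⊔ O = H := by
        have h1 := (Cfsg.Agent.S2969.result x hxk hiso).2 H (Subgroup.zpowers x ⊔ O)
          (sup_le hzH hOH) hY ((le_sup_left : Subgroup.zpowers x ≤ _) (Subgroup.mem_zpowers x))
        apply le_antisymm (sup_le inf_le_left hOH)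
        exact h1.symm.le.trans (sup_le (sup_le (hzC.trans le_sup_left) le_sup_right) le_sup_left)
      obtain ⟨T, hT⟩ := Lib.Helper17.exists_isSyl q C
      have hTC : T ≤ C := hT.le
      have hCH : C ≤ H := inf_le_left
      set H1 := T ⊔ O with hH1
      have hH1H : H1 ≤ H := sup_le (hTC.trans hCH) hOH
      have e1 := Lib.Helper5.card_sup_mul_card_inf C O (hCH.trans hHO)
      have e2 := Lib.Helper5.card_sup_mul_card_inf T O ((hTC.trans hCH).trans hHO)
      rw [hOC] at e1
      rw [← hH1] at e2
      have e3 := Lib.Helper5.card_mul_relIndex hH1H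
      have e4 := Lib.Helper5.card_mul_relIndex hTC
      have e5 := Lib.Helper5.card_mul_relIndex (inf_le_inf_right O hTC)
      have hrs : H1.relIndex H * (T ⊓ O).relIndex (C ⊓ O) = T.relIndex C := by
        have hpos : 0 < Nat.card H1 * Nat.card (T ⊓ O : Subgroup G) :=
          Nat.mul_pos Nat.card_pos Nat.card_pos
        apply Nat.eq_of_mul_eq_mul_left hpos
        calc Nat.card H1 * Nat.card (T ⊓ O : Subgroup G) * (H1.relIndex H * (T ⊓ O).relIndex (C ⊓ O))
            = (Nat.card H1 * H1.relIndex H) * (Nat.card (T ⊓ O : Subgroup G) * (T ⊓ O).relIndex (C ⊓ O)) := by ring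
          _ = Nat.card H * Nat.card (C ⊓ O : Subgroup G) := by rw [e3, e5]
          _ = Nat.card C * Nat.card O := e1
          _ = (Nat.card T * T.relIndex C) * Nat.card O := by rw [e4]
          _ = (Nat.card T * Nat.card O) * T.relIndex C := by ring
          _ = Nat.card H1 * Nat.card (T ⊓ O : Subgroup G) * T.relIndex C := by rw [e2]
      have hr : ¬ q ∣ H1.relIndex H := fun hd =>
        hT.not_dvd_relIndex (hrs ▸ Dvd.dvd.mul_right hd _)
      have hH1cop : (Nat.card H1).Coprime p := by
        have h1 : Nat.card H1 ∣ Nat.card T * Nat.card O := Dvd.intro _ e2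
        apply Nat.Coprime.coprime_dvd_left h1
        apply Nat.Coprime.mul_left _ hOcop
        obtain ⟨k, hk⟩ := IsPGroup.iff_card.mp hT.isPGroup
        rw [hk]; exact Nat.Coprime.pow_left k hqpcop
      have hxT : x ∈ Subgroup.normalizer (T : Set G) := by
        apply Lib.Helper17.centralizer_le_normalizer'
        rw [Subgroup.mem_centralizer_iff]
        intro t ht
        exact Subgroup.mem_centralizer_singleton_iff.mp (hTC ht).2
      have hxH1 : Subgroup.zpowers x ≤ Subgroup.normalizer (H1 : Set G) :=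
        Lib.Helper17.le_normalizer_sup (Subgroup.zpowers_le.mpr hxT) (hzH.trans hHO)
      obtain ⟨P1, hP1⟩ := Cfsg.Agent.S0023.result (Subgroup.zpowers x) H1 hxH1
        (by rw [Nat.card_zpowers, hx]; exact hH1cop.symm) (Or.inl inferInstance) q
      set R := (P1 : Subgroup H1).map H1.subtype with hR
      have hRs : Lib.Helper17.IsSyl q R H1 := ⟨P1, rfl⟩
      have hRH : Lib.Helper17.IsSyl q R H := by
        apply Lib.Helper17.isSyl_of_not_dvd_relIndex (hRs.le.trans hH1H) hRs.isPGroup
        rw [← Subgroup.relIndex_mul_relIndex R H1 H hRs.le hH1H]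
        exact hq.not_dvd_mul hRs.not_dvd_relIndex hr
      have hQR : Q ≤ R := by
        have h1 : IsPGroup q (R ⊔ Q : Subgroup G) := hRs.isPGroup.to_sup_of_normal_right' hQ hRH.le
        have h2 := hRH.eq_of_le (sup_le hRH.le hQH) h1 le_sup_left
        exact h2 ▸ le_sup_right
      have hRQ : R = Q := hmax R hRs.isPGroup (hP1 (Subgroup.mem_zpowers x)) hQR
      rw [hRQ] at hRH
      obtain ⟨S, hS⟩ := hQ.exists_le_sylow
      refine ⟨S, ?_⟩
      by_contra hne
      have hlt : Q < (S : Subgroup G) := lt_of_le_of_ne hS (Ne.symm hne)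
      obtain ⟨y, hyS, hyN, hyQ⟩ := Lib.Helper17.pgroup_normalizer_grow S.isPGroup' hlt
      have h1 : Q ⊔ Subgroup.zpowers y ≤ (S : Subgroup G) := sup_le hS (Subgroup.zpowers_le.mpr hyS)
      have h2 := hRH.eq_of_le (sup_le hQH (Subgroup.zpowers_le.mpr hyN)) (S.isPGroup'.to_le h1)
        le_sup_left
      apply hyQ
      rw [← h2]
      exact (le_sup_right : Subgroup.zpowers y ≤ _) (Subgroup.mem_zpowers y)
  · intro S₁ S₂ h1 h2
    obtain ⟨g, hg⟩ := Lib.Helper17.sylow_conj S₁ S₂
    have h3 : g⁻¹ * x * g⁻¹⁻¹ ∈ Subgroup.normalizer ((S₁ : Subgroup G) : Set G) := by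
      rw [hg, Lib.Helper17.normalizer_map_conj, Lib.Helper17.mem_map_conj] at h2
      rwa [inv_inv]
    obtain ⟨c, hc, hce⟩ := Lib.Helper18.IsIsolated.conj_in hiso hxk h1 h3
    refine ⟨g * c⁻¹, ?_, ?_⟩
    · refine Subgroup.mem_centralizer_singleton_iff.mpr ?_
      calc g * c⁻¹ * x = g * c⁻¹ * (c * (g⁻¹ * x * g⁻¹⁻¹) * c⁻¹) := by rw [hce]
        _ = x * (g * c⁻¹) := by group
    · rw [← Lib.Helper17.map_conj_map_conj,
        Lib.Helper17.map_conj_eq_of_mem_normalizer (Subgroup.inv_mem _ hc), hg]

end Cfsg.Agent.S2975
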