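import Cfsg.Statements.S3011
-- import your own Cfsg.Agent.* helpers here
import Mathlib
import Cfsg.Agent.S0200

set_option autoImplicit false
open Cfsg

namespace Cfsg.Agent.S3011

theorem odd_self_inv {G : Type*} [Group G] {h : G} (hh : Odd (orderOf h)) (e : h⁻¹ = h) :
    h = 1 := by
  have h2 : h ^ 2 = 1 := by
    rw [pow_two]
    nth_rewrite 1 [← e]
    exact inv_mul_cancel h
  have hd : orderOf h ∣ 2 := orderOf_dvd_of_pow_eq_one h2
  have := Nat.Coprime.eq_one_of_dvd (Nat.coprime_two_right.2 hh) hd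
  exact orderOf_eq_one_iff.1 this

theorem conj_eq_iff {G : Type*} [Group G] {g k : G} : MulAut.conj g k = k ↔ Commute g k := by
  rw [MulAut.conj_apply, mul_inv_eq_iff_eq_mul]
  rfl

theorem comm_of_pow {G : Type*} [Group G] {h k : G} (hh : Odd (orderOf h)) (n : ℕ)
    (e : MulAut.conj (h ^ (2 ^ n)) k = k) : MulAut.conj h k = k := by
  rw [conj_eq_iff] at e ⊢
  have hc : Nat.Coprime (2 ^ n) (orderOf h) :=
    Nat.Coprime.pow_left n (Nat.coprime_two_left.2 hh)
  obtain ⟨m, hm⟩ := exists_pow_eq_self_of_coprime hc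
  rw [← hm]
  exact e.pow_left m

theorem lemA {G : Type*} [Group G] (V : Subgroup G) (hS : Cfsg.IsSidkiPair V) {a b : G}
    (ha : a ∈ V) (hb : b ∈ V) (haa : a * a = 1)
    (hV : ∀ u ∈ V, u = 1 ∨ u = a ∨ u = b ∨ u = a * b) {h k : G} (hh : Odd (orderOf h))
    (hk : Odd (orderOf k)) (hah : MulAut.conj a h = h⁻¹) (hak : MulAut.conj a k = k⁻¹)
    (hbh : MulAut.conj b h = h) (hck : MulAut.conj (a * b) k = k) : h = 1 ∨ k = 1 := by
  have hbk : MulAut.conj b k = k⁻¹ := by
    have : b = a * (a * b) := by rw [← mul_assoc, haa, one_mul]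
    rw [this, map_mul, MulAut.mul_apply, hck, hak]
  have hch : MulAut.conj (a * b) h = h⁻¹ := by
    rw [map_mul, MulAut.mul_apply, hbh, hah]
  have hk' : Odd (orderOf (h⁻¹ * k * h)) := by
    have : h⁻¹ * k * h = MulAut.conj h⁻¹ k := by simp
    rw [this, MulEquiv.orderOf_eq]
    exact hk
  have hbk' : b * (h⁻¹ * k * h) * b⁻¹ = (h⁻¹ * k * h)⁻¹ := by
    rw [← MulAut.conj_apply]
    simp only [map_mul, map_inv, hbh, hbk, mul_inv_rev, inv_inv, mul_assoc]
  obtain ⟨w, hwV, hw1, hw⟩ := hS _ b hb hk' hbk'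
  have hw' : MulAut.conj w (h⁻¹ * k * h) = h⁻¹ * k * h := conj_eq_iff.2 hw
  rcases hV w hwV with rfl | rfl | rfl | rfl
  · exact absurd rfl hw1
  · right
    simp only [map_mul, map_inv, hah, hak, inv_inv] at hw'
    have e2 : MulAut.conj (h ^ 2) k = k⁻¹ := by
      rw [MulAut.conj_apply, pow_two]
      have := congrArg (fun t => h * t⁻¹ * h⁻¹) hw'
      simp only [mul_inv_rev, inv_inv, mul_assoc] at this
      simpa [mul_assoc] using this
    have e4 : MulAut.conj (h ^ 2 ^ 2) k = k := by
      have : h ^ 2 ^ 2 = h ^ 2 * h ^ 2 := by rw [← pow_add]; norm_num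
      rw [this, map_mul, MulAut.mul_apply, e2, map_inv, e2, inv_inv]
    have e1 := comm_of_pow hh 2 e4
    have e2' : MulAut.conj (h ^ 2) k = k := by
      rw [pow_two, map_mul, MulAut.mul_apply, e1, e1]
    exact odd_self_inv hk (e2.symm.trans e2')
  · right
    have e : (h⁻¹ * k * h)⁻¹ = h⁻¹ * k * h := by
      rw [← hbk', ← MulAut.conj_apply, hw']
    have := odd_self_inv hk' e
    have e3 : k = h * (h⁻¹ * k * h) * h⁻¹ := by group
    rw [e3, this]; group
  · simp only [map_mul (MulAut.conj (a * b)), map_inv, hch, hck, inv_inv] at hw'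
    have e2 : MulAut.conj (h ^ 2 ^ 1) k = k := by
      rw [MulAut.conj_apply, pow_one, pow_two]
      have := congrArg (fun t => h * t * h⁻¹) hw'
      simp only [mul_assoc] at this
      simpa [mul_assoc] using this
    have e1 := comm_of_pow hh 1 e2
    have hcomm : Commute h k := conj_eq_iff.1 e1
    have hhk : Odd (orderOf (h * k)) := by
      have hd := hcomm.orderOf_mul_dvd_mul_orderOf
      exact Odd.of_dvd_nat (hh.mul hk) hd
    have hahk : a * (h * k) * a⁻¹ = (h * k)⁻¹ := by
      rw [← MulAut.conj_apply, map_mul, hah, hak, mul_inv_rev]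
      exact (hcomm.inv_inv).eq
    obtain ⟨w, hwV, hw1, hw⟩ := hS _ a ha hhk hahk
    have hw'' : MulAut.conj w (h * k) = h * k := conj_eq_iff.2 hw
    rcases hV w hwV with rfl | rfl | rfl | rfl
    · exact absurd rfl hw1
    · have e : (h * k)⁻¹ = h * k := by
        rw [← hahk, ← MulAut.conj_apply, hw'']
      have e5 := odd_self_inv hhk e
      right
      have e6 : k = h⁻¹ := (eq_inv_of_mul_eq_one_right e5)
      apply odd_self_inv hk
      rw [← hbk, e6, map_inv, hbh]
    · right
      rw [map_mul, hbh, hbk] at hw''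
      exact odd_self_inv hk (mul_left_cancel hw'')
    · left
      rw [map_mul, hch, hck] at hw''
      exact odd_self_inv hh (mul_right_cancel hw'')

theorem claim1 {G : Type*} [Group G] (V : Subgroup G) (hS : Cfsg.IsSidkiPair V) {a b : G}
    (ha : a ∈ V) (hb : b ∈ V) (haa : a * a = 1)
    (hV : ∀ u ∈ V, u = 1 ∨ u = a ∨ u = b ∨ u = a * b) {h : G} (hh : Odd (orderOf h))
    (hh1 : h ≠ 1) (hah : MulAut.conj a h = h⁻¹) (hbh : MulAut.conj b h = h)
    {k : G} (hk : Odd (orderOf k)) (hak : MulAut.conj a k = k⁻¹) : MulAut.conj b k = k := by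
  obtain ⟨w, hwV, hw1, hw⟩ := hS k a ha hk (by rw [← MulAut.conj_apply, hak])
  have hw' : MulAut.conj w k = k := conj_eq_iff.2 hw
  rcases hV w hwV with rfl | rfl | rfl | rfl
  · exact absurd rfl hw1
  · have := odd_self_inv hk (hak.symm.trans hw')
    rw [this, map_one]
  · exact hw'
  · rcases lemA V hS ha hb haa hV hh hk hah hak hbh hw' with h1 | h1
    · exact absurd h1 hh1
    · rw [h1, map_one]

/-- Let G be a finite group and V a nontrivial elementary abelian 2-subgroup of G of order at most 4 such that, whenever an element of V inverts an element h of G of odd order, some nontrivial element of V commutes with h. Then V meets O₂(G) nontrivially. (The case of order at most 4 has a short argument from the Baer–Suzuki theorem.) -/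
theorem result {G : Type*} [Group G] [Finite G] (V : Subgroup G) (hV : Cfsg.IsElementaryAbelian 2 V) (hV1 : V ≠ ⊥) (hS : Cfsg.IsSidkiPair V) (h4 : Nat.card V ≤ 4) : V ⊓ Cfsg.pCore 2 G ≠ ⊥ := by
  intro hbot
  obtain ⟨hVc, hVe⟩ := hV
  have hcomm : ∀ u ∈ V, ∀ v ∈ V, u * v = v * u := by
    intro u hu v hv
    have := hVc.is_comm.comm (⟨u, hu⟩ : V) ⟨v, hv⟩
    exact congrArg Subtype.val this
  have hsq : ∀ u ∈ V, u * u = 1 := fun u hu => by rw [← pow_two]; exact hVe u hu
  -- Baer-Suzuki
  have hBS : ∀ v ∈ V, v ≠ 1 → ∃ h : G, h ≠ 1 ∧ Odd (orderOf h) ∧ MulAut.conj v h = h⁻¹ := by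
    intro v hv hv1
    have ho : orderOf v = 2 := orderOf_eq_prime (hVe v hv) hv1
    apply Cfsg.Agent.S0200.result v ho
    intro N hN hN2 hvN
    apply hv1
    have : v ∈ V ⊓ Cfsg.pCore 2 G :=
      Subgroup.mem_inf.2 ⟨hv, (le_sSup (show N ∈ {N : Subgroup G | N.Normal ∧ IsPGroup 2 N} from
        ⟨hN, hN2⟩) : N ≤ Cfsg.pCore 2 G) hvN⟩
    rw [hbot] at this
    exact Subgroup.mem_bot.1 this
  obtain ⟨⟨a, haV⟩, ha1'⟩ := Subgroup.ne_bot_iff_exists_ne_one.1 hV1
  have ha1 : a ≠ 1 := fun h => ha1' (Subtype.ext h)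
  obtain ⟨h, hh1, hh, hah⟩ := hBS a haV ha1
  obtain ⟨b, hbV, hb1, hbh0⟩ := hS h a haV hh (by rw [← MulAut.conj_apply, hah])
  have hbh : MulAut.conj b h = h := conj_eq_iff.2 hbh0
  have hab : a ≠ b := by
    rintro rfl
    exact hh1 (odd_self_inv hh (hah.symm.trans hbh))
  have hcV : a * b ∈ V := V.mul_mem haV hbV
  have hV4 : ∀ u ∈ V, u = 1 ∨ u = a ∨ u = b ∨ u = a * b := by
    intro u hu
    by_contra hcon
    push Not at hcon
    obtain ⟨hu1, hua, hub, huab⟩ := hcon
    classical
    have hsub : ((({1, a, b, a * b, u} : Finset G) : Set G)) ⊆ (V : Set G) := by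
      intro x hx
      simp only [Finset.coe_insert, Finset.coe_singleton, Set.mem_insert_iff,
        Set.mem_singleton_iff] at hx
      rcases hx with rfl | rfl | rfl | rfl | rfl
      · exact V.one_mem
      all_goals assumption
    have hab1 : a * b ≠ 1 := by
      intro e
      apply hab
      have : a * b = b * b := by rw [e, hsq b hbV]
      exact mul_right_cancel this
    have hcard5 : ({1, a, b, a * b, u} : Finset G).card = 5 := by
      rw [Finset.card_insert_of_notMem, Finset.card_insert_of_notMem,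
        Finset.card_insert_of_notMem, Finset.card_insert_of_notMem, Finset.card_singleton]
      · simpa using huab.symm
      · simp [ha1, hub.symm]
      · simp [hab, hb1, hua.symm]
      · simp [ha1.symm, hb1.symm, hab1.symm, hu1.symm]
    have h5 := Set.ncard_le_ncard hsub (Set.toFinite _)
    rw [Set.ncard_coe_finset, hcard5] at h5
    have h6 : (V : Set G).ncard = Nat.card V := (Nat.card_coe_set_eq _).symm
    omega
  have hV4' : ∀ u ∈ V, u = 1 ∨ u = a * b ∨ u = b ∨ u = a * b * b := by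
    intro u hu
    rw [mul_assoc, hsq b hbV, mul_one]
    rcases hV4 u hu with h | h | h | h <;> tauto
  have hch : MulAut.conj (a * b) h = h⁻¹ := by rw [map_mul, MulAut.mul_apply, hbh, hah]
  have C1 := fun k hk hak => claim1 V hS haV hbV (hsq a haV) hV4 hh hh1 hah hbh (k := k) hk hak
  have C2 := fun k hk hck => claim1 V hS hcV hbV (hsq _ hcV) hV4' hh hh1 hch hbh (k := k) hk hck
  obtain ⟨k, hk1, hk, hbk⟩ := hBS b hbV hb1
  obtain ⟨w, hwV, hw1, hw0⟩ := hS k b hbV hk (by rw [← MulAut.conj_apply, hbk])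
  have hw : MulAut.conj w k = k := conj_eq_iff.2 hw0
  apply hk1
  rcases hV4 w hwV with e | e | e | e
  · exact absurd e hw1
  · rw [e] at hw
    have : MulAut.conj (a * b) k = k⁻¹ := by
      rw [map_mul, MulAut.mul_apply, hbk, map_inv, hw]
    exact odd_self_inv hk (hbk.symm.trans (C2 k hk this))
  · rw [e] at hw
    exact odd_self_inv hk (hbk.symm.trans hw)
  · rw [e] at hw
    have : MulAut.conj a k = k⁻¹ := by
      have e : a = (a * b) * b := by rw [mul_assoc, hsq b hbV, mul_one]
      rw [e, map_mul, MulAut.mul_apply, hbk, map_inv, hw]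
    exact odd_self_inv hk (hbk.symm.trans (C1 k hk this))

end Cfsg.Agent.S3011
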