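import Cfsg.Statements.S3060
import Cfsg.Agent.Lib.Helper5.DStar

set_option autoImplicit false
open Cfsg

namespace Cfsg.Agent.S3060

open Cfsg.Agent.Lib.Helper5 in
theorem main {G : Type*} [Group G] [Finite G] {p : ℕ} [Fact p.Prime]
    (hc : Subgroup.centralizer (Cfsg.pCore p G : Set G) ≤ Cfsg.pCore p G)
    (hst : ∀ (P : Subgroup G) [P.Normal], IsPGroup p P → Cfsg.IsPStableOn p P) (S : Sylow p G) :
    (sSup (dFam (S : Subgroup G))).Normal := by
  obtain ⟨D, hDdef⟩ : ∃ D, D = sSup (dFam (S : Subgroup G)) := ⟨_, rfl⟩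
  rw [← hDdef]
  have hD : D ∈ dFam (S : Subgroup G) := hDdef ▸ sSup_dFam_mem S.2
  have hDS : D ≤ (S : Subgroup G) := hD.1
  have hDc : IsMulCommutative D := hD.2.1
  have hSD : (S : Subgroup G) ≤ Subgroup.normalizer (D : Set G) := by
    intro s hs
    apply mem_normalizer_of_conj_le
    intro y hy
    have h1 := sSup_dFam_map_le (MulAut.conj s) (S : Subgroup G)
    rw [map_conj_eq_of_mem_normalizer (Subgroup.le_normalizer hs), ← hDdef] at h1
    exact h1 ⟨y, hy, rfl⟩
  have hDSc : ⁅D, (S : Subgroup G)⁆ ≤ D := commutator_le_of_le_normalizer hSD le_rfl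
  have hTS : ∀ g : G, Cfsg.pCore p G ≤ (S : Subgroup G).map (MulAut.conj g).toMonoidHom :=
    fun g => pCore_le_sylow (g • S)
  have hTS' : Cfsg.pCore p G ≤ (S : Subgroup G) := pCore_le_sylow S
  have hDT : D ≤ Cfsg.pCore p G := by
    intro a ha
    have hq : ⁅⁅Cfsg.pCore p G, Subgroup.zpowers a⁆, Subgroup.zpowers a⁆ = ⊥ := by
      have haZ : Subgroup.zpowers a ≤ D := Subgroup.zpowers_le.mpr ha
      rw [eq_bot_iff, ← comm_bot hDc]
      refine Subgroup.commutator_mono ?_ haZ
      rw [Subgroup.commutator_comm]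
      exact (Subgroup.commutator_mono haZ hTS').trans hDSc
    have h1 := hst (Cfsg.pCore p G) pCore_isPGroup a hq
    have h2 : (Cfsg.pCore p (G ⧸ Subgroup.centralizer (Cfsg.pCore p G : Set G))).comap
        (QuotientGroup.mk' (Subgroup.centralizer (Cfsg.pCore p G : Set G))) ≤ Cfsg.pCore p G := by
      apply le_pCore inferInstance
      apply IsPGroup.comap_of_ker_isPGroup pCore_isPGroup
      rw [QuotientGroup.ker_mk']
      exact pCore_isPGroup.to_le hc
    exact h2 h1
  have hconjT : ∀ g : G, D.map (MulAut.conj g).toMonoidHom ≤ Cfsg.pCore p G := by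
    rintro g _ ⟨d, hd, rfl⟩
    exact (inferInstance : (Cfsg.pCore p G).Normal).conj_mem d (hDT hd) g
  have hcomm : ∀ g : G, ∀ d ∈ D, ∀ d' ∈ D, (g * d' * g⁻¹) * d = d * (g * d' * g⁻¹) := by
    intro g d hd d' hd'
    have h1 : D.map (MulAut.conj g).toMonoidHom ∈ dFam (Cfsg.pCore p G) :=
      dFam_of_le (dFam_map (MulAut.conj g) hD) (hconjT g) (hTS g)
    have h2 := dFam_centralizes pCore_isPGroup h1 hDT hDc _ D le_rfl (hTS'.trans hSD) rfl
    exact (h2 ⟨d', hd', rfl⟩ d hd).symm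
  obtain ⟨B, hB⟩ : ∃ B, B = Subgroup.normalClosure (D : Set G) := ⟨_, rfl⟩
  haveI hBn : B.Normal := hB ▸ Subgroup.normalClosure_normal
  have hDB : D ≤ B := hB ▸ Subgroup.le_normalClosure
  have hBT : B ≤ Cfsg.pCore p G := hB ▸ Subgroup.normalClosure_le_normal (fun x hx => hDT hx)
  have hBc : IsMulCommutative B := by
    rw [hB]
    apply Subgroup.isMulCommutative_closure
    intro y hy z hz
    obtain ⟨a, ha, hay⟩ := Group.mem_conjugatesOfSet_iff.mp hy
    obtain ⟨c, rfl⟩ := isConj_iff.mp hay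
    obtain ⟨a', ha', haz⟩ := Group.mem_conjugatesOfSet_iff.mp hz
    obtain ⟨c', rfl⟩ := isConj_iff.mp haz
    have h1 := hcomm (c⁻¹ * c') a ha a' ha'
    calc c * a * c⁻¹ * (c' * a' * c'⁻¹) = c * (a * ((c⁻¹ * c') * a' * (c⁻¹ * c')⁻¹)) * c⁻¹ := by
          group
      _ = c * (((c⁻¹ * c') * a' * (c⁻¹ * c')⁻¹) * a) * c⁻¹ := by rw [h1]
      _ = _ := by group
  have hBmem : B ∈ dFam (S : Subgroup G) := by
    refine ⟨hBT.trans hTS', hBc, ?_⟩
    intro x hx hcl
    have hq : ⁅⁅B, Subgroup.zpowers x⁆, Subgroup.zpowers x⁆ = ⊥ := by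
      rw [eq_bot_iff, ← hcl]
      exact Subgroup.commutator_mono (Subgroup.commutator_mono le_sup_left le_sup_right)
        le_sup_right
    have hxL := hst B (pCore_isPGroup.to_le hBT) x hq
    obtain ⟨f1, f2⟩ := stab_preimage_facts (Subgroup.centralizer (B : Set G)) S
    obtain ⟨L, hL⟩ : ∃ L, L = (Cfsg.pCore p (G ⧸ Subgroup.centralizer (B : Set G))).comap
      (QuotientGroup.mk' (Subgroup.centralizer (B : Set G))) := ⟨_, rfl⟩
    rw [← hL] at f1 f2
    have hxR : x ∈ (S : Subgroup G) ⊓ L := Subgroup.mem_inf.mpr ⟨hx, by rw [hL]; exact hxL⟩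
    have htop : Subgroup.normalizer ((((S : Subgroup G) ⊓ L : Subgroup G)) : Set G) ⊔
        Subgroup.centralizer (B : Set G) = ⊤ := by
      rw [eq_top_iff, ← f2]
      exact sup_le le_sup_left (f1.trans (sup_le le_sup_right
        (Subgroup.le_normalizer.trans le_sup_left)))
    have hgen : ∀ g : G, ∀ d ∈ D, (g * d * g⁻¹) * x = x * (g * d * g⁻¹) := by
      intro g d hd
      have hg : g ∈ Subgroup.normalizer ((((S : Subgroup G) ⊓ L : Subgroup G)) : Set G) ⊔
        Subgroup.centralizer (B : Set G) := by rw [htop]; trivial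
      obtain ⟨n, hn, c, hcC, rfl⟩ := Subgroup.mem_sup_of_normal_right.mp hg
      have hcd : d * c = c * d := hcC d (hDB hd)
      have hx' : n⁻¹ * x * n⁻¹⁻¹ ∈ (S : Subgroup G) ⊓ L :=
        (Subgroup.mem_normalizer_iff.mp (inv_mem hn) x).mp hxR
      have hle : D ⊔ Subgroup.zpowers (n⁻¹ * x * n⁻¹⁻¹) ≤
          (B ⊔ Subgroup.zpowers x).map (MulAut.conj n⁻¹).toMonoidHom := by
        apply sup_le
        · intro y hy
          refine ⟨n * y * n⁻¹, Subgroup.mem_sup_left (hBn.conj_mem y (hDB hy) n), ?_⟩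
          simp [mul_assoc]
        · rw [Subgroup.zpowers_le]
          exact ⟨x, Subgroup.mem_sup_right (Subgroup.mem_zpowers x), rfl⟩
      have hcl' : ⁅⁅D ⊔ Subgroup.zpowers (n⁻¹ * x * n⁻¹⁻¹), D ⊔ Subgroup.zpowers (n⁻¹ * x * n⁻¹⁻¹)⁆,
          D ⊔ Subgroup.zpowers (n⁻¹ * x * n⁻¹⁻¹)⁆ = ⊥ := by
        rw [eq_bot_iff]
        refine (Subgroup.commutator_mono (Subgroup.commutator_mono hle hle) hle).trans ?_
        rw [← Subgroup.map_commutator, ← Subgroup.map_commutator, hcl, Subgroup.map_bot]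
      have h3 := hD.2.2 _ (Subgroup.mem_inf.mp hx').1 hcl' d hd
      calc n * c * d * (n * c)⁻¹ * x = n * ((c * d) * c⁻¹) * n⁻¹ * x := by group
        _ = n * ((d * c) * c⁻¹) * n⁻¹ * x := by rw [hcd]
        _ = n * (d * (n⁻¹ * x * n⁻¹⁻¹)) * n⁻¹ := by group
        _ = n * ((n⁻¹ * x * n⁻¹⁻¹) * d) * n⁻¹ := by rw [h3]
        _ = x * (n * ((d * c) * c⁻¹) * n⁻¹) := by group
        _ = x * (n * ((c * d) * c⁻¹) * n⁻¹) := by rw [hcd]
        _ = _ := by group
    have hBx : B ≤ Subgroup.centralizer ({x} : Set G) := by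
      rw [hB, Subgroup.normalClosure, Subgroup.closure_le]
      intro y hy
      obtain ⟨a, ha, hay⟩ := Group.mem_conjugatesOfSet_iff.mp hy
      obtain ⟨c, rfl⟩ := isConj_iff.mp hay
      show _ ∈ Subgroup.centralizer ({x} : Set G)
      rw [Subgroup.mem_centralizer_iff]
      intro z hz
      rw [Set.mem_singleton_iff.mp hz]
      exact (hgen c a ha).symm
    intro b hb
    exact ((hBx hb) x rfl).symm
  have : D = B := le_antisymm hDB (hDdef ▸ le_sSup hBmem)
  rw [this]; exact hBn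

/-- The D*-Theorem. For a finite p-group S let D*(S) be the subgroup generated by the abelian subgroups A of S such that every x ∈ S with ⟨A, x⟩ of nilpotency class at most two centralizes A. Let p be an odd prime and H a finite p-stable group with Sylow p-subgroup S. Here H is p-stable in the following sense: the largest normal p-subgroup O_p(H) contains its centralizer in H, and for every normal p-subgroup P of H, every element acting quadratically on P has image in O_p(H/C_H(P)). Then D*(S) is a normal subgroup of H. -/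
theorem result {G : Type*} [Group G] [Finite G] {p : ℕ} [Fact p.Prime] (hp : p ≠ 2)
    (hc : Subgroup.centralizer (Cfsg.pCore p G : Set G) ≤ Cfsg.pCore p G)
    (hst : ∀ (P : Subgroup G) [P.Normal], IsPGroup p P → Cfsg.IsPStableOn p P) (S : Sylow p G) :
    (Cfsg.dStarOf (S : Subgroup G)).Normal := by
  rw [Cfsg.Agent.Lib.Helper5.dStarOf_eq]
  exact main hc hst S

end Cfsg.Agent.S3060
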