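import Cfsg.Statements.S3062
import Cfsg.Agent.Lib.Helper5.DStar
import Cfsg.Agent.S0647

set_option autoImplicit false
open Cfsg

namespace Cfsg.Agent.S3062

/-- Let S be a finite p-group, J(S) the subgroup generated by the abelian subgroups of S of largest order and Z(J(S)) its centre. Then Z(S) ≤ D*(S) ≤ Z(J(S)), and every maximal normal abelian subgroup of S contains D*(S). -/
theorem result {S : Type*} [Group S] [Finite S] {p : ℕ} [Fact p.Prime]
    (hS : IsPGroup p S) :
    Subgroup.center S ≤ Cfsg.dStar S ∧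
    Cfsg.dStar S ≤ Cfsg.thompsonSubgroupA S ⊓ Subgroup.centralizer (Cfsg.thompsonSubgroupA S : Set S) ∧
    ∀ A : Subgroup S, A.Normal → IsMulCommutative A →
      (∀ B : Subgroup S, B.Normal → IsMulCommutative B → A ≤ B → B = A) → Cfsg.dStar S ≤ A := by
  have hD : Cfsg.dStar S ∈ Cfsg.Agent.Lib.Helper5.dFam (⊤ : Subgroup S) := by
    show sSup (Cfsg.dStarFamily S) ∈ _
    rw [← Cfsg.Agent.Lib.Helper5.dFam_top]
    exact Cfsg.Agent.Lib.Helper5.sSup_dFam_mem (hS.to_subgroup ⊤)
  have hDc : IsMulCommutative (Cfsg.dStar S) := hD.2.1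
  have hDn : (Cfsg.dStar S).Normal := by
    constructor
    intro n hn g
    have h1 := Cfsg.Agent.Lib.Helper5.sSup_dFam_map_le (MulAut.conj g) (⊤ : Subgroup S)
    rw [Subgroup.map_top_of_surjective _ (MulAut.conj g).surjective,
      Cfsg.Agent.Lib.Helper5.dFam_top] at h1
    exact h1 ⟨n, hn, rfl⟩
  refine ⟨?_, ?_, ?_⟩
  · apply le_sSup
    exact ⟨inferInstance, fun x _ a ha => (Subgroup.mem_center_iff.mp ha x).symm⟩
  · have h647 := (Cfsg.Agent.S0647.result (Cfsg.maxAbelianSubgroups S)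
      Cfsg.Agent.Lib.Helper5.maxAb_nonempty (fun A hA => hA.1) (fun A hA B hB hAB =>
        (Subgroup.eq_of_le_of_card_ge hAB (hA.2 B hB)).symm)).1
    show _ ≤ sSup (Cfsg.maxAbelianSubgroups S) ⊓
      Subgroup.centralizer ((sSup (Cfsg.maxAbelianSubgroups S) : Subgroup S) : Set S)
    rw [← h647]
    by_contra hcon
    have hne : {A | A ∈ Cfsg.maxAbelianSubgroups S ∧ ¬ Cfsg.dStar S ≤ A}.Nonempty := by
      by_contra hemp
      apply hcon
      apply le_sInf
      intro A hA
      by_contra hDA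
      exact hemp ⟨A, hA, hDA⟩
    obtain ⟨A, ⟨hA, hDA⟩, hmax⟩ := Set.exists_max_image _
      (fun U : Subgroup S => Nat.card ↥(U ⊓ Cfsg.dStar S)) (Set.toFinite _) hne
    have hAc := hA.1
    by_cases hDN : Cfsg.dStar S ≤ Subgroup.normalizer (A : Set S)
    · apply hDA
      have h1 : Cfsg.dStar S ≤ Subgroup.centralizer (A : Set S) := by
        intro d hd
        rw [Subgroup.mem_centralizer_iff]
        intro x hx
        refine (hD.2.2 x trivial ?_ d hd).symm
        apply Cfsg.Agent.Lib.Helper5.class2_of hDc (A ⊓ Cfsg.dStar S)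
        · intro y hy
          rw [Subgroup.mem_centralizer_iff]
          intro z hz
          exact setLike_mul_comm (Subgroup.mem_inf.mp hz).2 hy
        · rw [Subgroup.mem_centralizer_iff]
          intro z hz
          exact setLike_mul_comm (Subgroup.mem_inf.mp hz).1 hx
        · intro a ha
          refine Subgroup.mem_inf.mpr ⟨?_, ?_⟩
          · exact mul_mem ((Subgroup.mem_normalizer_iff.mp (hDN ha) x).mp hx) (inv_mem hx)
          · have e : a * x * a⁻¹ * x⁻¹ = a * (x * a⁻¹ * x⁻¹) := by group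
            rw [e]
            exact mul_mem ha (hDn.conj_mem _ (inv_mem ha) x)
      have h2 := hA.2 _ (Cfsg.Agent.Lib.Helper5.comm_sup hAc hDc h1)
      have h3 : A = A ⊔ Cfsg.dStar S := Subgroup.eq_of_le_of_card_ge le_sup_left h2
      rw [h3]; exact le_sup_right
    · have hBA : ⁅Cfsg.dStar S, Cfsg.dStar S⁆ ≤ A := by
        rw [Cfsg.Agent.Lib.Helper5.comm_bot hDc]; exact bot_le
      obtain ⟨b, hb, hbN, hbA⟩ := Cfsg.Agent.S0649.result hS (Cfsg.dStar S) (fun _ => hDc) A hAc
        hBA hDN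
      obtain ⟨h1, h2, -, h4, h5, -⟩ :=
        Cfsg.Agent.S0650.main hS (Cfsg.dStar S) (fun _ => hDc) A hAc hBA b hb hbN hbA _ _ _
          rfl rfl rfl
      have h6 := hmax _ ⟨⟨h2, fun C hC => h1 ▸ hA.2 C hC⟩, fun h => h5.ne (inf_eq_right.mpr h)⟩
      exact absurd (Cfsg.Agent.Lib.Helper5.card_lt_of_lt h4) (not_lt.mpr h6)
  · intro A hAn hAc hmax
    show sSup (Cfsg.dStarFamily S) ≤ A
    rw [← Cfsg.Agent.Lib.Helper5.dFam_top]
    apply Cfsg.Agent.Lib.Helper5.dFam_le_of_max (hS.to_subgroup ⊤) le_top hAc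
      Subgroup.le_normalizer_of_normal
    intro B' _ hB'c hB'n hAB'
    exact hmax B' (Subgroup.normalizer_eq_top_iff.mp (top_le_iff.mp hB'n)) hB'c hAB'

end Cfsg.Agent.S3062
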