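import Cfsg.Statements.S3071
import Cfsg.Agent.Lib.Helper5.FC1
import Cfsg.Agent.Lib.Helper5.QD10
import Cfsg.Agent.Lib.Helper13.Centric

set_option autoImplicit false
open Cfsg

namespace Cfsg.Agent.S3071

open Cfsg.Agent.Lib.Helper5 Cfsg.Agent.Lib.Helper13 in
theorem zjA_normal_of_qFree {p : ℕ} [Fact p.Prime] (hp : p ≠ 2) (Z : Type*) [Group Z] [Finite Z]
    (hQ : QFree p Z) (hC : Constr p Z) (T : Sylow p Z) :
    (Cfsg.inducedFunctor (G := Z) zjA (T : Subgroup Z)).Normal := by
  rw [iF_zjA, centerThompsonAOf_eq]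
  exact zj_normal hp _ (fun _ h => h) inferInstance (fun σ A hA => comm_map _ hA)
    (fun _ _ _ hT _ => hT) hC T (fun V _ hV a _ hq => hQ.stable V hV a hq)


/-- Let p be an odd prime and S a Sylow p-subgroup of the finite group G such that, for every subgroup P with Z(S) ≤ P ≤ S, the normalizer N_G(P) has no section isomorphic to SL₂(p). Let J(S) be the subgroup generated by the abelian subgroups of S of largest order. Then two elements of S are conjugate in G if and only if they are conjugate in N_G(Z(J(S))). -/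
theorem result {G : Type*} [Group G] [Finite G] {p : ℕ} [Fact p.Prime]
    (hp : p ≠ 2) (S : Sylow p G)
    (hfree : ∀ P : Subgroup G, (S : Subgroup G) ⊓ Subgroup.centralizer ((S : Subgroup G) : Set G) ≤ P → P ≤ S →
      ¬ ∃ (H K : Subgroup G) (hK : (K.subgroupOf H).Normal), H ≤ Subgroup.normalizer (P : Set G) ∧
        Nonempty ((H ⧸ K.subgroupOf H) ≃* Matrix.SpecialLinearGroup (Fin 2) (ZMod p))) :
    ∀ x ∈ S, ∀ y ∈ S, (∃ g : G, g * x * g⁻¹ = y) ↔
      ∃ n ∈ Subgroup.normalizer (Cfsg.centerThompsonAOf (S : Subgroup G) : Set G), n * x * n⁻¹ = y := by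
  open Cfsg.Agent.Lib.Helper5 Cfsg.Agent.Lib.Helper13 in
  intro x hx y hy
  refine ⟨?_, fun ⟨n, _, hn⟩ => ⟨n, hn⟩⟩
  rintro ⟨g, hg⟩
  obtain ⟨W, hWdef⟩ : ∃ W : Subgroup G → Subgroup G, W = Cfsg.inducedFunctor (G := G) zjA := ⟨_, rfl⟩
  have hW : Cfsg.IsConjugacyFunctor p W := by
    rw [hWdef]; exact induced_isConjugacyFunctor zjA_char
  have hWZ : ∀ R : Subgroup G, R ⊓ Subgroup.centralizer (R : Set G) ≤ W R := by
    intro R z hz
    rw [hWdef]
    refine ⟨⟨z, hz.1⟩, center_le_zjA ?_, rfl⟩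
    rw [Subgroup.mem_center_iff]
    intro r
    exact Subtype.ext ((Subgroup.mem_centralizer_iff.mp hz.2) r r.2)
  have main := central_local_to_global S
    (fun A g => A ≤ (S : Subgroup G) ∧ cj A g ≤ (S : Subgroup G) ∧ FGood {W} ⊤ (S : Subgroup G) A g)
    (fun R x => x ∈ Subgroup.normalizer ((W R : Subgroup G) : Set G))
    (fun A B g hB h => ⟨hB.trans h.1, (cj_mono hB g).trans h.2.1, h.2.2.mono hB⟩)
    (fun A g h h1 h2 => ⟨h1.1, by rw [← cj_cj]; exact h2.2.1, h1.2.2.trans h2.2.2⟩)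
    (fun A g h => ⟨h.2.1, by rw [cj_inv_cj]; exact h.1, h.2.2.inv h.2.1⟩)
    (fun A g h e hg => ⟨hg.1, by rw [← cj_congr e]; exact hg.2.1, hg.2.2.congr e⟩)
    (fun x hx B hB hBx => ⟨hB, hBx, FGood.step rfl (Subgroup.mem_inf.mpr ⟨Subgroup.mem_top _, hx⟩) hB⟩)
    (by
      intro R hlt hZ x hx
      have hR : IsPGroup p R := S.2.to_le hlt.le
      have hZR : (S : Subgroup G) ⊓ Subgroup.centralizer ((S : Subgroup G) : Set G) ≤
          R ⊓ Subgroup.centralizer (R : Set G) :=
        le_inf hZ (inf_le_right.trans (Subgroup.centralizer_le hlt.le))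
      right
      exact ⟨W R, (functor_le hW hR).trans hlt.le, hZR.trans (hWZ R), hx,
          lt_of_lt_of_le (lt_inf_normalizer S.2 hlt)
            (inf_le_inf_left _ (normalizer_le_normalizer_functor hW hR))⟩)
    (by
      rintro U hUP hFN ⟨k, hZ, hle⟩ hyp x hx B hB hBx
      have hQ' : QFree p ↥(Subgroup.normalizer ((cj U k : Subgroup G) : Set G)) :=
        qFree_of_no_section hp _ (hfree (cj U k) hZ hle)
      have hQN : QFree p ↥(Subgroup.normalizer (U : Set G)) := by
        let e1 : ↥(Subgroup.normalizer (U : Set G)) ≃* ↥(cj (Subgroup.normalizer (U : Set G)) k) :=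
          Subgroup.equivMapOfInjective _ _ (MulAut.conj k⁻¹).injective
        let e2 : ↥(cj (Subgroup.normalizer (U : Set G)) k) ≃*
            ↥(Subgroup.normalizer ((cj U k : Subgroup G) : Set G)) :=
          MulEquiv.subgroupCongr (cj_normalizer U k)
        exact hQ'.of_surjective (e1.trans e2).symm.toMonoidHom (e1.trans e2).symm.surjective
      have hFC := FC_of_qFree zjA_char (zjA_normal_of_qFree hp) hQN
      have h𝓦 : ∀ W' ∈ ({zjA} : Set (∀ (Q : Type _) [Group Q], Subgroup Q)),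
          Cfsg.IsCharPFunctor p W' := by rintro _ rfl; exact zjA_char
      have h1 := FCSF_of_familyControls (ind_isConjugacyFunctor h𝓦) (FC.subgroup h𝓦 hFC)
        (inf_le_right : (S : Subgroup G) ⊓ Subgroup.normalizer (U : Set G) ≤ _)
        (S.2.to_le inf_le_left) hFN
      obtain ⟨g', c1, e1⟩ := h1 B hB x hx hBx
      have hBg' : cj B g' ≤ (S : Subgroup G) ⊓ Subgroup.normalizer (U : Set G) := by
        rw [cj_congr e1]; exact hBx
      have h2 := Chain.good (T := (S : Subgroup G) ⊓ Subgroup.normalizer (U : Set G))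
        (fun A g => A ≤ (S : Subgroup G) ∧ cj A g ≤ (S : Subgroup G) ∧
          FGood {W} ⊤ (S : Subgroup G) A g)
        (fun A g h h1 h2 => ⟨h1.1, by rw [← cj_cj]; exact h2.2.1, h1.2.2.trans h2.2.2⟩)
        (fun A hA => ⟨hA.trans inf_le_left, by rw [cj_one]; exact hA.trans inf_le_left,
          FGood.one _ _ _ _⟩)
        (fun t x' hx' A hA hAx => hyp x' (by
          obtain ⟨ht, hx''⟩ := hx'
          obtain ⟨W', hW', rfl⟩ := ht
          rw [Set.mem_singleton_iff] at hW'
          subst hW'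
          rw [hWdef]
          exact (Subgroup.mem_inf.mp hx'').2) A hA hAx) c1 hBg'
      exact ⟨h2.1, by rw [← cj_congr e1]; exact h2.2.1, h2.2.2.congr e1⟩)
  have hF : FCSF {W} ⊤ (S : Subgroup G) := fun B hB g _ hBg => (main B hB g hBg).2.2
  have hC := CSF_iff_FCSF.mpr hF
  have hBk : cj (Subgroup.closure {x}) g⁻¹ ≤ S :=
    cj_closure_le_of_image_subset (by
      rintro _ ⟨a, rfl, rfl⟩
      simpa [hg] using hy)
  obtain ⟨n, hn, e⟩ := hC (Subgroup.closure {x}) ((Subgroup.closure_le _).mpr (by simpa using hx)) g⁻¹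
    (Subgroup.mem_top _) hBk
  refine ⟨n⁻¹, inv_mem ?_, ?_⟩
  · have := (Subgroup.mem_inf.mp hn).2
    rwa [hWdef, iF_zjA] at this
  · have := e x (Subgroup.subset_closure rfl)
    simpa [hg] using this

end Cfsg.Agent.S3071
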