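import Cfsg.Statements.S3078
import Cfsg.Agent.Lib.Helper5.Glaub3
import Cfsg.Agent.Lib.Helper5.Omega

set_option autoImplicit false
open Cfsg

namespace Cfsg.Agent.S3078

open Cfsg.Agent.Lib.Helper5 in
theorem main2 {S : Type*} [Group S] [Finite S] {p : ℕ} [Fact p.Prime] (hS : IsPGroup p S)
    (B : Subgroup S) [B.Normal] (hB2 : p = 2 → IsMulCommutative B) (A : Subgroup S)
    (hA : IsMulCommutative A) (hBA : ⁅B, B⁆ ≤ A)
    (b : S) (hb : b ∈ B)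
    (hbN : b ∈ Subgroup.normalizer ((Subgroup.normalizer (A : Set S)) : Set S))
    (hbA : b ∉ Subgroup.normalizer (A : Set S))
    (Z X T : Subgroup S) (hZ : Z = A ⊓ A.map (MulAut.conj (b⁻¹)).toMonoidHom)
    (hX : X = Subgroup.closure {g : S | ∃ a ∈ A, g = a * b⁻¹ * a⁻¹ * b})
    (hT : T = Z ⊔ X) :
    p ≠ 2 → Nat.card (Cfsg.omegaOne p A) ≤ Nat.card (Cfsg.omegaOne p T) := by
  obtain ⟨A₁, hA₁⟩ : ∃ A₁, A₁ = A.map (MulAut.conj (b⁻¹)).toMonoidHom := ⟨_, rfl⟩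
  rw [← hA₁] at hZ
  obtain ⟨N, hN⟩ : ∃ N, N = Subgroup.normalizer (A : Set S) := ⟨_, rfl⟩
  rw [← hN] at hbN hbA
  have hAN : A ≤ N := hN ▸ Subgroup.le_normalizer
  have memA₁ : ∀ a ∈ A, b⁻¹ * a * b ∈ A₁ := by
    intro a ha
    rw [hA₁]
    exact ⟨a, ha, by simp⟩
  have exA₁ : ∀ x ∈ A₁, ∃ a ∈ A, x = b⁻¹ * a * b := by
    intro x hx
    rw [hA₁] at hx
    obtain ⟨a, ha, rfl⟩ := hx
    exact ⟨a, ha, by simp⟩
  have conjNA : ∀ n ∈ N, ∀ a ∈ A, n * a * n⁻¹ ∈ A := by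
    intro n hn a ha
    rw [hN] at hn
    exact (Subgroup.mem_normalizer_iff.mp hn a).mp ha
  have conjbN : ∀ n ∈ N, b * n * b⁻¹ ∈ N := fun n hn =>
    (Subgroup.mem_normalizer_iff.mp hbN n).mp hn
  have conjbN' : ∀ n ∈ N, b⁻¹ * n * b ∈ N := by
    intro n hn
    have := (Subgroup.mem_normalizer_iff.mp (inv_mem hbN) n).mp hn
    rwa [inv_inv] at this
  have hA₁N : A₁ ≤ N := by
    intro x hx
    obtain ⟨a, ha, rfl⟩ := exA₁ x hx
    exact conjbN' a (hAN ha)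
  have conjNA₁ : ∀ n ∈ N, ∀ x ∈ A₁, n * x * n⁻¹ ∈ A₁ := by
    intro n hn x hx
    obtain ⟨a, ha, rfl⟩ := exA₁ x hx
    have e : n * (b⁻¹ * a * b) * n⁻¹ = b⁻¹ * ((b * n * b⁻¹) * a * (b * n * b⁻¹)⁻¹) * b := by group
    rw [e]
    exact memA₁ _ (conjNA _ (conjbN n hn) a ha)
  have commA : ∀ x ∈ A, ∀ y ∈ A, x * y = y * x := fun x hx y hy => setLike_mul_comm hx hy
  have commA₁ : ∀ x ∈ A₁, ∀ y ∈ A₁, x * y = y * x := by
    intro x hx y hy
    obtain ⟨a, ha, rfl⟩ := exA₁ x hx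
    obtain ⟨a', ha', rfl⟩ := exA₁ y hy
    calc b⁻¹ * a * b * (b⁻¹ * a' * b) = b⁻¹ * (a * a') * b := by group
      _ = b⁻¹ * (a' * a) * b := by rw [commA a ha a' ha']
      _ = _ := by group
  have hZA : Z ≤ A := hZ ▸ inf_le_left
  have hZA₁ : Z ≤ A₁ := hZ ▸ inf_le_right
  have memZ : ∀ x, x ∈ A → x ∈ A₁ → x ∈ Z := fun x h1 h2 => by
    rw [hZ]; exact Subgroup.mem_inf.mpr ⟨h1, h2⟩
  have hBBn : ∀ x ∈ B, ∀ y ∈ B, x * y * x⁻¹ * y⁻¹ ∈ A := fun x hx y hy =>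
    hBA (Subgroup.commutator_mem_commutator hx hy)
  have conjB : ∀ s : S, ∀ x ∈ B, s * x * s⁻¹ ∈ B := fun s x hx =>
    (inferInstance : B.Normal).conj_mem x hx s
  have conjAB : ∀ w ∈ A, w ∈ B → ∀ y ∈ B, y * w * y⁻¹ ∈ A := by
    intro w hwA hwB y hy
    have e : y * w * y⁻¹ = (y * w * y⁻¹ * w⁻¹) * w := by group
    rw [e]
    exact mul_mem (hBBn y hy w hwB) hwA
  have hABZ : ∀ w ∈ A, w ∈ B → w ∈ Z := by
    intro w hwA hwB
    refine memZ w hwA ?_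
    have e : w = b⁻¹ * (b * w * b⁻¹) * b := by group
    rw [e]
    exact memA₁ _ (conjAB w hwA hwB b hb)
  have conjbZ : ∀ z ∈ Z, b⁻¹ * z * b ∈ Z := by
    intro z hz
    refine memZ _ ?_ (memA₁ z (hZA hz))
    obtain ⟨a, ha, hza⟩ := exA₁ z (hZA₁ hz)
    have hwA : a⁻¹ * z ∈ A := mul_mem (inv_mem ha) (hZA hz)
    have hwB : a⁻¹ * z ∈ B := by
      have e : a⁻¹ * z = (a⁻¹ * b⁻¹ * a⁻¹⁻¹) * b := by rw [hza]; group
      rw [e]
      exact mul_mem (conjB _ _ (inv_mem hb)) hb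
    have e : b⁻¹ * z * b = z * (b⁻¹ * (a⁻¹ * z) * b⁻¹⁻¹) := by
      rw [hza]; group
    rw [e]
    exact mul_mem (hZA hz) (conjAB _ hwA hwB _ (inv_mem hb))
  have zcA : ∀ z ∈ Z, ∀ a ∈ A, z * a = a * z := fun z hz a ha => commA z (hZA hz) a ha
  have zcA₁ : ∀ z ∈ Z, ∀ x ∈ A₁, z * x = x * z := fun z hz x hx => commA₁ z (hZA₁ hz) x hx
  have commZ : ∀ a ∈ A, ∀ x ∈ A₁, x * a * x⁻¹ * a⁻¹ ∈ Z := by
    intro a ha x hx
    refine memZ _ (mul_mem (conjNA x (hA₁N hx) a ha) (inv_mem ha)) ?_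
    have e : x * a * x⁻¹ * a⁻¹ = x * (a * x⁻¹ * a⁻¹) := by group
    rw [e]
    exact mul_mem hx (conjNA₁ a (hAN ha) _ (inv_mem hx))
  obtain ⟨φ, hφ⟩ : ∃ φ : S → S, ∀ a, φ a = a * b⁻¹ * a⁻¹ * b := ⟨_, fun _ => rfl⟩
  have hφ' : ∀ a, φ a = a * (b⁻¹ * a⁻¹ * b) := fun a => by rw [hφ]; group
  have φX : ∀ a ∈ A, φ a ∈ X := fun a ha => by
    rw [hX]; exact Subgroup.subset_closure ⟨a, ha, hφ a⟩
  have φB : ∀ a, φ a ∈ B := fun a => by
    rw [hφ]; exact mul_mem (conjB a _ (inv_mem hb)) hb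
  have φN : ∀ a ∈ A, φ a ∈ N := fun a ha => by
    rw [hφ']; exact mul_mem (hAN ha) (hA₁N (memA₁ _ (inv_mem ha)))
  have zcφ : ∀ z ∈ Z, ∀ a ∈ A, z * φ a = φ a * z := by
    intro z hz a ha
    rw [hφ', ← mul_assoc, zcA z hz a ha, mul_assoc, zcA₁ z hz _ (memA₁ _ (inv_mem ha)), ← mul_assoc]
  have φmul : ∀ a ∈ A, ∀ a' ∈ A, ∃ ζ ∈ Z, φ a * φ a' = ζ * φ (a * a') := by
    intro a ha a' ha'
    have h1 := memA₁ _ (inv_mem ha)
    have h2 := memA₁ _ (inv_mem ha')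
    have hζ := commZ a' ha' _ h1
    refine ⟨_, hζ, ?_⟩
    have e2 : φ (a * a') = a * (a' * ((b⁻¹ * a'⁻¹ * b) * (b⁻¹ * a⁻¹ * b))) := by rw [hφ]; group
    rw [e2, commA₁ _ h2 _ h1, ← mul_assoc, zcA _ hζ a ha, hφ', hφ']
    group
  have φone : φ 1 = 1 := by rw [hφ]; group
  have φZ : ∀ a ∈ A, (φ a ∈ Z ↔ a ∈ Z) := by
    intro a ha
    constructor
    · intro h
      refine memZ a ha ?_
      have e : a = φ a * (b⁻¹ * a⁻¹ * b)⁻¹ := by rw [hφ']; group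
      rw [e]
      exact mul_mem (hZA₁ h) (inv_mem (memA₁ _ (inv_mem ha)))
    · intro h
      rw [hφ']
      exact mul_mem h (conjbZ _ (inv_mem h))
  have P1 : ∀ a ∈ A, ∀ a' ∈ A, ((φ a)⁻¹ * φ a' ∈ Z ↔ a⁻¹ * a' ∈ Z) := by
    intro a ha a' ha'
    obtain ⟨ζ, hζ, h⟩ := φmul a ha (a⁻¹ * a') (mul_mem (inv_mem ha) ha')
    rw [mul_inv_cancel_left] at h
    have e : (φ a)⁻¹ * φ a' = ζ⁻¹ * φ (a⁻¹ * a') := by
      have h3 : φ a' = ζ⁻¹ * (φ a * φ (a⁻¹ * a')) := by rw [h]; group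
      rw [h3, ← mul_assoc ζ⁻¹, zcφ _ (inv_mem hζ) a ha]
      group
    rw [e, Subgroup.mul_mem_cancel_left Z (inv_mem hζ)]
    exact φZ _ (mul_mem (inv_mem ha) ha')
  have hZT : Z ≤ T := hT ▸ le_sup_left
  have hXT : X ≤ T := hT ▸ le_sup_right
  intro hp
  have hch : p ∣ p.choose 2 := by
    obtain ⟨k, hk⟩ := (Fact.out : p.Prime).odd_of_ne_two hp
    have e : p.choose 2 = p * k := by
      rw [Nat.choose_two_right]
      conv_lhs => rw [hk]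
      rw [Nat.add_sub_cancel, mul_comm (2 * k + 1), mul_assoc,
        Nat.mul_div_cancel_left _ (by norm_num : 0 < 2), mul_comm, ← hk]
    rw [e]; exact Dvd.intro _ rfl
  have hφp : ∀ a ∈ A, a ^ p = 1 → (φ a) ^ p = 1 := by
    intro a ha hap
    rw [hφ']
    have h1 := memA₁ _ (inv_mem ha)
    have hw := commZ a ha _ h1
    rw [Cfsg.Agent.S0650.mul_pow_class2 (w := (b⁻¹ * a⁻¹ * b) * a * (b⁻¹ * a⁻¹ * b)⁻¹ * a⁻¹)
      (by group) (zcA _ hw a ha) (zcA₁ _ hw _ h1), hap]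
    obtain ⟨k, hk⟩ := hch
    have h3 : (b⁻¹ * a⁻¹ * b) ^ p = 1 := by
      have : (b⁻¹ * a⁻¹ * b) ^ p = b⁻¹ * (a⁻¹) ^ p * b := by
        have := conj_pow (a := b⁻¹) (b := a⁻¹) (i := p)
        rw [inv_inv] at this
        exact this
      rw [this, inv_pow, hap]; group
    have h4 : ((b⁻¹ * a⁻¹ * b) * a * (b⁻¹ * a⁻¹ * b)⁻¹ * a⁻¹) ^ p = 1 := by
      have hc1 : (b⁻¹ * a⁻¹ * b) * a * (b⁻¹ * a⁻¹ * b)⁻¹ ∈ A := conjNA _ (hA₁N h1) a ha
      have hc2 : Commute ((b⁻¹ * a⁻¹ * b) * a * (b⁻¹ * a⁻¹ * b)⁻¹) a⁻¹ :=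
        commA _ hc1 _ (inv_mem ha)
      rw [hc2.mul_pow, conj_pow, hap, inv_pow, hap]; group
    rw [h3, hk, pow_mul, h4]
    simp
  have hAel := elemAb_omegaOne (p := p) hA
  have key : Nat.card (Cfsg.omegaOne p A) * Nat.card (Cfsg.omegaOne p Z) ≤
      Nat.card (Cfsg.omegaOne p Z) * Nat.card (Cfsg.omegaOne p T) := by
    apply card_mul_le_of_inj (omegaOne_mono hZA) (omegaOne_mono hZT) φ
    · intro a ha
      exact mem_omegaOne (hXT (φX a (omegaOne_le A ha))) (hφp a (omegaOne_le A ha) (hAel.2 a ha))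
    · intro a ha a' ha' h
      have h1 := (P1 a (omegaOne_le A ha) a' (omegaOne_le A ha')).mp (omegaOne_le Z h)
      exact mem_omegaOne h1 (hAel.2 _ (mul_mem (inv_mem ha) ha'))
  have hpos : 0 < Nat.card (Cfsg.omegaOne p Z) := Nat.card_pos
  nlinarith

theorem omegaOne_map_inj {G H : Type*} [Group G] [Group H] {p : ℕ} (f : G →* H)
    (hf : Function.Injective f) (K : Subgroup G) :
    (Cfsg.omegaOne p K).map f = Cfsg.omegaOne p (K.map f) := by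
  apply le_antisymm (Cfsg.Agent.Lib.Helper5.omegaOne_map_le _ _)
  unfold Cfsg.omegaOne
  rw [MonoidHom.map_closure]
  apply Subgroup.closure_mono
  rintro _ ⟨⟨x, hx, rfl⟩, hxp⟩
  refine ⟨x, ⟨hx, ?_⟩, rfl⟩
  apply hf
  rw [map_pow, hxp, map_one]

/-- A replacement Theorem for abelian subgroups of p-groups, p odd. Let G be a finite p-group with p odd, A an abelian subgroup of G, and B a subgroup of nilpotency class at most 2 with [B, B] ≤ A, such that A normalizes B but B does not normalize A. Then there is an abelian subgroup A* of G of the same order as A with A ∩ B strictly contained in A* ∩ B, A* contained in N_G(A) and in the normal closure of A, the exponent of A* dividing the exponent of A, and with the subgroup generated by the elements of order dividing p in A of order at most that of the corresponding subgroup of A* (the rank of A is at most the rank of A*). -/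
theorem result {G : Type*} [Group G] [Finite G] {p : ℕ} [Fact p.Prime] (hp : p ≠ 2) (hG : IsPGroup p G) (A B : Subgroup G) (hA : IsMulCommutative A) (hB2 : ⁅⁅B, B⁆, B⁆ = ⊥) (hBA : ⁅B, B⁆ ≤ A) (hAB : A ≤ Subgroup.normalizer (B : Set G)) (hBnA : ¬ B ≤ Subgroup.normalizer (A : Set G)) : ∃ Astar : Subgroup G, IsMulCommutative Astar ∧ Nat.card Astar = Nat.card A ∧ A ⊓ B < Astar ⊓ B ∧ Astar ≤ Subgroup.normalizer (A : Set G) ∧ Astar ≤ Subgroup.normalClosure (A : Set G) ∧ Monoid.exponent Astar ∣ Monoid.exponent A ∧ Nat.card (Cfsg.omegaOne p A) ≤ Nat.card (Cfsg.omegaOne p Astar) := by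
  have hinj : Function.Injective (A ⊔ B).subtype := (A ⊔ B).subtype_injective
  have hS₀ : IsPGroup p ↥(A ⊔ B) := hG.to_subgroup _
  haveI : (B.subgroupOf (A ⊔ B)).Normal :=
    (Subgroup.normal_subgroupOf_iff_le_normalizer le_sup_right).mpr
      (sup_le hAB Subgroup.le_normalizer)
  have hAm : (A.subgroupOf (A ⊔ B)).map (A ⊔ B).subtype = A :=
    Subgroup.map_subgroupOf_eq_of_le le_sup_left
  have hBm : (B.subgroupOf (A ⊔ B)).map (A ⊔ B).subtype = B :=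
    Subgroup.map_subgroupOf_eq_of_le le_sup_right
  have hA₀ : IsMulCommutative (A.subgroupOf (A ⊔ B)) := Cfsg.Agent.Lib.Helper5.comm_subgroupOf _ hA
  have hBA₀ : ⁅B.subgroupOf (A ⊔ B), B.subgroupOf (A ⊔ B)⁆ ≤ A.subgroupOf (A ⊔ B) := by
    rw [← Subgroup.map_le_map_iff_of_injective hinj, Subgroup.map_commutator, hBm, hAm]
    exact hBA
  have hnot₀ : ¬ B.subgroupOf (A ⊔ B) ≤
      Subgroup.normalizer ((A.subgroupOf (A ⊔ B) : Subgroup ↥(A ⊔ B)) : Set ↥(A ⊔ B)) := by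
    intro h
    apply hBnA
    have h1 := (Subgroup.map_mono h).trans (Subgroup.le_normalizer_map (A ⊔ B).subtype)
    rwa [hBm, hAm] at h1
  have hB2' : p = 2 → IsMulCommutative (B.subgroupOf (A ⊔ B)) := fun h => absurd h hp
  obtain ⟨b, hb, hbN, hbA⟩ := Cfsg.Agent.S0649.result hS₀ _ hB2' _ hA₀ hBA₀ hnot₀
  obtain ⟨h1, h2, -, h4, -, -, h7, -, -, h10⟩ :=
    Cfsg.Agent.S0650.main hS₀ _ hB2' _ hA₀ hBA₀ b hb hbN hbA _ _ _ rfl rfl rfl
  have h11 := main2 hS₀ _ hB2' _ hA₀ hBA₀ b hb hbN hbA _ _ _ rfl rfl rfl hp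
  obtain ⟨T₀, hT₀⟩ : ∃ T₀, T₀ = (A.subgroupOf (A ⊔ B) ⊓
      (A.subgroupOf (A ⊔ B)).map (MulAut.conj (b⁻¹)).toMonoidHom) ⊔
      Subgroup.closure {g : ↥(A ⊔ B) | ∃ a ∈ A.subgroupOf (A ⊔ B), g = a * b⁻¹ * a⁻¹ * b} :=
    ⟨_, rfl⟩
  rw [← hT₀] at h1 h2 h4 h7 h10 h11
  refine ⟨T₀.map (A ⊔ B).subtype, Cfsg.Agent.Lib.Helper5.comm_map _ h2, ?_, ?_, ?_, ?_, ?_, ?_⟩
  · rw [Subgroup.card_map_of_injective hinj, h1, ← Subgroup.card_map_of_injective hinj, hAm]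
  · have e1 : A ⊓ B = (A.subgroupOf (A ⊔ B) ⊓ B.subgroupOf (A ⊔ B)).map (A ⊔ B).subtype := by
      rw [Subgroup.map_inf _ _ _ hinj, hAm, hBm]
    have e2 : T₀.map (A ⊔ B).subtype ⊓ B = (T₀ ⊓ B.subgroupOf (A ⊔ B)).map (A ⊔ B).subtype := by
      rw [Subgroup.map_inf _ _ _ hinj, hBm]
    rw [e1, e2]
    refine lt_of_le_of_ne (Subgroup.map_mono h4.le) (fun h => h4.ne ?_)
    exact Subgroup.map_injective hinj h
  · have := (Subgroup.map_mono h7).trans (Subgroup.le_normalizer_map (A ⊔ B).subtype)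
    rwa [hAm] at this
  · rw [Subgroup.map_le_iff_le_comap, hT₀]
    apply sup_le
    · intro x hx
      exact Subgroup.le_normalClosure (Subgroup.mem_subgroupOf.mp (Subgroup.mem_inf.mp hx).1)
    · rw [Subgroup.closure_le]
      rintro _ ⟨a, ha, rfl⟩
      have ha' : (a : G) ∈ Subgroup.normalClosure (A : Set G) :=
        Subgroup.le_normalClosure (Subgroup.mem_subgroupOf.mp ha)
      show ((a * b⁻¹ * a⁻¹ * b : ↥(A ⊔ B)) : G) ∈ Subgroup.normalClosure (A : Set G)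
      have e : ((a * b⁻¹ * a⁻¹ * b : ↥(A ⊔ B)) : G) =
          (a : G) * ((b : G)⁻¹ * (a : G)⁻¹ * ((b : G)⁻¹)⁻¹) := by
        simp [mul_assoc]
      rw [e]
      exact mul_mem ha' (Subgroup.normalClosure_normal.conj_mem _ (inv_mem ha') _)
  · rw [← Monoid.exponent_eq_of_mulEquiv (Subgroup.equivMapOfInjective T₀ _ hinj),
      ← Monoid.exponent_eq_of_mulEquiv (Subgroup.subgroupOfEquivOfLe (le_sup_left : A ≤ A ⊔ B))]
    exact h10 hp
  · rw [← omegaOne_map_inj _ hinj, Subgroup.card_map_of_injective hinj]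
    conv_lhs => rw [← hAm]
    rw [← omegaOne_map_inj _ hinj, Subgroup.card_map_of_injective hinj]
    exact h11

end Cfsg.Agent.S3078
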