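import Cfsg.Statements.S3183
-- import your own Cfsg.Agent.* helpers here
import Mathlib
import Cfsg.Agent.Lib.Helper17.Syl

set_option autoImplicit false
open Cfsg

namespace Cfsg.Agent.S3183
open Cfsg.Agent.Lib.Helper17

theorem mem_cm {G : Type*} [Group G] {U : Subgroup G} {x : G} :
    x ∈ (Subgroup.center ↥U).map U.subtype ↔ x ∈ U ∧ ∀ u ∈ U, u * x = x * u := by
  constructor
  · rintro ⟨⟨y, hy⟩, hc, rfl⟩
    refine ⟨hy, fun u hu => ?_⟩
    have := Subgroup.mem_center_iff.mp hc ⟨u, hu⟩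
    exact congrArg Subtype.val this
  · rintro ⟨hx, hc⟩
    refine ⟨⟨x, hx⟩, ?_, rfl⟩
    rw [SetLike.mem_coe, Subgroup.mem_center_iff]
    rintro ⟨u, hu⟩
    exact Subtype.ext (hc u hu)

theorem key {G : Type*} [Group G] [Finite G]
    (hCI : ∀ S T : Sylow 2 G, S ≠ T → ∃ U : Sylow 2 G,
      (S : Subgroup G) ⊓ (T : Subgroup G) ≤ (Subgroup.center ↥(U : Subgroup G)).map (U : Subgroup G).subtype)
    (S T : Sylow 2 G) (hne : S ≠ T) (x : G) (hxS : x ∈ (S : Subgroup G)) (hxT : x ∈ (T : Subgroup G)) :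
    (S : Subgroup G) ≤ Subgroup.centralizer ({x} : Set G) := by
  by_contra hcon
  have hfull : ∀ (M U V : Subgroup G), IsSyl 2 U ⊤ → U ≤ M → IsSyl 2 V M →
      ∃ V' : Sylow 2 G, (V' : Subgroup G) = V := by
    intro M U V hU hUM hV
    have h1 : IsSyl 2 U M := hU.of_le hUM le_top
    have h2 : IsSyl 2 V ⊤ := hU.of_card_le le_top hV.isPGroup (h1.card_eq hV).ge
    exact h2.exists_sylow_top
  set A : Subgroup G := (S : Subgroup G) ⊓ Subgroup.centralizer ({x} : Set G) with hA
  have hxA : x ∈ A := ⟨hxS, Subgroup.mem_centralizer_singleton_iff.mpr rfl⟩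
  obtain ⟨U, hU⟩ := hCI S T hne
  have hUx : (U : Subgroup G) ≤ Subgroup.centralizer ({x} : Set G) := by
    intro u hu
    exact Subgroup.mem_centralizer_singleton_iff.mpr ((mem_cm.mp (hU ⟨hxS, hxT⟩)).2 u hu)
  obtain ⟨V, hV, hAV⟩ := exists_isSyl_ge (inf_le_right : A ≤ Subgroup.centralizer ({x} : Set G))
    (S.2.to_le inf_le_left)
  obtain ⟨V', hV'⟩ := hfull _ _ _ (isSyl_top U) hUx hV
  have hV'S : S ≠ V' := by
    rintro rfl
    exact hcon (hV' ▸ hV.le)
  obtain ⟨W, hW⟩ := hCI S V' hV'S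
  have hWA : (W : Subgroup G) ≤ Subgroup.centralizer (A : Set G) := by
    intro w hw
    rw [Subgroup.mem_centralizer_iff]
    intro a ha
    exact ((mem_cm.mp (hW ⟨ha.1, hV' ▸ hAV ha⟩)).2 w hw).symm
  have hAlt : A < (S : Subgroup G) :=
    lt_of_le_of_ne inf_le_left (fun e => hcon (inf_eq_left.mp e))
  obtain ⟨y, hyS, hyN, hyA⟩ := pgroup_normalizer_grow S.2 hAlt
  have hWN : (W : Subgroup G) ≤ Subgroup.normalizer (A : Set G) :=
    hWA.trans (centralizer_le_normalizer' A)
  obtain ⟨S1, hS1, hBS1⟩ := exists_isSyl_ge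
    (inf_le_right : (S : Subgroup G) ⊓ Subgroup.normalizer (A : Set G) ≤ Subgroup.normalizer (A : Set G))
    (S.2.to_le inf_le_left)
  obtain ⟨S1', hS1'⟩ := hfull _ _ _ (isSyl_top W) hWN hS1
  by_cases hSS : S = S1'
  · -- S is Sylow in N(A)
    have h1 : IsSyl 2 (S : Subgroup G) (Subgroup.normalizer (A : Set G)) := by
      rw [hSS, hS1']; exact hS1
    have h2 : IsSyl 2 (W : Subgroup G) (Subgroup.normalizer (A : Set G)) :=
      (isSyl_top W).of_le hWN le_top
    obtain ⟨m, hm, hSm⟩ := h2.conj h1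
    apply hcon
    rw [hSm]
    have h3 : (W : Subgroup G).map (MulAut.conj m).toMonoidHom ≤ Subgroup.centralizer (A : Set G) := by
      have := Subgroup.map_mono (f := (MulAut.conj m).toMonoidHom) hWA
      rwa [← centralizer_map_conj, map_conj_eq_of_mem_normalizer hm] at this
    refine h3.trans (Subgroup.centralizer_le ?_)
    simpa using hxA
  · obtain ⟨W2, hW2⟩ := hCI S S1' hSS
    apply hyA
    refine ⟨hyS, ?_⟩
    have hx1 : x ∈ (S : Subgroup G) ⊓ (S1' : Subgroup G) :=
      ⟨hxS, hS1' ▸ hBS1 ⟨hxS, Subgroup.le_normalizer hxA⟩⟩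
    have hy1 : y ∈ (S : Subgroup G) ⊓ (S1' : Subgroup G) := ⟨hyS, hS1' ▸ hBS1 ⟨hyS, hyN⟩⟩
    exact Subgroup.mem_centralizer_singleton_iff.mpr
      ((mem_cm.mp (hW2 hx1)).2 y (mem_cm.mp (hW2 hy1)).1)

/-- Let G be a finite group in which the intersection of any two distinct Sylow 2-subgroups is contained in the centre of some Sylow 2-subgroup, and let S be a Sylow 2-subgroup. Then for every x in S the centralizer of x in S is a Sylow 2-subgroup of the centralizer of x in G (no 2-subgroup centralizing x is larger), and for every other Sylow 2-subgroup T the intersection S ∩ T lies in both the centre of S and the centre of T. -/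
theorem result {G : Type*} [Group G] [Finite G]
    (hCI : ∀ S T : Sylow 2 G, S ≠ T → ∃ U : Sylow 2 G,
      (S : Subgroup G) ⊓ (T : Subgroup G) ≤ (Subgroup.center ↥(U : Subgroup G)).map (U : Subgroup G).subtype)
    (S : Sylow 2 G) :
    (∀ x ∈ (S : Subgroup G), ∀ P : Subgroup G, IsPGroup 2 ↥P → P ≤ Subgroup.centralizer ({x} : Set G) →
        Nat.card ↥P ≤ Nat.card ↥((S : Subgroup G) ⊓ Subgroup.centralizer ({x} : Set G))) ∧
    (∀ T : Sylow 2 G, T ≠ S →
        (S : Subgroup G) ⊓ (T : Subgroup G) ≤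
          (Subgroup.center ↥(S : Subgroup G)).map (S : Subgroup G).subtype ⊓
            (Subgroup.center ↥(T : Subgroup G)).map (T : Subgroup G).subtype) := by
  have hb : ∀ S T : Sylow 2 G, T ≠ S → (S : Subgroup G) ⊓ (T : Subgroup G) ≤
      (Subgroup.center ↥(S : Subgroup G)).map (S : Subgroup G).subtype := by
    intro S T hne x hx
    refine mem_cm.mpr ⟨hx.1, fun u hu => ?_⟩
    exact Subgroup.mem_centralizer_singleton_iff.mp (key hCI S T hne.symm x hx.1 hx.2 hu)
  refine ⟨?_, ?_⟩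
  · intro x hx P hP hPx
    obtain ⟨P0, hP0, hle⟩ := exists_isSyl_ge
      (inf_le_right : (S : Subgroup G) ⊓ Subgroup.centralizer ({x} : Set G) ≤ Subgroup.centralizer ({x} : Set G))
      (S.2.to_le inf_le_left)
    obtain ⟨V, hV⟩ := hP0.isPGroup.exists_le_sylow
    by_cases hVS : V = S
    · have h1 : P0 ≤ (S : Subgroup G) ⊓ Subgroup.centralizer ({x} : Set G) :=
        le_inf (hVS ▸ hV) hP0.le
      exact (hP0.card_le hPx hP).trans (Subgroup.card_le_of_le h1)
    · have hxc : x ∈ (S : Subgroup G) ⊓ Subgroup.centralizer ({x} : Set G) :=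
        ⟨hx, Subgroup.mem_centralizer_singleton_iff.mpr rfl⟩
      have h1 := key hCI S V (Ne.symm hVS) x hx (hV (hle hxc))
      rw [inf_eq_left.mpr h1]
      exact (isSyl_top S).card_le le_top hP
  · intro T hT
    refine le_inf (hb S T hT) ?_
    rw [inf_comm]
    exact hb T S hT.symm

end Cfsg.Agent.S3183
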