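import Cfsg.Statements.S3190
-- import your own Cfsg.Agent.* helpers here
import Mathlib
import Cfsg.Agent.Lib.Helper17.Syl
import Cfsg.Agent.Lib.Helper1.CoprimeAbelian
import Cfsg.Agent.Lib.Helper11.PGroup
import Cfsg.Agent.S3183

set_option autoImplicit false
open Cfsg

namespace Cfsg.Agent.S3190
open Cfsg.Agent.Lib.Helper17 Cfsg.Agent.Lib.Helper1 Cfsg.Agent.Lib.Helper11 Cfsg.Agent.S3183

theorem normalizer_le_normalizer_cm {G : Type*} [Group G] (R : Subgroup G) :
    Subgroup.normalizer (R : Set G) ≤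
      Subgroup.normalizer (((Subgroup.center ↥R).map R.subtype : Subgroup G) : Set G) := by
  apply le_normalizer_of_conj_mem
  intro t ht z hz
  obtain ⟨hzR, hzc⟩ := mem_cm.mp hz
  refine mem_cm.mpr ⟨conj_mem_of_le_normalizer le_rfl ht hzR, fun r hr => ?_⟩
  have hr' : t⁻¹ * r * t⁻¹⁻¹ ∈ R := conj_mem_of_le_normalizer le_rfl (inv_mem ht) hr
  have := hzc _ hr'
  calc r * (t * z * t⁻¹) = t * ((t⁻¹ * r * t⁻¹⁻¹) * z) * t⁻¹ := by group
    _ = t * (z * (t⁻¹ * r * t⁻¹⁻¹)) * t⁻¹ := by rw [this]
    _ = t * z * t⁻¹ * r := by group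

/-- Let p be an odd prime and, inside a finite group, let P be a p-subgroup normalized by a Klein four-group T. Let R be a subgroup of P, normal in P and normalized by T, such that P is the product of R with the centralizer of T in P. If T centralizes the centre of P, then T centralizes the centre of R. -/
theorem result {X : Type*} [Group X] [Finite X]
    {p : ℕ} (hp : p.Prime) (hodd : Odd p) (P T R : Subgroup X) (hP : IsPGroup p ↥P) (hT : IsKleinFour ↥T)
    (hTP : T ≤ Subgroup.normalizer (P : Set X)) (hRP : R ≤ P) (hRn : (R.subgroupOf P).Normal)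
    (hTR : T ≤ Subgroup.normalizer (R : Set X)) (hfac : R ⊔ (P ⊓ Subgroup.centralizer (T : Set X)) = P)
    (hZ : T ≤ Subgroup.centralizer (((Subgroup.center ↥P).map P.subtype : Subgroup X) : Set X)) :
    T ≤ Subgroup.centralizer (((Subgroup.center ↥R).map R.subtype : Subgroup X) : Set X) := by
  have : Fact p.Prime := ⟨hp⟩
  set Z : Subgroup X := (Subgroup.center ↥R).map R.subtype with hZdef
  have hZR : Z ≤ R := Subgroup.map_subtype_le _
  have hZc : IsMulCommutative Z := by
    refine ⟨⟨fun x y => Subtype.ext ?_⟩⟩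
    exact (mem_cm.mp y.2).2 x (hZR x.2)
  have hTZ : T ≤ Subgroup.normalizer (Z : Set X) := hTR.trans (normalizer_le_normalizer_cm R)
  have hPR : P ≤ Subgroup.normalizer (R : Set X) :=
    (Subgroup.normal_subgroupOf_iff_le_normalizer hRP).mp hRn
  have hPZ : P ≤ Subgroup.normalizer (Z : Set X) := hPR.trans (normalizer_le_normalizer_cm R)
  have hcop : (Nat.card T).Coprime (Nat.card Z) := by
    rw [hT.card_four]
    obtain ⟨k, hk⟩ := (IsPGroup.iff_card.mp (hP.to_le (hZR.trans hRP)))
    rw [hk]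
    apply Nat.Coprime.pow_right
    rw [show 4 = 2 ^ 2 by norm_num]
    exact Nat.Coprime.pow_left _ (Nat.coprime_two_left.mpr hodd)
  have hinf := coprime_abelian_inf T Z hTZ hcop
  set W : Subgroup X := ⁅Z, T⁆ with hW
  have hWZ : W ≤ Z := Subgroup.le_normalizer_iff_commutator_le_left.mp hTZ
  suffices hWbot : W = ⊥ by
    exact Subgroup.le_centralizer_iff.mp (Subgroup.commutator_eq_bot_iff_le_centralizer.mp hWbot)
  by_contra hWne
  have hPW : P ≤ Subgroup.normalizer (W : Set X) := by
    rw [← hfac]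
    refine sup_le ?_ ?_
    · refine le_trans ?_ (centralizer_le_normalizer' W)
      intro r hr
      rw [Subgroup.mem_centralizer_iff]
      intro w hw
      exact ((mem_cm.mp (hWZ hw)).2 r hr).symm
    · intro d hd
      rw [mem_normalizer_iff_map_conj, hW, Subgroup.map_commutator,
        map_conj_eq_of_mem_normalizer (hPZ hd.1),
        map_conj_eq_of_mem_normalizer (centralizer_le_normalizer' T hd.2)]
  have hWP : W ≤ P := hWZ.trans (hZR.trans hRP)
  have hn : (W.subgroupOf P).Normal := (Subgroup.normal_subgroupOf_iff_le_normalizer hWP).mpr hPW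
  have hne : W.subgroupOf P ≠ ⊥ := by
    intro h0
    rw [Subgroup.subgroupOf_eq_bot, disjoint_iff, inf_of_le_left hWP] at h0
    exact hWne h0
  obtain ⟨z, hzW, hz1, hzc⟩ := exists_mem_center_of_normal_ne_bot p hP (W.subgroupOf P) hne
  have h1 : (z : X) ∈ (Z ⊓ Subgroup.centralizer (T : Set X)) ⊓ W := by
    refine ⟨⟨hWZ (Subgroup.mem_subgroupOf.mp hzW), ?_⟩, Subgroup.mem_subgroupOf.mp hzW⟩
    have h2 : (z : X) ∈ (Subgroup.center ↥P).map P.subtype := ⟨z, hzc, rfl⟩
    have h3 := Subgroup.le_centralizer_iff.mp hZ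
    exact h3 h2
  rw [hinf, Subgroup.mem_bot] at h1
  exact hz1 (Subtype.ext h1)

end Cfsg.Agent.S3190
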