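import Cfsg.Statements.S3195
-- import your own Cfsg.Agent.* helpers here
import Mathlib
import Cfsg.Agent.S3011

set_option autoImplicit false
open Cfsg

namespace Cfsg.Agent.S3195

/-- Let A be a Klein four-subgroup of a finite group G. If every G-conjugate of every involution of A commutes with some involution of A (its centralizer meets A nontrivially), then A meets the largest normal 2-subgroup O₂(G) nontrivially. -/
theorem result {G : Type*} [Group G] [Finite G]
    (A : Subgroup G) (hA : IsKleinFour ↥A)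
    (h : ∀ a ∈ A, a ≠ 1 → ∀ g : G, A ⊓ Subgroup.centralizer ({g * a * g⁻¹} : Set G) ≠ ⊥) :
    A ⊓ Cfsg.pCore 2 G ≠ ⊥ := by
  have hAc : IsMulCommutative A := IsKleinFour.isMulCommutative
  have hsq : ∀ a ∈ A, a * a = 1 := by
    intro a ha
    exact congrArg Subtype.val (IsKleinFour.mul_self (⟨a, ha⟩ : A))
  have hcomm : ∀ u ∈ A, ∀ v ∈ A, u * v = v * u := by
    intro u hu v hv
    have := hAc.is_comm.comm (⟨u, hu⟩ : A) ⟨v, hv⟩
    exact congrArg Subtype.val this
  have hA1 : A ≠ ⊥ := by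
    intro e
    have h4 : Nat.card A = 4 := hA.card_four
    rw [e] at h4
    simp at h4
  apply Cfsg.Agent.S3011.result A ⟨hAc, fun a ha => by rw [pow_two]; exact hsq a ha⟩ hA1 ?_
    hA.card_four.le
  intro k v hv hk hvk
  by_cases hv1 : v = 1
  · obtain ⟨⟨w, hwA⟩, hw1⟩ := Subgroup.ne_bot_iff_exists_ne_one.1 hA1
    refine ⟨w, hwA, fun e => hw1 (Subtype.ext e), ?_⟩
    rw [hv1] at hvk
    have : k = 1 := Cfsg.Agent.S3011.odd_self_inv hk (by simpa using hvk.symm)
    rw [this]; simp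
  · obtain ⟨m, hm⟩ := exists_pow_eq_self_of_coprime (Nat.coprime_two_left.2 hk)
    have hvt : v * (k ^ m) * v⁻¹ = (k ^ m)⁻¹ := by
      rw [← MulAut.conj_apply, map_pow, MulAut.conj_apply, hvk, inv_pow]
    have hconj : k ^ m * v * (k ^ m)⁻¹ = k * v := by
      have e1 : k ^ m * v * (k ^ m)⁻¹ = k ^ m * (v * (k ^ m) * v⁻¹)⁻¹ * v := by group
      rw [e1, hvt, inv_inv, ← pow_add, ← two_mul, pow_mul, hm]
    have hne := h v hv hv1 (k ^ m)
    rw [hconj] at hne
    obtain ⟨⟨w, hw⟩, hw1⟩ := Subgroup.ne_bot_iff_exists_ne_one.1 hne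
    obtain ⟨hwA, hwC⟩ := Subgroup.mem_inf.1 hw
    refine ⟨w, hwA, fun e => hw1 (Subtype.ext e), ?_⟩
    have e2 : w * (k * v) = (k * v) * w := Subgroup.mem_centralizer_singleton_iff.1 hwC
    have e3 : w * v = v * w := hcomm w hwA v hv
    have e4 : w * k * v = k * w * v := by
      rw [mul_assoc, e2, mul_assoc, ← e3, mul_assoc]
    exact mul_right_cancel e4

end Cfsg.Agent.S3195
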