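import Cfsg.Statements.S3213
import Mathlib
import Cfsg.Agent.S2551

set_option autoImplicit false
open Cfsg

namespace Cfsg.Agent.S3213

open MulAction Cfsg.Agent.S2551

section abs

variable {K V : Type*} [Group K] [AddCommGroup V] [DistribMulAction K V]

lemma inv_mod [Finite V] (p : ℕ) [Fact p.Prime] (y : K) (hy : orderOf y = p)
    (A : AddSubgroup V) (hA : ∀ v ∈ A, y • v ∈ A) :
    Nat.card A ≡ Nat.card ↥(A ⊓ fixSub (V := V) y) [MOD p] := by
  have hfo : IsOfFinOrder y := orderOf_pos_iff.mp (by rw [hy]; exact (Fact.out : p.Prime).pos)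
  have hAz : ∀ h ∈ Subgroup.zpowers y, ∀ v ∈ A, h • v ∈ A := by
    intro h hh
    rw [← hfo.mem_powers_iff_mem_zpowers] at hh
    obtain ⟨k, rfl⟩ := Submonoid.mem_powers_iff _ _ |>.mp hh
    induction k with
    | zero => intro v hv; rwa [pow_zero, one_smul]
    | succ k ih =>
      intro v hv
      rw [pow_succ, mul_smul]
      exact ih ⟨k, rfl⟩ _ (hA v hv)
  letI : MulAction (Subgroup.zpowers y) A :=
    { smul := fun h v => ⟨(h : K) • (v : V), hAz h h.2 v v.2⟩
      one_smul := fun v => Subtype.ext (one_smul K (v : V))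
      mul_smul := fun g h v => Subtype.ext (mul_smul (g : K) (h : K) (v : V)) }
  have hZ : IsPGroup p (Subgroup.zpowers y) :=
    IsPGroup.of_card (n := 1) (by rw [Nat.card_zpowers, hy, pow_one])
  have h := hZ.card_modEq_card_fixedPoints A
  have e : Nat.card (fixedPoints (Subgroup.zpowers y) A) =
      Nat.card ↥(A ⊓ fixSub (V := V) y) := by
    apply Nat.card_congr
    refine ⟨fun v => ⟨v.1.1, v.1.2, congrArg Subtype.val (v.2 ⟨y, Subgroup.mem_zpowers y⟩)⟩,
      fun v => ⟨⟨v.1, v.2.1⟩, ?_⟩, fun v => rfl, fun v => rfl⟩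
    rintro ⟨z, hz⟩
    apply Subtype.ext
    obtain ⟨k, rfl⟩ := Subgroup.mem_zpowers_iff.mp hz
    exact (stabilizer K v.1).zpow_mem (mem_stabilizer_iff.mpr v.2.2) k
  rwa [e] at h

lemma top_mod [Finite V] (p : ℕ) [Fact p.Prime] (y : K) (hy : orderOf y = p) :
    Nat.card V ≡ Nat.card (fixSub (V := V) y) [MOD p] := by
  have h := inv_mod p y hy (⊤ : AddSubgroup V) (fun _ _ => trivial)
  rw [top_inf_eq] at h
  have e : Nat.card (⊤ : AddSubgroup V) = Nat.card V := AddSubgroup.card_top
  rwa [e] at h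

lemma fix_ne_top [FaithfulSMul K V] (y : K) (hy : y ≠ 1) : fixSub (V := V) y ≠ ⊤ := by
  intro htop
  apply hy
  apply FaithfulSMul.eq_of_smul_eq_smul (α := V)
  intro v
  rw [one_smul]
  have : v ∈ fixSub (V := V) y := by rw [htop]; trivial
  exact this

lemma card_ne_of_ne_top [Finite V] (A : AddSubgroup V) (hA : A ≠ ⊤) : Nat.card A ≠ Nat.card V :=
  fun h => hA (AddSubgroup.eq_top_of_card_eq A h)

/-- a central involution acts as `-1` -/
lemma neg_of_five [FaithfulSMul K V] (hV : Nat.card V = 81) (y z : K) (hy : orderOf y = 5)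
    (hz1 : z ≠ 1) (hzz : z * z = 1) (hc : y * z = z * y) (v : V) : z • v = -v := by
  haveI : Finite V := Nat.finite_of_card_ne_zero (by rw [hV]; norm_num)
  haveI : Fact (Nat.Prime 5) := ⟨by norm_num⟩
  have hy1 : y ≠ 1 := by rintro rfl; rw [orderOf_one] at hy; omega
  have c1 : Nat.card (fixSub (V := V) y) = 1 := by
    have h1 := top_mod (V := V) 5 y hy
    have h2 : Nat.card (fixSub (V := V) y) ∣ 81 := by
      rw [← hV]; exact AddSubgroup.card_addSubgroup_dvd_card _
    have h3 := card_ne_of_ne_top _ (fix_ne_top (V := V) y hy1)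
    rw [hV] at h1 h3
    have hle := Nat.le_of_dvd (by norm_num) h2
    unfold Nat.ModEq at h1
    generalize Nat.card (fixSub (V := V) y) = n at *
    interval_cases n <;> omega
  have c2 : Nat.card ↥(fixSub (V := V) z ⊓ fixSub (V := V) y) = 1 := by
    have hle : fixSub (V := V) z ⊓ fixSub (V := V) y ≤ fixSub (V := V) y := inf_le_right
    have := AddSubgroup.card_dvd_of_le hle
    rw [c1] at this
    exact Nat.dvd_one.mp this
  have c3 : Nat.card (fixSub (V := V) z) = 1 := by
    have h1 := inv_mod (V := V) 5 y hy (fixSub (V := V) z) (by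
      intro v hv
      show z • (y • v) = y • v
      have hv' : z • v = v := hv
      rw [← mul_smul, ← hc, mul_smul, hv'])
    rw [c2] at h1
    have h2 : Nat.card (fixSub (V := V) z) ∣ 81 := by
      rw [← hV]; exact AddSubgroup.card_addSubgroup_dvd_card _
    have h3 := card_ne_of_ne_top _ (fix_ne_top (V := V) z hz1)
    rw [hV] at h3
    have hle := Nat.le_of_dvd (by norm_num) h2
    unfold Nat.ModEq at h1
    generalize Nat.card (fixSub (V := V) z) = n at *
    interval_cases n <;> omega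
  have hmem : z • (v + z • v) = v + z • v := by
    rw [smul_add, ← mul_smul, hzz, one_smul, add_comm]
  have : (⟨v + z • v, hmem⟩ : fixSub (V := V) z) = 0 := by
    haveI := (Nat.card_eq_one_iff_unique.mp c3).1
    exact Subsingleton.elim _ _
  have h0 : v + z • v = 0 := congrArg Subtype.val this
  exact (neg_eq_of_add_eq_zero_right h0).symm

end abs

section sl2

set_option maxRecDepth 100000 in
lemma ex5 : ∀ a b c d : ZMod 5, a * d - b * c = 1 →
    ∃ e f g : ZMod 5, e * e + f * g = -1 ∧ e * a + f * c + g * b - e * d = 0 := by decide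

variable {K : Type*} [Field K] [Fintype K]

lemma exK (hK : Fintype.card K = 5) (a b c d : K) (h : a * d - b * c = 1) :
    ∃ e f g : K, e * e + f * g = -1 ∧ e * a + f * c + g * b - e * d = 0 := by
  obtain ⟨ψ⟩ : Nonempty (K ≃+* ZMod 5) := ⟨(ZMod.ringEquivOfPrime K (by norm_num) hK).symm⟩
  obtain ⟨e, f, g, h1, h2⟩ := ex5 (ψ a) (ψ b) (ψ c) (ψ d) (by
    rw [← map_mul, ← map_mul, ← map_sub, h, map_one])
  refine ⟨ψ.symm e, ψ.symm f, ψ.symm g, ?_, ?_⟩
  · apply ψ.injective
    simp only [map_add, map_mul, map_neg, map_one, RingEquiv.apply_symm_apply]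
    exact h1
  · apply ψ.injective
    simp only [map_add, map_sub, map_mul, map_zero, RingEquiv.apply_symm_apply]
    exact h2

lemma five_zero (hK : Fintype.card K = 5) : (1 : K) + 1 + 1 + 1 + 1 = 0 := by
  obtain ⟨ψ⟩ : Nonempty (K ≃+* ZMod 5) := ⟨(ZMod.ringEquivOfPrime K (by norm_num) hK).symm⟩
  apply ψ.injective
  simp only [map_add, map_one, map_zero]
  decide

lemma exists_w (hK : Fintype.card K = 5) (x : Matrix.SpecialLinearGroup (Fin 2) K) :
    ∃ w : Matrix.SpecialLinearGroup (Fin 2) K,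
      ((w * w : Matrix.SpecialLinearGroup (Fin 2) K) : Matrix (Fin 2) (Fin 2) K) = -1 ∧
        x * w * x = w := by
  obtain ⟨a, ha⟩ : ∃ a, a = x.1 0 0 := ⟨_, rfl⟩
  obtain ⟨b, hb⟩ : ∃ b, b = x.1 0 1 := ⟨_, rfl⟩
  obtain ⟨c, hc⟩ : ∃ c, c = x.1 1 0 := ⟨_, rfl⟩
  obtain ⟨d, hd⟩ : ∃ d, d = x.1 1 1 := ⟨_, rfl⟩
  have hx : x.1 = !![a, b; c, d] := by rw [ha, hb, hc, hd]; exact Matrix.eta_fin_two x.1
  have hdet : a * d - b * c = 1 := by
    have := x.2
    rw [hx, Matrix.det_fin_two_of] at this
    exact this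
  obtain ⟨e, f, g, h1, h2⟩ := exK hK a b c d hdet
  refine ⟨⟨!![e, f; g, -e], by rw [Matrix.det_fin_two_of]; linear_combination (-1 : K) * h1⟩,
    ?_, ?_⟩
  · show !![e, f; g, -e] * !![e, f; g, -e] = -1
    rw [Matrix.mul_fin_two]
    ext i j
    fin_cases i <;> fin_cases j
    · simp; linear_combination h1
    · simp; ring
    · simp; ring
    · simp; linear_combination h1
  · apply Subtype.ext
    show x.1 * !![e, f; g, -e] * x.1 = !![e, f; g, -e]
    rw [hx, Matrix.mul_fin_two, Matrix.mul_fin_two]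
    ext i j
    fin_cases i <;> fin_cases j
    · simp; linear_combination e * hdet + a * h2
    · simp; linear_combination f * hdet + b * h2
    · simp; linear_combination g * hdet + c * h2
    · simp; linear_combination (-e) * hdet + d * h2

lemma exists_g5 (hK : Fintype.card K = 5) :
    ∃ g : Matrix.SpecialLinearGroup (Fin 2) K, orderOf g = 5 := by
  haveI : Fact (Nat.Prime 5) := ⟨by norm_num⟩
  have hU : ∀ t : K, (!![1, t; 0, 1] : Matrix (Fin 2) (Fin 2) K).det = 1 := by
    intro t; rw [Matrix.det_fin_two_of]; ring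
  obtain ⟨Um, hUm⟩ : ∃ Um : K → Matrix.SpecialLinearGroup (Fin 2) K,
      ∀ t, (Um t).1 = !![1, t; 0, 1] := ⟨fun t => ⟨_, hU t⟩, fun _ => rfl⟩
  have hmul : ∀ s t : K, Um s * Um t = Um (s + t) := by
    intro s t
    apply Subtype.ext
    show (Um s).1 * (Um t).1 = (Um (s + t)).1
    rw [hUm, hUm, hUm, Matrix.mul_fin_two]
    ext i j
    fin_cases i <;> fin_cases j <;> simp
    ring
  refine ⟨Um 1, orderOf_eq_prime ?_ ?_⟩
  · simp only [pow_succ, pow_zero, one_mul, hmul]
    apply Subtype.ext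
    rw [five_zero hK, hUm]
    ext i j
    fin_cases i <;> fin_cases j <;> simp
  · intro h
    have h1 := congrArg (fun m : Matrix.SpecialLinearGroup (Fin 2) K => m.1 0 1) h
    simp only [hUm] at h1
    simp at h1

end sl2

section conc

variable {F : Type*} [Field F]

abbrev VV (F : Type*) := Fin 2 ⊕ Fin 2 → F
abbrev Sp (F : Type*) [Field F] := ↥(Matrix.symplecticGroup (Fin 2) F)

def actSp : DistribMulAction (Sp F) (VV F) where
  smul g v := (g : Matrix (Fin 2 ⊕ Fin 2) (Fin 2 ⊕ Fin 2) F).mulVec v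
  one_smul v := Matrix.one_mulVec v
  mul_smul g h v := by
    show ((g * h : Sp F) : Matrix (Fin 2 ⊕ Fin 2) (Fin 2 ⊕ Fin 2) F).mulVec v =
      (g : Matrix (Fin 2 ⊕ Fin 2) (Fin 2 ⊕ Fin 2) F).mulVec
        ((h : Matrix (Fin 2 ⊕ Fin 2) (Fin 2 ⊕ Fin 2) F).mulVec v)
    rw [Matrix.mulVec_mulVec]
    rfl
  smul_zero g := Matrix.mulVec_zero _
  smul_add g v w := Matrix.mulVec_add _ v w

lemma actSp_faithful : @FaithfulSMul (Sp F) (VV F) (actSp (F := F)).toSMul := by
  refine @FaithfulSMul.mk _ _ (actSp (F := F)).toSMul ?_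
  intro g h hgh
  apply Subtype.ext
  ext i j
  have h1 : (g : Matrix (Fin 2 ⊕ Fin 2) (Fin 2 ⊕ Fin 2) F).mulVec (Pi.single j 1) =
      (h : Matrix (Fin 2 ⊕ Fin 2) (Fin 2 ⊕ Fin 2) F).mulVec (Pi.single j 1) :=
    hgh (Pi.single j 1)
  have h2 := congrFun h1 i
  simpa [Matrix.mulVec_single_one] using h2

def BB (v w : VV F) : F := dotProduct v ((Matrix.J (Fin 2) F).mulVec w)

lemma BB_inv (g : Sp F) (v w : VV F) : BB (g.1.mulVec v) (g.1.mulVec w) = BB v w := by
  unfold BB
  have h := (SymplecticGroup.mem_iff').mp g.2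
  rw [← Matrix.vecMul_transpose g.1 v, ← Matrix.dotProduct_mulVec, Matrix.mulVec_mulVec,
    Matrix.mulVec_mulVec, h]

lemma BB_self (v : VV F) : BB v v = 0 := by
  unfold BB
  simp [Matrix.J, dotProduct, Matrix.mulVec, Fintype.sum_sum_type, Fin.sum_univ_two,
    Matrix.fromBlocks]
  ring

lemma BB_swap (v w : VV F) : BB w v = - BB v w := by
  unfold BB
  simp [Matrix.J, dotProduct, Matrix.mulVec, Fintype.sum_sum_type, Fin.sum_univ_two,
    Matrix.fromBlocks]
  ring

lemma BB_lin (a b c : F) (u u' v y : VV F) :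
    BB (a • u + b • u' + c • v) y = a * BB u y + b * BB u' y + c * BB v y := by
  unfold BB
  simp [add_dotProduct, smul_dotProduct]

end conc

/-- Let F be the field with 3 elements and K the field with 5 elements. For every injective homomorphism φ from SL₂(K) into the symplectic group Sp₄(F) (4 × 4 matrices g with g J gᵀ = J for the standard alternating matrix J) and every element x of order 3 of SL₂(K), the vectors of F⁴ fixed by φ(x) form a 2-dimensional subspace that is totally isotropic for the alternating form defined by J. -/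
theorem result {F : Type*} [Field F] [Fintype F] (hF : Fintype.card F = 3)
    {K : Type*} [Field K] [Fintype K] (hK : Fintype.card K = 5)
    (φ : Matrix.SpecialLinearGroup (Fin 2) K →* ↥(Matrix.symplecticGroup (Fin 2) F)) (hφ : Function.Injective φ)
    (x : Matrix.SpecialLinearGroup (Fin 2) K) (hx : orderOf x = 3) :
    Module.finrank F ↥(LinearMap.ker (Matrix.toLin' ((φ x : Matrix (Fin 2 ⊕ Fin 2) (Fin 2 ⊕ Fin 2) F)) - LinearMap.id)) = 2 ∧
      ∀ v w : Fin 2 ⊕ Fin 2 → F, (φ x : Matrix (Fin 2 ⊕ Fin 2) (Fin 2 ⊕ Fin 2) F).mulVec v = v →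
        (φ x : Matrix (Fin 2 ⊕ Fin 2) (Fin 2 ⊕ Fin 2) F).mulVec w = w →
          dotProduct v ((Matrix.J (Fin 2) F).mulVec w) = 0 := by
  classical
  letI := actSp (F := F)
  haveI := actSp_faithful (F := F)
  haveI : Fact (Nat.Prime 3) := ⟨by norm_num⟩
  have hV : Nat.card (VV F) = 81 := by
    rw [Nat.card_eq_fintype_card, Fintype.card_fun, hF]
    simp
  haveI : Finite (VV F) := Nat.finite_of_card_ne_zero (by rw [hV]; norm_num)
  obtain ⟨X, hX⟩ : ∃ X : Sp F, X = φ x := ⟨_, rfl⟩
  rw [← hX]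
  have hXo : orderOf X = 3 := by rw [hX, orderOf_injective φ hφ, hx]
  have hX1 : X ≠ 1 := by rintro rfl; rw [orderOf_one] at hXo; omega
  obtain ⟨w, hww, hxw⟩ := exists_w hK x
  obtain ⟨g5, hg5⟩ := exists_g5 hK
  obtain ⟨W, hW⟩ : ∃ W : Sp F, W = φ w := ⟨_, rfl⟩
  have hXWX : X * W * X = W := by rw [hX, hW, ← map_mul, ← map_mul, hxw]
  -- the central involution
  have hz1 : w * w ≠ 1 := by
    intro h
    have h1 := congrArg (fun m : Matrix.SpecialLinearGroup (Fin 2) K => m.1 0 0) h
    have h2 : (-1 : Matrix (Fin 2) (Fin 2) K) 0 0 = (1 : Matrix (Fin 2) (Fin 2) K) 0 0 := by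
      rw [← hww]; exact h1
    simp at h2
    have h5 := five_zero hK
    have h3 : (1 : K) + 1 = 0 := by linear_combination (-1 : K) * h2
    have h4 : (1 : K) = 0 := by linear_combination h5 - 2 * h3
    exact one_ne_zero h4
  have hzz : (w * w) * (w * w) = 1 := by
    apply Subtype.ext
    show ((w * w : Matrix.SpecialLinearGroup (Fin 2) K) : Matrix (Fin 2) (Fin 2) K) *
      ((w * w : Matrix.SpecialLinearGroup (Fin 2) K) : Matrix (Fin 2) (Fin 2) K) = 1
    rw [hww]; simp
  have hzc : g5 * (w * w) = (w * w) * g5 := by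
    apply Subtype.ext
    show (g5 : Matrix (Fin 2) (Fin 2) K) *
      ((w * w : Matrix.SpecialLinearGroup (Fin 2) K) : Matrix (Fin 2) (Fin 2) K) =
      ((w * w : Matrix.SpecialLinearGroup (Fin 2) K) : Matrix (Fin 2) (Fin 2) K) * g5
    rw [hww]; simp
  have hneg : ∀ v : VV F, (W * W) • v = -v := by
    intro v
    refine neg_of_five hV (φ g5) (W * W) (by rw [orderOf_injective φ hφ, hg5]) ?_ ?_ ?_ v
    · rw [hW, ← map_mul]
      intro h
      exact hz1 (hφ (by rw [h, map_one]))
    · rw [hW, ← map_mul, ← map_mul, hzz, map_one]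
    · rw [hW, ← map_mul, ← map_mul, ← map_mul, hzc]
  obtain ⟨U, hU⟩ : ∃ U : Submodule F (VV F), U = LinearMap.ker
      (Matrix.toLin' (X : Matrix (Fin 2 ⊕ Fin 2) (Fin 2 ⊕ Fin 2) F) - LinearMap.id) := ⟨_, rfl⟩
  rw [← hU]
  have memU : ∀ v : VV F, v ∈ U ↔ X • v = v := by
    intro v
    rw [hU, LinearMap.mem_ker, LinearMap.sub_apply, Matrix.toLin'_apply, LinearMap.id_apply,
      sub_eq_zero]
    rfl
  have hWU : ∀ u ∈ U, Matrix.toLin' (W : Matrix (Fin 2 ⊕ Fin 2) (Fin 2 ⊕ Fin 2) F) u ∈ U := by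
    intro u hu
    rw [Matrix.toLin'_apply, memU]
    have hu' := (memU u).mp hu
    show X • (W • u) = W • u
    calc X • (W • u) = X • (W • (X • u)) := by rw [hu']
      _ = (X * W * X) • u := by rw [mul_smul, mul_smul]
      _ = W • u := by rw [hXWX]
  obtain ⟨d, hd⟩ : ∃ d, d = Module.finrank F U := ⟨_, rfl⟩
  have hdeven : Even d := by
    by_contra hodd
    rw [Nat.not_even_iff_odd] at hodd
    obtain ⟨f, hf⟩ : ∃ f : U →ₗ[F] U, f = (Matrix.toLin'
      (W : Matrix (Fin 2 ⊕ Fin 2) (Fin 2 ⊕ Fin 2) F)).restrict hWU := ⟨_, rfl⟩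
    have hff : f * f = (-1 : F) • (1 : U →ₗ[F] U) := by
      ext u
      rw [hf]
      simp only [Module.End.mul_apply, LinearMap.restrict_coe_apply, Matrix.toLin'_apply,
        LinearMap.smul_apply, Module.End.one_apply, Submodule.coe_smul, neg_smul, one_smul]
      have := hneg (u : VV F)
      rw [mul_smul] at this
      exact congrFun this _
    have hdet := congrArg LinearMap.det hff
    rw [map_mul, LinearMap.det_smul, map_one, mul_one, ← hd, hodd.neg_one_pow] at hdet
    have hsq : IsSquare (-1 : F) := ⟨_, hdet.symm⟩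
    rw [FiniteField.isSquare_neg_one_iff, hF] at hsq
    omega
  have hcardU : Nat.card U = 3 ^ d := by
    rw [Module.natCard_eq_pow_finrank (K := F), Nat.card_eq_fintype_card, hF, hd]
  have hcardU' : Nat.card U = Nat.card (fixSub (V := VV F) X) :=
    Nat.card_congr (Equiv.subtypeEquivRight memU)
  have hd2 : d = 2 := by
    have h1 := top_mod (V := VV F) 3 X hXo
    have h2 : Nat.card (fixSub (V := VV F) X) ∣ 81 := by
      rw [← hV]; exact AddSubgroup.card_addSubgroup_dvd_card _
    have h3 := card_ne_of_ne_top _ (fix_ne_top (V := VV F) X hX1)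
    rw [hV, ← hcardU', hcardU] at h1 h3
    rw [← hcardU', hcardU] at h2
    have hd4 : d ≤ 4 := (Nat.pow_dvd_pow_iff_le_right (by norm_num : 1 < 3)).mp
      (by simpa using h2)
    unfold Nat.ModEq at h1
    obtain ⟨m, hm⟩ := hdeven
    interval_cases d <;> simp at h1 h3 <;> omega
  refine ⟨by rw [← hd, hd2], ?_⟩
  intro u u' hu hu'
  by_contra hc
  have hc' : BB u u' ≠ 0 := hc
  have huU : X • u = u := hu
  have hu'U : X • u' = u' := hu'
  -- the perp of u, u'
  obtain ⟨A, hA⟩ : ∃ A : AddSubgroup (VV F), ∀ v, v ∈ A ↔ BB v u = 0 ∧ BB v u' = 0 := by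
    refine ⟨{ carrier := {v | BB v u = 0 ∧ BB v u' = 0}
              zero_mem' := by simp [BB]
              add_mem' := ?_
              neg_mem' := ?_ }, fun v => Iff.rfl⟩
    · rintro a b ⟨ha1, ha2⟩ ⟨hb1, hb2⟩
      constructor
      · show BB (a + b) u = 0
        have := BB_lin 1 1 0 a b 0 u
        simp at this
        rw [this, ha1, hb1, add_zero]
      · show BB (a + b) u' = 0
        have := BB_lin 1 1 0 a b 0 u'
        simp at this
        rw [this, ha2, hb2, add_zero]
    · rintro a ⟨ha1, ha2⟩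
      constructor
      · show BB (-a) u = 0
        have := BB_lin (-1) 0 0 a 0 0 u
        simp at this
        rw [this, ha1, neg_zero]
      · show BB (-a) u' = 0
        have := BB_lin (-1) 0 0 a 0 0 u'
        simp at this
        rw [this, ha2, neg_zero]
  have hAinv : ∀ v ∈ A, X • v ∈ A := by
    intro v hv
    rw [hA] at hv ⊢
    constructor
    · have := BB_inv X v u
      have e : X.1.mulVec u = u := huU
      rw [e] at this
      exact this.trans hv.1
    · have := BB_inv X v u'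
      have e : X.1.mulVec u' = u' := hu'U
      rw [e] at this
      exact this.trans hv.2
  have hAne : Nat.card A ≠ 1 := by
    intro h1
    have hinj : Function.Injective (fun v : VV F => (BB v u, BB v u')) := by
      intro a b hab
      have h2 : a - b ∈ A := by
        rw [hA]
        have e1 := BB_lin 1 (-1) 0 a b 0 u
        have e2 := BB_lin 1 (-1) 0 a b 0 u'
        simp at e1 e2
        rw [← sub_eq_add_neg] at e1 e2
        have h3 : BB a u = BB b u := congrArg Prod.fst hab
        have h4 : BB a u' = BB b u' := congrArg Prod.snd hab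
        exact ⟨by rw [e1, h3]; ring, by rw [e2, h4]; ring⟩
      have h5 : (⟨a - b, h2⟩ : A) = 0 := by
        haveI := (Nat.card_eq_one_iff_unique.mp h1).1
        exact Subsingleton.elim _ _
      exact sub_eq_zero.mp (congrArg Subtype.val h5)
    have := Nat.card_le_card_of_injective _ hinj
    rw [hV, Nat.card_prod, Nat.card_eq_fintype_card, hF] at this
    omega
  have hAmod := inv_mod (V := VV F) 3 X hXo A hAinv
  have hAdvd : Nat.card A ∣ 81 := by
    rw [← hV]; exact AddSubgroup.card_addSubgroup_dvd_card _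
  have hA3 : Nat.card A % 3 = 0 := by
    have hle := Nat.le_of_dvd (by norm_num) hAdvd
    generalize Nat.card A = n at *
    interval_cases n <;> omega
  have hne1 : Nat.card ↥(A ⊓ fixSub (V := VV F) X) ≠ 1 := by
    intro h
    unfold Nat.ModEq at hAmod
    rw [h, hA3] at hAmod
    omega
  obtain ⟨v, hvA, hvX, hv0⟩ : ∃ v : VV F, v ∈ A ∧ X • v = v ∧ v ≠ 0 := by
    by_contra hcon
    push Not at hcon
    apply hne1
    rw [Nat.card_eq_one_iff_unique]
    refine ⟨⟨fun a b => ?_⟩, ⟨0⟩⟩
    have ha := hcon a.1 a.2.1 a.2.2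
    have hb := hcon b.1 b.2.1 b.2.2
    exact Subtype.ext (ha.trans hb.symm)
  have hvA' := (hA v).mp hvA
  -- 27 elements in U
  have hmemU3 : ∀ t : F × F × F, t.1 • u + t.2.1 • u' + t.2.2 • v ∈ U := by
    intro t
    exact U.add_mem (U.add_mem (U.smul_mem _ ((memU u).mpr huU)) (U.smul_mem _ ((memU u').mpr hu'U)))
      (U.smul_mem _ ((memU v).mpr hvX))
  have hinj3 : Function.Injective
      (fun t : F × F × F => (⟨t.1 • u + t.2.1 • u' + t.2.2 • v, hmemU3 t⟩ : U)) := by
    rintro ⟨a, b, c⟩ ⟨a', b', c'⟩ h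
    have h0 : a • u + b • u' + c • v = a' • u + b' • u' + c' • v := congrArg Subtype.val h
    have e1 := congrArg (fun y => BB y u') h0
    have e2 := congrArg (fun y => BB y u) h0
    simp only [BB_lin, BB_self, hvA'.1, hvA'.2, mul_zero, add_zero, zero_add] at e1 e2
    rw [BB_swap u u'] at e2
    have ha : a = a' := mul_right_cancel₀ hc' e1
    have hb : b = b' := mul_right_cancel₀ (neg_ne_zero.mpr hc') e2
    subst ha hb
    have e3 : c • v = c' • v := add_left_cancel h0
    have hcc : c = c' := by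
      by_contra hne
      have : (c - c') • v = 0 := by rw [sub_smul, e3, sub_self]
      rcases smul_eq_zero.mp this with h1 | h1
      · exact hne (sub_eq_zero.mp h1)
      · exact hv0 h1
    rw [hcc]
  have hfin := Nat.card_le_card_of_injective _ hinj3
  rw [hcardU, hd2, Nat.card_prod, Nat.card_prod, Nat.card_eq_fintype_card, hF] at hfin
  omega

end Cfsg.Agent.S3213
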