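import Cfsg.Statements.S3532
import Cfsg.Agent.S2475

set_option autoImplicit false
open Cfsg

namespace Cfsg.Agent.S3532

open Cfsg.Agent.Lib.Helper12

section
variable {K : Type*} [Field K]

/-- multiplication action of a group of units on the additive group. -/
def actHom (U : Subgroup Kˣ) : U →* MulAut (Multiplicative K) where
  toFun u :=
    { toFun := fun a => Multiplicative.ofAdd (((u : Kˣ) : K) * Multiplicative.toAdd a)
      invFun := fun a => Multiplicative.ofAdd ((((u : Kˣ)⁻¹ : Kˣ) : K) * Multiplicative.toAdd a)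
      left_inv := by intro a; simp
      right_inv := by intro a; simp
      map_mul' := by intro a b; simp [mul_add] }
  map_one' := by ext a; simp
  map_mul' := by intro u v; ext a; simp [mul_assoc]

theorem actHom_apply (U : Subgroup Kˣ) (u : U) (a : Multiplicative K) :
    actHom U u a = Multiplicative.ofAdd (((u : Kˣ) : K) * Multiplicative.toAdd a) := rfl

/-- the affine group. -/
abbrev Aff (U : Subgroup Kˣ) := Multiplicative K ⋊[actHom U] U

instance (U : Subgroup Kˣ) : Group.IsSolvable (Aff U) :=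
  Group.isSolvable_of_ker_le_range (SemidirectProduct.inl : Multiplicative K →* Aff U)
    (SemidirectProduct.rightHom : Aff U →* U) (SemidirectProduct.range_inl_eq_ker_rightHom).ge

instance [Finite K] (U : Subgroup Kˣ) : Finite (Aff U) :=
  Finite.of_equiv _ SemidirectProduct.equivProd.symm

theorem pow_char_mult (p : ℕ) [CharP K p] (a : Multiplicative K) : a ^ p = 1 := by
  have : a ^ p = Multiplicative.ofAdd (p • Multiplicative.toAdd a) := rfl
  rw [this, nsmul_eq_mul, CharP.cast_eq_zero, zero_mul]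
  rfl

theorem spec_aff [Fintype K] (p : ℕ) [Fact p.Prime] [CharP K p] (U : Subgroup Kˣ) :
    Set.range (orderOf : Aff U → ℕ) = {d | d ∣ p ∨ d ∣ Nat.card U} := by
  classical
  ext d
  constructor
  · rintro ⟨x, rfl⟩
    by_cases hu : x.right = 1
    · left
      have hx : x = SemidirectProduct.inl x.left := by
        ext <;> simp [hu]
      rw [hx, orderOf_injective _ SemidirectProduct.inl_injective]
      exact orderOf_dvd_of_pow_eq_one (pow_char_mult p _)
    · right
      have hu' : (1 : K) - ((x.right : Kˣ) : K) ≠ 0 := by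
        intro h
        apply hu
        apply Subtype.ext
        apply Units.ext
        simp only [Subgroup.coe_one, Units.val_one]
        linear_combination -h
      set b : Multiplicative K :=
        Multiplicative.ofAdd (Multiplicative.toAdd x.left / (1 - ((x.right : Kˣ) : K))) with hb
      have hx : x = MulAut.conj (SemidirectProduct.inl b : Aff U) (SemidirectProduct.inr x.right) := by
        rw [MulAut.conj_apply]
        ext
        · simp only [SemidirectProduct.mul_left, SemidirectProduct.left_inl,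
            SemidirectProduct.right_inl, SemidirectProduct.left_inr, SemidirectProduct.mul_right,
            SemidirectProduct.right_inr, SemidirectProduct.inv_left, map_one, mul_one, one_mul,
            inv_one, MulAut.one_apply, actHom_apply]
          have e1 : Multiplicative.toAdd x.left = Multiplicative.toAdd x.left / (1 - ((x.right : Kˣ) : K)) +
              ((x.right : Kˣ) : K) * (-(Multiplicative.toAdd x.left / (1 - ((x.right : Kˣ) : K)))) := by
            field_simp
            ring
          exact congrArg Multiplicative.ofAdd e1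
        · simp
      rw [hx, MulEquiv.orderOf_eq, orderOf_injective _ SemidirectProduct.inr_injective]
      exact orderOf_dvd_natCard _
  · rintro (h | h)
    · rcases (Nat.dvd_prime (Fact.out : p.Prime)).mp h with rfl | rfl
      · exact ⟨1, orderOf_one⟩
      · refine ⟨SemidirectProduct.inl (Multiplicative.ofAdd 1), ?_⟩
        show orderOf (SemidirectProduct.inl (Multiplicative.ofAdd (1 : K)) : Aff U) = d
        rw [orderOf_injective _ SemidirectProduct.inl_injective]
        apply orderOf_eq_prime (pow_char_mult d _)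
        intro h1
        exact one_ne_zero (Multiplicative.ofAdd.injective h1 : (1 : K) = 0)
    · obtain ⟨g, hg⟩ := IsCyclic.exists_generator (α := U)
      have ho : orderOf g = Nat.card U := orderOf_eq_card_of_forall_mem_zpowers hg
      obtain ⟨k, hk⟩ := exists_orderOf_eq_of_dvd g (orderOf_pos g) d (ho ▸ h)
      refine ⟨SemidirectProduct.inr (g ^ k), ?_⟩
      show orderOf (SemidirectProduct.inr (g ^ k) : Aff U) = d
      rw [orderOf_injective _ SemidirectProduct.inr_injective, hk]

theorem exists_subgroup_card [Fintype K] (m : ℕ) (hm : m ∣ Fintype.card K - 1) :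
    ∃ U : Subgroup Kˣ, Nat.card U = m := by
  classical
  obtain ⟨ζ, hζ⟩ := IsCyclic.exists_generator (α := Kˣ)
  have ho : orderOf ζ = Fintype.card K - 1 := by
    rw [orderOf_eq_card_of_forall_mem_zpowers hζ, card_units_eq]
  obtain ⟨k, hk⟩ := exists_orderOf_eq_of_dvd ζ (orderOf_pos ζ) m (ho ▸ hm)
  exact ⟨Subgroup.zpowers (ζ ^ k), by rw [Nat.card_zpowers, hk]⟩

end

theorem range_orderOf_prod {X Y : Type*} [Group X] [Group Y] :
    Set.range (orderOf : X × Y → ℕ) = {d | ∃ a ∈ Set.range (orderOf : X → ℕ),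
      ∃ b ∈ Set.range (orderOf : Y → ℕ), d = Nat.lcm a b} := by
  ext d
  constructor
  · rintro ⟨x, rfl⟩
    exact ⟨_, ⟨x.1, rfl⟩, _, ⟨x.2, rfl⟩, Prod.orderOf x⟩
  · rintro ⟨_, ⟨x, rfl⟩, _, ⟨y, rfl⟩, rfl⟩
    exact ⟨(x, y), Prod.orderOf (x, y)⟩

theorem lcm_sets (p m₁ m₂ : ℕ) :
    {d | ∃ a ∈ {d : ℕ | d ∣ p ∨ d ∣ m₁}, ∃ b ∈ {d : ℕ | d ∣ p ∨ d ∣ m₂}, d = Nat.lcm a b} =
    {d | ∃ a ∈ {d : ℕ | d ∣ p ∨ d ∣ m₁ ∨ d ∣ m₂}, ∃ b ∈ {d : ℕ | d ∣ p ∨ d ∣ m₁ ∨ d ∣ m₂},
      d = Nat.lcm a b} := by
  ext d
  constructor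
  · rintro ⟨a, ha, b, hb, rfl⟩
    refine ⟨a, ?_, b, ?_, rfl⟩
    · rcases ha with h | h
      · exact Or.inl h
      · exact Or.inr (Or.inl h)
    · rcases hb with h | h
      · exact Or.inl h
      · exact Or.inr (Or.inr h)
  · rintro ⟨a, ha, b, hb, rfl⟩
    rcases ha with ha | ha | ha <;> rcases hb with hb | hb | hb
    · exact ⟨Nat.lcm a b, Or.inl (Nat.lcm_dvd ha hb), 1, Or.inl (one_dvd _), by simp⟩
    · exact ⟨b, Or.inr hb, a, Or.inl ha, Nat.lcm_comm _ _⟩
    · exact ⟨a, Or.inl ha, b, Or.inr hb, rfl⟩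
    · exact ⟨a, Or.inr ha, b, Or.inl hb, rfl⟩
    · exact ⟨Nat.lcm a b, Or.inr (Nat.lcm_dvd ha hb), 1, Or.inl (one_dvd _), by simp⟩
    · exact ⟨a, Or.inr ha, b, Or.inr hb, rfl⟩
    · exact ⟨b, Or.inl hb, a, Or.inr ha, Nat.lcm_comm _ _⟩
    · exact ⟨b, Or.inr hb, a, Or.inr ha, Nat.lcm_comm _ _⟩
    · exact ⟨1, Or.inl (one_dvd _), Nat.lcm a b, Or.inr (Nat.lcm_dvd ha hb), by simp⟩

/-- Let q ≥ 4 be a prime power and L = PSL(2,q). There is a finite solvable group with the same set of element orders as L × L (so L × L is not determined by its spectrum). -/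
theorem result {F : Type*} [Field F] [Fintype F] (hF : 4 ≤ Fintype.card F) :
    ∃ (H : Type) (_ : Group H) (_ : Finite H), Group.IsSolvable H ∧
      Set.range (orderOf : H → ℕ) = Set.range (orderOf : Matrix.ProjectiveSpecialLinearGroup (Fin 2) F × Matrix.ProjectiveSpecialLinearGroup (Fin 2) F → ℕ) := by
  classical
  obtain ⟨p, hp⟩ := CharP.exists F
  haveI : Fact p.Prime := ⟨CharP.char_is_prime F p⟩
  obtain ⟨n, -, hq⟩ := FiniteField.card F p
  have hn : (n : ℕ) ≠ 0 := n.pos.ne'
  haveI : Fintype (GaloisField p n) := Fintype.ofFinite _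
  haveI : Fintype (GaloisField p (2 * n)) := Fintype.ofFinite _
  have hc1 : Fintype.card (GaloisField p n) = Fintype.card F := by
    rw [← Nat.card_eq_fintype_card, GaloisField.card p n hn, hq]
  have hc2 : Fintype.card (GaloisField p (2 * n)) = Fintype.card F ^ 2 := by
    rw [← Nat.card_eq_fintype_card, GaloisField.card p (2 * n) (by omega), hq, ← pow_mul, mul_comm]
  have hg1 : Nat.gcd 2 (Fintype.card F - 1) ∣ Fintype.card F - 1 := Nat.gcd_dvd_right _ _
  have hg2 : Nat.gcd 2 (Fintype.card F - 1) ∣ Fintype.card F + 1 := by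
    have : Fintype.card F + 1 = (Fintype.card F - 1) + 2 := by omega
    rw [this]
    exact Nat.dvd_add hg1 (Nat.gcd_dvd_left _ _)
  obtain ⟨U₁, hU₁⟩ := exists_subgroup_card (K := GaloisField p n)
    ((Fintype.card F - 1) / Nat.gcd 2 (Fintype.card F - 1)) (by
      rw [hc1]; exact Nat.div_dvd_of_dvd hg1)
  obtain ⟨U₂, hU₂⟩ := exists_subgroup_card (K := GaloisField p (2 * n))
    ((Fintype.card F + 1) / Nat.gcd 2 (Fintype.card F - 1)) (by
      rw [hc2]
      apply (Nat.div_dvd_of_dvd hg2).trans
      obtain ⟨k, hk⟩ : ∃ k, Fintype.card F = k + 1 := ⟨Fintype.card F - 1, by omega⟩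
      have e0 : (k + 1) ^ 2 - 1 = k * (k + 2) := by
        have : (k + 1) ^ 2 = k * (k + 2) + 1 := by ring
        rw [this]; rfl
      rw [hk, e0]
      exact Dvd.intro_left k rfl)
  refine ⟨Aff U₁ × Aff U₂, inferInstance, inferInstance, inferInstance, ?_⟩
  rw [range_orderOf_prod, range_orderOf_prod, spec_aff p U₁, spec_aff p U₂, hU₁, hU₂,
    Cfsg.Agent.S2475.result p hF, lcm_sets]


end Cfsg.Agent.S3532
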