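import Cfsg.Statements.S3554
-- import your own Cfsg.Agent.* helpers here

set_option autoImplicit false
open Cfsg

namespace Cfsg.Agent.S3554

open MulAction Subgroup

/-- Let G act faithfully and transitively on a finite set and suppose G has a non-trivial cyclic normal subgroup. Then some element of G of prime order fixes no point. -/
theorem result {G Ω : Type*} [Group G] [Finite G] [MulAction G Ω] [FaithfulSMul G Ω] [Finite Ω]
    (htrans : MulAction.IsPretransitive G Ω) (C : Subgroup G) (hC : C.Normal) (hC1 : C ≠ ⊥) (hcyc : IsCyclic ↥C) :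
    ∃ g : G, (orderOf g).Prime ∧ ∀ ω : Ω, g • ω ≠ ω := by
  classical
  have := htrans
  obtain ⟨c, hc⟩ := hcyc.exists_generator
  have hcard : Nat.card C ≠ 1 := by
    intro h
    exact hC1 (Subgroup.card_eq_one.1 h)
  obtain ⟨p, hp, hpd⟩ := Nat.exists_prime_and_dvd hcard
  have hoc : orderOf c = Nat.card C := orderOf_eq_card_of_forall_mem_zpowers hc
  obtain ⟨k, hk⟩ := hpd
  have hk0 : k ≠ 0 := by
    rintro rfl
    have : 0 < Nat.card C := Nat.card_pos
    omega
  have hocG : orderOf (c : G) = p * k := by rw [Subgroup.orderOf_coe, hoc, hk]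
  have hog : orderOf ((c : G) ^ k) = p := by
    rw [orderOf_pow_of_dvd hk0 (by rw [hocG]; exact Dvd.intro_left _ rfl), hocG,
      Nat.mul_div_cancel _ (Nat.pos_of_ne_zero hk0)]
  refine ⟨(c : G) ^ k, hog ▸ hp, ?_⟩
  intro ω hω
  have hall : ∀ ω' : Ω, (c : G) ^ k • ω' = ω' := by
    intro ω'
    obtain ⟨x, rfl⟩ := exists_smul_eq G ω ω'
    have h1 : x⁻¹ * c * x⁻¹⁻¹ ∈ C := hC.conj_mem c c.2 x⁻¹
    obtain ⟨j, hj⟩ := hc ⟨_, h1⟩
    have h2 : x⁻¹ * (c : G) * x⁻¹⁻¹ = (c : G) ^ j := by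
      have := congrArg Subtype.val hj
      simpa using this.symm
    have h3 : x⁻¹ * (c : G) ^ k * x⁻¹⁻¹ = ((c : G) ^ k) ^ j := by
      rw [← conj_pow, h2, ← zpow_natCast, ← zpow_natCast, ← zpow_mul, ← zpow_mul, mul_comm]
    have h4 : ((c : G) ^ k) ^ j • ω = ω :=
      (stabilizer G ω).zpow_mem (mem_stabilizer_iff.2 hω) j
    calc (c : G) ^ k • x • ω = x • (x⁻¹ * (c : G) ^ k * x⁻¹⁻¹) • ω := by simp [mul_smul]
      _ = x • ω := by rw [h3, h4]
  have h1 : (c : G) ^ k = 1 :=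
    FaithfulSMul.eq_of_smul_eq_smul (α := Ω) (fun ω' => by rw [hall, one_smul])
  rw [h1, orderOf_one] at hog
  exact hp.one_lt.ne hog

end Cfsg.Agent.S3554
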