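import Cfsg.Statements.S3555
import Mathlib
import Cfsg.Agent.Lib.Helper15.Frob4

set_option autoImplicit false
open Cfsg

namespace Cfsg.Agent.S3555

open Cfsg.Agent.Lib.Helper15
open Pointwise

theorem count_key {G Ω : Type*} [Group G] [Fintype G] [MulAction G Ω] [Fintype Ω]
    [MulAction.IsPretransitive G Ω] [Nonempty Ω]
    (hinv : ∀ g : G, (∀ ω : Ω, g • ω ≠ ω) → g * g = 1) (g : G) (α β : Ω) (hαβ : α ≠ β)
    (hα : g • α = α) (hβ : g • β = β) : ∀ ω : Ω, g • ω = ω := by
  classical
  let D : G → Prop := fun g => ∀ ω : Ω, g • ω ≠ ω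
  let f : G → ℤ := fun g => ∑ ω : Ω, if g • ω = ω then 1 else 0
  let c : Ω → Ω → ℤ := fun α β => ∑ g : G, if (g • α = α ∧ g • β = β) then 1 else 0
  let d : Ω → Ω → ℤ := fun α β => ∑ g : G, if (D g ∧ g • α = β) then 1 else 0
  let n : ℤ := Fintype.card Ω
  have F1 : ∑ g : G, f g = Fintype.card G := by
    have h := MulAction.sum_card_fixedBy_eq_card_orbits_mul_card_group G Ω
    have h1 : Fintype.card (Quotient (MulAction.orbitRel G Ω)) = 1 := by
      rw [Fintype.card_eq_one_iff]
      obtain ⟨ω₀⟩ := ‹Nonempty Ω›
      refine ⟨Quotient.mk _ ω₀, ?_⟩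
      intro y
      induction y using Quotient.ind with
      | _ y =>
        apply Quotient.sound
        exact MulAction.exists_smul_eq G ω₀ y
    rw [h1, one_mul] at h
    have h2 : ∀ g : G, f g = (Fintype.card (MulAction.fixedBy Ω g) : ℤ) := by
      intro g
      simp only [f]
      rw [Finset.sum_boole, Fintype.card_subtype]
      rfl
    simp only [h2]
    exact_mod_cast h
  have F2 : ∑ g : G, (f g) ^ 2 = ∑ α : Ω, ∑ β : Ω, c α β := by
    simp only [c]
    have : ∀ g : G, (f g) ^ 2 = ∑ α : Ω, ∑ β : Ω, if (g • α = α ∧ g • β = β) then (1 : ℤ) else 0 := by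
      intro g
      simp only [f]
      rw [sq, Finset.sum_mul_sum]
      apply Finset.sum_congr rfl; intro a _
      apply Finset.sum_congr rfl; intro b _
      by_cases h1 : g • a = a <;> by_cases h2 : g • b = b <;> simp [h1, h2]
    simp only [this]
    rw [Finset.sum_comm]
    apply Finset.sum_congr rfl; intro a _
    rw [Finset.sum_comm]
  have F3 : ∑ α : Ω, c α α = ∑ g : G, f g := by
    simp only [c, f]
    rw [Finset.sum_comm]
    apply Finset.sum_congr rfl; intro a _
    apply Finset.sum_congr rfl; intro b _
    simp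
  have F4 : ∑ α : Ω, ∑ β : Ω, d α β = ∑ g : G, if D g then n else 0 := by
    simp only [d]
    have : ∀ g : G, (if D g then n else 0) = ∑ α : Ω, ∑ β : Ω, if (D g ∧ g • α = β) then (1 : ℤ) else 0 := by
      intro g
      by_cases h : D g
      · simp [h, n]
      · simp [h]
    simp only [this]
    symm
    rw [Finset.sum_comm]
    apply Finset.sum_congr rfl; intro a _
    rw [Finset.sum_comm]
  have F5 : ∀ a : Ω, d a a = 0 := by
    intro a
    simp only [d]
    apply Finset.sum_eq_zero
    intro t _
    rw [if_neg]
    rintro ⟨h1, h2⟩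
    exact h1 a h2
  have F5' : ∀ a b : Ω, d a b ≤ c a b := by
    intro a b
    simp only [d, c]
    rw [Finset.sum_boole, Finset.sum_boole]
    by_cases hex : ∃ t₀ : G, D t₀ ∧ t₀ • a = b
    · obtain ⟨t₀, ht₀, ht₀'⟩ := hex
      have h0 := hinv t₀ ht₀
      have h0' : t₀ • b = a := by rw [← ht₀', smul_smul, h0, one_smul]
      have hia : t₀⁻¹ • b = a := by rw [← ht₀', inv_smul_smul]
      have hib : t₀⁻¹ • a = b := by rw [← h0', inv_smul_smul]
      norm_cast
      apply Finset.card_le_card_of_injOn (fun t => t₀⁻¹ * t)
      · intro t ht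
        simp only [Finset.coe_filter, Finset.mem_univ, true_and, Set.mem_ofPred_eq] at ht ⊢
        obtain ⟨h1, h2⟩ := ht
        have h3 := hinv t h1
        have h4 : t • b = a := by rw [← h2, smul_smul, h3, one_smul]
        constructor
        · rw [mul_smul, h2, hia]
        · rw [mul_smul, h4, hib]
      · intro t _ t' _ h
        exact mul_left_cancel h
    · have : (Finset.univ.filter (fun t : G => D t ∧ t • a = b)) = ∅ := by
        rw [Finset.filter_eq_empty_iff]
        intro t _ h
        exact hex ⟨t, h⟩
      rw [this]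
      simp
  have F6 : ∀ t : G, D t → f t = 0 := by
    intro t ht
    simp only [f]
    apply Finset.sum_eq_zero
    intro w _
    rw [if_neg (ht w)]
  have F7 : ∀ t : G, f t ≤ n := by
    intro t
    simp only [f, n]
    rw [Finset.sum_boole]
    norm_cast
    exact Finset.card_le_univ _
  have F8 : ∀ t : G, ¬ D t → 1 ≤ f t := by
    intro t ht
    simp only [D] at ht
    push Not at ht
    obtain ⟨w, hw⟩ := ht
    simp only [f]
    rw [Finset.sum_boole]
    norm_cast
    apply Finset.card_pos.mpr
    exact ⟨w, by simp [hw]⟩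
  let e : G → ℤ := fun t => (f t - 1) * (f t - n) - (if D t then n else 0)
  have E1 : ∀ t : G, e t ≤ 0 := by
    intro t
    simp only [e]
    by_cases ht : D t
    · rw [if_pos ht, F6 t ht]; ring_nf; exact le_refl _
    · rw [if_neg ht]
      have h1 := F8 t ht
      have h2 := F7 t
      nlinarith
  have E2 : 0 ≤ ∑ t : G, e t := by
    have h1 : ∑ t : G, e t = ∑ t : G, (f t) ^ 2 - (n + 1) * ∑ t : G, f t + n * Fintype.card G
        - ∑ t : G, (if D t then n else 0) := by
      simp only [e]
      rw [Finset.sum_sub_distrib]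
      congr 1
      have : ∀ t : G, (f t - 1) * (f t - n) = (f t) ^ 2 - (n + 1) * f t + n := by
        intro t; ring
      simp only [this]
      rw [Finset.sum_add_distrib, Finset.sum_sub_distrib, ← Finset.mul_sum]
      simp [mul_comm]
    rw [h1, F2, ← F4, F1]
    have h2 : ∑ a : Ω, c a a ≤ ∑ a : Ω, ∑ b : Ω, (c a b - d a b) := by
      apply Finset.sum_le_sum
      intro a _
      have : c a a = c a a - d a a := by rw [F5 a]; ring
      rw [this]
      apply Finset.single_le_sum (f := fun b => c a b - d a b) _ (Finset.mem_univ a)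
      intro b _
      have := F5' a b
      linarith
    rw [F3, F1] at h2
    simp only [Finset.sum_sub_distrib] at h2
    linarith
  have E3 : ∀ t : G, e t = 0 := by
    have h1 : ∑ t : G, e t = 0 := le_antisymm (Finset.sum_nonpos (fun t _ => E1 t)) E2
    intro t
    exact (Finset.sum_eq_zero_iff_of_nonpos (fun t _ => E1 t)).mp h1 t (Finset.mem_univ t)
  have hgD : ¬ D g := fun h => h α hα
  have h2 : 2 ≤ f g := by
    simp only [f]
    rw [Finset.sum_boole]
    norm_cast
    have : ({α, β} : Finset Ω) ⊆ Finset.univ.filter (fun ω => g • ω = ω) := by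
      intro w hw
      simp only [Finset.mem_insert, Finset.mem_singleton] at hw
      rcases hw with rfl | rfl <;> simp [hα, hβ]
    calc 2 = ({α, β} : Finset Ω).card := (Finset.card_pair hαβ).symm
      _ ≤ _ := Finset.card_le_card this
  have h3 := E3 g
  simp only [e] at h3
  rw [if_neg hgD, sub_zero] at h3
  have h4 : f g = n := by
    rcases mul_eq_zero.mp h3 with h | h
    · linarith
    · linarith
  simp only [f, n] at h4
  rw [Finset.sum_boole] at h4
  norm_cast at h4
  rw [Finset.card_eq_iff_eq_univ] at h4
  intro w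
  have := Finset.mem_univ w
  rw [← h4] at this
  simpa using this

/-- Let G act faithfully and transitively on a finite set and suppose every element of G fixing no point is an involution. Then either G is an elementary abelian 2-group, or G is a Frobenius group whose Frobenius kernel is an elementary abelian 2-group: G has a Frobenius complement H, and the elements lying in no conjugate of H, together with the identity, pairwise commute and square to the identity. -/
theorem result {G Ω : Type*} [Group G] [Finite G] [MulAction G Ω] [FaithfulSMul G Ω] [Finite Ω]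
    (htrans : MulAction.IsPretransitive G Ω) (hinv : ∀ g : G, (∀ ω : Ω, g • ω ≠ ω) → orderOf g = 2) :
    (IsMulCommutative G ∧ ∀ g : G, g ^ 2 = 1) ∨
    (∃ H : Subgroup G, Cfsg.IsFrobeniusComplement H ∧
      (∀ x ∈ Cfsg.frobeniusKernel H, x ^ 2 = 1) ∧
      ∀ x ∈ Cfsg.frobeniusKernel H, ∀ y ∈ Cfsg.frobeniusKernel H, x * y = y * x) := by
  classical
  have : Fintype G := Fintype.ofFinite G
  have : Fintype Ω := Fintype.ofFinite Ω
  have hne : Nonempty Ω := by
    by_contra h
    rw [not_nonempty_iff] at h
    have := hinv 1 (fun ω => (h.false ω).elim)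
    rw [orderOf_one] at this
    omega
  obtain ⟨α⟩ := hne
  have hne : Nonempty Ω := ⟨α⟩
  have hinv' : ∀ g : G, (∀ ω : Ω, g • ω ≠ ω) → g * g = 1 := by
    intro g hg
    have := hinv g hg
    rw [← sq, ← this]
    exact pow_orderOf_eq_one g
  have key := fun g a b hab ha hb => count_key (G := G) (Ω := Ω) hinv' g a b hab ha hb
  have hfaith : ∀ g : G, (∀ ω : Ω, g • ω = ω) → g = 1 := by
    intro g hg
    apply FaithfulSMul.eq_of_smul_eq_smul (α := Ω)
    intro ω
    rw [hg ω, one_smul]
  by_cases hH : MulAction.stabilizer G α = ⊥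
  · left
    have hsq : ∀ g : G, g ^ 2 = 1 := by
      intro g
      by_cases hg : ∀ ω : Ω, g • ω ≠ ω
      · rw [sq]; exact hinv' g hg
      · push Not at hg
        obtain ⟨ω, hω⟩ := hg
        obtain ⟨x, rfl⟩ := MulAction.exists_smul_eq G α ω
        have h1 : x⁻¹ * g * x ∈ MulAction.stabilizer G α := by
          rw [MulAction.mem_stabilizer_iff, mul_smul, mul_smul, hω, inv_smul_smul]
        rw [hH, Subgroup.mem_bot] at h1
        have : g = x * (x⁻¹ * g * x) * x⁻¹ := by group
        rw [this, h1]; simp
    refine ⟨⟨⟨?_⟩⟩, hsq⟩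
    intro a b
    have h1 := hsq (a * b)
    have h2 := hsq a
    have h3 := hsq b
    rw [sq] at h1 h2 h3
    calc a * b = a * (a * b * (a * b)) * b := by rw [h1]; group
      _ = (a * a) * (b * a) * (b * b) := by group
      _ = b * a := by rw [h2, h3]; group
  · right
    have hFrob : Cfsg.IsFrobeniusComplement (MulAction.stabilizer G α) := by
      refine ⟨hH, ?_, ?_⟩
      · intro htop
        apply hH
        rw [eq_bot_iff]
        intro g _
        rw [Subgroup.mem_bot]
        apply hfaith
        intro ω
        obtain ⟨x, rfl⟩ := MulAction.exists_smul_eq G α ω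
        have h1 : g * x ∈ MulAction.stabilizer G α := by rw [htop]; trivial
        have h2 : x ∈ MulAction.stabilizer G α := by rw [htop]; trivial
        rw [MulAction.mem_stabilizer_iff] at h1 h2
        rw [← mul_smul, h1, h2]
      · intro g hg
        rw [eq_bot_iff]
        intro x hx
        obtain ⟨hx1, hx2⟩ := Subgroup.mem_inf.mp hx
        rw [mem_conj_smul_iff, MulAction.mem_stabilizer_iff] at hx2
        rw [MulAction.mem_stabilizer_iff] at hx1 hg
        rw [Subgroup.mem_bot]
        apply hfaith
        apply key x α (g • α) (fun h => hg h.symm) hx1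
        have : x • g • α = g • ((g⁻¹ * x * g) • α) := by
          simp only [mul_smul, smul_inv_smul]
        rw [this, hx2]
    refine ⟨_, hFrob, ?_⟩
    have hsq : ∀ x ∈ Cfsg.frobeniusKernel (MulAction.stabilizer G α), x ^ 2 = 1 := by
      intro x hx
      rw [mem_frobeniusKernel_iff] at hx
      rcases hx with rfl | hx
      · simp
      · rw [sq]
        apply hinv'
        intro ω hω
        obtain ⟨y, rfl⟩ := MulAction.exists_smul_eq G α ω
        apply hx y
        rw [MulAction.mem_stabilizer_iff, mul_smul, mul_smul, hω, inv_smul_smul]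
    refine ⟨hsq, ?_⟩
    obtain ⟨K, hKset, -, -⟩ := frobenius_theorem hFrob
    intro a ha b hb
    have hab : a * b ∈ Cfsg.frobeniusKernel (MulAction.stabilizer G α) := by
      rw [← hKset] at ha hb ⊢
      exact K.mul_mem ha hb
    have h1 := hsq _ hab
    have h2 := hsq a ha
    have h3 := hsq b hb
    rw [sq] at h1 h2 h3
    calc a * b = a * (a * b * (a * b)) * b := by rw [h1]; group
      _ = (a * a) * (b * a) * (b * b) := by group
      _ = b * a := by rw [h2, h3]; group

end Cfsg.Agent.S3555
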