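import Cfsg.Statements.S3556
-- import your own Cfsg.Agent.* helpers here
import Cfsg.Agent.Lib.Helper20.MinNormalDecomp
import Cfsg.Agent.Lib.Helper20.Derangement

set_option autoImplicit false
open Cfsg

namespace Cfsg.Agent.S3556

open Cfsg.Agent.Lib.Helper4 Cfsg.Agent.Lib.Helper20 in
/-- Jordan: a finite group acting transitively without derangements acts on a subsingleton. -/
theorem jordan' {K X : Type*} [Group K] [Finite K] [MulAction K X] [Finite X]
    [MulAction.IsPretransitive K X] (h : ∀ g : K, ∃ x : X, g • x = x) (x y : X) : x = y := by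
  have htr : MulAction.IsPretransitive (derSub K X) X := der_transitive
  have hbot : derSub K X = ⊥ := by
    rw [Subgroup.closure_eq_bot_iff]
    intro g hg
    obtain ⟨x, hx⟩ := h g
    exact absurd hx (hg x)
  obtain ⟨g, hg⟩ := htr.exists_smul_eq x y
  have hg1 : (g : K) = 1 := by
    have h2 : (g : K) ∈ (⊥ : Subgroup K) := hbot ▸ g.2
    exact Subgroup.mem_bot.1 h2
  have : (g : K) • x = y := hg
  rw [hg1, one_smul] at this
  exact this

theorem key {G Ω : Type*} [Group G] [Finite G] [MulAction G Ω] [FaithfulSMul G Ω] [Finite Ω]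
    (p : ℕ) (hp : p.Prime)
    (hder : ∀ g : G, (∀ ω : Ω, g • ω ≠ ω) → ∃ k : ℕ, orderOf g = p ^ k)
    (A B : Subgroup G) (hcomm : ∀ a ∈ A, ∀ b ∈ B, a * b = b * a)
    (htr : ∀ x y : Ω, ∃ a ∈ A, ∃ b ∈ B, (a * b) • x = y)
    (hB : ¬ IsPGroup p B) : A = ⊥ := by
  -- an element of prime order r ≠ p in B
  obtain ⟨r, hr, hrp, y, hyB, hy⟩ : ∃ r : ℕ, r.Prime ∧ r ≠ p ∧ ∃ y ∈ B, orderOf y = r := by
    by_contra hcon
    push Not at hcon
    apply hB
    have hcard : Nat.card B = p ^ (Nat.card B).primeFactorsList.length := by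
      apply Nat.eq_prime_pow_of_unique_prime_dvd Nat.card_pos.ne'
      intro d hd hdvd
      by_contra hdp
      have : Fact d.Prime := ⟨hd⟩
      obtain ⟨z, hz⟩ := exists_prime_orderOf_dvd_card' d hdvd
      apply hcon d hd hdp z z.2
      rw [← hz]; simp
    exact IsPGroup.of_card hcard
  -- every element of A has a fixed point
  have hfix : ∀ a ∈ A, ∃ ω : Ω, a • ω = ω := by
    intro a ha
    by_contra hcon
    push Not at hcon
    obtain ⟨k, hk⟩ := hder a hcon
    have hc : Commute a y := hcomm a ha y hyB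
    have hcop : (orderOf a).Coprime (orderOf y) := by
      rw [hk, hy]
      exact Nat.Coprime.pow_left k ((Nat.coprime_primes hp hr).2 hrp.symm)
    have hder2 : ∀ ω : Ω, (a * y) • ω ≠ ω := by
      intro ω hω
      have h1 : (a * y) ^ r • ω = ω := by
        have : ∀ n : ℕ, (a * y) ^ n • ω = ω := by
          intro n
          induction n with
          | zero => simp
          | succ n ih => rw [pow_succ, mul_smul, hω, ih]
        exact this r
      have h2 : (a * y) ^ r = a ^ r := by
        rw [hc.mul_pow, ← hy, pow_orderOf_eq_one, mul_one]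
      rw [h2] at h1
      obtain ⟨m, hm⟩ := exists_pow_eq_self_of_coprime (x := a) (n := r) (by rw [← hy]; exact hcop.symm)
      have h3 : ∀ n : ℕ, (a ^ r) ^ n • ω = ω := by
        intro n
        induction n with
        | zero => simp
        | succ n ih => rw [pow_succ, mul_smul, h1, ih]
      have := h3 m
      rw [hm] at this
      exact hcon ω this
    obtain ⟨l, hl⟩ := hder _ hder2
    rw [hc.orderOf_mul_eq_mul_orderOf_of_coprime hcop, hy] at hl
    have : r ∣ p ^ l := hl ▸ Dvd.intro_left _ rfl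
    exact hrp ((Nat.prime_dvd_prime_iff_eq hr hp).1 (hr.dvd_of_dvd_pow this))
  -- A fixes every point
  rw [eq_bot_iff]
  intro a ha
  rw [Subgroup.mem_bot]
  apply FaithfulSMul.eq_of_smul_eq_smul (α := Ω)
  intro ω
  rw [one_smul]
  have hJ := jordan' (K := A) (X := MulAction.orbit A ω) (by
    intro g
    obtain ⟨ω', hω'⟩ := hfix g g.2
    obtain ⟨a', ha', b', hb', hab⟩ := htr ω ω'
    refine ⟨⟨a' • ω, ⟨⟨a', ha'⟩, rfl⟩⟩, ?_⟩
    apply Subtype.ext
    change (g : G) • a' • ω = a' • ω
    have h1 : (g : G) • (a' * b') • ω = (a' * b') • ω := by rw [hab]; exact hω'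
    rw [hcomm a' ha' b' hb', mul_smul, ← mul_smul, hcomm g g.2 b' hb', mul_smul] at h1
    exact smul_left_cancel b' h1)
    ⟨a • ω, ⟨⟨a, ha⟩, rfl⟩⟩ ⟨ω, MulAction.mem_orbit_self ω⟩
  exact congrArg Subtype.val hJ

open Cfsg.Agent.Lib.Helper4 in
theorem elem_of_comm {G : Type*} [Group G] [Finite G]
    {M : Subgroup G} (hM : IsMinNormal M) (hcomm : ∀ x ∈ M, ∀ y ∈ M, x * y = y * x) :
    ∃ p : ℕ, p.Prime ∧ ∀ x ∈ M, x ^ p = 1 := by
  obtain ⟨hn, hb, hmin⟩ := hM
  have hc1 : Nat.card M ≠ 1 := fun h => hb (Subgroup.card_eq_one.mp h)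
  obtain ⟨p, hp, hpd⟩ := Nat.exists_prime_and_dvd hc1
  refine ⟨p, hp, ?_⟩
  let N : Subgroup G :=
    { carrier := {x | x ∈ M ∧ x ^ p = 1}
      mul_mem' := by
        rintro a b ⟨ha, ha'⟩ ⟨hb, hb'⟩
        refine ⟨M.mul_mem ha hb, ?_⟩
        have : Commute a b := hcomm a ha b hb
        rw [this.mul_pow, ha', hb', one_mul]
      one_mem' := ⟨M.one_mem, one_pow p⟩
      inv_mem' := by
        rintro a ⟨ha, ha'⟩
        exact ⟨M.inv_mem ha, by rw [inv_pow, ha', inv_one]⟩ }
  have hNn : N.Normal := by
    constructor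
    rintro x ⟨hx, hx'⟩ g
    exact ⟨hn.conj_mem x hx g, by rw [conj_pow, hx']; group⟩
  have hNM : N ≤ M := fun x hx => hx.1
  have hNb : N ≠ ⊥ := by
    have : Fact p.Prime := ⟨hp⟩
    obtain ⟨z, hz⟩ := exists_prime_orderOf_dvd_card' p hpd
    intro h
    have hzN : (z : G) ∈ N := by
      refine ⟨z.2, ?_⟩
      have := pow_orderOf_eq_one z
      rw [hz] at this
      exact_mod_cast congrArg Subtype.val this
    rw [h, Subgroup.mem_bot] at hzN
    have : z = 1 := Subtype.ext hzN
    rw [this, orderOf_one] at hz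
    exact hp.one_lt.ne hz
  rcases hmin N hNn hNM with h | h
  · exact absurd h hNb
  · intro x hx
    have : x ∈ N := h ▸ hx
    exact this.2

/-- Let G act faithfully and primitively on a finite set with at least two points, and suppose that for some fixed prime p every element of G fixing no point has order a power of p. Then G is of affine type (it has a regular normal subgroup that is an elementary abelian r-group for some prime r) or almost simple (it has a non-abelian simple normal subgroup with trivial centralizer). -/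
theorem result {G Ω : Type*} [Group G] [Finite G] [MulAction G Ω] [FaithfulSMul G Ω] [Finite Ω]
    (hprim : MulAction.IsPreprimitive G Ω) (hΩ : 2 ≤ Nat.card Ω) (p : ℕ) (hp : p.Prime)
    (hder : ∀ g : G, (∀ ω : Ω, g • ω ≠ ω) → ∃ k : ℕ, orderOf g = p ^ k) :
    (∃ (N : Subgroup G) (r : ℕ), r.Prime ∧ N.Normal ∧ Cfsg.IsElementaryAbelian r N ∧
      MulAction.IsPretransitive N Ω ∧ ∀ a : Ω, MulAction.stabilizer N a = ⊥) ∨
    (∃ T : Subgroup G, T.Normal ∧ IsSimpleGroup ↥T ∧ ¬ IsMulCommutative ↥T ∧
      Subgroup.centralizer (T : Set G) = ⊥) := by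
  classical
  have hpt : MulAction.IsPretransitive G Ω := hprim.toIsPretransitive
  have hnΩ : Nontrivial Ω := (Finite.one_lt_card_iff_nontrivial).1 hΩ
  -- nontrivial normal subgroups are transitive
  have htrans : ∀ M : Subgroup G, M.Normal → M ≠ ⊥ → MulAction.IsPretransitive M Ω := by
    intro M hM hMb
    apply MulAction.IsQuasiPreprimitive.isPretransitive_of_normal (G := G)
    intro hfix
    apply hMb
    rw [eq_bot_iff]
    intro m hm
    rw [Subgroup.mem_bot]
    apply FaithfulSMul.eq_of_smul_eq_smul (α := Ω)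
    intro ω
    rw [one_smul]
    have : ω ∈ MulAction.fixedPoints M Ω := by rw [hfix]; trivial
    exact this ⟨m, hm⟩
  have htop : (⊤ : Subgroup G) ≠ ⊥ := by
    intro h
    obtain ⟨x, y, hxy⟩ := exists_pair_ne Ω
    obtain ⟨g, hg⟩ := MulAction.exists_smul_eq G x y
    have : g ∈ (⊥ : Subgroup G) := h ▸ Subgroup.mem_top g
    rw [Subgroup.mem_bot] at this
    rw [this, one_smul] at hg
    exact hxy hg
  obtain ⟨N, -, hN⟩ := Cfsg.Agent.Lib.Helper4.exists_minNormal_le _ (⊤ : Subgroup G) rfl inferInstance htop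
  have hNn : N.Normal := hN.1
  have hNb : N ≠ ⊥ := hN.2.1
  have hNt : MulAction.IsPretransitive N Ω := htrans N hNn hNb
  by_cases hc : IsMulCommutative ↥N
  · left
    have hcomm : ∀ x ∈ N, ∀ y ∈ N, x * y = y * x := by
      intro x hx y hy
      have := hc.is_comm.comm (⟨x, hx⟩ : ↥N) ⟨y, hy⟩
      exact congrArg Subtype.val this
    obtain ⟨r, hr, hrN⟩ := elem_of_comm hN hcomm
    refine ⟨N, r, hr, hNn, ⟨hc, hrN⟩, hNt, ?_⟩
    intro a
    rw [eq_bot_iff]
    intro n hn
    rw [Subgroup.mem_bot]
    apply Subtype.ext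
    apply FaithfulSMul.eq_of_smul_eq_smul (α := Ω)
    intro b
    obtain ⟨m, hm⟩ := MulAction.exists_smul_eq N a b
    have hna : (n : G) • a = a := hn
    have hmb : (m : G) • a = b := hm
    change (n : G) • b = (1 : G) • b
    rw [one_smul, ← hmb, ← mul_smul, hcomm n n.2 m m.2, mul_smul, hna]
  · right
    have hZ : N ⊓ Subgroup.centralizer (N : Set G) = ⊥ := by
      rcases hN.2.2 (N ⊓ Subgroup.centralizer (N : Set G)) inferInstance inf_le_left with h | h
      · exact h
      · exfalso
        apply hc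
        refine ⟨⟨fun a b => ?_⟩⟩
        have ha : (a : G) ∈ Subgroup.centralizer (N : Set G) := by
          have : (a : G) ∈ N ⊓ Subgroup.centralizer (N : Set G) := by rw [h]; exact a.2
          exact this.2
        apply Subtype.ext
        exact (Subgroup.mem_centralizer_iff.1 ha b b.2).symm
    have hNnt : Nontrivial ↥N := (Subgroup.nontrivial_iff_ne_bot N).2 hNb
    have hNp : ¬ IsPGroup p ↥N := by
      intro hpg
      have : Fact p.Prime := ⟨hp⟩
      have hcn : Nontrivial (Subgroup.center ↥N) := hpg.center_nontrivial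
      obtain ⟨z, hz⟩ := exists_ne (1 : Subgroup.center ↥N)
      apply hz
      have hzz : ((z : ↥N) : G) ∈ N ⊓ Subgroup.centralizer (N : Set G) := by
        refine ⟨(z : ↥N).2, ?_⟩
        change ((z : ↥N) : G) ∈ Subgroup.centralizer (N : Set G)
        rw [Subgroup.mem_centralizer_iff]
        intro h hh
        have := Subgroup.mem_center_iff.1 z.2 ⟨h, hh⟩
        exact congrArg Subtype.val this
      rw [hZ, Subgroup.mem_bot] at hzz
      apply Subtype.ext
      apply Subtype.ext
      exact hzz
    refine ⟨N, hNn, ?_, hc, ?_⟩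
    · refine { toNontrivial := hNnt, eq_bot_or_eq_top_of_normal := ?_ }
      intro H hH
      by_cases hHb : H = ⊥
      · exact Or.inl hHb
      right
      obtain ⟨L, hLH, hL⟩ := Cfsg.Agent.Lib.Helper4.exists_minNormal_le _ H rfl hH hHb
      obtain ⟨K, hKn, hLK, hLKt⟩ := Cfsg.Agent.Lib.Helper20.minNormal_exists_compl hN hL
      have hLn : L.Normal := hL.1
      have hcomm : ∀ l ∈ L, ∀ k ∈ K, l * k = k * l := fun l hl k hk =>
        Subgroup.commute_of_normal_of_disjoint L K hLn hKn (disjoint_iff.2 hLK) l k hl hk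
      have hprod : ∀ n : ↥N, ∃ l ∈ L, ∃ k ∈ K, n = l * k := by
        intro n
        have : n ∈ ((L ⊔ K : Subgroup ↥N) : Set ↥N) := by rw [hLKt]; trivial
        rw [Subgroup.mul_normal] at this
        obtain ⟨l, hl, k, hk, h⟩ := this
        exact ⟨l, hl, k, hk, h.symm⟩
      -- first: K is a p-group
      have hKp : IsPGroup p ↥K := by
        by_contra hKp
        apply hL.2.1
        have h1 := key p hp hder (L.map N.subtype) (K.map N.subtype) (by
          rintro _ ⟨l, hl, rfl⟩ _ ⟨k, hk, rfl⟩
          exact congrArg Subtype.val (hcomm l hl k hk)) (by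
          intro x y
          obtain ⟨n, hn⟩ := MulAction.exists_smul_eq N x y
          obtain ⟨l, hl, k, hk, h⟩ := hprod n
          refine ⟨l, ⟨l, hl, rfl⟩, k, ⟨k, hk, rfl⟩, ?_⟩
          rw [← hn, h]; rfl) (by
          intro h
          apply hKp
          exact h.of_equiv (K.equivMapOfInjective N.subtype N.subtype_injective).symm)
        exact (Subgroup.map_eq_bot_iff_of_injective L N.subtype_injective).1 h1
      have hLp : ¬ IsPGroup p ↥L := by
        intro hLp
        apply hNp
        have h1 : IsPGroup p ↥(L ⊔ K) := hLp.to_sup_of_normal_right hKp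
        rw [hLKt] at h1
        exact h1.of_equiv Subgroup.topEquiv
      have hKb : K = ⊥ := by
        have h1 := key p hp hder (K.map N.subtype) (L.map N.subtype) (by
          rintro _ ⟨k, hk, rfl⟩ _ ⟨l, hl, rfl⟩
          exact (congrArg Subtype.val (hcomm l hl k hk)).symm) (by
          intro x y
          obtain ⟨n, hn⟩ := MulAction.exists_smul_eq N x y
          obtain ⟨l, hl, k, hk, h⟩ := hprod n
          refine ⟨k, ⟨k, hk, rfl⟩, l, ⟨l, hl, rfl⟩, ?_⟩
          rw [← hn, h, hcomm l hl k hk]; rfl) (by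
          intro h
          apply hLp
          exact h.of_equiv (L.equivMapOfInjective N.subtype N.subtype_injective).symm)
        exact (Subgroup.map_eq_bot_iff_of_injective K N.subtype_injective).1 h1
      rw [hKb, sup_bot_eq] at hLKt
      rw [eq_top_iff, ← hLKt]
      exact hLH
    · apply key p hp hder (Subgroup.centralizer (N : Set G)) N
      · intro a ha b hb
        exact (Subgroup.mem_centralizer_iff.1 ha b hb).symm
      · intro x y
        obtain ⟨n, hn⟩ := MulAction.exists_smul_eq N x y
        exact ⟨1, Subgroup.one_mem _, n, n.2, by rw [one_mul]; exact hn⟩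
      · exact hNp

end Cfsg.Agent.S3556
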