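import Cfsg.Statements.S4812
import Cfsg.Agent.Lib.Helper2.SL2y
import Cfsg.Agent.S2300
import Cfsg.Agent.Lib.Helper7.BlockNormal

set_option autoImplicit false
open Cfsg

namespace Cfsg.Agent.S4812

open Cfsg.Agent.Lib.Helper2
theorem cd_sub {A : Type*} {B : Type*} [Group A] [Group B] (f : A →* B)
    (hf : Function.Surjective f) : Cfsg.charDegrees B ⊆ Cfsg.charDegrees A := by
  rintro d ⟨χ, hχ⟩
  refine ⟨⟨_, IsIrrCharacter.comp_surjective f hf χ.2⟩, ?_⟩
  rw [← hχ]
  simp [Cfsg.charDegree]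

theorem cd_congr {A : Type*} {B : Type*} [Group A] [Group B] (e : A ≃* B) :
    Cfsg.charDegrees A = Cfsg.charDegrees B :=
  Set.Subset.antisymm (cd_sub e.symm.toMonoidHom e.symm.surjective)
    (cd_sub e.toMonoidHom e.surjective)

theorem cd_sl (F : Type*) [Field F] [Fintype F] [CharP F 2] (h4 : 4 ≤ Fintype.card F) :
    Cfsg.charDegrees (Matrix.SpecialLinearGroup (Fin 2) F) =
      {1, Fintype.card F - 1, Fintype.card F, Fintype.card F + 1} := by
  classical
  have key : ∀ a b : ℕ, (a : ℂ) = b → a = b := fun a b h => by exact_mod_cast h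
  have h := Cfsg.Agent.S2300.result (F := F)
  have hcd : ∀ (χ : Cfsg.IrrCharacter (Matrix.SpecialLinearGroup (Fin 2) F)) (m : ℕ),
      (χ : Matrix.SpecialLinearGroup (Fin 2) F → ℂ) 1 = m →
      Cfsg.charDegree (χ : Matrix.SpecialLinearGroup (Fin 2) F → ℂ) = m := by
    intro χ m hm
    simp [Cfsg.charDegree, hm]
  ext d
  simp only [Set.mem_insert_iff, Set.mem_singleton_iff]
  constructor
  · rintro ⟨χ, rfl⟩
    rcases h.1 _ χ.2 with h1 | h1 | h1 | h1
    · left; exact hcd χ 1 (by rw [h1]; simp)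
    · right; left; exact hcd χ _ (by rw [h1]; rw [Nat.cast_sub (by omega)]; simp)
    · right; right; left; exact hcd χ _ h1
    · right; right; right; exact hcd χ _ (by rw [h1]; simp)
  · obtain ⟨h1, h2, h3, h5⟩ := h.2 h4
    have hne : ∀ (P : Cfsg.IrrCharacter (Matrix.SpecialLinearGroup (Fin 2) F) → Prop) (n : ℕ),
        Nat.card {χ // P χ} = n → 0 < n → ∃ χ, P χ := by
      intro P n hn hpos
      have : 0 < Nat.card {χ // P χ} := hn ▸ hpos
      obtain ⟨⟨χ, hχ⟩⟩ := (Nat.card_pos_iff.1 this).1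
      exact ⟨χ, hχ⟩
    rintro (rfl | rfl | rfl | rfl)
    · obtain ⟨χ, hχ⟩ := hne _ _ h1 one_pos
      exact ⟨χ, hcd χ 1 (by rw [hχ]; simp)⟩
    · obtain ⟨χ, hχ⟩ := hne _ _ h5 (by omega)
      exact ⟨χ, hcd χ _ (by rw [hχ]; rw [Nat.cast_sub (by omega)]; simp)⟩
    · obtain ⟨χ, hχ⟩ := hne _ _ h2 one_pos
      exact ⟨χ, hcd χ _ hχ⟩
    · obtain ⟨χ, hχ⟩ := hne _ _ h3 (by omega)
      exact ⟨χ, hcd χ _ (by rw [hχ]; simp)⟩

theorem cd_psl (F : Type*) [Field F] [Fintype F] [CharP F 2] :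
    Cfsg.charDegrees (Matrix.ProjectiveSpecialLinearGroup (Fin 2) F) =
      Cfsg.charDegrees (Matrix.SpecialLinearGroup (Fin 2) F) := by
  classical
  apply Set.Subset.antisymm
  · exact cd_sub (QuotientGroup.mk' (Subgroup.center (Matrix.SpecialLinearGroup (Fin 2) F)))
      (QuotientGroup.mk'_surjective _)
  · rintro d ⟨χ, hχ⟩
    have hker : ∀ u ∈ Subgroup.center (Matrix.SpecialLinearGroup (Fin 2) F),
        (χ : Matrix.SpecialLinearGroup (Fin 2) F → ℂ) u =
          (χ : Matrix.SpecialLinearGroup (Fin 2) F → ℂ) 1 := by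
      intro u hu
      obtain ⟨r, hr, hru⟩ := Matrix.SpecialLinearGroup.mem_center_iff.1 hu
      have hr1 : r = 1 := by
        have h2 : (2 : F) = 0 := CharP.cast_eq_zero F 2
        have h3 : (r - 1) ^ 2 = 0 := by
          have hr' : r ^ 2 = 1 := by simpa using hr
          linear_combination hr' + (1 - r) * h2
        have := pow_eq_zero_iff (two_ne_zero) |>.1 h3
        exact sub_eq_zero.1 this
      have hu1 : u = 1 := by
        apply Subtype.ext
        rw [← hru, hr1]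
        simp
      rw [hu1]
    obtain ⟨ψ, hψ⟩ := Cfsg.Agent.Lib.Helper7.exists_quotient_char χ
      (Subgroup.center (Matrix.SpecialLinearGroup (Fin 2) F)) hker
    refine ⟨ψ, ?_⟩
    rw [← hχ]
    have := hψ 1
    simp only [Cfsg.charDegree]
    rw [this]
    rfl

/-- Let F be a finite field of characteristic 2 with q ≥ 4 elements and let S be isomorphic to PSL(2,F) or to SL(2,F). Then the vertices of the character degree graph of S are the primes dividing q(q²−1), and two distinct primes are adjacent exactly when both divide q + 1 or both divide q − 1; so the graph has the three connected components {2}, the primes dividing q + 1 and the primes dividing q − 1, each complete. -/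
theorem result (F : Type*) [Field F] [Fintype F] [CharP F 2] (q : ℕ) (hq : Fintype.card F = q) (h4 : 4 ≤ q) {S : Type*} [Group S] [Finite S] (hS : Nonempty (S ≃* Matrix.ProjectiveSpecialLinearGroup (Fin 2) F) ∨ Nonempty (S ≃* Matrix.SpecialLinearGroup (Fin 2) F)) : Cfsg.degreePrimes S = {r : ℕ | r.Prime ∧ r ∣ q * (q ^ 2 - 1)} ∧ ∀ r s : ℕ, (Cfsg.degreeGraph S).Adj r s ↔ (r ≠ s ∧ r.Prime ∧ s.Prime ∧ ((r ∣ q + 1 ∧ s ∣ q + 1) ∨ (r ∣ q - 1 ∧ s ∣ q - 1))) := by
  classical
  subst hq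
  have hD : Cfsg.charDegrees S = {1, Fintype.card F - 1, Fintype.card F, Fintype.card F + 1} := by
    rcases hS with ⟨⟨e⟩⟩ | ⟨⟨e⟩⟩
    · rw [cd_congr e, cd_psl, cd_sl F h4]
    · rw [cd_congr e, cd_sl F h4]
  obtain ⟨n, -, hn⟩ := FiniteField.card F 2
  set q := Fintype.card F with hqdef
  have hfac : q * (q ^ 2 - 1) = q * ((q - 1) * (q + 1)) := by
    congr 1
    obtain ⟨k, hk⟩ : ∃ k, q = k + 1 := ⟨q - 1, by omega⟩
    rw [hk]
    simp only [Nat.add_sub_cancel]
    have : (k + 1) ^ 2 = k * (k + 1 + 1) + 1 := by ring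
    rw [this, Nat.add_sub_cancel]
  constructor
  · ext r
    simp only [Cfsg.degreePrimes, hD, Set.mem_ofPred_eq, Set.mem_insert_iff, Set.mem_singleton_iff]
    constructor
    · rintro ⟨hr, d, (rfl | rfl | rfl | rfl), hd⟩
      · exact absurd (Nat.dvd_one.1 hd) hr.one_lt.ne'
      · refine ⟨hr, ?_⟩
        rw [hfac]
        exact Dvd.dvd.mul_left (Dvd.dvd.mul_right hd _) _
      · exact ⟨hr, Dvd.dvd.mul_right hd _⟩
      · refine ⟨hr, ?_⟩
        rw [hfac]
        exact Dvd.dvd.mul_left (Dvd.dvd.mul_left hd _) _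
    · rintro ⟨hr, hd⟩
      refine ⟨hr, ?_⟩
      rw [hfac] at hd
      rcases (Nat.Prime.dvd_mul hr).1 hd with h | h
      · exact ⟨q, by simp, h⟩
      · rcases (Nat.Prime.dvd_mul hr).1 h with h | h
        · exact ⟨q - 1, by simp, h⟩
        · exact ⟨q + 1, by simp, h⟩
  · intro r s
    simp only [Cfsg.degreeGraph, hD, Set.mem_insert_iff, Set.mem_singleton_iff]
    constructor
    · rintro ⟨hrs, hr, hs, d, (rfl | rfl | rfl | rfl), hd⟩
      · exact absurd (Nat.dvd_one.1 (Dvd.dvd.trans (Dvd.intro _ rfl) hd)) hr.one_lt.ne'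
      · exact ⟨hrs, hr, hs, Or.inr ⟨Dvd.dvd.trans (Dvd.intro _ rfl) hd,
          Dvd.dvd.trans (Dvd.intro_left _ rfl) hd⟩⟩
      · exfalso
        rw [hn] at hd
        have h1 : r = 2 := (Nat.prime_dvd_prime_iff_eq hr Nat.prime_two).1
          (hr.dvd_of_dvd_pow (Dvd.dvd.trans (Dvd.intro _ rfl) hd))
        have h2 : s = 2 := (Nat.prime_dvd_prime_iff_eq hs Nat.prime_two).1
          (hs.dvd_of_dvd_pow (Dvd.dvd.trans (Dvd.intro_left _ rfl) hd))
        exact hrs (h1.trans h2.symm)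
      · exact ⟨hrs, hr, hs, Or.inl ⟨Dvd.dvd.trans (Dvd.intro _ rfl) hd,
          Dvd.dvd.trans (Dvd.intro_left _ rfl) hd⟩⟩
    · rintro ⟨hrs, hr, hs, h⟩
      have hco : Nat.Coprime r s := (Nat.coprime_primes hr hs).2 hrs
      refine ⟨hrs, hr, hs, ?_⟩
      rcases h with ⟨h1, h2⟩ | ⟨h1, h2⟩
      · exact ⟨q + 1, by simp, hco.mul_dvd_of_dvd_of_dvd h1 h2⟩
      · exact ⟨q - 1, by simp, hco.mul_dvd_of_dvd_of_dvd h1 h2⟩

end Cfsg.Agent.S4812
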