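import Cfsg.Statements.S3669
import Cfsg.Agent.Lib.Helper2.PrimeIdx
import Cfsg.Agent.S0536
import Cfsg.Agent.S3378
import Cfsg.Agent.S0252
import Cfsg.Agent.S0494
import Cfsg.Agent.S4812

set_option autoImplicit false
open Cfsg

namespace Cfsg.Agent.S3669

open Cfsg.Agent.Lib.Helper2
open Cfsg.Agent.Lib.Helper25 Cfsg.Agent.Lib.Helper2.PrimeIdx in
theorem not_solvable {G : Type*} [Group G] [Finite G] (hcard : Nat.card G = 60)
    (χ₅ χ₃ : Cfsg.IrrCharacter G) (h5 : Cfsg.charDegree (χ₅ : G → ℂ) = 5)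
    (h3 : Cfsg.charDegree (χ₃ : G → ℂ) = 3) : ¬ Group.IsSolvable G := by
  intro hs
  classical
  have : Fintype G := Fintype.ofFinite _
  haveI : Nontrivial G := (Finite.one_lt_card_iff_nontrivial).mp (by rw [hcard]; norm_num)
  obtain ⟨M, p, hMn, hp, hidx⟩ := Cfsg.Agent.S0536.exists_normal_prime_index (G := G)
  have : Fintype M := Fintype.ofFinite _
  have hMc : Nat.card M * p = 60 := by rw [← hidx, M.card_mul_index, hcard]
  have hp' : p = 2 ∨ p = 3 ∨ p = 5 := by
    have hpd : p ∣ 2 * (2 * (3 * 5)) := by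
      have h := Dvd.intro_left (Nat.card M) hMc
      norm_num
      exact h
    rcases (Nat.Prime.dvd_mul hp).1 hpd with h | h
    · exact Or.inl ((Nat.prime_dvd_prime_iff_eq hp Nat.prime_two).1 h)
    rcases (Nat.Prime.dvd_mul hp).1 h with h | h
    · exact Or.inl ((Nat.prime_dvd_prime_iff_eq hp Nat.prime_two).1 h)
    rcases (Nat.Prime.dvd_mul hp).1 h with h | h
    · exact Or.inr (Or.inl ((Nat.prime_dvd_prime_iff_eq hp Nat.prime_three).1 h))
    · exact Or.inr (Or.inr ((Nat.prime_dvd_prime_iff_eq hp Nat.prime_five).1 h))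
  have hp5 : p ≤ 5 := by omega
  obtain ⟨θ₅, e₅, hθ₅, c₅⟩ := restrict_cases M hp hidx χ₅.2
  obtain ⟨θ₃, e₃, hθ₃, c₃⟩ := restrict_cases M hp hidx χ₃.2
  have d5 : (χ₅ : G → ℂ) 1 = ((5 : ℕ) : ℂ) := by rw [apply_one_eq_charDegree χ₅.2, h5]
  have d3 : (χ₃ : G → ℂ) 1 = ((3 : ℕ) : ℂ) := by rw [apply_one_eq_charDegree χ₃.2, h3]
  have hf₅ := apply_one_eq_charDegree hθ₅
  have hf₃ := apply_one_eq_charDegree hθ₃
  set f₅ := Cfsg.charDegree θ₅ with hf₅def
  set f₃ := Cfsg.charDegree θ₃ with hf₃def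
  have A5 : f₅ = 5 ∨ (p = 5 ∧ (inertia M θ₅).index = 5 ∧ f₅ = 1) := by
    rcases c₅ with ⟨a, b⟩ | ⟨a, b⟩
    · left
      rw [d5, hf₅] at a
      have a' : 5 = e₅ * f₅ := by exact_mod_cast a
      have he : e₅ ≤ 2 := by nlinarith
      interval_cases e₅ <;> omega
    · right
      rw [d5, hf₅] at b
      have b' : 5 = e₅ * (p * f₅) := by exact_mod_cast b
      have hpd : p ∣ 5 := ⟨e₅ * f₅, by rw [b']; ring⟩
      have hp5' : p = 5 := (Nat.prime_dvd_prime_iff_eq hp Nat.prime_five).1 hpd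
      refine ⟨hp5', hp5' ▸ a, ?_⟩
      rw [hp5'] at b'
      have h1 : e₅ * f₅ = 1 := by nlinarith
      exact Nat.eq_one_of_mul_eq_one_left h1
  have A3 : f₃ = 3 ∨ p = 3 := by
    rcases c₃ with ⟨a, b⟩ | ⟨a, b⟩
    · left
      rw [d3, hf₃] at a
      have a' : 3 = e₃ * f₃ := by exact_mod_cast a
      have he : e₃ ≤ 2 := by nlinarith
      interval_cases e₃ <;> omega
    · right
      rw [d3, hf₃] at b
      have b' : 3 = e₃ * (p * f₃) := by exact_mod_cast b
      have hpd : p ∣ 3 := ⟨e₃ * f₃, by rw [b']; ring⟩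
      exact (Nat.prime_dvd_prime_iff_eq hp Nat.prime_three).1 hpd
  rcases A5 with a5 | ⟨hp5', hT, a5⟩
  · have s1 := sq_le_card ({⟨θ₅, hθ₅⟩} : Finset (Cfsg.IrrCharacter M))
    rw [Finset.sum_singleton] at s1
    change f₅ ^ 2 ≤ _ at s1
    rw [a5] at s1
    have hp2 : p = 2 := by
      rcases hp' with h | h | h
      · exact h
      · rw [h] at hMc; omega
      · rw [h] at hMc; omega
    have a3 : f₃ = 3 := by
      rcases A3 with h | h
      · exact h
      · omega
    have hne : (⟨θ₅, hθ₅⟩ : Cfsg.IrrCharacter M) ≠ ⟨θ₃, hθ₃⟩ := by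
      intro h
      have h' : θ₅ = θ₃ := congrArg Subtype.val h
      rw [hf₅def, h', ← hf₃def, a3] at a5
      omega
    have s2 := sq_le_card ({⟨θ₅, hθ₅⟩, ⟨θ₃, hθ₃⟩} : Finset (Cfsg.IrrCharacter M))
    rw [Finset.sum_pair hne] at s2
    change f₅ ^ 2 + f₃ ^ 2 ≤ _ at s2
    rw [a5, a3] at s2
    rw [hp2] at hMc
    omega
  · have a3 : f₃ = 3 := by
      rcases A3 with h | h
      · exact h
      · omega
    set φ : G → Cfsg.IrrCharacter M :=
      fun g => ⟨conjFun M θ₅ g, isIrrCharacter_conjFun M hθ₅ g⟩ with hφ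
    set J : Finset (Cfsg.IrrCharacter M) := Finset.univ.image φ with hJ
    have hJcard : J.card = 5 := by
      rw [← hT, ← card_orbit M θ₅, ← Finset.card_image_of_injective J Subtype.val_injective, hJ,
        Finset.image_image]
      apply congrArg Finset.card
      ext ψ
      simp only [Finset.mem_image, Finset.mem_univ, true_and, Function.comp]
      exact Iff.rfl
    have hJdeg : ∀ ψ ∈ J, Cfsg.charDegree (ψ : M → ℂ) = 1 := by
      intro ψ hψ
      obtain ⟨g, -, rfl⟩ := Finset.mem_image.1 hψ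
      have h1 : conjFun M θ₅ g 1 = θ₅ 1 := by
        rw [conjFun_apply]
        congr 1
        apply Subtype.ext
        simp
      show Cfsg.charDegree (conjFun M θ₅ g) = 1
      rw [← a5, hf₅def]
      simp only [Cfsg.charDegree, h1]
    have hnot : (⟨θ₃, hθ₃⟩ : Cfsg.IrrCharacter M) ∉ J := by
      intro h
      have := hJdeg _ h
      change f₃ = 1 at this
      omega
    have s2 := sq_le_card (insert (⟨θ₃, hθ₃⟩ : Cfsg.IrrCharacter M) J)
    rw [Finset.sum_insert hnot, Finset.sum_congr rfl (fun ψ hψ => by rw [hJdeg ψ hψ]),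
      Finset.sum_const, hJcard] at s2
    change f₃ ^ 2 + _ ≤ _ at s2
    rw [a3] at s2
    rw [hp5'] at hMc
    simp only [smul_eq_mul] at s2
    omega

/-- The character degree graph of a finite group has as vertices the primes dividing some irreducible complex character degree, two distinct primes being joined when their product divides some irreducible character degree; two groups have the same character degree graph when they have the same vertices and the same joined pairs. A finite group of order 60 with the same character degree graph as the alternating group A₅ (whose character degrees are 1, 3, 4, 5, so the graph has vertices 2, 3, 5 and no edges) is isomorphic to A₅. -/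
theorem result {G : Type*} [Group G] [Finite G] (hcard : Nat.card G = 60)
    (hΓ : Cfsg.degreePrimes G = Cfsg.degreePrimes (alternatingGroup (Fin 5)) ∧ Cfsg.degreeGraph G = Cfsg.degreeGraph (alternatingGroup (Fin 5))) : Nonempty (G ≃* alternatingGroup (Fin 5)) := by
  classical
  haveI : Fact (Nat.Prime 2) := ⟨Nat.prime_two⟩
  haveI : Fintype (GaloisField 2 2) := Fintype.ofFinite _
  have hF : Fintype.card (GaloisField 2 2) = 4 := by
    rw [← Nat.card_eq_fintype_card, GaloisField.card 2 2 (by norm_num)]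
    norm_num
  obtain ⟨e⟩ := Cfsg.Agent.S0252.result (F := GaloisField 2 2) hF
  have hA := (Cfsg.Agent.S4812.result (GaloisField 2 2) 4 hF (le_refl 4)
    (S := alternatingGroup (Fin 5)) (Or.inl ⟨e.symm⟩)).1
  have mem : ∀ r : ℕ, r.Prime → r ∣ 60 → r ∈ Cfsg.degreePrimes G := by
    intro r hr hd
    rw [hΓ.1, hA]
    exact ⟨hr, by norm_num; exact hd⟩
  have hpos : ∀ χ : Cfsg.IrrCharacter G, 0 < Cfsg.charDegree (χ : G → ℂ) := by
    intro χ
    obtain ⟨n, hn, h1⟩ := Cfsg.Agent.Lib.Helper7.irr_apply_one χ.2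
    rw [Cfsg.Agent.Lib.Helper25.apply_one_eq_charDegree χ.2] at h1
    have : Cfsg.charDegree (χ : G → ℂ) = n := by exact_mod_cast h1
    omega
  obtain ⟨-, d5, ⟨χ₅, hχ₅⟩, hd5⟩ := mem 5 (by norm_num) (by norm_num)
  obtain ⟨-, d3, ⟨χ₃, hχ₃⟩, hd3⟩ := mem 3 (by norm_num) (by norm_num)
  have s5 := PrimeIdx.sq_le_card ({χ₅} : Finset (Cfsg.IrrCharacter G))
  rw [Finset.sum_singleton, hχ₅, hcard] at s5
  have p5 := hpos χ₅
  rw [hχ₅] at p5
  have e5 : d5 = 5 := by
    have : d5 ≤ 7 := by nlinarith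
    obtain ⟨k, hk⟩ := hd5
    omega
  have s3 := PrimeIdx.sq_le_card ({χ₃} : Finset (Cfsg.IrrCharacter G))
  rw [Finset.sum_singleton, hχ₃, hcard] at s3
  have p3 := hpos χ₃
  rw [hχ₃] at p3
  have hne : χ₅ ≠ χ₃ := by
    intro h
    rw [h, hχ₃] at hχ₅
    obtain ⟨k, hk⟩ := hd3
    omega
  have s2 := PrimeIdx.sq_le_card ({χ₅, χ₃} : Finset (Cfsg.IrrCharacter G))
  rw [Finset.sum_pair hne, hχ₅, hχ₃, hcard, e5] at s2
  have e3 : d3 = 3 := by
    have : d3 ≤ 5 := by nlinarith
    obtain ⟨k, hk⟩ := hd3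
    omega
  have hns := not_solvable hcard χ₅ χ₃ (hχ₅.trans e5) (hχ₃.trans e3)
  haveI hsimple : IsSimpleGroup G := by
    haveI : Nontrivial G := by
      apply (Finite.one_lt_card_iff_nontrivial).mp
      rw [hcard]; norm_num
    refine ⟨fun M hM => ?_⟩
    by_contra hcon
    push Not at hcon
    obtain ⟨c1, c2⟩ := Cfsg.Agent.S3378.card_bounds M hcon.1 hcon.2
    rw [hcard] at c1 c2
    exact hns (Cfsg.Agent.S3378.ext_solv M (Cfsg.Agent.S3378.solv_lt60 _ M rfl c1)
      (Cfsg.Agent.S3378.solv_lt60 _ (_ ⧸ M) rfl c2))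
  exact Cfsg.Agent.S0494.result hcard

end Cfsg.Agent.S3669
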