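import Cfsg.Statements.S3703
import Cfsg.Agent.S0042
import Cfsg.Agent.S3986
import Cfsg.Agent.Lib.Helper1.SZSub
import Cfsg.Agent.Lib.Helper9.SupNorm
import Cfsg.Agent.Lib.Helper10.SylSubn
import Cfsg.Agent.Lib.Helper15.FrobAct
import Mathlib

set_option autoImplicit false
open Cfsg

namespace Cfsg.Agent.S3703

open Cfsg.Agent.Lib.Helper15 in
theorem frob_trace {F V : Type*} [Group F] [Finite F] [CommGroup V] [Finite V]
    (φ : F →* MulAut V) (H : Subgroup F) [Fintype H] (hH : Cfsg.IsFrobeniusComplement H)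
    (hcop : (Nat.card V).Coprime (Nat.card (Cfsg.frobeniusKernel H)))
    (hTr : ∀ v, ∏ h : H, φ (h : F) v = 1) (v : V) (k : F) (hk : k ∈ Cfsg.frobeniusKernel H) :
    φ k v = v := by
  classical
  obtain ⟨K, hKset, hKn, hKc⟩ := frobenius_theorem hH
  have : Fintype F := Fintype.ofFinite F
  have : Fintype (F ⧸ H) := Fintype.ofFinite _
  have : Fintype K := Fintype.ofFinite _
  have hmemK : ∀ f : F, f ∈ K ↔ f ∈ Cfsg.frobeniusKernel H := by
    intro f; rw [← hKset]; rfl
  have ha : ∏ f : F, φ f v = 1 := by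
    let e : K × H ≃ F := Equiv.ofBijective (fun x : K × H => (x.1 : F) * x.2) hKc
    rw [← Equiv.prod_comp e, Fintype.prod_prod_type]
    apply Finset.prod_eq_one
    intro a _
    have : ∀ h : H, φ (e (a, h)) v = φ (a : F) (φ (h : F) v) := by
      intro h
      have e1 : e (a, h) = (a : F) * (h : F) := rfl
      rw [e1, map_mul]
      rfl
    simp only [this]
    rw [← map_prod, hTr, map_one]
  set T := ∏ f ∈ Finset.univ.filter (fun f : F => f ∈ Cfsg.frobeniusKernel H), φ f v with hT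
  have hb : φ k T = T := by
    rw [hT, map_prod]
    apply Finset.prod_equiv (Equiv.mulLeft k)
    · intro f
      simp only [Finset.mem_filter, Finset.mem_univ, true_and, Equiv.coe_mulLeft, ← hmemK]
      exact (K.mul_mem_cancel_left ((hmemK k).mpr hk)).symm
    · intro f _
      simp [map_mul]
  have hc : ∀ t : F, ∏ h : H, φ (t * h * t⁻¹) v = 1 := by
    intro t
    have h1 : ∏ h : H, φ (h : F) (φ t⁻¹ v) = 1 := hTr _
    have h2 : ∀ h : H, φ (t * h * t⁻¹) v = φ t (φ (h : F) (φ t⁻¹ v)) := by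
      intro h; simp [map_mul]
    simp only [h2]
    rw [← map_prod, h1, map_one]
  have hc' : ∀ t : F, ∏ h : {h : H // h ≠ 1}, φ (t * (h : H) * t⁻¹) v = v⁻¹ := by
    intro t
    have h1 := hc t
    rw [← Finset.mul_prod_erase Finset.univ _ (Finset.mem_univ (1 : H))] at h1
    have h2 : ∏ h ∈ Finset.univ.erase (1 : H), φ (t * h * t⁻¹) v
        = ∏ h : {h : H // h ≠ 1}, φ (t * (h : H) * t⁻¹) v := by
      apply Finset.prod_subtype
      intro x; simp
    rw [h2] at h1
    have h3 : φ (t * ((1 : H) : F) * t⁻¹) v = v := by simp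
    rw [h3] at h1
    exact eq_inv_of_mul_eq_one_right h1
  have he : ∏ f ∈ Finset.univ.filter (fun f : F => f ∉ Cfsg.frobeniusKernel H), φ f v
      = (v⁻¹) ^ H.index := by
    have h1 : ∏ f ∈ Finset.univ.filter (fun f : F => f ∉ Cfsg.frobeniusKernel H), φ f v
        = ∏ x : {x : F // x ∉ Cfsg.frobeniusKernel H}, φ (x : F) v := by
      apply Finset.prod_subtype
      intro x; simp
    rw [h1, ← Equiv.prod_comp (frobEquiv hH), Fintype.prod_prod_type]
    have h2 : ∀ (q : F ⧸ H) (h : {h : H // h ≠ 1}),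
        φ ((frobEquiv hH (q, h) : {x : F // x ∉ Cfsg.frobeniusKernel H}) : F) v
        = φ (q.out * (h : H) * q.out⁻¹) v := fun _ _ => rfl
    simp only [h2, hc']
    rw [Finset.prod_const, Finset.card_univ, ← Nat.card_eq_fintype_card]
    rfl
  have hsplit := Finset.prod_filter_mul_prod_filter_not Finset.univ
    (fun f : F => f ∈ Cfsg.frobeniusKernel H) (fun f => φ f v)
  rw [ha, he, ← hT, inv_pow] at hsplit
  have h1 : v ^ H.index = T := (eq_of_mul_inv_eq_one hsplit).symm
  have h2 : (φ k v * v⁻¹) ^ H.index = 1 := by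
    rw [mul_pow, inv_pow, ← map_pow, h1, hb, mul_inv_cancel]
  have h3 : orderOf (φ k v * v⁻¹) ∣ H.index := orderOf_dvd_of_pow_eq_one h2
  rw [← card_frobeniusKernel hH] at h3
  have h4 : orderOf (φ k v * v⁻¹) ∣ Nat.card V := orderOf_dvd_natCard _
  have h5 := orderOf_eq_one_iff.mp (Nat.eq_one_of_dvd_coprimes hcop h4 h3)
  exact mul_inv_eq_one.1 h5

theorem abel_case {Q Y : Type*} [Group Q] [Finite Q] [Group Y] [Finite Y] (Hq Fq : Subgroup Q)
    (hHq : Cfsg.IsFrobeniusComplement Hq) (hker : Cfsg.frobeniusKernel Hq = (Fq : Set Q))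
    (hb : Q) (hgen : Hq = Subgroup.zpowers hb)
    (ψ : Y →* Q) (σ : Q →* Y) (hσ : ∀ q, ψ (σ q) = q)
    (V : Subgroup Y) [V.Normal] (hVc : ∀ a ∈ V, ∀ b ∈ V, a * b = b * a) (hVψ : V ≤ ψ.ker)
    (hcop : (Nat.card V).Coprime (Nat.card Fq))
    (hstar : ∀ y : Y, ψ y = hb → y ^ orderOf hb = 1) :
    ∀ f ∈ Fq, ∀ x ∈ V, σ f * x = x * σ f := by
  classical
  subst hgen
  let _ : CommGroup V := { (inferInstance : Group V) with
    mul_comm := fun a b => Subtype.ext (hVc a a.2 b b.2) }
  let φ : Q →* MulAut V := (MulAut.conjNormal (H := V)).comp σ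
  have hφ : ∀ (q : Q) (v : V), ((φ q v : V) : Y) = σ q * v * (σ q)⁻¹ := by
    intro q v
    rfl
  have : Fintype (Subgroup.zpowers hb) := Fintype.ofFinite _
  set g := σ hb with hg
  set n := orderOf hb with hn
  have hgn : g ^ n = 1 := by
    rw [hg, ← map_pow, hn, pow_orderOf_eq_one, map_one]
  have hTr : ∀ v : V, ∏ h : Subgroup.zpowers hb, φ (h : Q) v = 1 := by
    intro v
    have h1 : ∏ h : Subgroup.zpowers hb, φ (h : Q) v = ∏ i ∈ Finset.range n, φ (hb ^ i) v := by
      rw [← Fin.prod_univ_eq_prod_range (fun i => φ (hb ^ i) v) n]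
      symm
      apply Fintype.prod_equiv (finEquivZPowers (isOfFinOrder_of_finite hb))
      intro i
      rw [finEquivZPowers_apply]
    rw [h1]
    have h2 : ∀ m : ℕ, ((∏ i ∈ Finset.range m, φ (hb ^ i) v : V) : Y) * g ^ m = ((v : Y) * g) ^ m := by
      intro m
      induction m with
      | zero => simp
      | succ m ih =>
        rw [Finset.prod_range_succ, pow_succ ((v : Y) * g), ← ih, Subgroup.coe_mul, hφ, map_pow, ← hg]
        group
    have h3 := h2 n
    rw [hgn, mul_one] at h3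
    apply Subtype.ext
    rw [h3]
    apply hstar
    rw [map_mul, hg, hσ, MonoidHom.mem_ker.1 (hVψ v.2), one_mul]
  intro f hf x hx
  have h4 := frob_trace φ (Subgroup.zpowers hb) hHq (by rw [hker]; exact hcop) hTr ⟨x, hx⟩ f
    (by rw [hker]; exact hf)
  have h5 := congrArg Subtype.val h4
  rw [hφ] at h5
  simp only at h5
  calc σ f * x = (σ f * x * (σ f)⁻¹) * σ f := by group
    _ = x * σ f := by rw [h5]

universe u v

theorem pgroup_case {Q : Type v} [Group Q] [Finite Q] (Hq Fq : Subgroup Q)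
    (hHq : Cfsg.IsFrobeniusComplement Hq) (hker : Cfsg.frobeniusKernel Hq = (Fq : Set Q))
    (hb : Q) (hgen : Hq = Subgroup.zpowers hb) (p : ℕ) [Fact p.Prime]
    (hp : (Nat.card Fq).Coprime p) :
    ∀ (n : ℕ) (Y : Type u) [Group Y] [Finite Y] (ψ : Y →* Q) (σ : Q →* Y) (_ : ∀ q, ψ (σ q) = q)
      (P : Subgroup Y) [P.Normal] (_ : IsPGroup p P) (_ : P ≤ ψ.ker)
      (_ : ∀ y : Y, ψ y = hb → y ^ orderOf hb = 1), Nat.card Y = n →
      ∀ f ∈ Fq, ∀ x ∈ P, σ f * x = x * σ f := by
  intro n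
  induction n using Nat.strong_induction_on with
  | _ n ih =>
  intro Y _ _ ψ σ hσ P hPn hP hPψ hstar hn f hf x hx
  by_cases hbot : P = ⊥
  · rw [hbot, Subgroup.mem_bot] at hx
    rw [hx]; simp
  set Z := (Subgroup.center P).map P.subtype with hZ
  have hZn : Z.Normal := ConjAct.normal_of_characteristic_of_normal
  have hZP : Z ≤ P := Subgroup.map_subtype_le _
  have hZbot : Z ≠ ⊥ := by
    intro h
    rw [hZ, Subgroup.map_eq_bot_iff_of_injective _ P.subtype_injective] at h
    have : Nontrivial P := (Subgroup.nontrivial_iff_ne_bot P).2 hbot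
    have h2 := hP.center_nontrivial
    rw [h] at h2
    exact not_nontrivial _ h2
  have hZc : ∀ z ∈ Z, ∀ y ∈ P, z * y = y * z := by
    rintro _ ⟨z, hz, rfl⟩ y hy
    have hz' := Subgroup.mem_center_iff.1 hz
    exact (congrArg Subtype.val (hz' ⟨y, hy⟩)).symm
  have hZp : IsPGroup p Z := hP.to_le hZP
  have hcopZ : (Nat.card Z).Coprime (Nat.card Fq) := by
    obtain ⟨k, hk⟩ := hZp.exists_card_eq
    rw [hk]
    exact (Nat.Coprime.pow_right k hp).symm
  have h1 := abel_case Hq Fq hHq hker hb hgen ψ σ hσ Z (fun a ha b hb => hZc a ha b (hZP hb))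
    (hZP.trans hPψ) hcopZ hstar f hf
  -- quotient
  have hZψ : Z ≤ ψ.ker := hZP.trans hPψ
  set π := QuotientGroup.mk' Z with hπ
  have hPπn : (P.map π).Normal := hPn.map π (QuotientGroup.mk'_surjective Z)
  have h2 := ih (Nat.card (Y ⧸ Z)) (by rw [← hn]; exact Cfsg.Agent.Lib.Helper10.card_quotient_lt' Z hZbot)
    (Y ⧸ Z) (QuotientGroup.lift Z ψ hZψ) (π.comp σ) (by
      intro q
      simp [hπ, hσ]) (P.map π) (hP.map π) (by
      rintro _ ⟨y, hy, rfl⟩
      rw [MonoidHom.mem_ker]
      simpa [hπ] using MonoidHom.mem_ker.1 (hPψ hy)) (by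
      intro y hy
      obtain ⟨y, rfl⟩ := QuotientGroup.mk'_surjective Z y
      have : ψ y = hb := by simpa using hy
      rw [← map_pow, hstar y this, map_one]) rfl f hf (π x) ⟨x, hx, rfl⟩
  set a := σ f with ha
  have h3 : a * x * a⁻¹ * x⁻¹ ∈ Z := by
    rw [← QuotientGroup.eq_one_iff, ← QuotientGroup.mk'_apply, ← hπ]
    simp only [map_mul, map_inv]
    have h4 : π a * π x = π x * π a := h2
    rw [h4]; group
  set z := a * x * a⁻¹ * x⁻¹ with hz
  have e1 : a * x * a⁻¹ = z * x := by rw [hz]; group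
  have e2 : a * z = z * a := h1 z h3
  have e3 : z * x = x * z := hZc z h3 x hx
  have e4 : ∀ k : ℕ, a ^ k * x * (a ^ k)⁻¹ = z ^ k * x := by
    intro k
    induction k with
    | zero => simp
    | succ k ihk =>
      have : a ^ (k + 1) * x * (a ^ (k + 1))⁻¹ = a * (a ^ k * x * (a ^ k)⁻¹) * a⁻¹ := by
        rw [pow_succ']; group
      rw [this, ihk]
      have e5 : a * z ^ k = z ^ k * a := ((show Commute a z from e2).pow_right k)
      calc a * (z ^ k * x) * a⁻¹ = (a * z ^ k) * x * a⁻¹ := by group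
        _ = z ^ k * (a * x * a⁻¹) := by rw [e5]; group
        _ = z ^ (k + 1) * x := by rw [e1, pow_succ]; group
  have e5 := e4 (orderOf a)
  rw [pow_orderOf_eq_one] at e5
  have e6 : z ^ orderOf a = 1 := by
    have : x = z ^ orderOf a * x := by simpa using e5
    exact (mul_eq_right.1 this.symm)
  have e7 : orderOf z ∣ orderOf a := orderOf_dvd_of_pow_eq_one e6
  have e8 : orderOf a ∣ Nat.card Fq := by
    have h5 : orderOf a ∣ orderOf f := orderOf_map_dvd σ f
    exact h5.trans (Subgroup.orderOf_dvd_natCard Fq hf)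
  have e9 : orderOf z ∣ Nat.card Z := Subgroup.orderOf_dvd_natCard Z h3
  have e10 : z = 1 := orderOf_eq_one_iff.1 (Nat.eq_one_of_dvd_coprimes hcopZ e9 (e7.trans e8))
  rw [e10, one_mul] at e1
  calc a * x = (a * x * a⁻¹) * a := by group
    _ = x * a := by rw [e1]

open Cfsg.Agent.Lib.Helper1 in
open scoped Pointwise in
theorem section_exists {Q : Type v} {Y : Type u} [Group Q] [Finite Q] [Group Y] [Finite Y]
    (Hq Fq : Subgroup Q) [hFn : Fq.Normal]
    (hHq : Cfsg.IsFrobeniusComplement Hq) (hker : Cfsg.frobeniusKernel Hq = (Fq : Set Q))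
    (hb : Q) (hgen : Hq = Subgroup.zpowers hb) (hnil : Group.IsNilpotent Fq)
    (ψ : Y →* Q) (hψ : Function.Surjective ψ) (hcop : (Nat.card Fq).Coprime (Nat.card ψ.ker))
    (hstar : ∀ y : Y, ψ y = hb → y ^ orderOf hb = 1) :
    ∃ σ : Q →* Y, ∀ q, ψ (σ q) = q := by
  set Kψ := ψ.ker with hKψ
  set L := Fq.comap ψ with hL
  have hKL : Kψ ≤ L := Subgroup.ker_le_comap _ _
  have hrel : Kψ.relIndex L = Nat.card Fq := by
    have := Subgroup.relIndex_ker L ψ
    rwa [hL, Subgroup.map_comap_eq_self_of_surjective hψ] at this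
  have hnorm : L ≤ Subgroup.normalizer (Kψ : Set Y) := by
    rw [Subgroup.normalizer_eq_top]; exact le_top
  have hcop' : (Nat.card Kψ).Coprime (Kψ.relIndex L) := by rw [hrel]; exact hcop.symm
  obtain ⟨F0, hF0L, hF0c⟩ := sz_exists_sub Kψ L hKL hnorm hcop'
  have hF0card : Nat.card F0 = Nat.card Fq := hF0c.trans hrel
  have hdisj : F0 ⊓ Kψ = ⊥ := (Subgroup.disjoint_of_coprime_natCard (by rw [hF0card]; exact hcop)).eq_bot
  have hinj : Function.Injective (ψ.subgroupMap F0) := by
    rw [injective_iff_map_eq_one]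
    intro y hy
    have h1 : ψ (y : Y) = 1 := congrArg Subtype.val hy
    have h2 : (y : Y) ∈ F0 ⊓ Kψ := Subgroup.mem_inf.2 ⟨y.2, MonoidHom.mem_ker.2 h1⟩
    rw [hdisj, Subgroup.mem_bot] at h2
    exact Subtype.ext h2
  have hcm : Nat.card (F0.map ψ) = Nat.card F0 :=
    (Nat.card_congr (Equiv.ofBijective _ ⟨hinj, ψ.subgroupMap_surjective F0⟩)).symm
  have hmap : F0.map ψ = Fq :=
    Subgroup.eq_of_le_of_card_ge (Subgroup.map_le_iff_le_comap.2 hF0L) (by rw [hcm, hF0card])
  have hF0sol : Group.IsSolvable F0 := by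
    have : Group.IsSolvable ↥(F0.map ψ) := by rw [hmap]; infer_instance
    exact Group.isSolvable_of_isSolvable_injective hinj
  obtain ⟨g1, hg1⟩ := hψ hb
  set K1 := MulAut.conj g1 • F0 with hK1
  have hK1L : K1 ≤ L := by
    intro x hx
    rw [hK1, mem_conj_smul] at hx
    have h1 := hF0L hx
    rw [hL, Subgroup.mem_comap] at h1 ⊢
    have h2 := hFn.conj_mem _ h1 (ψ g1)
    have e : ψ g1 * ψ (g1⁻¹ * x * g1) * (ψ g1)⁻¹ = ψ x := by
      simp only [map_mul, map_inv]; group
    rwa [e] at h2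
  obtain ⟨x, hx, hxe⟩ := sz_conj_sub Kψ L hKL hnorm hcop' F0 K1 hF0L hK1L hF0c
    (by rw [hK1, card_conj_smul]; exact hF0c) (Or.inr hF0sol)
  set g0 := x⁻¹ * g1 with hg0
  have hψg0 : ψ g0 = hb := by
    rw [hg0, map_mul, map_inv, MonoidHom.mem_ker.1 hx, hg1]; simp
  have hg0F : MulAut.conj g0 • F0 = F0 := by
    rw [hg0, map_mul, mul_smul, ← hK1, ← hxe, map_inv, inv_smul_smul]
  have hg0N : g0 ∈ Subgroup.normalizer (F0 : Set Y) :=
    Subgroup.mem_normalizer_iff_map_conj_eq.2 hg0F
  have hg0n : g0 ^ orderOf hb = 1 := hstar g0 hψg0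
  have hord : orderOf g0 = orderOf hb := by
    apply Nat.dvd_antisymm (orderOf_dvd_of_pow_eq_one hg0n)
    have := orderOf_map_dvd ψ g0
    rwa [hψg0] at this
  set D := F0 ⊔ Subgroup.zpowers g0 with hD
  have hDcard : Nat.card D ∣ Nat.card F0 * Nat.card (Subgroup.zpowers g0) :=
    Cfsg.Agent.Lib.Helper9.sup_card_dvd (Subgroup.zpowers_le.2 hg0N)
  obtain ⟨K, hKset, -, hKc⟩ := Cfsg.Agent.Lib.Helper15.frobenius_theorem hHq
  obtain rfl : K = Fq := SetLike.coe_injective (hKset.trans hker)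
  have hQcard := hKc.card_mul_card
  have hDle : Nat.card D ≤ Nat.card Q := by
    rw [← hQcard, hgen, Nat.card_zpowers, ← hord, ← Nat.card_zpowers g0, ← hF0card]
    exact Nat.le_of_dvd (Nat.mul_pos Nat.card_pos Nat.card_pos) hDcard
  have hDmap : D.map ψ = ⊤ := by
    rw [hD, Subgroup.map_sup, hmap, MonoidHom.map_zpowers, hψg0, ← hgen]
    exact hKc.sup_eq_top
  set f := ψ.comp D.subtype with hf
  have hfs : Function.Surjective f := by
    intro q
    have : q ∈ D.map ψ := by rw [hDmap]; trivial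
    obtain ⟨d, hd, rfl⟩ := this
    exact ⟨⟨d, hd⟩, rfl⟩
  have hbij : Function.Bijective f := hfs.bijective_of_nat_card_le hDle
  let e := MulEquiv.ofBijective f hbij
  refine ⟨D.subtype.comp e.symm.toMonoidHom, ?_⟩
  intro q
  exact e.apply_symm_apply q

/-- Let N be a normal subgroup of the finite group G such that G/N is a Frobenius group with kernel F and cyclic complement H, where the order of F is coprime to that of N and F is not contained in the image of C_G(N) in G/N. Then G has an element of order p·#H for some prime p dividing the order of N. (A standard tool in recognising groups by their element orders.) -/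
theorem result {G : Type*} [Group G] [Finite G] (N : Subgroup G) [N.Normal]
    (Fb Hb : Subgroup (G ⧸ N)) [Fb.Normal] (hHb : Cfsg.IsFrobeniusComplement Hb) (hker : Cfsg.frobeniusKernel Hb = (Fb : Set (G ⧸ N)))
    (hcyc : IsCyclic Hb) (hcop : (Nat.card Fb).Coprime (Nat.card N))
    (hnot : ¬ Fb ≤ (Subgroup.centralizer (N : Set G)).map (QuotientGroup.mk' N)) :
    ∃ p : ℕ, p.Prime ∧ p ∣ Nat.card N ∧ ∃ g : G, orderOf g = p * Nat.card Hb := by
  open Cfsg.Agent.Lib.Helper1 in
  open scoped Pointwise in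
  set π := QuotientGroup.mk' N with hπ
  have hπs : Function.Surjective π := QuotientGroup.mk'_surjective N
  have hπk : π.ker = N := QuotientGroup.ker_mk' N
  obtain ⟨⟨hb, hbH⟩, hgen0⟩ := IsCyclic.exists_generator (α := Hb)
  have hgen : Hb = Subgroup.zpowers hb := by
    apply le_antisymm
    · intro y hy
      obtain ⟨i, hi⟩ := Subgroup.mem_zpowers_iff.1 (hgen0 ⟨y, hy⟩)
      refine Subgroup.mem_zpowers_iff.2 ⟨i, ?_⟩
      have := congrArg Subtype.val hi
      simpa using this
    · exact Subgroup.zpowers_le.2 hbH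
  have hn : Nat.card Hb = orderOf hb := by rw [hgen, Nat.card_zpowers]
  by_contra hcon
  push Not at hcon
  have hstar : ∀ g : G, π g = hb → g ^ orderOf hb = 1 := by
    intro g hg
    by_contra hne
    set w := g ^ orderOf hb with hw
    have hwN : w ∈ N := by
      rw [← hπk, MonoidHom.mem_ker, hw, map_pow, hg, pow_orderOf_eq_one]
    have h1 : orderOf w ≠ 1 := fun h => hne (orderOf_eq_one_iff.1 h)
    have hp := Nat.minFac_prime h1
    have h2 : (orderOf w).minFac ∣ Nat.card N :=
      (Nat.minFac_dvd _).trans (Subgroup.orderOf_dvd_natCard N hwN)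
    have h3 : orderOf hb ∣ orderOf g := by
      have := orderOf_map_dvd π g
      rwa [hg] at this
    have h4 : orderOf w = orderOf g / orderOf hb := by
      rw [hw, orderOf_pow, Nat.gcd_eq_right h3]
    have h5 : orderOf g = orderOf hb * orderOf w := by
      rw [h4, Nat.mul_div_cancel' h3]
    have h6 : (orderOf w).minFac * Nat.card Hb ∣ orderOf g := by
      rw [h5, hn, mul_comm]
      exact Nat.mul_dvd_mul_left _ (Nat.minFac_dvd _)
    exact hcon _ hp h2 _ (orderOf_pow_orderOf_div (orderOf_pos g).ne' h6)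
  apply hnot
  obtain ⟨N', hN'set, -, hnil⟩ := Cfsg.Agent.S0042.result Hb hHb
  obtain rfl : N' = Fb := SetLike.coe_injective (hN'set.trans hker)
  set L := N'.comap π with hL
  have hNL : N ≤ L := le_comap_mk' N N'
  have hrel : N.relIndex L = Nat.card N' := relIndex_comap_mk' N N'
  have hnorm : L ≤ Subgroup.normalizer (N : Set G) := by
    rw [Subgroup.normalizer_eq_top]; exact le_top
  have hcop' : (Nat.card N).Coprime (N.relIndex L) := by rw [hrel]; exact hcop.symm
  obtain ⟨F0, hF0L, hF0c⟩ := sz_exists_sub N L hNL hnorm hcop'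
  have hF0card : Nat.card F0 = Nat.card N' := hF0c.trans hrel
  have key : ∀ p : ℕ, [Fact p.Prime] → ∃ Qs : Sylow p N,
      (Qs : Subgroup N) ≤ (Subgroup.centralizer (F0 : Set G)).subgroupOf N := by
    intro p hp
    let P0 : Sylow p N := default
    by_cases hpN : p ∣ Nat.card N
    swap
    · refine ⟨P0, ?_⟩
      have h1 : Nat.card (P0 : Subgroup N) = 1 := by
        rw [Sylow.card_eq_multiplicity, Nat.factorization_eq_zero_of_not_dvd hpN, pow_zero]
      rw [Subgroup.card_eq_one.1 h1]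
      exact bot_le
    have hpF : (Nat.card N').Coprime p := Nat.Coprime.coprime_dvd_right hpN hcop
    set P := (P0 : Subgroup N).map N.subtype with hP
    set Yg := Subgroup.normalizer (P : Set G) with hYg
    set ψ := π.comp Yg.subtype with hψ
    have hψs : Function.Surjective ψ := by
      intro q
      obtain ⟨g, rfl⟩ := hπs q
      have h1 : g ∈ N ⊔ Yg := by
        rw [sup_comm, hYg, hP, Sylow.normalizer_sup_eq_top P0]; trivial
      obtain ⟨n, hn', y, hy, rfl⟩ := (Cfsg.Agent.Lib.Helper9.mem_sup_of_le_normalizer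
        (by rw [Subgroup.normalizer_eq_top]; exact le_top)).1 h1
      refine ⟨⟨y, hy⟩, ?_⟩
      rw [map_mul, MonoidHom.mem_ker.1 (hπk.symm ▸ hn' : n ∈ π.ker), one_mul]
      rfl
    have hkerdvd : Nat.card ψ.ker ∣ Nat.card N := by
      have h1 : ψ.ker.map Yg.subtype ≤ N := by
        rintro _ ⟨y, hy, rfl⟩
        rw [← hπk, MonoidHom.mem_ker]
        exact MonoidHom.mem_ker.1 hy
      have h2 := Subgroup.card_dvd_of_le h1
      rwa [Subgroup.card_map_of_injective Yg.subtype_injective] at h2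
    have hstarY : ∀ y : Yg, ψ y = hb → y ^ orderOf hb = 1 := by
      intro y hy
      apply Subtype.ext
      exact hstar y hy
    obtain ⟨σ, hσ⟩ := section_exists Hb N' hHb hker hb hgen hnil ψ hψs
      (Nat.Coprime.coprime_dvd_right hkerdvd hcop) hstarY
    have hPY : (P.subgroupOf Yg).Normal := Subgroup.normal_in_normalizer
    have hPp : IsPGroup p P := P0.2.map _
    have hcent := pgroup_case Hb N' hHb hker hb hgen p hpF _ Yg ψ σ hσ (P.subgroupOf Yg)
      hPp.comap_subtype (by
        intro y hy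
        rw [MonoidHom.mem_ker]
        have h1 : (y : G) ∈ N := Subgroup.map_subtype_le _ (Subgroup.mem_subgroupOf.1 hy)
        exact MonoidHom.mem_ker.1 (hπk.symm ▸ h1 : (y : G) ∈ π.ker)) hstarY rfl
    set τ := Yg.subtype.comp σ with hτ
    have hτinj : Function.Injective τ := by
      intro a b hab
      have h1 : σ a = σ b := Subtype.ext hab
      rw [← hσ a, ← hσ b, h1]
    set A := N'.map τ with hA
    have hAL : A ≤ L := by
      rintro _ ⟨f, hf, rfl⟩
      rw [hL, Subgroup.mem_comap]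
      have : π (τ f) = f := hσ f
      rw [this]; exact hf
    have hAcard : Nat.card A = Nat.card N' := Subgroup.card_map_of_injective hτinj
    have hAsol : Group.IsSolvable A :=
      Group.isSolvable_of_surjective (τ.subgroupMap_surjective N')
    obtain ⟨x, hx, hxe⟩ := sz_conj_sub N L hNL hnorm hcop' A F0 hAL hF0L (hAcard.trans hrel.symm)
      hF0c (Or.inr hAsol)
    refine ⟨MulAut.conj (⟨x, hx⟩ : N) • P0, ?_⟩
    intro y hy
    rw [Sylow.pointwise_smul_def, mem_conj_smul] at hy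
    rw [Subgroup.mem_subgroupOf, Subgroup.mem_centralizer_iff]
    intro a0 ha0
    rw [SetLike.mem_coe, ← hxe, mem_conj_smul] at ha0
    obtain ⟨f, hf, hfe⟩ := ha0
    have hy0 : x⁻¹ * (y : G) * x ∈ P := ⟨_, hy, rfl⟩
    have h1 := hcent f hf ⟨x⁻¹ * (y : G) * x, Subgroup.le_normalizer hy0⟩
      (Subgroup.mem_subgroupOf.2 hy0)
    have h2 : τ f * (x⁻¹ * (y : G) * x) = (x⁻¹ * (y : G) * x) * τ f := congrArg Subtype.val h1
    rw [hfe] at h2
    have h3 : a0 * (y : G) = x * ((x⁻¹ * a0 * x) * (x⁻¹ * (y : G) * x)) * x⁻¹ := by group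
    rw [h3, h2]
    group
  have hNC : N ≤ Subgroup.centralizer (F0 : Set G) := by
    rw [← Subgroup.subgroupOf_eq_top]
    exact Cfsg.Agent.S3986.eq_top_of_sylow _ key
  have hdisj : F0 ⊓ N = ⊥ :=
    (Subgroup.disjoint_of_coprime_natCard (by rw [hF0card]; exact hcop)).eq_bot
  have hinj : Function.Injective (π.subgroupMap F0) := by
    rw [injective_iff_map_eq_one]
    intro y hy
    have h1 : π (y : G) = 1 := congrArg Subtype.val hy
    have h2 : (y : G) ∈ F0 ⊓ N := Subgroup.mem_inf.2 ⟨y.2, hπk ▸ MonoidHom.mem_ker.2 h1⟩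
    rw [hdisj, Subgroup.mem_bot] at h2
    exact Subtype.ext h2
  have hcm : Nat.card (F0.map π) = Nat.card F0 :=
    (Nat.card_congr (Equiv.ofBijective _ ⟨hinj, π.subgroupMap_surjective F0⟩)).symm
  have hmap : F0.map π = N' :=
    Subgroup.eq_of_le_of_card_ge (Subgroup.map_le_iff_le_comap.2 hF0L) (by rw [hcm, hF0card])
  rw [← hmap]
  apply Subgroup.map_mono
  exact Subgroup.le_centralizer_iff.1 hNC

end Cfsg.Agent.S3703
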