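import Cfsg.Statements.S3738
import Cfsg.Agent.S0027
import Cfsg.Agent.S3807

set_option autoImplicit false
open Cfsg

namespace Cfsg.Agent.S3738

open scoped commutatorElement

theorem pow_to_cube {X : Type*} [Group X] (w : X) (hw : w ^ 9 = 1) (g : X)
    (hg : g ∈ Subgroup.zpowers w) (hg1 : g ≠ 1) : ∃ k : ℕ, g ^ k = w ^ 3 := by
  have hfin : IsOfFinOrder w := isOfFinOrder_iff_pow_eq_one.mpr ⟨9, by norm_num, hw⟩
  have hg' : g ∈ Submonoid.powers w := hfin.mem_powers_iff_mem_zpowers.mpr hg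
  obtain ⟨i, hi⟩ := hg'
  have hi' : w ^ i = g := hi
  subst hi'
  have hred : w ^ i = w ^ (i % 9) := by
    conv_lhs => rw [← Nat.div_add_mod i 9, pow_add, pow_mul, hw, one_pow, one_mul]
  have hlt : i % 9 < 9 := Nat.mod_lt _ (by norm_num)
  rw [hred] at hg1 ⊢
  generalize i % 9 = j at hg1 hlt
  have h12 : w ^ 12 = w ^ 3 := by
    rw [show 12 = 9 + 3 from rfl, pow_add, hw, one_mul]
  have h21 : w ^ 21 = w ^ 3 := by
    rw [show 21 = 9 * 2 + 3 from rfl, pow_add, pow_mul, hw, one_pow, one_mul]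
  have h30 : w ^ 30 = w ^ 3 := by
    rw [show 30 = 9 * 3 + 3 from rfl, pow_add, pow_mul, hw, one_pow, one_mul]
  have h48 : w ^ 48 = w ^ 3 := by
    rw [show 48 = 9 * 5 + 3 from rfl, pow_add, pow_mul, hw, one_pow, one_mul]
  interval_cases j
  · simp at hg1
  · exact ⟨3, by rw [← pow_mul]⟩
  · exact ⟨6, by rw [← pow_mul]; exact h12⟩
  · exact ⟨1, by rw [← pow_mul]⟩
  · exact ⟨3, by rw [← pow_mul]; exact h12⟩
  · exact ⟨6, by rw [← pow_mul]; exact h30⟩
  · exact ⟨2, by rw [← pow_mul]; exact h12⟩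
  · exact ⟨3, by rw [← pow_mul]; exact h21⟩
  · exact ⟨6, by rw [← pow_mul]; exact h48⟩

theorem nine_dvd {X : Type*} [Group X] [Finite X] (Q : Subgroup X) (w : X) (hw : orderOf w = 9)
    (hwQ : w ∈ Subgroup.normalizer (Q : Set X)) :
    ∃ m : ℕ, Nat.card Q = Nat.card ↥(Q ⊓ Subgroup.centralizer ({w ^ 3} : Set X)) + 9 * m := by
  classical
  haveI := Fintype.ofFinite X
  set C := Q ⊓ Subgroup.centralizer ({w ^ 3} : Set X) with hC
  set W := Subgroup.zpowers w with hW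
  have hw9 : w ^ 9 = 1 := by rw [← hw]; exact pow_orderOf_eq_one w
  have hWn : W ≤ Subgroup.normalizer (Q : Set X) := Subgroup.zpowers_le.mpr hwQ
  have hWc : ∀ g ∈ W, g * w ^ 3 = w ^ 3 * g := by
    intro g hg
    obtain ⟨i, rfl⟩ := Subgroup.mem_zpowers_iff.mp hg
    exact ((Commute.refl w).zpow_left i).pow_right 3
  have hpres : ∀ g ∈ W, ∀ q : X, (q ∈ Q ∧ q ∉ C) → (g * q * g⁻¹ ∈ Q ∧ g * q * g⁻¹ ∉ C) := by
    intro g hg q hq
    refine ⟨(Subgroup.mem_normalizer_iff.mp (hWn hg) q).mp hq.1, ?_⟩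
    intro hc
    apply hq.2
    refine Subgroup.mem_inf.mpr ⟨hq.1, ?_⟩
    have h1 := Subgroup.mem_centralizer_singleton_iff.mp hc.2
    rw [Subgroup.mem_centralizer_singleton_iff]
    have h2 := hWc g hg
    have h3 : g⁻¹ * w ^ 3 = w ^ 3 * g⁻¹ := by
      have : g⁻¹ * w ^ 3 = g⁻¹ * (w ^ 3 * g) * g⁻¹ := by group
      rw [this, ← h2]; group
    calc q * w ^ 3 = g⁻¹ * ((g * q * g⁻¹) * w ^ 3) * g := by
          rw [mul_assoc (g * q) g⁻¹, h3]; group
      _ = g⁻¹ * (w ^ 3 * (g * q * g⁻¹)) * g := by rw [h1]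
      _ = (g⁻¹ * w ^ 3) * g * q := by group
      _ = w ^ 3 * q := by rw [h3]; group
  let act : MulAction ↥W {q : X // q ∈ Q ∧ q ∉ C} :=
    { smul := fun g q => ⟨(g : X) * q * (g : X)⁻¹, hpres g g.2 q q.2⟩
      one_smul := fun q => Subtype.ext (by show ((1 : ↥W) : X) * q * ((1 : ↥W) : X)⁻¹ = q; simp)
      mul_smul := fun g h q => Subtype.ext (by
        show ((g * h : ↥W) : X) * q * ((g * h : ↥W) : X)⁻¹ = (g : X) * ((h : X) * q * (h : X)⁻¹) * (g : X)⁻¹
        simp [mul_assoc]) }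
  have hstab : ∀ q : {q : X // q ∈ Q ∧ q ∉ C}, MulAction.stabilizer ↥W q = ⊥ := by
    intro q
    rw [eq_bot_iff]
    intro g hg
    rw [Subgroup.mem_bot]
    by_contra hg1
    have hg2 : (g : X) * q * (g : X)⁻¹ = q := congrArg Subtype.val (MulAction.mem_stabilizer_iff.mp hg)
    have hcomm : Commute (g : X) (q : X) := by
      show (g : X) * q = q * g
      calc (g : X) * q = ((g : X) * q * (g : X)⁻¹) * g := by group
        _ = q * g := by rw [hg2]
    obtain ⟨k, hk⟩ := pow_to_cube w hw9 (g : X) g.2 (fun h => hg1 (Subtype.ext h))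
    apply q.2.2
    refine Subgroup.mem_inf.mpr ⟨q.2.1, ?_⟩
    rw [Subgroup.mem_centralizer_singleton_iff, ← hk]
    exact (hcomm.pow_left k).symm
  have hclass := MulAction.card_eq_sum_card_group_div_card_stabilizer ↥W {q : X // q ∈ Q ∧ q ∉ C}
  have hterm : ∀ ω : Quotient (MulAction.orbitRel ↥W {q : X // q ∈ Q ∧ q ∉ C}),
      Fintype.card ↥W / Fintype.card (MulAction.stabilizer ↥W ω.out) = 9 := by
    intro ω
    have h1 : Fintype.card (MulAction.stabilizer ↥W ω.out) = 1 := by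
      rw [← Nat.card_eq_fintype_card, hstab, Subgroup.card_bot]
    have h2 : Fintype.card ↥W = 9 := by
      rw [← Nat.card_eq_fintype_card, hW, Nat.card_zpowers, hw]
    rw [h1, h2]
  rw [Finset.sum_congr rfl (fun ω _ => hterm ω), Finset.sum_const, smul_eq_mul, Fintype.card_subtype] at hclass
  refine ⟨(Finset.univ : Finset (Quotient (MulAction.orbitRel ↥W {q : X // q ∈ Q ∧ q ∉ C}))).card, ?_⟩
  have h5 := Finset.card_filter_add_card_filter_not (s := Finset.univ.filter (· ∈ Q)) (fun a => a ∈ C)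
  have he2 : (Finset.univ.filter (· ∈ Q)).filter (fun a => a ∈ C) = Finset.univ.filter (· ∈ C) := by
    ext a
    simp only [Finset.mem_filter, Finset.mem_univ, true_and]
    exact ⟨fun h => h.2, fun h => ⟨h.1, h⟩⟩
  rw [he2, Cfsg.Agent.S3807.card_filter_mem, Cfsg.Agent.S3807.card_filter_mem, Finset.filter_filter] at h5
  rw [← h5, hclass, mul_comm]

theorem lemmaB {X : Type*} [Group X] [Finite X] (Q Z : Subgroup X) (hZQ : Z ≤ Q)
    (h1 : ∀ q ∈ Q, ∀ t ∈ Z, q * t = t * q) (h2 : ∀ x ∈ Q, x ^ 2 ∈ Z)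
    (h3 : ∀ x ∈ Q, ∀ y ∈ Q, y⁻¹ * x⁻¹ * y * x ∈ Z) (h4 : ∀ t ∈ Z, t ^ 2 = 1)
    (h5 : Nat.card Z = 4) (h6 : ∀ t ∈ Q, t ^ 2 = 1 → t ∈ Z) (h7 : 256 ≤ Nat.card Q) : False := by
  classical
  haveI := Fintype.ofFinite X
  obtain ⟨x, hxQ, hxZ⟩ : ∃ x, x ∈ Q ∧ x ∉ Z := by
    by_contra hcon
    push_neg at hcon
    have : Q = Z := le_antisymm hcon hZQ
    rw [this, h5] at h7
    omega
  set zz := x ^ 2 with hzz
  have hzzZ : zz ∈ Z := h2 x hxQ
  have hzz1 : zz ≠ 1 := fun h => hxZ (h6 x hxQ h)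
  have hzz2 : zz ^ 2 = 1 := h4 zz hzzZ
  set T := Subgroup.zpowers zz with hT
  have hTZ : T ≤ Z := Subgroup.zpowers_le.mpr hzzZ
  have hTc : Nat.card T = 2 := by
    rw [hT, Nat.card_zpowers]
    exact orderOf_eq_prime hzz2 hzz1
  have hTidx : (T.subgroupOf Z).index = 2 := by
    have e1 := Subgroup.index_mul_card (T.subgroupOf Z)
    rw [Nat.card_congr (Subgroup.subgroupOfEquivOfLe hTZ).toEquiv, hTc, h5] at e1
    omega
  have hpar : ∀ a ∈ Z, ∀ b ∈ Z, (a * b ∈ T ↔ (a ∈ T ↔ b ∈ T)) := by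
    intro a ha b hb
    have := Subgroup.mul_mem_iff_of_index_two hTidx (a := ⟨a, ha⟩) (b := ⟨b, hb⟩)
    simpa [Subgroup.mem_subgroupOf] using this
  have hTmem : ∀ t, t ∈ T → t = 1 ∨ t = zz := by
    intro t ht
    obtain ⟨i, rfl⟩ := Subgroup.mem_zpowers_iff.mp ht
    rcases Int.even_or_odd' i with ⟨k, rfl | rfl⟩
    · left
      rw [zpow_mul, zpow_ofNat, hzz2, one_zpow]
    · right
      rw [zpow_add, zpow_mul, zpow_ofNat, hzz2, one_zpow, one_mul, zpow_one]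
  set Cx := Q ⊓ Subgroup.centralizer ({x} : Set X) with hCx
  have hCxQ : Cx ≤ Q := inf_le_left
  have hcard : Nat.card Q ≤ 4 * Nat.card Cx := by
    have key : Cx.relIndex Q ≤ Nat.card Z := by
      let f : ↥Q → ↥Z := fun q => ⟨(q : X) * x * (q : X)⁻¹ * x⁻¹, by
        have := h3 x⁻¹ (Q.inv_mem hxQ) (q : X)⁻¹ (Q.inv_mem q.2)
        simpa using this⟩
      have hf : ∀ g h : ↥Q, f g = f h → (g⁻¹ * h) ∈ Cx.subgroupOf Q := by
        intro g h hgh
        have e1 : (g : X) * x * (g : X)⁻¹ * x⁻¹ = (h : X) * x * (h : X)⁻¹ * x⁻¹ := congrArg Subtype.val hgh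
        have e2 : (g : X) * x * (g : X)⁻¹ = (h : X) * x * (h : X)⁻¹ := mul_right_cancel e1
        rw [Subgroup.mem_subgroupOf]
        refine Subgroup.mem_inf.mpr ⟨(g⁻¹ * h : ↥Q).2, ?_⟩
        rw [Subgroup.mem_centralizer_singleton_iff]
        show ((g : X)⁻¹ * (h : X)) * x = x * ((g : X)⁻¹ * (h : X))
        have e3 : x = (g : X)⁻¹ * ((h : X) * x * (h : X)⁻¹) * (g : X) := by
          rw [← e2]; group
        calc ((g : X)⁻¹ * (h : X)) * x = ((g : X)⁻¹ * ((h : X) * x * (h : X)⁻¹) * (g : X)) * ((g : X)⁻¹ * (h : X)) := by group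
          _ = x * ((g : X)⁻¹ * (h : X)) := by rw [← e3]
      rw [Subgroup.relIndex, Subgroup.index]
      apply Nat.card_le_card_of_injective (fun q => f q.out)
      intro q1 q2 h
      have := hf _ _ h
      rw [← QuotientGroup.out_eq' q1, ← QuotientGroup.out_eq' q2]
      exact QuotientGroup.eq.mpr this
    have e1 := Subgroup.index_mul_card (Cx.subgroupOf Q)
    rw [Nat.card_congr (Subgroup.subgroupOfEquivOfLe hCxQ).toEquiv] at e1
    rw [← e1]
    apply Nat.mul_le_mul_right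
    rw [← h5]
    exact key
  have hCx64 : 64 ≤ Nat.card Cx := by omega
  -- bad elements
  let bad : X → Prop := fun u => u ∈ Z ∨ u * x ∈ Z
  have hF : ∀ g : X, (Finset.univ.filter (fun u => bad (g * u))).card ≤ 8 := by
    intro g
    have e1 : Finset.univ.filter (fun u => bad (g * u)) ⊆
        (Finset.univ.filter (fun u => g * u ∈ Z)) ∪ (Finset.univ.filter (fun u => g * u * x ∈ Z)) := by
      intro u hu
      simp only [Finset.mem_filter, Finset.mem_univ, true_and, Finset.mem_union] at hu ⊢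
      exact hu
    have e2 : (Finset.univ.filter (fun u => g * u ∈ Z)).card ≤ 4 := by
      rw [← h5, ← Cfsg.Agent.S3807.card_filter_mem Z]
      apply Finset.card_le_card_of_injOn (fun u => g * u)
      · intro u hu
        simpa using hu
      · intro a _ b _ hab
        exact mul_left_cancel hab
    have e3 : (Finset.univ.filter (fun u => g * u * x ∈ Z)).card ≤ 4 := by
      rw [← h5, ← Cfsg.Agent.S3807.card_filter_mem Z]
      apply Finset.card_le_card_of_injOn (fun u => g * u * x)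
      · intro u hu
        simpa using hu
      · intro a _ b _ hab
        exact mul_left_cancel (mul_right_cancel hab)
    calc _ ≤ _ := Finset.card_le_card e1
      _ ≤ _ := Finset.card_union_le _ _
      _ ≤ 8 := by omega
  have hchoose : ∀ g₁ g₂ g₃ : X, ∃ u ∈ Cx, ¬ bad u ∧ ¬ bad (g₁ * u) ∧ ¬ bad (g₂ * u) ∧ ¬ bad (g₃ * u) := by
    intro g₁ g₂ g₃
    by_contra hcon
    push_neg at hcon
    have e1 : Finset.univ.filter (· ∈ Cx) ⊆
        ((Finset.univ.filter (fun u => bad (1 * u))) ∪ (Finset.univ.filter (fun u => bad (g₁ * u)))) ∪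
        ((Finset.univ.filter (fun u => bad (g₂ * u))) ∪ (Finset.univ.filter (fun u => bad (g₃ * u)))) := by
      intro u hu
      have hu' : u ∈ Cx := by simpa using hu
      simp only [Finset.mem_filter, Finset.mem_univ, true_and, Finset.mem_union, one_mul]
      by_cases b0 : bad u
      · exact Or.inl (Or.inl b0)
      · by_cases b1 : bad (g₁ * u)
        · exact Or.inl (Or.inr b1)
        · by_cases b2 : bad (g₂ * u)
          · exact Or.inr (Or.inl b2)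
          · exact Or.inr (Or.inr (hcon u hu' b0 b1 b2))
    have e2 := Finset.card_le_card e1
    rw [Cfsg.Agent.S3807.card_filter_mem] at e2
    have e3 := Finset.card_union_le
      ((Finset.univ.filter (fun u => bad (1 * u))) ∪ (Finset.univ.filter (fun u => bad (g₁ * u))))
      ((Finset.univ.filter (fun u => bad (g₂ * u))) ∪ (Finset.univ.filter (fun u => bad (g₃ * u))))
    have e4 := Finset.card_union_le (Finset.univ.filter (fun u => bad (1 * u))) (Finset.univ.filter (fun u => bad (g₁ * u)))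
    have e5 := Finset.card_union_le (Finset.univ.filter (fun u => bad (g₂ * u))) (Finset.univ.filter (fun u => bad (g₃ * u)))
    have f0 := hF 1
    have f1 := hF g₁
    have f2 := hF g₂
    have f3 := hF g₃
    omega
  -- key property
  have hK : ∀ u ∈ Cx, ¬ bad u → u ^ 2 ∉ T := by
    intro u hu hb hT'
    have huQ := hCxQ hu
    rcases hTmem _ hT' with h | h
    · exact hb (Or.inl (h6 u huQ h))
    · apply hb
      right
      apply h6 _ (Q.mul_mem huQ hxQ)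
      have hc : Commute u x := Subgroup.mem_centralizer_singleton_iff.mp hu.2
      rw [hc.mul_pow, h, ← hzz, ← sq, hzz2]
  have hsq : ∀ u ∈ Q, ∀ v ∈ Q, (u * v) ^ 2 = u ^ 2 * v ^ 2 * (v⁻¹ * u⁻¹ * v * u) := by
    intro u hu v hv
    have hc := h1 v hv _ (h3 u hu v hv)
    calc (u * v) ^ 2 = u * (u * v * (v⁻¹ * u⁻¹ * v * u)) * v := by rw [pow_two]; group
      _ = u * u * (v * (v⁻¹ * u⁻¹ * v * u)) * v := by group
      _ = u * u * ((v⁻¹ * u⁻¹ * v * u) * v) * v := by rw [hc]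
      _ = u * u * (v⁻¹ * u⁻¹ * v * u) * (v * v) := by group
      _ = u * u * ((v * v) * (v⁻¹ * u⁻¹ * v * u)) := by
          rw [mul_assoc (u * u), ← h1 (v * v) (Q.mul_mem hv hv) _ (h3 u hu v hv)]
      _ = u ^ 2 * v ^ 2 * (v⁻¹ * u⁻¹ * v * u) := by rw [pow_two, pow_two]; group
  have hpair : ∀ u ∈ Q, ∀ v ∈ Q, u ^ 2 ∉ T → v ^ 2 ∉ T → (u * v) ^ 2 ∉ T → v⁻¹ * u⁻¹ * v * u ∉ T := by
    intro u hu v hv a b c hcT
    apply c
    rw [hsq u hu v hv, hpar _ (Z.mul_mem (h2 u hu) (h2 v hv)) _ (h3 u hu v hv)]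
    have : u ^ 2 * v ^ 2 ∈ T := by
      rw [hpar _ (h2 u hu) _ (h2 v hv)]
      exact ⟨fun h => absurd h a, fun h => absurd h b⟩
    exact ⟨fun _ => hcT, fun _ => this⟩
  obtain ⟨u₁, hu₁, b1, -, -, -⟩ := hchoose 1 1 1
  obtain ⟨u₂, hu₂, b2, b12, -, -⟩ := hchoose u₁ 1 1
  obtain ⟨u₃, hu₃, b3, b13, b23, b123⟩ := hchoose u₁ u₂ (u₁ * u₂)
  have q1 := hCxQ hu₁
  have q2 := hCxQ hu₂
  have q3 := hCxQ hu₃
  have c13 := hpair u₁ q1 u₃ q3 (hK u₁ hu₁ b1) (hK u₃ hu₃ b3) (hK _ (Cx.mul_mem hu₁ hu₃) b13)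
  have c23 := hpair u₂ q2 u₃ q3 (hK u₂ hu₂ b2) (hK u₃ hu₃ b3) (hK _ (Cx.mul_mem hu₂ hu₃) b23)
  have c123 := hpair (u₁ * u₂) (Q.mul_mem q1 q2) u₃ q3 (hK _ (Cx.mul_mem hu₁ hu₂) b12) (hK u₃ hu₃ b3)
    (hK _ (Cx.mul_mem (Cx.mul_mem hu₁ hu₂) hu₃) b123)
  apply c123
  have hbil : u₃⁻¹ * (u₁ * u₂)⁻¹ * u₃ * (u₁ * u₂) = (u₃⁻¹ * u₂⁻¹ * u₃ * u₂) * (u₃⁻¹ * u₁⁻¹ * u₃ * u₁) := by
    have hc := h1 u₂ q2 _ (h3 u₁ q1 u₃ q3)
    calc u₃⁻¹ * (u₁ * u₂)⁻¹ * u₃ * (u₁ * u₂) = u₃⁻¹ * u₂⁻¹ * u₃ * ((u₃⁻¹ * u₁⁻¹ * u₃ * u₁) * u₂) := by group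
      _ = u₃⁻¹ * u₂⁻¹ * u₃ * (u₂ * (u₃⁻¹ * u₁⁻¹ * u₃ * u₁)) := by rw [hc]
      _ = _ := by group
  rw [hbil, hpar _ (h3 u₂ q2 u₃ q3) _ (h3 u₁ q1 u₃ q3)]
  exact ⟨fun h => absurd h c23, fun h => absurd h c13⟩

theorem mem_normalizer_closure {X : Type*} [Group X] (S : Set X) (g : X)
    (h1 : ∀ s ∈ S, g * s * g⁻¹ ∈ S) (h2 : ∀ s ∈ S, g⁻¹ * s * g⁻¹⁻¹ ∈ S) :
    g ∈ Subgroup.normalizer (Subgroup.closure S : Set X) := by
  have key : ∀ (g : X), (∀ s ∈ S, g * s * g⁻¹ ∈ S) → ∀ k ∈ Subgroup.closure S,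
      g * k * g⁻¹ ∈ Subgroup.closure S := by
    intro g h k hk
    induction hk using Subgroup.closure_induction with
    | mem x hx => exact Subgroup.subset_closure (h x hx)
    | one => simp
    | mul a b _ _ iha ihb =>
      have := (Subgroup.closure S).mul_mem iha ihb
      simpa [mul_assoc] using this
    | inv a _ iha =>
      have := (Subgroup.closure S).inv_mem iha
      simpa [mul_assoc] using this
  rw [Subgroup.mem_normalizer_iff]
  intro k
  constructor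
  · exact key g h1 k
  · intro hk
    have := key g⁻¹ h2 _ hk
    simpa [mul_assoc] using this

theorem conj_mem_of_normalizer {X : Type*} [Group X] {H : Subgroup X} {g : X}
    (hg : g ∈ Subgroup.normalizer (H : Set X)) {h : X} (hh : h ∈ H) : g * h * g⁻¹ ∈ H :=
  (Subgroup.mem_normalizer_iff.mp hg h).mp hh

theorem normalizer_commutator {X : Type*} [Group X] (A B : Subgroup X) (g : X)
    (hA : g ∈ Subgroup.normalizer (A : Set X)) (hB : g ∈ Subgroup.normalizer (B : Set X)) :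
    g ∈ Subgroup.normalizer ((⁅A, B⁆ : Subgroup X) : Set X) := by
  rw [Subgroup.commutator_def]
  have key : ∀ g : X, g ∈ Subgroup.normalizer (A : Set X) → g ∈ Subgroup.normalizer (B : Set X) →
      ∀ s ∈ {k | ∃ a ∈ A, ∃ b ∈ B, ⁅a, b⁆ = k}, g * s * g⁻¹ ∈ {k | ∃ a ∈ A, ∃ b ∈ B, ⁅a, b⁆ = k} := by
    rintro g hA hB _ ⟨a, ha, b, hb, rfl⟩
    refine ⟨g * a * g⁻¹, conj_mem_of_normalizer hA ha, g * b * g⁻¹, conj_mem_of_normalizer hB hb, ?_⟩
    simp only [commutatorElement_def]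
    group
  exact mem_normalizer_closure _ g (key g hA hB)
    (key g⁻¹ (Subgroup.inv_mem _ hA) (Subgroup.inv_mem _ hB))

theorem normalizer_squares {X : Type*} [Group X] (Q : Subgroup X) (g : X)
    (hQ : g ∈ Subgroup.normalizer (Q : Set X)) :
    g ∈ Subgroup.normalizer (Subgroup.closure {k | ∃ x ∈ Q, x ^ 2 = k} : Set X) := by
  have key : ∀ g : X, g ∈ Subgroup.normalizer (Q : Set X) →
      ∀ s ∈ {k | ∃ x ∈ Q, x ^ 2 = k}, g * s * g⁻¹ ∈ {k | ∃ x ∈ Q, x ^ 2 = k} := by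
    rintro g hQ _ ⟨x, hx, rfl⟩
    exact ⟨g * x * g⁻¹, conj_mem_of_normalizer hQ hx, conj_pow⟩
  exact mem_normalizer_closure _ g (key g hQ) (key g⁻¹ (Subgroup.inv_mem _ hQ))

theorem squares_ne {X : Type*} [Group X] [Finite X] (Q : Subgroup X) (hQ : IsPGroup 2 Q) (hQ1 : Q ≠ ⊥) :
    Subgroup.closure {k | ∃ x ∈ Q, x ^ 2 = k} ≠ Q := by
  intro heq
  obtain ⟨a, ha⟩ := IsPGroup.iff_card.mp hQ
  have ha0 : a ≠ 0 := by
    intro h0
    rw [h0, pow_zero, Subgroup.card_eq_one] at ha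
    exact hQ1 ha
  haveI : Fact (Nat.Prime 2) := ⟨Nat.prime_two⟩
  obtain ⟨K, hK⟩ := Sylow.exists_subgroup_card_pow_prime (G := ↥Q) 2 (n := a - 1)
    (by rw [ha]; exact pow_dvd_pow 2 (by omega))
  have hidx : K.index = 2 := by
    have e1 := Subgroup.card_mul_index K
    rw [hK, ha] at e1
    have e2 : 2 ^ a = 2 ^ (a - 1) * 2 := by rw [← pow_succ]; congr 1; omega
    rw [e2] at e1
    exact Nat.eq_of_mul_eq_mul_left (pow_pos (by norm_num) _) e1
  have hle : Subgroup.closure {k | ∃ x ∈ Q, x ^ 2 = k} ≤ K.map Q.subtype := by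
    rw [Subgroup.closure_le]
    rintro _ ⟨x, hx, rfl⟩
    exact ⟨⟨x, hx⟩ ^ 2, Subgroup.sq_mem_of_index_two hidx _, rfl⟩
  rw [heq] at hle
  have e3 := Subgroup.card_le_of_le hle
  rw [← Nat.card_congr (Subgroup.equivMapOfInjective K Q.subtype Q.subtype_injective).toEquiv, hK, ha] at e3
  have : 2 ^ (a - 1) < 2 ^ a := Nat.pow_lt_pow_right (by norm_num) (by omega)
  omega

theorem sq_mul {X : Type*} [Group X] (Q Z : Subgroup X)
    (h1 : ∀ q ∈ Q, ∀ t ∈ Z, q * t = t * q)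
    (h3 : ∀ x ∈ Q, ∀ y ∈ Q, y⁻¹ * x⁻¹ * y * x ∈ Z) :
    ∀ u ∈ Q, ∀ v ∈ Q, (u * v) ^ 2 = u ^ 2 * v ^ 2 * (v⁻¹ * u⁻¹ * v * u) := by
  intro u hu v hv
  have hc := h1 v hv _ (h3 u hu v hv)
  calc (u * v) ^ 2 = u * (u * v * (v⁻¹ * u⁻¹ * v * u)) * v := by rw [pow_two]; group
    _ = u * u * (v * (v⁻¹ * u⁻¹ * v * u)) * v := by group
    _ = u * u * ((v⁻¹ * u⁻¹ * v * u) * v) * v := by rw [hc]
    _ = u * u * (v⁻¹ * u⁻¹ * v * u) * (v * v) := by group
    _ = u * u * ((v * v) * (v⁻¹ * u⁻¹ * v * u)) := by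
        rw [mul_assoc (u * u), ← h1 (v * v) (Q.mul_mem hv hv) _ (h3 u hu v hv)]
    _ = u ^ 2 * v ^ 2 * (v⁻¹ * u⁻¹ * v * u) := by rw [pow_two, pow_two]; group

theorem comm_sq {X : Type*} [Group X] (Q Z : Subgroup X)
    (h1 : ∀ q ∈ Q, ∀ t ∈ Z, q * t = t * q) (h2 : ∀ x ∈ Q, x ^ 2 ∈ Z)
    (h3 : ∀ x ∈ Q, ∀ y ∈ Q, y⁻¹ * x⁻¹ * y * x ∈ Z) :
    ∀ u ∈ Q, ∀ v ∈ Q, (v⁻¹ * u⁻¹ * v * u) ^ 2 = 1 := by
  intro u hu v hv
  set c := v⁻¹ * u⁻¹ * v * u with hc
  have hcZ : c ∈ Z := h3 u hu v hv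
  have e1 : v⁻¹ * c = c * v⁻¹ := h1 _ (Q.inv_mem hv) c hcZ
  have e2 : u⁻¹ * (v⁻¹) ^ 2 = (v⁻¹) ^ 2 * u⁻¹ := h1 _ (Q.inv_mem hu) _ (h2 _ (Q.inv_mem hv))
  calc c ^ 2 = (c * v⁻¹) * u⁻¹ * v * u := by rw [pow_two]; nth_rewrite 2 [hc]; group
    _ = (v⁻¹ * c) * u⁻¹ * v * u := by rw [e1]
    _ = ((v⁻¹) ^ 2 * u⁻¹) * v * v * u := by rw [hc, pow_two]; group
    _ = (u⁻¹ * (v⁻¹) ^ 2) * v * v * u := by rw [e2]
    _ = 1 := by rw [pow_two]; group

theorem pow4_mul {X : Type*} [Group X] (Q Z : Subgroup X) (hZQ : Z ≤ Q)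
    (h1 : ∀ q ∈ Q, ∀ t ∈ Z, q * t = t * q) (h2 : ∀ x ∈ Q, x ^ 2 ∈ Z)
    (h3 : ∀ x ∈ Q, ∀ y ∈ Q, y⁻¹ * x⁻¹ * y * x ∈ Z) :
    ∀ u ∈ Q, ∀ v ∈ Q, (u * v) ^ 4 = u ^ 4 * v ^ 4 := by
  intro u hu v hv
  have c1 : Commute (u ^ 2) (v ^ 2) := h1 _ (hZQ (h2 u hu)) _ (h2 v hv)
  have c2 : Commute (u ^ 2 * v ^ 2) (v⁻¹ * u⁻¹ * v * u) :=
    h1 _ (hZQ (Z.mul_mem (h2 u hu) (h2 v hv))) _ (h3 u hu v hv)
  calc (u * v) ^ 4 = ((u * v) ^ 2) ^ 2 := by rw [← pow_mul]
    _ = (u ^ 2 * v ^ 2 * (v⁻¹ * u⁻¹ * v * u)) ^ 2 := by rw [sq_mul Q Z h1 h3 u hu v hv]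
    _ = (u ^ 2) ^ 2 * (v ^ 2) ^ 2 * (v⁻¹ * u⁻¹ * v * u) ^ 2 := by rw [c2.mul_pow, c1.mul_pow]
    _ = u ^ 4 * v ^ 4 := by rw [comm_sq Q Z h1 h2 h3 u hu v hv, mul_one, ← pow_mul, ← pow_mul]

theorem closure_elem {X : Type*} [Group X] (S : Set X)
    (hc : ∀ a ∈ S, ∀ b ∈ S, a * b = b * a) (h2 : ∀ a ∈ S, a ^ 2 = 1) :
    (∀ a ∈ Subgroup.closure S, ∀ b ∈ Subgroup.closure S, a * b = b * a) ∧
    (∀ a ∈ Subgroup.closure S, a ^ 2 = 1) := by
  have hcomm : ∀ a ∈ Subgroup.closure S, ∀ b ∈ Subgroup.closure S, a * b = b * a := by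
    have h1 : Subgroup.closure S ≤ Subgroup.centralizer S := by
      rw [Subgroup.closure_le]
      intro a ha
      exact Subgroup.mem_centralizer_iff.mpr (fun b hb => hc b hb a ha)
    have h2 : Subgroup.closure S ≤ Subgroup.centralizer (Subgroup.closure S : Set X) := by
      rw [Subgroup.closure_le]
      intro a ha
      refine Subgroup.mem_centralizer_iff.mpr (fun b hb => ?_)
      exact (Subgroup.mem_centralizer_iff.mp (h1 hb) a ha).symm
    intro a ha b hb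
    exact (Subgroup.mem_centralizer_iff.mp (h2 ha) b hb).symm
  refine ⟨hcomm, ?_⟩
  intro a ha
  induction ha using Subgroup.closure_induction with
  | mem x hx => exact h2 x hx
  | one => simp
  | mul a b ha hb iha ihb =>
    have : Commute a b := hcomm a ha b hb
    rw [this.mul_pow, iha, ihb, one_mul]
  | inv a _ iha => rw [inv_pow, iha, inv_one]

/-- Let d be a non-identity 3-element of a finite group and P a 2-subgroup normalized by d on which ⟨d⟩ acts faithfully (no non-identity power of d centralizes P) and without non-identity fixed points (C_P(d) = 1). If every abelian subgroup of P has 2-rank at most 2, then d has order 3. -/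
theorem result {X : Type*} [Group X] [Finite X] (d : X) (n : ℕ) (hn : 1 ≤ n) (hd : orderOf d = 3 ^ n) (P : Subgroup X) (hP : IsPGroup 2 P) (hdP : d ∈ Subgroup.normalizer (P : Set X)) (hfaith : Subgroup.zpowers d ⊓ Subgroup.centralizer (P : Set X) = ⊥) (hfpf : P ⊓ Subgroup.centralizer {d} = ⊥) (hrank : ∀ V : Subgroup X, V ≤ P → IsMulCommutative V → Cfsg.PRankLE 2 2 V) : orderOf d = 3 := by
  classical
  by_contra hne
  have hn2 : 2 ≤ n := by
    by_contra h
    have : n = 1 := by omega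
    exact hne (by rw [hd, this, pow_one])
  set w := d ^ (3 ^ (n - 2)) with hw
  have hw9 : orderOf w = 9 := by
    rw [hw, orderOf_pow_of_dvd (pow_ne_zero _ (by norm_num)) (by rw [hd]; exact pow_dvd_pow 3 (by omega)), hd,
      Nat.pow_div (by omega) (by norm_num)]
    have : n - (n - 2) = 2 := by omega
    rw [this]
  set z := w ^ 3 with hz
  have hz3 : orderOf z = 3 := by
    rw [hz, orderOf_pow_of_dvd (by norm_num) (by rw [hw9]; norm_num), hw9]
  have hz1 : z ≠ 1 := by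
    intro h
    rw [h, orderOf_one] at hz3
    omega
  have hwd : w ∈ Subgroup.zpowers d := Subgroup.pow_mem _ (Subgroup.mem_zpowers d) _
  have hzd : z ∈ Subgroup.zpowers d := Subgroup.pow_mem _ hwd _
  have hzP : z ∉ Subgroup.centralizer (P : Set X) := by
    intro h
    have : z ∈ Subgroup.zpowers d ⊓ Subgroup.centralizer (P : Set X) := ⟨hzd, h⟩
    rw [hfaith, Subgroup.mem_bot] at this
    exact hz1 this
  have hex : ∃ m, ∃ Q : Subgroup X, Nat.card Q = m ∧ Q ≤ P ∧ d ∈ Subgroup.normalizer (Q : Set X) ∧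
      z ∉ Subgroup.centralizer (Q : Set X) := ⟨_, P, rfl, le_rfl, hdP, hzP⟩
  obtain ⟨Q, hQm, hQP, hdQ, hzQ⟩ := Nat.find_spec hex
  have hmin : ∀ R : Subgroup X, R ≤ Q → R ≠ Q → d ∈ Subgroup.normalizer (R : Set X) →
      z ∈ Subgroup.centralizer (R : Set X) := by
    intro R hRQ hRne hdR
    by_contra hzR
    have hlt : Nat.card R < Nat.find hex := by
      rw [← hQm]
      by_contra h
      exact hRne (Subgroup.eq_of_le_of_card_ge hRQ (not_lt.mp h))
    exact Nat.find_min hex hlt ⟨R, rfl, hRQ.trans hQP, hdR, hzR⟩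
  have hQ2 : IsPGroup 2 Q := hP.to_le hQP
  set E := Subgroup.zpowers z with hE
  have hnorm : ∀ R : Subgroup X, d ∈ Subgroup.normalizer (R : Set X) →
      Subgroup.zpowers d ≤ Subgroup.normalizer (R : Set X) :=
    fun R h => Subgroup.zpowers_le.mpr h
  have hEd : E ≤ Subgroup.zpowers d := Subgroup.zpowers_le.mpr hzd
  have hEn : E ≤ Subgroup.normalizer (Q : Set X) := hEd.trans (hnorm Q hdQ)
  have hdz : d * z = z * d := by
    rw [hz, hw, ← pow_mul]
    exact ((Commute.refl d).pow_right _)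
  have hdE : d ∈ Subgroup.normalizer (E : Set X) := by
    rw [hE, Subgroup.zpowers_eq_closure]
    apply mem_normalizer_closure
    · intro s hs
      rw [Set.mem_singleton_iff] at hs ⊢
      rw [hs, hdz]; group
    · intro s hs
      rw [Set.mem_singleton_iff] at hs ⊢
      rw [hs, inv_inv, mul_assoc, ← hdz]; group
  have zc : ∀ R : Subgroup X, z ∈ Subgroup.centralizer (R : Set X) ↔
      R ≤ Subgroup.centralizer (E : Set X) := by
    intro R
    constructor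
    · intro h r hr
      rw [Subgroup.mem_centralizer_iff]
      intro e he
      obtain ⟨i, rfl⟩ := Subgroup.mem_zpowers_iff.mp he
      have : Commute z r := (Subgroup.mem_centralizer_iff.mp h r hr).symm
      exact this.zpow_left i
    · intro h
      rw [Subgroup.mem_centralizer_iff]
      intro r hr
      exact (Subgroup.mem_centralizer_iff.mp (h hr) z (Subgroup.mem_zpowers z)).symm
  have hcop : (Nat.card E).Coprime (Nat.card Q) := by
    obtain ⟨a, ha⟩ := IsPGroup.iff_card.mp hQ2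
    rw [hE, Nat.card_zpowers, hz3, ha]
    exact Nat.Coprime.pow_right a (by norm_num)
  have hcommQ : ∀ q ∈ Q, ∀ e ∈ E, e * q * e⁻¹ ∈ Q :=
    fun q hq e he => conj_mem_of_normalizer (hEn he) hq
  have hRQ : ⁅Q, E⁆ ≤ Q := by
    rw [Subgroup.commutator_le]
    intro q hq e he
    rw [commutatorElement_def]
    have := Q.mul_mem hq (hcommQ q⁻¹ (Q.inv_mem hq) e he)
    simpa [mul_assoc] using this
  have hS1 : ⁅Q, E⁆ = Q := by
    by_contra hRne
    have h1 := hmin _ hRQ hRne (normalizer_commutator Q E d hdQ hdE)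
    rw [zc, ← Subgroup.commutator_eq_bot_iff_le_centralizer] at h1
    have h2 := Cfsg.Agent.S0027.result E Q hEn hcop (Or.inl inferInstance)
    rw [h1] at h2
    apply hzQ
    rw [zc, ← Subgroup.commutator_eq_bot_iff_le_centralizer]
    exact h2.symm
  have hQ1 : Q ≠ ⊥ := by
    intro h
    apply hzQ
    rw [h, Subgroup.mem_centralizer_iff]
    intro r hr
    have : r = 1 := by simpa using hr
    rw [this]; simp
  set Z := Subgroup.closure {k | ∃ x ∈ Q, x ^ 2 = k} with hZ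
  have hZQ : Z ≤ Q := by
    rw [hZ, Subgroup.closure_le]
    rintro _ ⟨x, hx, rfl⟩
    exact Q.pow_mem hx 2
  have hdZ : d ∈ Subgroup.normalizer (Z : Set X) := normalizer_squares Q d hdQ
  have hZE : Z ≤ Subgroup.centralizer (E : Set X) :=
    (zc Z).mp (hmin Z hZQ (squares_ne Q hQ2 hQ1) hdZ)
  have hQZ : ⁅Q, Z⁆ = ⊥ := by
    have h := Subgroup.commutator_commutator_eq_bot_of_rotate (H₁ := Q) (H₂ := E) (H₃ := Z) ?_ ?_
    · rwa [hS1] at h
    · rw [Subgroup.commutator_comm E Z, Subgroup.commutator_eq_bot_iff_le_centralizer.mpr hZE,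
        Subgroup.commutator_bot_left]
    · rw [Subgroup.commutator_eq_bot_iff_le_centralizer]
      refine le_trans ?_ hZE
      rw [Subgroup.commutator_le]
      intro t ht q hq
      rw [commutatorElement_def]
      have hq' : q ∈ Subgroup.normalizer (Z : Set X) :=
        normalizer_squares Q q (Subgroup.le_normalizer hq)
      have := Z.mul_mem ht (conj_mem_of_normalizer hq' (Z.inv_mem ht))
      simpa [mul_assoc] using this
  have h1 : ∀ q ∈ Q, ∀ t ∈ Z, q * t = t * q := by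
    intro q hq t ht
    have := Subgroup.commutator_eq_bot_iff_le_centralizer.mp hQZ hq
    exact (Subgroup.mem_centralizer_iff.mp this t ht).symm
  have h2 : ∀ x ∈ Q, x ^ 2 ∈ Z := fun x hx => Subgroup.subset_closure ⟨x, hx, rfl⟩
  have h3 : ∀ x ∈ Q, ∀ y ∈ Q, y⁻¹ * x⁻¹ * y * x ∈ Z := by
    intro x hx y hy
    have e : y⁻¹ * x⁻¹ * y * x = (y⁻¹ * x⁻¹) ^ 2 * (x * y * x⁻¹) ^ 2 * x ^ 2 := by
      rw [pow_two, pow_two, pow_two]; group
    rw [e]
    exact Z.mul_mem (Z.mul_mem (h2 _ (Q.mul_mem (Q.inv_mem hy) (Q.inv_mem hx)))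
      (h2 _ (Q.mul_mem (Q.mul_mem hx hy) (Q.inv_mem hx)))) (h2 x hx)
  have hp4 := pow4_mul Q Z hZQ h1 h2 h3
  have h44 : ∀ x ∈ Q, x ^ 4 = 1 := by
    let K4 : Subgroup X :=
      { carrier := {x | x ∈ Q ∧ x ^ 4 = 1}
        mul_mem' := fun {a b} ha hb =>
          ⟨Q.mul_mem ha.1 hb.1, by rw [hp4 a ha.1 b hb.1, ha.2, hb.2, one_mul]⟩
        one_mem' := ⟨Q.one_mem, one_pow 4⟩
        inv_mem' := fun {a} ha => ⟨Q.inv_mem ha.1, by rw [inv_pow, ha.2, inv_one]⟩ }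
    have hle : ⁅Q, E⁆ ≤ K4 := by
      rw [Subgroup.commutator_le]
      intro q hq e he
      have hc1 : e * q⁻¹ * e⁻¹ ∈ Q := hcommQ q⁻¹ (Q.inv_mem hq) e he
      have e1 : ⁅q, e⁆ = q * (e * q⁻¹ * e⁻¹) := by rw [commutatorElement_def]; group
      have ht : (q⁻¹) ^ 4 ∈ Z := by
        have := Z.pow_mem (h2 _ (Q.inv_mem hq)) 2
        rwa [← pow_mul] at this
      have e2 : e * (q⁻¹) ^ 4 = (q⁻¹) ^ 4 * e := Subgroup.mem_centralizer_iff.mp (hZE ht) e he
      refine ⟨by rw [e1]; exact Q.mul_mem hq hc1, ?_⟩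
      rw [e1, hp4 q hq _ hc1, conj_pow, e2, mul_assoc, mul_inv_cancel, mul_one, inv_pow,
        mul_inv_cancel]
    intro x hx
    have : x ∈ ⁅Q, E⁆ := by rw [hS1]; exact hx
    exact (hle this).2
  have rank4 : ∀ V : Subgroup X, V ≤ P → (∀ a ∈ V, ∀ b ∈ V, a * b = b * a) →
      (∀ a ∈ V, a ^ 2 = 1) → Nat.card V ≤ 4 := by
    intro V hV hc he
    have := hrank V hV ⟨⟨fun a b => Subtype.ext (hc a a.2 b b.2)⟩⟩ ⊤
      ⟨⟨fun a b => Subtype.ext (Subtype.ext (hc a a.1.2 b b.1.2))⟩⟩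
      (fun a _ => Subtype.ext (by simpa using he a a.2))
    rw [Subgroup.card_top] at this
    simpa using this
  have hsqc : ∀ a ∈ {k | ∃ x ∈ Q, x ^ 2 = k}, a ∈ Z := fun a ha => Subgroup.subset_closure ha
  obtain ⟨hZc, h4⟩ := closure_elem {k | ∃ x ∈ Q, x ^ 2 = k}
    (fun a ha b hb => h1 a (hZQ (hsqc a ha)) b (hsqc b hb))
    (by rintro _ ⟨x, hx, rfl⟩; rw [← pow_mul]; exact h44 x hx)
  rw [← hZ] at hZc h4
  have hZ4 : Nat.card Z ≤ 4 := rank4 Z (hZQ.trans hQP) hZc h4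
  have h6 : Nat.card Z = 4 → ∀ t ∈ Q, t ^ 2 = 1 → t ∈ Z := by
    intro h5 t ht ht2
    obtain ⟨hVc, hV2⟩ := closure_elem ((Z : Set X) ∪ {t})
      (by
        rintro a (ha | ha) b (hb | hb)
        · exact hZc a ha b hb
        · rw [Set.mem_singleton_iff.mp hb]; exact (h1 t ht a ha).symm
        · rw [Set.mem_singleton_iff.mp ha]; exact h1 t ht b hb
        · rw [Set.mem_singleton_iff.mp ha, Set.mem_singleton_iff.mp hb])
      (by
        rintro a (ha | ha)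
        · exact h4 a ha
        · rw [Set.mem_singleton_iff.mp ha]; exact ht2)
    have hVP : Subgroup.closure ((Z : Set X) ∪ {t}) ≤ P := by
      rw [Subgroup.closure_le]
      rintro a (ha | ha)
      · exact hQP (hZQ ha)
      · rw [Set.mem_singleton_iff.mp ha]; exact hQP ht
    have hV4 := rank4 _ hVP hVc hV2
    have hZV : Z ≤ Subgroup.closure ((Z : Set X) ∪ {t}) :=
      fun a ha => Subgroup.subset_closure (Or.inl ha)
    have := Subgroup.eq_of_le_of_card_ge hZV (by rw [h5]; exact hV4)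
    rw [this]
    exact Subgroup.subset_closure (Or.inr rfl)
  have hwQ : w ∈ Subgroup.normalizer (Q : Set X) := hnorm Q hdQ hwd
  obtain ⟨m, hm⟩ := nine_dvd Q w hw9 hwQ
  set C := Q ⊓ Subgroup.centralizer ({z} : Set X) with hC
  have hCQ : C ≤ Q := inf_le_left
  have hCne : C ≠ Q := by
    intro h
    apply hzQ
    rw [Subgroup.mem_centralizer_iff]
    intro q hq
    have : q ∈ C := by rw [h]; exact hq
    exact Subgroup.mem_centralizer_singleton_iff.mp this.2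
  have hZC : Z ≤ C := by
    intro t ht
    refine Subgroup.mem_inf.mpr ⟨hZQ ht, ?_⟩
    rw [Subgroup.mem_centralizer_singleton_iff]
    exact (Subgroup.mem_centralizer_iff.mp (hZE ht) z (Subgroup.mem_zpowers z)).symm
  obtain ⟨a, ha⟩ := IsPGroup.iff_card.mp hQ2
  obtain ⟨c, hc⟩ := IsPGroup.iff_card.mp (hQ2.to_le hCQ)
  have hlt : Nat.card C < Nat.card Q := by
    by_contra h
    exact hCne (Subgroup.eq_of_le_of_card_ge hCQ (not_lt.mp h))
  have hca : c < a := by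
    rw [ha, hc] at hlt
    exact (Nat.pow_lt_pow_iff_right (by norm_num)).mp hlt
  have h64 : 64 * Nat.card C ≤ Nat.card Q := by
    obtain ⟨k, rfl⟩ : ∃ k, a = c + k := ⟨a - c, by omega⟩
    rw [ha, hc] at hm
    rw [ha, hc, pow_add]
    have hk6 : 6 ≤ k := by
      by_contra hk
      have hk' : k < 6 := by omega
      have hk0 : 0 < k := by omega
      have hdvd : 9 ∣ 2 ^ c * (2 ^ k - 1) := by
        refine ⟨m, ?_⟩
        rw [Nat.mul_sub, mul_one, ← pow_add, hm]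
        omega
      have hcop9 : Nat.Coprime 9 (2 ^ c) := Nat.Coprime.pow_right c (by norm_num)
      have := hcop9.dvd_of_dvd_mul_left hdvd
      interval_cases k <;> norm_num at this
    calc 64 * 2 ^ c = 2 ^ c * 2 ^ 6 := by ring
      _ ≤ 2 ^ c * 2 ^ k := Nat.mul_le_mul_left _ (Nat.pow_le_pow_right (by norm_num) hk6)
  have hZCc : Nat.card Z ≤ Nat.card C := Subgroup.card_le_of_le hZC
  obtain ⟨j, hj⟩ := IsPGroup.iff_card.mp (hQ2.to_le hZQ)
  have hj2 : j ≤ 2 := by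
    by_contra h
    have : 2 ^ 3 ≤ 2 ^ j := Nat.pow_le_pow_right (by norm_num) (by omega)
    rw [hj] at hZ4
    omega
  have hZpos : 0 < Nat.card Z := Nat.card_pos
  interval_cases j
  · have hZb : Z = ⊥ := Subgroup.card_eq_one.mp (by simpa using hj)
    have hq4 := rank4 Q hQP
      (by
        intro a' ha' b' hb'
        have := h3 a' ha' b' hb'
        rw [hZb, Subgroup.mem_bot] at this
        calc a' * b' = a' * b' * (b'⁻¹ * a'⁻¹ * b' * a') := by rw [this, mul_one]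
          _ = b' * a' := by group)
      (by
        intro a' ha'
        have := h2 a' ha'
        rwa [hZb, Subgroup.mem_bot] at this)
    omega
  · have hj' : Nat.card Z = 2 := by simpa using hj
    obtain ⟨t, ht1, htu⟩ := (Nat.card_eq_two_iff' (1 : Z)).mp hj'
    have hconj : d * (t : X) * d⁻¹ ∈ Z := conj_mem_of_normalizer hdZ t.2
    have hne1 : (⟨d * (t : X) * d⁻¹, hconj⟩ : Z) ≠ 1 := by
      intro h
      have h' : d * (t : X) * d⁻¹ = 1 := congrArg Subtype.val h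
      apply ht1
      apply Subtype.ext
      show (t : X) = 1
      calc (t : X) = d⁻¹ * (d * (t : X) * d⁻¹) * d := by group
        _ = 1 := by rw [h']; group
    have heq := htu _ hne1
    have heq' : d * (t : X) * d⁻¹ = t := congrArg Subtype.val heq
    have hmem : (t : X) ∈ P ⊓ Subgroup.centralizer {d} := by
      refine Subgroup.mem_inf.mpr ⟨hQP (hZQ t.2), ?_⟩
      rw [Subgroup.mem_centralizer_singleton_iff]
      calc (t : X) * d = (d * (t : X) * d⁻¹) * d := by rw [heq']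
        _ = d * t := by group
    rw [hfpf, Subgroup.mem_bot] at hmem
    exact ht1 (Subtype.ext hmem)
  · have h5 : Nat.card Z = 4 := by simpa using hj
    exact lemmaB Q Z hZQ h1 h2 h3 h4 h5 (h6 h5) (by omega)

end Cfsg.Agent.S3738
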