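import Cfsg.Statements.S3761
import Mathlib
import Cfsg.Agent.S0638
import Cfsg.Agent.S0519
import Cfsg.Agent.Lib.Helper5.WS
import Cfsg.Agent.Lib.Lead.Klein2
import Cfsg.Agent.Lib.Helper14.PGroupRel
-- import your own Cfsg.Agent.* helpers here

set_option autoImplicit false
open Cfsg

namespace Cfsg.Agent.S3761

open Subgroup

section aux

variable {G : Type*} [Group G]

/-- elements of a cyclic `p`-group killed by `p ^ j`. -/
theorem mem_zpowers_pow {p n j : ℕ} (hp : p.Prime) (a : G) (ha : orderOf a = p ^ n) (hj : j ≤ n)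
    (t : G) (ht : t ∈ zpowers a) (htp : t ^ (p ^ j) = 1) : t ∈ zpowers (a ^ (p ^ (n - j))) := by
  obtain ⟨k, rfl⟩ := mem_zpowers_iff.1 ht
  have h1 : a ^ (k * ((p ^ j : ℕ) : ℤ)) = 1 := by rw [zpow_mul, zpow_natCast]; exact htp
  have h2 := orderOf_dvd_iff_zpow_eq_one.2 h1
  rw [ha] at h2
  have h3 : ((p ^ (n - j) : ℕ) : ℤ) ∣ k := by
    have h4 : ((p ^ n : ℕ) : ℤ) = ((p ^ (n - j) : ℕ) : ℤ) * ((p ^ j : ℕ) : ℤ) := by
      rw [← Nat.cast_mul, ← pow_add]; congr 2; omega
    rw [h4] at h2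
    have h5 : ((p ^ j : ℕ) : ℤ) ≠ 0 := by
      have := pow_pos hp.pos j
      exact_mod_cast this.ne'
    exact Int.dvd_of_mul_dvd_mul_right h5 h2
  obtain ⟨l, rfl⟩ := h3
  exact ⟨l, by simp only; rw [zpow_mul, zpow_natCast]⟩

theorem theta_mem (a y : G) (hAn : (zpowers a).Normal) : y * a * y⁻¹ * a⁻¹ ∈ zpowers a :=
  mul_mem (hAn.conj_mem a (mem_zpowers a) y) (inv_mem (mem_zpowers a))

theorem theta_pow {p : ℕ} (a y : G) (hAn : (zpowers a).Normal) (hy : Commute y (a ^ p)) :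
    (y * a * y⁻¹ * a⁻¹) ^ p = 1 := by
  have h1 : Commute (y * a * y⁻¹) a⁻¹ := by
    obtain ⟨k, hk⟩ := mem_zpowers_iff.1 (hAn.conj_mem a (mem_zpowers a) y)
    rw [← hk]; exact ((Commute.refl a).zpow_left k).inv_right
  rw [h1.mul_pow, conj_pow, inv_pow, hy.eq]; group

/-- elements of `⟨a⟩` of order dividing `p` commute with the centraliser of `a ^ p`. -/
theorem comm_of_killed {p n : ℕ} (hp : p.Prime) (a : G) (ha : orderOf a = p ^ n) (hn2 : 2 ≤ n)
    (y : G) (hy : Commute y (a ^ p)) (t : G) (ht : t ∈ zpowers a) (htp : t ^ p = 1) : Commute y t := by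
  have h1 := mem_zpowers_pow hp a ha (show 1 ≤ n by omega) t ht (by rwa [pow_one])
  obtain ⟨k, rfl⟩ := mem_zpowers_iff.1 h1
  have h2 : a ^ (p ^ (n - 1)) = (a ^ p) ^ (p ^ (n - 2)) := by
    rw [← pow_mul, ← pow_succ']; congr 2; omega
  rw [h2]
  exact (hy.pow_right _).zpow_right k

theorem comm_of_conj {g a : G} (h : g * a * g⁻¹ = a) : Commute g a := by
  show g * a = a * g
  calc g * a = (g * a * g⁻¹) * g := by group
    _ = a * g := by rw [h]

theorem relIndex_eq [Finite G] {p n : ℕ} (hp : p.Prime) (a : G) (ha : orderOf a = p ^ n) (hn2 : 2 ≤ n)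
    (hAn : (zpowers a).Normal) (hcent : ∀ g : G, Commute g a → g ∈ zpowers a)
    (x : G) (hxA : x ∉ zpowers a) (hxM : Commute x (a ^ p)) :
    (zpowers a).relIndex (centralizer ({a ^ p} : Set G)) = p := by
  have hmemM : ∀ y : G, y ∈ centralizer ({a ^ p} : Set G) ↔ Commute y (a ^ p) := by
    intro y; rw [mem_centralizer_singleton_iff]; exact Iff.rfl
  have hmul : ∀ y₁ y₂ : centralizer ({a ^ p} : Set G),
      ((y₁ * y₂ : centralizer ({a ^ p} : Set G)) : G) * a * ((y₁ * y₂ : centralizer ({a ^ p} : Set G)) : G)⁻¹ * a⁻¹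
        = ((y₁ : G) * a * (y₁ : G)⁻¹ * a⁻¹) * ((y₂ : G) * a * (y₂ : G)⁻¹ * a⁻¹) := by
    rintro ⟨y₁, h₁⟩ ⟨y₂, h₂⟩
    have c1 : Commute y₁ (y₂ * a * y₂⁻¹ * a⁻¹) :=
      comm_of_killed hp a ha hn2 y₁ ((hmemM y₁).1 h₁) _ (theta_mem a y₂ hAn)
        (theta_pow a y₂ hAn ((hmemM y₂).1 h₂))
    show (y₁ * y₂) * a * (y₁ * y₂)⁻¹ * a⁻¹ = _
    calc (y₁ * y₂) * a * (y₁ * y₂)⁻¹ * a⁻¹
        = (y₁ * (y₂ * a * y₂⁻¹ * a⁻¹)) * a * y₁⁻¹ * a⁻¹ := by group
      _ = ((y₂ * a * y₂⁻¹ * a⁻¹) * y₁) * a * y₁⁻¹ * a⁻¹ := by rw [c1.eq]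
      _ = (y₂ * a * y₂⁻¹ * a⁻¹) * (y₁ * a * y₁⁻¹ * a⁻¹) := by group
      _ = (y₁ * a * y₁⁻¹ * a⁻¹) * (y₂ * a * y₂⁻¹ * a⁻¹) := by
          obtain ⟨k, hk⟩ := mem_zpowers_iff.1 (theta_mem a y₁ hAn)
          obtain ⟨l, hl⟩ := mem_zpowers_iff.1 (theta_mem a y₂ hAn)
          rw [← hk, ← hl]
          exact (((Commute.refl a).zpow_left l).zpow_right k).eq
  obtain ⟨θ, hθ⟩ : ∃ θ : centralizer ({a ^ p} : Set G) →* G,
      ∀ y, θ y = (y : G) * a * (y : G)⁻¹ * a⁻¹ := ⟨MonoidHom.mk' _ hmul, fun _ => rfl⟩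
  have hker : θ.ker = (zpowers a).subgroupOf (centralizer ({a ^ p} : Set G)) := by
    ext y
    rw [MonoidHom.mem_ker, hθ, mem_subgroupOf]
    constructor
    · intro h
      exact hcent _ (comm_of_conj (mul_inv_eq_one.1 h))
    · intro h
      obtain ⟨k, hk⟩ := mem_zpowers_iff.1 h
      rw [← hk]; group
  have hzo : orderOf (a ^ (p ^ (n - 1))) = p := by
    rw [orderOf_pow_of_dvd (pow_pos hp.pos _).ne' (by rw [ha]; exact pow_dvd_pow p (by omega)), ha,
      Nat.pow_div (by omega) hp.pos, show n - (n - 1) = 1 by omega, pow_one]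
  have hr : θ.range ≤ zpowers (a ^ (p ^ (n - 1))) := by
    rintro _ ⟨y, rfl⟩
    rw [hθ]
    exact mem_zpowers_pow hp a ha (show 1 ≤ n by omega) _ (theta_mem a y hAn)
      (by rw [pow_one]; exact theta_pow a y hAn ((hmemM y).1 y.2))
  have hcard : Nat.card θ.range ∣ p := by
    have := card_dvd_of_le hr
    rwa [Nat.card_zpowers, hzo] at this
  rw [relIndex, ← hker, index_ker]
  rcases (Nat.dvd_prime hp).1 hcard with h | h
  · exfalso
    have h1 : θ ⟨x, (hmemM x).2 hxM⟩ ∈ θ.range := ⟨_, rfl⟩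
    rw [card_eq_one.1 h, mem_bot, hθ] at h1
    exact hxA (hcent _ (comm_of_conj (mul_inv_eq_one.1 h1)))
  · exact h

theorem char_of_elem {p : ℕ} (a : G)
    (hAn : (zpowers a).Normal)
    (hel : ∀ w ∈ Cfsg.omegaOne p (centralizer ({a ^ p} : Set G)), w ^ p = 1) :
    (Cfsg.omegaOne p (centralizer ({a ^ p} : Set G))).Characteristic := by
  have hMn : (centralizer ({a ^ p} : Set G)).Normal := by
    constructor
    intro s hs g
    rw [mem_centralizer_singleton_iff] at hs ⊢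
    obtain ⟨k, hk⟩ := mem_zpowers_iff.1 (hAn.conj_mem a (mem_zpowers a) g⁻¹)
    have h1 : g⁻¹ * a ^ p * g = (a ^ p) ^ k := by
      have : g⁻¹ * a ^ p * g = (g⁻¹ * a * g⁻¹⁻¹) ^ p := by rw [conj_pow, inv_inv]
      rw [this, ← hk, ← zpow_natCast, ← zpow_natCast, ← zpow_mul, ← zpow_mul, mul_comm]
    have h2 : Commute s (g⁻¹ * a ^ p * g) := by
      rw [h1]; exact (show Commute s (a ^ p) from hs).zpow_right k
    calc g * s * g⁻¹ * a ^ p = g * (s * (g⁻¹ * a ^ p * g)) * g⁻¹ := by group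
      _ = g * ((g⁻¹ * a ^ p * g) * s) * g⁻¹ := by rw [h2.eq]
      _ = a ^ p * (g * s * g⁻¹) := by group
  have hWn : (Cfsg.omegaOne p (centralizer ({a ^ p} : Set G))).Normal :=
    Cfsg.Agent.Lib.Helper5.omegaOne_normal _
  rw [characteristic_iff_map_le]
  intro φ
  rintro _ ⟨w, hw, rfl⟩
  apply Subgroup.subset_closure
  obtain ⟨y, hy⟩ : ∃ y, y = φ w := ⟨_, rfl⟩
  show φ w ∈ _ ∧ (φ w) ^ p = 1
  rw [← hy]
  have hyp : y ^ p = 1 := by rw [hy, ← map_pow, hel w hw, map_one]
  refine ⟨?_, hyp⟩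
  obtain ⟨c, hc⟩ : ∃ c, c = a * y * a⁻¹ * y⁻¹ := ⟨_, rfl⟩
  have hc1 : c ∈ zpowers a := by
    have : c = a * (y * a⁻¹ * y⁻¹) := by rw [hc]; group
    rw [this]; exact mul_mem (mem_zpowers a) (hAn.conj_mem _ (inv_mem (mem_zpowers a)) y)
  have hc2 : c ^ p = 1 := by
    have : c = φ ((φ.symm a) * w * (φ.symm a)⁻¹ * w⁻¹) := by rw [hc, hy]; simp
    rw [this, ← map_pow, hel _ (mul_mem (hWn.conj_mem w hw _) (inv_mem hw)), map_one]
  have h3 : y * a * y⁻¹ = c⁻¹ * a := by rw [hc]; group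
  have hca : Commute c⁻¹ a := by
    obtain ⟨k, hk⟩ := mem_zpowers_iff.1 hc1
    rw [← hk]; exact ((Commute.refl a).zpow_left k).inv_left
  have h4 : y * a ^ p * y⁻¹ = a ^ p := by
    rw [← conj_pow, h3, hca.mul_pow, inv_pow, hc2, inv_one, one_mul]
  rw [mem_centralizer_singleton_iff]
  exact (comm_of_conj h4).eq

theorem omega_odd [Finite G] {p : ℕ} [Fact p.Prime] (hp2 : p ≠ 2) (hG : IsPGroup p G) (a : G)
    (hAn : (zpowers a).Normal) (x : G) (hxa : ¬ Commute x a) (hxM : Commute x (a ^ p))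
    (hidx : (zpowers a).relIndex (centralizer ({a ^ p} : Set G)) = p) :
    Cfsg.IsElementaryAbelian p (Cfsg.omegaOne p (centralizer ({a ^ p} : Set G))) ∧
      Nat.card (Cfsg.omegaOne p (centralizer ({a ^ p} : Set G))) = p ^ 2 := by
  obtain ⟨M, hM⟩ : ∃ M, M = centralizer ({a ^ p} : Set G) := ⟨_, rfl⟩
  rw [← hM] at hidx ⊢
  have haM : a ∈ M := by
    rw [hM, mem_centralizer_singleton_iff]; exact ((Commute.refl a).pow_right p).eq
  have hxM' : x ∈ M := by rw [hM, mem_centralizer_singleton_iff]; exact hxM.eq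
  have hAM : zpowers a ≤ M := zpowers_le.2 haM
  have hmeta : Cfsg.IsMetacyclic ↥M := by
    refine ⟨(zpowers a).subgroupOf M, inferInstance, ?_, ?_⟩
    · exact isCyclic_of_surjective (subgroupOfEquivOfLe hAM).symm (subgroupOfEquivOfLe hAM).symm.surjective
    · apply isCyclic_of_prime_card (p := p)
      rw [← index_eq_card]; exact hidx
  have hnc : ¬ IsCyclic ↥M := by
    intro h
    apply hxa
    have := (IsCyclic.isMulCommutative (α := ↥M)).is_comm.comm ⟨x, hxM'⟩ ⟨a, haM⟩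
    exact congrArg Subtype.val this
  obtain ⟨h1, h2⟩ := Cfsg.Agent.S0638.result hp2 (hG.to_subgroup M) hmeta hnc
  have hmap : (Cfsg.omegaOne p (⊤ : Subgroup ↥M)).map M.subtype = Cfsg.omegaOne p M := by
    rw [Cfsg.Agent.Lib.Helper5.omegaOne_map_of_injective _ M.subtype_injective]
    congr 1
    rw [← MonoidHom.range_eq_map, M.range_subtype]
  rw [← hmap]
  refine ⟨⟨?_, ?_⟩, ?_⟩
  · constructor; constructor
    rintro ⟨_, ⟨s, hs, rfl⟩⟩ ⟨_, ⟨t, ht, rfl⟩⟩
    apply Subtype.ext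
    have := h1.1.is_comm.comm ⟨s, hs⟩ ⟨t, ht⟩
    exact congrArg (fun z => ((z : ↥M) : G)) (congrArg Subtype.val this)
  · rintro _ ⟨s, hs, rfl⟩
    have := h1.2 s hs
    rw [← map_pow, this, map_one]
  · rw [card_map_of_injective M.subtype_injective]
    exact h2

open Cfsg.Agent.Lib.Helper14 in
theorem omega_two [Finite G] {n : ℕ} (a : G) (ha : orderOf a = 2 ^ n) (hn3 : 3 ≤ n)
    (hAn : (zpowers a).Normal) (x : G) (hxA : x ∉ zpowers a) (hx2 : x ^ 2 ∈ zpowers a)
    (hxa : x * a * x⁻¹ = a * a ^ (2 ^ (n - 1)))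
    (hidx : (zpowers a).relIndex (centralizer ({a ^ 2} : Set G)) = 2) :
    Cfsg.IsElementaryAbelian 2 (Cfsg.omegaOne 2 (centralizer ({a ^ 2} : Set G))) ∧
      Nat.card (Cfsg.omegaOne 2 (centralizer ({a ^ 2} : Set G))) = 2 ^ 2 := by
  obtain ⟨z, hz⟩ : ∃ z, z = a ^ (2 ^ (n - 1)) := ⟨_, rfl⟩
  obtain ⟨v, hv⟩ : ∃ v, v = a ^ (2 ^ (n - 2)) := ⟨_, rfl⟩
  rw [← hz] at hxa
  have hz2 : z ^ 2 = 1 := by
    rw [hz, ← pow_mul, ← pow_succ, show n - 1 + 1 = n by omega, ← ha]; exact pow_orderOf_eq_one a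
  have hz1 : z ≠ 1 := by
    intro h
    rw [hz] at h
    have h1 := orderOf_dvd_of_pow_eq_one h
    rw [ha] at h1
    have := (Nat.pow_dvd_pow_iff_le_right (by norm_num : 1 < 2)).1 h1
    omega
  have hv2 : v * v = z := by
    rw [hv, hz, ← pow_add, ← two_mul, ← pow_succ']; congr 2; omega
  have hzA : z ∈ zpowers a := hz ▸ pow_mem (mem_zpowers a) _
  have hvA : v ∈ zpowers a := hv ▸ pow_mem (mem_zpowers a) _
  have haz : Commute a z := hz ▸ (Commute.refl a).pow_right _
  have hvM : ∀ y : G, Commute y (a ^ 2) → Commute y v := by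
    intro y hy
    have : v = (a ^ 2) ^ (2 ^ (n - 3)) := by
      rw [hv, ← pow_mul, ← pow_succ']; congr 2; omega
    rw [this]; exact hy.pow_right _
  have hzM : ∀ y : G, Commute y (a ^ 2) → Commute y z := by
    intro y hy; rw [← hv2]; exact (hvM y hy).mul_right (hvM y hy)
  have hxM : Commute x (a ^ 2) := by
    apply comm_of_conj
    rw [← conj_pow, hxa, haz.mul_pow, hz2, mul_one]
  have hconj : ∀ k : ℤ, x * a ^ k * x⁻¹ = a ^ k * z ^ k := by
    intro k; rw [← conj_zpow, hxa, haz.mul_zpow]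
  -- an involution outside
  obtain ⟨w, hwM, hwA, hww⟩ : ∃ w : G, Commute w (a ^ 2) ∧ w ∉ zpowers a ∧ w * w = 1 := by
    obtain ⟨l, hl⟩ := mem_zpowers_iff.1 hx2
    have h1 : x * a ^ l * x⁻¹ = a ^ l := by rw [hl]; group
    have h2 : z ^ l = 1 := by
      have := hconj l
      rw [h1] at this
      exact (mul_eq_left.1 this.symm)
    have hle : Even l := by
      rcases Int.even_or_odd l with h | h
      · exact h
      · rw [zpow_odd_eq_self hz2 h] at h2; exact absurd h2 hz1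
    obtain ⟨s, hs⟩ := hle
    obtain ⟨w₀, hw₀⟩ : ∃ w₀, w₀ = a ^ (-s) * x := ⟨_, rfl⟩
    have hw₀M : Commute w₀ (a ^ 2) := by
      rw [hw₀]; exact Commute.mul_left (((Commute.refl a).pow_right 2).zpow_left _) hxM
    have hw₀A : w₀ ∉ zpowers a := by
      intro h
      apply hxA
      have : x = a ^ s * w₀ := by rw [hw₀]; group
      rw [this]; exact mul_mem (zpow_mem (mem_zpowers a) _) h
    have hw₀2 : w₀ * w₀ = z ^ (-s) := by
      have c1 : Commute (a ^ (s + s)) (z ^ (-s)) := (haz.zpow_left _).zpow_right _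
      calc w₀ * w₀ = a ^ (-s) * (x * a ^ (-s) * x⁻¹) * x ^ 2 := by rw [hw₀]; group
        _ = a ^ (-s) * (a ^ (-s) * z ^ (-s)) * a ^ (s + s) := by rw [hconj, ← hl, hs]
        _ = a ^ (-s) * a ^ (-s) * (z ^ (-s) * a ^ (s + s)) := by group
        _ = a ^ (-s) * a ^ (-s) * (a ^ (s + s) * z ^ (-s)) := by rw [c1.eq]
        _ = z ^ (-s) := by group
    rcases Int.even_or_odd s with h | h
    · refine ⟨w₀, hw₀M, hw₀A, ?_⟩
      rw [hw₀2, zpow_even_eq_one hz2 h.neg]
    · refine ⟨v * w₀, Commute.mul_left ?_ hw₀M, ?_, ?_⟩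
      · rw [hv]; exact ((Commute.refl a).pow_right 2).pow_left _
      · intro h'
        exact hw₀A ((mul_mem_cancel_left hvA).1 h')
      · have c2 := hvM w₀ hw₀M
        calc v * w₀ * (v * w₀) = v * (w₀ * v) * w₀ := by group
          _ = v * (v * w₀) * w₀ := by rw [c2.eq]
          _ = (v * v) * (w₀ * w₀) := by group
          _ = 1 := by rw [hv2, hw₀2, zpow_odd_eq_self hz2 h.neg, ← pow_two, hz2]
  have hkill : ∀ t ∈ zpowers a, t ^ 2 = 1 → t = 1 ∨ t = z := by
    intro t ht ht2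
    have h1 := mem_zpowers_pow Nat.prime_two a ha (show 1 ≤ n by omega) t ht (by rwa [pow_one])
    rw [← hz] at h1
    obtain ⟨k, rfl⟩ := mem_zpowers_iff.1 h1
    rcases Int.even_or_odd k with h | h
    · left; exact zpow_even_eq_one hz2 h
    · right; exact zpow_odd_eq_self hz2 h
  have hmemM : ∀ y : G, y ∈ centralizer ({a ^ 2} : Set G) ↔ Commute y (a ^ 2) := by
    intro y; rw [mem_centralizer_singleton_iff]; exact Iff.rfl
  have hclass : ∀ y : G, Commute y (a ^ 2) → y ^ 2 = 1 → y = 1 ∨ y = z ∨ y = w ∨ y = z * w := by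
    intro y hyM hy2
    by_cases hyA : y ∈ zpowers a
    · rcases hkill y hyA hy2 with h | h
      · exact Or.inl h
      · exact Or.inr (Or.inl h)
    · obtain ⟨t, ht⟩ : ∃ t, t = y * w := ⟨_, rfl⟩
      have htA : t ∈ zpowers a := by
        have h1 := mul_mem_iff_of_index_two (H := (zpowers a).subgroupOf (centralizer ({a ^ 2} : Set G)))
          hidx (a := ⟨y, (hmemM y).2 hyM⟩) (b := ⟨w, (hmemM w).2 hwM⟩)
        rw [mem_subgroupOf, mem_subgroupOf, mem_subgroupOf] at h1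
        rw [ht]
        exact h1.2 ⟨fun h => absurd h hyA, fun h => absurd h hwA⟩
      have hy : y = t * w := by rw [ht, mul_assoc, hww, mul_one]
      have hwi : w⁻¹ = w := inv_eq_of_mul_eq_one_left hww
      have h1 : w * t * w⁻¹ = t⁻¹ := by
        have h2 : t * (w * t * w⁻¹) = 1 := by
          rw [hwi]
          calc t * (w * t * w) = (t * w) ^ 2 := by rw [pow_two]; group
            _ = 1 := by rw [← hy, hy2]
        exact eq_inv_of_mul_eq_one_right h2
      have h3 : (w * t * w⁻¹ * t⁻¹) ^ 2 = 1 := by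
        obtain ⟨k, hk⟩ := mem_zpowers_iff.1 htA
        obtain ⟨θ, hθ⟩ : ∃ θ, θ = w * a * w⁻¹ * a⁻¹ := ⟨_, rfl⟩
        have hθA : θ ∈ zpowers a := hθ ▸ theta_mem a w hAn
        have hθ2 : θ ^ 2 = 1 := hθ ▸ theta_pow a w hAn hwM
        have hθa : Commute θ a := by
          obtain ⟨j, hj⟩ := mem_zpowers_iff.1 hθA
          rw [← hj]; exact (Commute.refl a).zpow_left j
        have h4 : w * a * w⁻¹ = θ * a := by rw [hθ]; group
        have h5 : w * t * w⁻¹ * t⁻¹ = θ ^ k := by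
          rw [← hk, ← conj_zpow, h4, hθa.mul_zpow]; group
        rw [h5]; exact sq_zpow_eq_one hθ2 k
      have h4 : t ^ (2 ^ 2) = 1 := by
        rw [h1] at h3
        have : (t⁻¹ * t⁻¹) ^ 2 = (t ^ (2 ^ 2))⁻¹ := by group
        rw [this, inv_eq_one] at h3
        exact h3
      have h5 := mem_zpowers_pow Nat.prime_two a ha (show 2 ≤ n by omega) t htA h4
      rw [← hv] at h5
      have h6 : Commute w t := by
        obtain ⟨k, hk⟩ := mem_zpowers_iff.1 h5
        rw [← hk]; exact (hvM w hwM).zpow_right k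
      have h7 : t ^ 2 = 1 := by
        have : w * t * w⁻¹ = t := by rw [h6.eq]; group
        rw [this] at h1
        rw [pow_two]
        nth_rewrite 1 [h1]
        group
      rcases hkill t htA h7 with h | h
      · right; right; left; rw [hy, h, one_mul]
      · right; right; right; rw [hy, h]
  have hzz : z * z = 1 := by rw [← pow_two, hz2]
  have hzw : z * w = w * z := (hzM w hwM).eq.symm
  have hw1 : w ≠ 1 := by rintro rfl; exact hwA (one_mem _)
  have hzwne : z ≠ w := by rintro rfl; exact hwA hzA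
  have hK4 := Cfsg.Agent.Lib.Lead.isKleinFour_kleinSub z w hzz hww hzw hz1 hw1 hzwne
  have heq : Cfsg.omegaOne 2 (centralizer ({a ^ 2} : Set G)) = Cfsg.Agent.Lib.Lead.kleinSub z w hzz hww hzw := by
    apply le_antisymm
    · unfold Cfsg.omegaOne
      rw [closure_le]
      rintro y ⟨hyM, hy2⟩
      show y ∈ ({1, z, w, z * w} : Set G)
      rcases hclass y ((hmemM y).1 hyM) hy2 with h | h | h | h <;> simp [h]
    · have hzO : z ∈ Cfsg.omegaOne 2 (centralizer ({a ^ 2} : Set G)) :=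
        Subgroup.subset_closure ⟨(hmemM z).2 (hz ▸ ((Commute.refl a).pow_right 2).pow_left _), hz2⟩
      have hwO : w ∈ Cfsg.omegaOne 2 (centralizer ({a ^ 2} : Set G)) :=
        Subgroup.subset_closure ⟨(hmemM w).2 hwM, by rw [pow_two, hww]⟩
      intro y hy
      have hy' : y ∈ ({1, z, w, z * w} : Set G) := hy
      rcases hy' with rfl | rfl | rfl | rfl
      · exact one_mem _
      · exact hzO
      · exact hwO
      · exact mul_mem hzO hwO
  rw [heq]
  refine ⟨⟨⟨⟨fun s t => mul_comm_of_exponent_two hK4.exponent_two s t⟩⟩, ?_⟩, ?_⟩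
  · intro s hs
    have := Monoid.pow_exponent_eq_one (⟨s, hs⟩ : Cfsg.Agent.Lib.Lead.kleinSub z w hzz hww hzw)
    rw [hK4.exponent_two] at this
    exact congrArg Subtype.val this
  · rw [hK4.card_four]; norm_num

end aux

open Cfsg.Agent.Lib.Helper14 in
theorem two_case {P : Type*} [Group P] [Finite P] (hP : IsPGroup 2 P) (a : P) (m : ℕ)
    (hm : orderOf a = 2 ^ m) (hAn : (Subgroup.zpowers a).Normal)
    (hcent : ∀ g : P, Commute g a → g ∈ Subgroup.zpowers a) (x₀ : P) (hx₀ : x₀ ∉ Subgroup.zpowers a) :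
    (2 ≤ m ∧ (Subgroup.zpowers a).index = 2 ∧
      ∀ x : P, x ∉ Subgroup.zpowers a → x * a ^ (2 ^ (m - 2)) * x⁻¹ = (a ^ (2 ^ (m - 2)))⁻¹) ∨
    (3 ≤ m ∧ ∃ x : P, x ∉ Subgroup.zpowers a ∧ x ^ 2 ∈ Subgroup.zpowers a ∧
      x * a * x⁻¹ = a * a ^ (2 ^ (m - 1))) := by
  have : Fact (Nat.Prime 2) := ⟨Nat.prime_two⟩
  have hconj : ∀ g : P, ∃ k : ℤ, g * a * g⁻¹ = a ^ k := fun g => by
    obtain ⟨k, hk⟩ := Subgroup.mem_zpowers_iff.mp (hAn.conj_mem a (Subgroup.mem_zpowers a) g)
    exact ⟨k, hk.symm⟩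
  have hcomm_of : ∀ g : P, g * a * g⁻¹ = a → Commute g a := by
    intro g h
    show g * a = a * g
    calc g * a = (g * a * g⁻¹) * g := by group
      _ = a * g := by rw [h]
  have hm2 : 2 ≤ m := by
    by_contra hcon
    have ha2 : a ^ 2 = 1 := by
      have h1 : orderOf a ∣ 2 := by
        rw [hm]; exact (pow_dvd_pow 2 (show m ≤ 1 by omega)).trans (by norm_num)
      exact orderOf_dvd_iff_pow_eq_one.mp h1
    apply hx₀
    apply hcent
    apply hcomm_of
    obtain ⟨k, hk⟩ := hconj x₀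
    rcases Int.even_or_odd k with he | ho
    · rw [zpow_even_eq_one ha2 he] at hk
      have : a = 1 := by
        have h2 : a = x₀⁻¹ * (x₀ * a * x₀⁻¹) * x₀ := by group
        rw [h2, hk]; group
      rw [this]; group
    · rw [hk, zpow_odd_eq_self ha2 ho]
  obtain ⟨a₀, ha₀⟩ : ∃ a₀, a₀ = a ^ (2 ^ (m - 2)) := ⟨_, rfl⟩
  have ho₀ : orderOf a₀ = 4 := by
    rw [ha₀, orderOf_pow_of_dvd (by positivity) (by rw [hm]; exact pow_dvd_pow 2 (by omega)), hm,
      Nat.pow_div (by omega) (by norm_num)]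
    rw [show m - (m - 2) = 2 by omega]
  have h4 : a₀ ^ 4 = 1 := by rw [← ho₀]; exact pow_orderOf_eq_one a₀
  have h2ne : a₀ ^ 2 ≠ 1 := by
    intro h
    have := orderOf_dvd_of_pow_eq_one h
    rw [ho₀] at this
    omega
  have hconj₀ : ∀ (g : P) (k : ℤ), g * a * g⁻¹ = a ^ k → g * a₀ * g⁻¹ = a₀ ^ k := by
    intro g k hk
    rw [ha₀, ← conj_pow, hk, ← zpow_natCast, ← zpow_mul, mul_comm, zpow_mul, zpow_natCast]
  -- every element centralizes or inverts a₀
  have hor : ∀ g : P, g * a₀ * g⁻¹ = a₀ ∨ g * a₀ * g⁻¹ = a₀⁻¹ := by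
    intro g
    obtain ⟨k, hk⟩ := hconj g
    have h1 := hconj₀ g k hk
    have hk4 : a₀ ^ k = a₀ ^ (k % 4) := by
      conv_lhs => rw [← Int.emod_add_mul_ediv k 4]
      rw [zpow_add, zpow_mul, show (4 : ℤ) = ((4 : ℕ) : ℤ) from rfl, zpow_natCast, h4, one_zpow, mul_one]
    have hr : k % 4 = 0 ∨ k % 4 = 1 ∨ k % 4 = 2 ∨ k % 4 = 3 := by omega
    rcases hr with hr | hr | hr | hr
    · exfalso
      rw [hk4, hr, zpow_zero] at h1
      have : a₀ = 1 := by
        have h2 : a₀ = g⁻¹ * (g * a₀ * g⁻¹) * g := by group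
        rw [h2, h1]; group
      exact h2ne (by rw [this, one_pow])
    · left; rw [h1, hk4, hr, zpow_one]
    · exfalso
      rw [hk4, hr] at h1
      have h3 : g * a₀ ^ 2 * g⁻¹ = 1 := by
        rw [← conj_pow, h1, ← zpow_natCast, ← zpow_mul]
        show a₀ ^ ((4 : ℕ) : ℤ) = 1
        rw [zpow_natCast, h4]
      apply h2ne
      have h2 : a₀ ^ 2 = g⁻¹ * (g * a₀ ^ 2 * g⁻¹) * g := by group
      rw [h2, h3]; group
    · right
      rw [h1, hk4, hr, eq_inv_iff_mul_eq_one]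
      show a₀ ^ ((3 : ℕ) : ℤ) * a₀ = 1
      rw [zpow_natCast, ← pow_succ, h4]
  have hA₀n : (Subgroup.zpowers a₀).Normal := by
    refine ⟨fun y hy g => ?_⟩
    obtain ⟨k, rfl⟩ := Subgroup.mem_zpowers_iff.mp hy
    rw [← conj_zpow]
    rcases hor g with h | h <;> rw [h]
    · exact Subgroup.zpow_mem _ (Subgroup.mem_zpowers a₀) k
    · exact Subgroup.zpow_mem _ (Subgroup.inv_mem _ (Subgroup.mem_zpowers a₀)) k
  by_cases hT : Subgroup.centralizer (Subgroup.zpowers a₀ : Set P) ≤ Subgroup.zpowers a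
  swap
  · right
    have hTA := hT
    obtain ⟨x, hxT, hxA, hx2, hxc⟩ := exists_rel_central_order_p 2 hP (Subgroup.zpowers a)
      (Subgroup.centralizer (Subgroup.zpowers a₀ : Set P)) hTA
    have hxa₀ : x * a₀ * x⁻¹ = a₀ := by
      have := Subgroup.mem_centralizer_iff.mp hxT a₀ (Subgroup.mem_zpowers a₀)
      rw [← this]; group
    obtain ⟨k, hk⟩ := hconj x
    have hk0 := hconj₀ x k hk
    rw [hxa₀] at hk0
    have h4k : (4 : ℤ) ∣ k - 1 := by
      have h1 : a₀ ^ (k - 1) = 1 := by rw [zpow_sub, zpow_one, ← hk0, mul_inv_cancel]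
      have := orderOf_dvd_iff_zpow_eq_one.mpr h1
      rwa [ho₀] at this
    have hkk : (2 : ℤ) ^ m ∣ k * k - 1 := by
      have h1 : x ^ 2 * a * (x ^ 2)⁻¹ = a := by
        obtain ⟨l, hl⟩ := Subgroup.mem_zpowers_iff.mp hx2
        rw [← hl]
        have : Commute (a ^ l) a := (Commute.refl a).zpow_left l
        rw [this.eq]; group
      have h2 : x ^ 2 * a * (x ^ 2)⁻¹ = a ^ (k * k) := by
        have : x ^ 2 * a * (x ^ 2)⁻¹ = x * (x * a * x⁻¹) * x⁻¹ := by rw [pow_two]; group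
        rw [this, hk, ← conj_zpow, hk, ← zpow_mul]
      have h3 : a ^ (k * k - 1) = 1 := by rw [zpow_sub, zpow_one, ← h2, h1, mul_inv_cancel]
      have := orderOf_dvd_iff_zpow_eq_one.mpr h3
      rw [hm] at this
      exact_mod_cast this
    obtain ⟨t, ht⟩ := two_pow_dvd_sub_one m (by omega) k hkk h4k
    have hz2 : (a ^ (2 ^ (m - 1))) ^ 2 = 1 := by
      rw [← pow_mul, ← pow_succ, show m - 1 + 1 = m by omega, ← hm]; exact pow_orderOf_eq_one a
    have hk' : a ^ k = a * (a ^ (2 ^ (m - 1))) ^ t := by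
      have : k = 1 + 2 ^ (m - 1) * t := by linarith
      rw [this, zpow_add, zpow_one, zpow_mul]
      congr 2
      exact_mod_cast zpow_natCast a (2 ^ (m - 1))
    rcases Int.even_or_odd t with he | ho
    · rw [zpow_even_eq_one hz2 he, mul_one] at hk'
      exact absurd (hcent x (hcomm_of x (hk.trans hk'))) hxA
    · rw [zpow_odd_eq_self hz2 ho] at hk'
      have hm3 : 3 ≤ m := by
        by_contra hcon
        have hm' : m = 2 := by omega
        apply hxA
        apply hcent x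
        apply hcomm_of
        rw [ha₀, hm'] at hxa₀
        simpa using hxa₀
      exact ⟨hm3, x, hxA, hx2, hk.trans hk'⟩
  have hinv : ∀ x : P, x ∉ Subgroup.zpowers a → x * a₀ * x⁻¹ = a₀⁻¹ := by
    intro x hx
    rcases hor x with h | h
    · exfalso
      apply hx
      apply hT
      rw [Subgroup.mem_centralizer_iff]
      intro y hy
      obtain ⟨k, rfl⟩ := Subgroup.mem_zpowers_iff.mp hy
      have : Commute x a₀ := by
        show x * a₀ = a₀ * x
        calc x * a₀ = (x * a₀ * x⁻¹) * x := by group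
          _ = a₀ * x := by rw [h]
      exact (this.zpow_right k).symm
    · exact h
  left
  refine ⟨hm2, ?_, by rw [← ha₀]; exact hinv⟩
  rw [Subgroup.index_eq_two_iff]
  refine ⟨x₀, fun b => ?_⟩
  by_cases hb : b ∈ Subgroup.zpowers a
  · refine Or.inr ⟨hb, fun h => hx₀ ((Subgroup.mul_mem_cancel_left _ hb).mp h)⟩
  · refine Or.inl ⟨?_, hb⟩
    apply hT
    rw [Subgroup.mem_centralizer_iff]
    intro y hy
    obtain ⟨k, rfl⟩ := Subgroup.mem_zpowers_iff.mp hy
    have h1 : (b * x₀) * a₀ * (b * x₀)⁻¹ = a₀ := by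
      have : (b * x₀) * a₀ * (b * x₀)⁻¹ = b * (x₀ * a₀ * x₀⁻¹) * b⁻¹ := by group
      rw [this, hinv x₀ hx₀]
      have h2 : b * a₀⁻¹ * b⁻¹ = (b * a₀ * b⁻¹)⁻¹ := by group
      rw [h2, hinv b hb, inv_inv]
    have : Commute (b * x₀) a₀ := by
      show (b * x₀) * a₀ = a₀ * (b * x₀)
      calc (b * x₀) * a₀ = ((b * x₀) * a₀ * (b * x₀)⁻¹) * (b * x₀) := by group
        _ = a₀ * (b * x₀) := by rw [h1]
    exact (this.zpow_right k).symm

theorem fermat_aux {p : ℕ} [Fact p.Prime] (c : ℕ) (h : c ^ p ≡ 1 [MOD p]) : c ≡ 1 [MOD p] := by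
  rw [← ZMod.natCast_eq_natCast_iff] at h ⊢
  push_cast at h ⊢
  rwa [ZMod.pow_card] at h

theorem lte_aux {p : ℕ} [Fact p.Prime] (hp2 : p ≠ 2) (n c : ℕ) (hn : 1 ≤ n)
    (h : c ^ p ≡ 1 [MOD p ^ n]) : c ≡ 1 [MOD p ^ (n - 1)] := by
  have hp : p.Prime := Fact.out
  have h1 : c ≡ 1 [MOD p] := fermat_aux c (h.of_dvd (dvd_pow_self p (by omega)))
  have hc0 : c ≠ 0 := by
    rintro rfl
    have := (Nat.modEq_zero_iff_dvd.1 h1.symm)
    exact hp.one_lt.ne' (Nat.dvd_one.1 this)
  rcases Nat.lt_or_ge 1 c with hc | hc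
  · have hd : p ∣ c - 1 := (Nat.modEq_iff_dvd' hc.le).1 h1.symm
    have hnd : ¬ p ∣ c := by
      intro h2
      have h3 : p ∣ 1 := by
        have := Nat.dvd_sub h2 hd
        rwa [show c - (c - 1) = 1 by omega] at this
      exact hp.one_lt.ne' (Nat.dvd_one.1 h3)
    have hv := padicValNat.pow_sub_pow (hp.odd_of_ne_two hp2) hc hd hnd hp.ne_zero
    rw [one_pow, padicValNat_self] at hv
    have hcp : 1 < c ^ p := Nat.one_lt_pow hp.ne_zero hc
    have hd2 : p ^ n ∣ c ^ p - 1 := (Nat.modEq_iff_dvd' hcp.le).1 h.symm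
    have h4 : n ≤ padicValNat p (c ^ p - 1) := (padicValNat_dvd_iff_le (by omega)).1 hd2
    have h5 : p ^ (n - 1) ∣ c - 1 := (padicValNat_dvd_iff_le (by omega)).2 (by omega)
    exact ((Nat.modEq_iff_dvd' hc.le).2 h5).symm
  · have : c = 1 := by omega
    rw [this]

/-- Let G be a finite non-abelian p-group with a cyclic normal subgroup U of order p^n such that C_G(U) = U. Then either p = 2 and G is dihedral, generalized quaternion or semidihedral of order 2^(n+1); or, writing U₁ for the subgroup generated by the p-th powers of elements of U and M = C_G(U₁), the subgroup U has index p in M and the subgroup Ω₁(M) generated by the elements of M of order dividing p is elementary abelian of order p² and characteristic in G. -/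
theorem result {G : Type*} [Group G] [Finite G] {p : ℕ} [Fact p.Prime] (hG : IsPGroup p G) (hna : ¬ IsMulCommutative G) (U : Subgroup G) [U.Normal] (hU : IsCyclic U) (n : ℕ) (hUn : Nat.card U = p ^ n) (hC : Subgroup.centralizer (U : Set G) = U) : (p = 2 ∧ Nat.card G = 2 ^ (n + 1) ∧ ((∃ m : ℕ, Nonempty (G ≃* DihedralGroup m)) ∨ (∃ m : ℕ, Nonempty (G ≃* QuaternionGroup m)) ∨ Cfsg.IsQuasiDihedral G)) ∨ (U.relIndex (Subgroup.centralizer (Cfsg.powerClosure p 1 U : Set G)) = p ∧ Cfsg.IsElementaryAbelian p (Cfsg.omegaOne p (Subgroup.centralizer (Cfsg.powerClosure p 1 U : Set G))) ∧ Nat.card ↥(Cfsg.omegaOne p (Subgroup.centralizer (Cfsg.powerClosure p 1 U : Set G))) = p ^ 2 ∧ (Cfsg.omegaOne p (Subgroup.centralizer (Cfsg.powerClosure p 1 U : Set G))).Characteristic) := by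
  have hp : p.Prime := Fact.out
  obtain ⟨⟨a, haU⟩, hgen⟩ := hU.exists_generator
  have hUeq : U = zpowers a := by
    apply le_antisymm
    · intro y hy
      obtain ⟨k, hk⟩ := mem_zpowers_iff.mp (hgen ⟨y, hy⟩)
      exact mem_zpowers_iff.mpr ⟨k, by simpa using congrArg Subtype.val hk⟩
    · exact zpowers_le.mpr haU
  subst hUeq
  have ha : orderOf a = p ^ n := by rw [← Nat.card_zpowers]; exact hUn
  have hAn : (zpowers a).Normal := inferInstance
  have hcent : ∀ g : G, Commute g a → g ∈ zpowers a := by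
    intro g hg
    rw [← hC, mem_centralizer_iff]
    intro y hy
    obtain ⟨k, rfl⟩ := mem_zpowers_iff.mp hy
    exact (hg.zpow_right k).symm
  have hM : centralizer (Cfsg.powerClosure p 1 (zpowers a) : Set G) = centralizer ({a ^ p} : Set G) := by
    ext g
    rw [mem_centralizer_singleton_iff, mem_centralizer_iff]
    constructor
    · intro h
      exact (h (a ^ p) (Subgroup.subset_closure ⟨a, mem_zpowers a, by rw [pow_one]⟩)).symm
    · intro h y hy
      have h1 : Cfsg.powerClosure p 1 (zpowers a) ≤ centralizer ({g} : Set G) := by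
        unfold Cfsg.powerClosure
        rw [closure_le]
        rintro _ ⟨s, hs, rfl⟩
        obtain ⟨k, rfl⟩ := mem_zpowers_iff.1 hs
        rw [SetLike.mem_coe, mem_centralizer_singleton_iff, pow_one]
        have h2 : (a ^ k) ^ p = (a ^ p) ^ k := by
          rw [← zpow_natCast, ← zpow_mul, mul_comm, zpow_mul, zpow_natCast]
        rw [h2]; exact ((show Commute g (a ^ p) from h).zpow_right k).eq.symm
      exact mem_centralizer_singleton_iff.1 (h1 hy)
  rw [hM]
  obtain ⟨x₀, hx₀⟩ : ∃ x₀, x₀ ∉ zpowers a := by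
    by_contra hcon
    push Not at hcon
    apply hna
    haveI : IsCyclic G := ⟨a, hcon⟩
    exact IsCyclic.isMulCommutative (α := G)
  by_cases hp2 : p = 2
  · subst hp2
    rcases two_case hG a n ha hAn hcent x₀ hx₀ with ⟨hn2, hidx, hinv⟩ | ⟨hn3, x, hxA, hx2, hxa⟩
    · left
      have hcardA : Nat.card (zpowers a) = 2 ^ n := hUn
      have hcardP : Nat.card G = 2 ^ (n + 1) := by
        rw [← (zpowers a).card_mul_index, hcardA, hidx, pow_succ]
      refine ⟨rfl, hcardP, ?_⟩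
      have hzo : orderOf (a ^ (2 ^ (n - 1))) = 2 := by
        rw [orderOf_pow_of_dvd (by positivity) (by rw [ha]; exact pow_dvd_pow 2 (by omega)), ha,
          Nat.pow_div (by omega) (by norm_num), show n - (n - 1) = 1 by omega, pow_one]
      have hZle : Nat.card (center G) ≤ 2 := by
        have h1 : center G ≤ zpowers (a ^ (2 ^ (n - 1))) := by
          intro c hc
          have hcA : c ∈ zpowers a := hcent c (mem_center_iff.1 hc a).symm
          exact mem_zpowers_pow Nat.prime_two a ha (by omega) c hcA (by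
            rw [pow_one]
            exact Cfsg.Agent.Lib.Helper14.center_sq_of_structure n a hn2 ha hidx hinv c hc)
        have h2 := card_le_of_le h1
        rwa [Nat.card_zpowers, hzo] at h2
      have hZ2 : Nat.card (center G) = 2 := by
        have : Nontrivial G := ⟨⟨x₀, 1, fun h => hx₀ (h ▸ one_mem _)⟩⟩
        have := hG.center_nontrivial
        have := Finite.one_lt_card (α := center G)
        omega
      have hcard := Cfsg.Agent.Lib.Helper14.card_abelian_index_two (zpowers a) inferInstance hidx hna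
      have hidx' : (commutator G).index = 4 := by
        have h1 := (commutator G).card_mul_index
        rw [hcardP] at h1
        rw [hcardA, hZ2] at hcard
        have hc0 : 0 < Nat.card (commutator G) := Nat.card_pos
        have : Nat.card (commutator G) * (commutator G).index = Nat.card (commutator G) * 4 := by
          rw [h1, pow_succ, hcard]; ring
        exact Nat.eq_of_mul_eq_mul_left hc0 this
      have hclass := Cfsg.Agent.S0115.taussky (n + 1) (by omega) G hcardP hidx'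
      rcases Cfsg.Agent.Lib.Helper14.maxclass2_classify (n + 1) (by omega) hcardP hclass with h | h | h
      · exact Or.inl ⟨_, h⟩
      · exact Or.inr (Or.inr h)
      · exact Or.inr (Or.inl ⟨_, h⟩)
    · right
      have hxM : Commute x (a ^ 2) := by
        apply comm_of_conj
        have haz : Commute a (a ^ (2 ^ (n - 1))) := (Commute.refl a).pow_right _
        have hz2 : (a ^ (2 ^ (n - 1))) ^ 2 = 1 := by
          rw [← pow_mul, ← pow_succ, show n - 1 + 1 = n by omega, ← ha]; exact pow_orderOf_eq_one a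
        rw [← conj_pow, hxa, haz.mul_pow, hz2, mul_one]
      have hidx := relIndex_eq Nat.prime_two a ha (by omega) hAn hcent x hxA hxM
      obtain ⟨h1, h2⟩ := omega_two a ha hn3 hAn x hxA hx2 hxa hidx
      exact ⟨hidx, h1, h2, char_of_elem a hAn h1.2⟩
  · right
    obtain ⟨x, -, hxA, hxp, -⟩ := Cfsg.Agent.Lib.Helper14.exists_rel_central_order_p p hG (zpowers a) ⊤
      (fun h => hx₀ (h (mem_top x₀)))
    obtain ⟨c, hc⟩ : ∃ c : ℕ, x * a * x⁻¹ = a ^ c := by
      have h1 := hAn.conj_mem a (mem_zpowers a) x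
      obtain ⟨c, hc⟩ := (Submonoid.mem_powers_iff _ _).1 (mem_powers_iff_mem_zpowers.2 h1)
      exact ⟨c, hc.symm⟩
    have hpow : ∀ k : ℕ, x ^ k * a * (x ^ k)⁻¹ = a ^ (c ^ k) := by
      intro k
      induction k with
      | zero => simp
      | succ k ih =>
        have h1 : x ^ (k + 1) * a * (x ^ (k + 1))⁻¹ = x * (x ^ k * a * (x ^ k)⁻¹) * x⁻¹ := by
          rw [pow_succ']; group
        rw [h1, ih, ← conj_pow, hc, ← pow_mul, pow_succ']
    have h1 : a ^ (c ^ p) = a := by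
      rw [← hpow p]
      obtain ⟨l, hl⟩ := mem_zpowers_iff.1 hxp
      rw [← hl]; group
    have h2 : c ^ p ≡ 1 [MOD p ^ n] := by
      rw [← ha, ← pow_eq_pow_iff_modEq, pow_one]; exact h1
    have hxa : ¬ Commute x a := fun h => hxA (hcent x h)
    have hn2 : 2 ≤ n := by
      by_contra hcon
      apply hxa
      apply comm_of_conj
      rw [hc]
      have h3 : c ≡ 1 [MOD p ^ n] := by
        have hn1 : n = 0 ∨ n = 1 := by omega
        rcases hn1 with rfl | rfl
        · rw [pow_zero]; exact Nat.modEq_one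
        · rw [pow_one] at h2 ⊢; exact fermat_aux c h2
      rw [← ha, ← pow_eq_pow_iff_modEq, pow_one] at h3
      exact h3
    have h3 := lte_aux hp2 n c (by omega) h2
    have hxM : Commute x (a ^ p) := by
      apply comm_of_conj
      rw [← conj_pow, hc, ← pow_mul, pow_eq_pow_iff_modEq, ha]
      have h4 := h3.mul_right' p
      rw [← pow_succ, show n - 1 + 1 = n by omega, one_mul] at h4
      exact h4
    have hidx := relIndex_eq hp a ha hn2 hAn hcent x hxA hxM
    obtain ⟨h5, h6⟩ := omega_odd hp2 hG a hAn x hxa hxM hidx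
    exact ⟨hidx, h5, h6, char_of_elem a hAn h5.2⟩

end Cfsg.Agent.S3761
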