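import Cfsg.Statements.S4145
import Cfsg.Agent.Lib.Helper22.Basic
import Cfsg.Agent.Lib.Helper13.Centric
import Cfsg.Agent.Lib.Helper28.SylowConj

set_option autoImplicit false
open Cfsg

namespace Cfsg.Agent.S4145

theorem mem_normalizer_of_forall {G : Type*} [Group G] [Finite G] (K : Subgroup G) (g : G)
    (h : ∀ k ∈ K, g * k * g⁻¹ ∈ K) : g ∈ Subgroup.normalizer (K : Set G) := by
  have hmap : K.map (MulAut.conj g).toMonoidHom = K := by
    apply Subgroup.eq_of_le_of_card_ge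
    · rintro _ ⟨k, hk, rfl⟩
      exact h k hk
    · rw [Subgroup.card_map_of_injective (MulAut.conj g).injective]
  rw [Subgroup.mem_normalizer_iff]
  intro n
  constructor
  · intro hn
    exact h n hn
  · intro hn
    rw [← hmap] at hn
    obtain ⟨m, hm, hmn⟩ := hn
    have : m = n := (MulAut.conj g).injective hmn
    exact this ▸ hm

theorem cyc_core {G : Type*} [Group G] [Finite G] {p : ℕ} [Fact p.Prime] (u g : G) (n m : ℕ)
    (hu : orderOf u = p ^ n) (hg : g * u * g⁻¹ = u ^ (m + 1)) (hm : p ∣ m)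
    (hgo : (orderOf g).Coprime p) : g * u = u * g := by
  have key : ∀ j : ℕ, g ^ j * u * (g ^ j)⁻¹ = u ^ ((m + 1) ^ j) := by
    intro j
    induction j with
    | zero => simp
    | succ j ih =>
      calc g ^ (j + 1) * u * (g ^ (j + 1))⁻¹ = g * (g ^ j * u * (g ^ j)⁻¹) * g⁻¹ := by
            rw [pow_succ']; group
        _ = g * u ^ ((m + 1) ^ j) * g⁻¹ := by rw [ih]
        _ = (g * u * g⁻¹) ^ ((m + 1) ^ j) := by rw [conj_pow]
        _ = u ^ ((m + 1) ^ (j + 1)) := by rw [hg, ← pow_mul, pow_succ']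
  have hmod : 1 ≡ (m + 1) ^ (p ^ n) [MOD p ^ n] := by
    have h1 : ((p : ℕ) : ℤ) ∣ ((m : ℤ) + 1) - 1 := by
      simpa using Int.natCast_dvd_natCast.2 hm
    have h2 := dvd_sub_pow_of_dvd_sub h1 n
    rw [one_pow] at h2
    rw [Nat.modEq_iff_dvd]
    push_cast
    exact (pow_dvd_pow _ (Nat.le_succ n)).trans h2
  have h4 : u ^ ((m + 1) ^ (p ^ n)) = u := by
    have hmod' : 1 ≡ (m + 1) ^ (p ^ n) [MOD orderOf u] := by rw [hu]; exact hmod
    have := (pow_eq_pow_iff_modEq (x := u)).2 hmod'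
    rw [pow_one] at this
    exact this.symm
  have h5 : g ∈ Subgroup.centralizer ({u} : Set G) := by
    apply Lib.Helper22.mem_of_pow_mem_of_coprime _ g (p ^ n) (orderOf g)
      (Nat.Coprime.pow_left _ hgo.symm)
    · rw [Subgroup.mem_centralizer_singleton_iff]
      have := key (p ^ n)
      rw [h4] at this
      calc g ^ p ^ n * u = (g ^ p ^ n * u * (g ^ p ^ n)⁻¹) * g ^ p ^ n := by group
        _ = u * g ^ p ^ n := by rw [this]
    · rw [pow_orderOf_eq_one]; exact Subgroup.one_mem _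
  exact Subgroup.mem_centralizer_singleton_iff.1 h5

theorem cyc_data {G : Type*} [Group G] [Finite G] {p : ℕ} [Fact p.Prime] (P : Subgroup G)
    (hP : IsPGroup p P) (hcyc : IsCyclic P) (g : G) (hg : ∀ x ∈ P, g * x * g⁻¹ ∈ P) :
    ∃ (u : G) (n m : ℕ), u ∈ P ∧ (∀ x ∈ P, ∃ s : ℕ, x = u ^ s) ∧ orderOf u = p ^ n ∧
      g * u * g⁻¹ = u ^ (m + 1) := by
  obtain ⟨⟨u, hu⟩, hgen⟩ := hcyc.exists_generator
  have hgen' : ∀ x ∈ P, ∃ s : ℕ, x = u ^ s := by
    intro x hx
    have h1 := hgen ⟨x, hx⟩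
    rw [← mem_powers_iff_mem_zpowers] at h1
    obtain ⟨s, hs⟩ := h1
    exact ⟨s, (congrArg Subtype.val hs).symm⟩
  obtain ⟨n, hn⟩ := (IsPGroup.iff_orderOf.1 hP) ⟨u, hu⟩
  rw [Subgroup.orderOf_mk] at hn
  obtain ⟨s, hs⟩ := hgen' _ (hg u hu)
  have hpos : 0 < p ^ n := pow_pos (Fact.out : p.Prime).pos n
  refine ⟨u, n, s + (p ^ n - 1), hu, hgen', hn, ?_⟩
  have : s + (p ^ n - 1) + 1 = s + p ^ n := by omega
  rw [this, pow_add, ← hn, pow_orderOf_eq_one, mul_one, hs]

theorem cyc_i {G : Type*} [Group G] [Finite G] {p : ℕ} [Fact p.Prime] (P : Subgroup G)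
    (hP : IsPGroup p P) (hcyc : IsCyclic P) (g : G) (hg : ∀ x ∈ P, g * x * g⁻¹ ∈ P)
    (hgo : (orderOf g).Coprime p) (w : G) (hw : w ∈ P) (hw1 : w ≠ 1) (hgw : g * w = w * g) :
    ∀ x ∈ P, g * x = x * g := by
  obtain ⟨u, n, m, huP, hgen, hun, hgu⟩ := cyc_data P hP hcyc g hg
  have hpm : p ∣ m := by
    by_contra hnd
    obtain ⟨s, rfl⟩ := hgen w hw
    have h1 : g * u ^ s * g⁻¹ = u ^ s := by rw [hgw]; group
    rw [← conj_pow, hgu, ← pow_mul] at h1
    have h2 : u ^ (m * s) = 1 := by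
      have : u ^ ((m + 1) * s) = u ^ (m * s) * u ^ s := by rw [← pow_add]; ring_nf
      rw [this] at h1
      exact mul_eq_right.1 h1
    have h3 : p ^ n ∣ m * s := hun ▸ orderOf_dvd_of_pow_eq_one h2
    have h4 : p ^ n ∣ s :=
      (Nat.Coprime.pow_left n ((Fact.out : p.Prime).coprime_iff_not_dvd.2 hnd)).dvd_of_dvd_mul_left h3
    apply hw1
    obtain ⟨t, rfl⟩ := h4
    rw [pow_mul, ← hun, pow_orderOf_eq_one, one_pow]
  have hc := cyc_core u g n m hun hgu hpm hgo
  intro x hx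
  obtain ⟨s, rfl⟩ := hgen x hx
  exact (Commute.pow_right (show Commute g u from hc) s).eq

theorem cyc_ii {G : Type*} [Group G] [Finite G] {p : ℕ} [Fact p.Prime] (P : Subgroup G)
    (hP : IsPGroup p P) (hcyc : IsCyclic P) (g : G) (hg : ∀ x ∈ P, g * x * g⁻¹ ∈ P)
    (hgo : (orderOf g).Coprime p) (Q : Subgroup G) (hQP : ¬ P ≤ Q)
    (hcomm : ∀ x ∈ P, g * x * g⁻¹ * x⁻¹ ∈ Q) :
    ∀ x ∈ P, g * x = x * g := by
  obtain ⟨u, n, m, huP, hgen, hun, hgu⟩ := cyc_data P hP hcyc g hg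
  have hpm : p ∣ m := by
    by_contra hnd
    apply hQP
    have h1 : u ^ m ∈ Q := by
      have := hcomm u huP
      rw [hgu, pow_succ, mul_assoc, mul_inv_cancel, mul_one] at this
      exact this
    have h2 : u ∈ Q := by
      apply Lib.Helper22.mem_of_pow_mem_of_coprime Q u m (p ^ n)
        (Nat.Coprime.pow_right n ((Fact.out : p.Prime).coprime_iff_not_dvd.2 hnd).symm) h1
      rw [← hun, pow_orderOf_eq_one]; exact Q.one_mem
    intro x hx
    obtain ⟨s, rfl⟩ := hgen x hx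
    exact Q.pow_mem h2 s
  have hc := cyc_core u g n m hun hgu hpm hgo
  intro x hx
  obtain ⟨s, rfl⟩ := hgen x hx
  exact (Commute.pow_right (show Commute g u from hc) s).eq

/-- splitting an element normalizing an abelian Sylow subgroup into its `p`- and `p'`-parts. -/
theorem split_centralizes {G : Type*} [Group G] [Finite G] {p : ℕ} [Fact p.Prime] (P : Sylow p G)
    (hab : ∀ x ∈ P, ∀ y ∈ P, x * y = y * x) (n : G) (hn : ∀ x ∈ P, n * x * n⁻¹ ∈ P)
    (h : ∀ j : ℕ, (orderOf (n ^ j)).Coprime p → ∀ x ∈ P, n ^ j * x = x * n ^ j) :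
    ∀ x ∈ P, n * x = x * n := by
  have hp : p.Prime := Fact.out
  obtain ⟨k, m, hm, hkm⟩ := Nat.exists_eq_pow_mul_and_not_dvd (orderOf_pos n).ne' p hp.ne_one
  have hm0 : 0 < m := Nat.pos_of_ne_zero (by rintro rfl; simp at hm)
  have hou : orderOf (n ^ m) = p ^ k := by
    rw [orderOf_pow_of_dvd hm0.ne' (by rw [hkm]; exact Dvd.intro_left _ rfl), hkm]
    exact Nat.mul_div_cancel _ hm0
  have hpk : 0 < p ^ k := pow_pos hp.pos k
  have hov : orderOf (n ^ p ^ k) = m := by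
    rw [orderOf_pow_of_dvd hpk.ne' (by rw [hkm]; exact Dvd.intro _ rfl), hkm]
    exact Nat.mul_div_cancel_left _ hpk
  have hnN : n ∈ Subgroup.normalizer ((P : Subgroup G) : Set G) := mem_normalizer_of_forall _ n hn
  have h1 : n ∈ Subgroup.centralizer ((P : Subgroup G) : Set G) := by
    apply Lib.Helper22.mem_of_pow_mem_of_coprime _ n m (p ^ k)
      (Nat.Coprime.pow_right _ (hp.coprime_iff_not_dvd.2 hm).symm)
    · have h2 : n ^ m ∈ Subgroup.zpowers (n ^ m) ⊓ Subgroup.normalizer ((P : Subgroup G) : Set G) :=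
        Subgroup.mem_inf.2 ⟨Subgroup.mem_zpowers _, Subgroup.pow_mem _ hnN _⟩
      have h2' := IsPGroup.inf_normalizer_sylow (P := Subgroup.zpowers (n ^ m))
        (IsPGroup.of_card (n := k) (by rw [Nat.card_zpowers, hou])) P
      have h2'' : n ^ m ∈ Subgroup.zpowers (n ^ m) ⊓ (P : Subgroup G) := h2' ▸ h2
      have h3 := (Subgroup.mem_inf.1 h2'').2
      rw [Subgroup.mem_centralizer_iff]
      intro x hx
      exact hab x hx _ h3
    · rw [Subgroup.mem_centralizer_iff]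
      intro x hx
      exact (h (p ^ k) (by rw [hov]; exact (hp.coprime_iff_not_dvd.2 hm).symm) x hx).symm
  intro x hx
  exact ((Subgroup.mem_centralizer_iff.1 h1) x hx).symm

theorem burnside_sub {G : Type*} [Group G] [Finite G] {p : ℕ} [Fact p.Prime] (M R : Subgroup G)
    (hRM : R ≤ M) (hRp : IsPGroup p R) (hidx : ¬ p ∣ R.relIndex M)
    (hNC : ∀ g ∈ M, (∀ x ∈ R, g * x * g⁻¹ ∈ R) → ∀ x ∈ R, g * x = x * g) :
    Cfsg.HasNormalPComplement p M ∧ ∃ L : Subgroup G, L ≤ M ∧ (Nat.card L).Coprime p ∧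
      (∀ y ∈ M, (orderOf y).Coprime p → y ∈ L) ∧ (∃ r : ℕ, L.relIndex M = p ^ r) ∧
      (∀ y ∈ M, ∃ l ∈ L, ∃ r ∈ R, y = l * r) := by
  classical
  have hp : p.Prime := Fact.out
  have hR₀ : IsPGroup p (R.subgroupOf M) := hRp.comap_subtype
  let R' : Sylow p M := IsPGroup.toSylow hR₀ hidx
  have hR'mem : ∀ x : M, x ∈ R' ↔ (x : G) ∈ R := fun x => Iff.rfl
  have hP : Subgroup.normalizer ((R' : Subgroup M) : Set M) ≤
      Subgroup.centralizer ((R' : Subgroup M) : Set M) := by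
    intro g hg
    rw [Subgroup.mem_centralizer_iff]
    intro x hx
    apply Subtype.ext
    refine (hNC g g.2 ?_ x hx).symm
    intro z hz
    exact (Subgroup.mem_normalizer_iff.1 hg ⟨z, hRM hz⟩).1 hz
  have hc := MonoidHom.ker_transferSylow_isComplement' R' hP
  set K₀ := (MonoidHom.transferSylow R' hP).ker with hK₀
  have hK₀n : K₀.Normal := inferInstance
  refine ⟨⟨R', K₀, hK₀n, hc⟩, K₀.map M.subtype, Subgroup.map_subtype_le K₀, ?_, ?_, ?_, ?_⟩
  · rw [Subgroup.card_map_of_injective M.subtype_injective, ← hc.index_eq_card]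
    exact Nat.Coprime.symm (hp.coprime_iff_not_dvd.2 R'.not_dvd_index)
  · obtain ⟨r, hr⟩ := IsPGroup.iff_card.1 R'.2
    have hK₀idx : K₀.index = p ^ r := by
      rw [← hr]; exact hc.symm.index_eq_card
    intro y hy hyo
    refine ⟨⟨y, hy⟩, ?_, rfl⟩
    show (⟨y, hy⟩ : M) ∈ K₀
    rw [← QuotientGroup.eq_one_iff]
    have h2 : orderOf (((⟨y, hy⟩ : M) : M ⧸ K₀)) ∣ orderOf y := by
      have := orderOf_map_dvd (QuotientGroup.mk' K₀) (⟨y, hy⟩ : M)
      rwa [Subgroup.orderOf_mk] at this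
    have h3 : orderOf (((⟨y, hy⟩ : M) : M ⧸ K₀)) ∣ p ^ r := by
      rw [← hK₀idx, Subgroup.index_eq_card]
      exact orderOf_dvd_natCard _
    have h4 : orderOf (((⟨y, hy⟩ : M) : M ⧸ K₀)) ∣ 1 := by
      rw [← Nat.Coprime.gcd_eq_one (Nat.Coprime.pow_right r hyo)]
      exact Nat.dvd_gcd h2 h3
    exact orderOf_eq_one_iff.1 (Nat.dvd_one.1 h4)
  · obtain ⟨r, hr⟩ := IsPGroup.iff_card.1 R'.2
    refine ⟨r, ?_⟩
    rw [← hr, ← hc.symm.index_eq_card]
    show ((K₀.map M.subtype).subgroupOf M).index = _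
    congr 1
    ext c
    rw [Subgroup.mem_subgroupOf]
    constructor
    · rintro ⟨c', hc', hcc⟩
      have : c' = c := Subtype.ext hcc
      exact this ▸ hc'
    · intro hc
      exact ⟨c, hc, rfl⟩
  · intro y hy
    obtain ⟨⟨⟨l, hl⟩, ⟨r, hr⟩⟩, hlr⟩ := hc.2 ⟨y, hy⟩
    exact ⟨l, ⟨l, hl, rfl⟩, r, hr, (congrArg Subtype.val hlr).symm⟩

theorem mem_of_mem_sup_of_coprime {G : Type*} [Group G] [Finite G] {p : ℕ} [Fact p.Prime]
    (H P : Subgroup G) [H.Normal] (hP : IsPGroup p P) (y : G) (hy : y ∈ H ⊔ P)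
    (hyo : (orderOf y).Coprime p) : y ∈ H := by
  obtain ⟨h, hh, x, hx, e⟩ := Subgroup.mem_sup_of_normal_left.1 hy
  obtain ⟨a, ha⟩ := hP ⟨x, hx⟩
  have ha' : x ^ p ^ a = 1 := congrArg Subtype.val ha
  apply Lib.Helper22.mem_of_pow_mem_of_coprime H y (p ^ a) (orderOf y)
    (Nat.Coprime.pow_left _ hyo.symm)
  · rw [← QuotientGroup.eq_one_iff, QuotientGroup.mk_pow, ← e, QuotientGroup.mk_mul,
      (QuotientGroup.eq_one_iff h).2 hh, one_mul, ← QuotientGroup.mk_pow, ha']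
    rfl
  · rw [pow_orderOf_eq_one]; exact H.one_mem

theorem pow_conj_mem {G : Type*} [Group G] (P : Subgroup G) (g : G)
    (hg : ∀ x ∈ P, g * x * g⁻¹ ∈ P) (j : ℕ) : ∀ x ∈ P, g ^ j * x * (g ^ j)⁻¹ ∈ P := by
  induction j with
  | zero => intro x hx; simpa using hx
  | succ j ih =>
    intro x hx
    have : g ^ (j + 1) * x * (g ^ (j + 1))⁻¹ = g * (g ^ j * x * (g ^ j)⁻¹) * g⁻¹ := by
      rw [pow_succ']; group
    rw [this]
    exact hg _ (ih x hx)

/-- Let G be a finite group with a cyclic Sylow p-subgroup and H a normal subgroup such that p divides both the order of H and the index of H. Then H has a normal p-complement and G is p-solvable. -/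
theorem result {G : Type*} [Group G] [Finite G] (p : ℕ) [Fact p.Prime]
    (P : Sylow p G) (hP : IsCyclic (P : Subgroup G)) (H : Subgroup G) [H.Normal] (h1 : p ∣ Nat.card H) (h2 : p ∣ H.index) :
    Cfsg.HasNormalPComplement p H ∧ Cfsg.IsPSolvable p G := by
  classical
  have hp : p.Prime := Fact.out
  have hPp : IsPGroup p (P : Subgroup G) := P.2
  have hPab : ∀ x ∈ P, ∀ y ∈ P, x * y = y * x := by
    obtain ⟨u, _, _, _, hgen, _, _⟩ := cyc_data (P : Subgroup G) hPp hP 1 (by simp)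
    intro x hx y hy
    obtain ⟨s, rfl⟩ := hgen x hx
    obtain ⟨t, rfl⟩ := hgen y hy
    exact ((Commute.refl u).pow_pow s t).eq
  let Q : Subgroup G := (P : Subgroup G) ⊓ H
  have hQidx : ¬ p ∣ Q.relIndex H := by
    show ¬ p ∣ ((P : Subgroup G) ⊓ H).relIndex H
    rw [Subgroup.inf_relIndex_right]
    intro h
    have h3 : (P : Subgroup G).relIndex H ∣ (P : Subgroup G).index :=
      Lib.Helper13.relIndex_dvd_index_of_normal_right' (P : Subgroup G) H
    exact P.not_dvd_index (h.trans h3)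
  have hQne : ∃ w ∈ Q, w ≠ 1 := by
    by_contra hno
    push Not at hno
    have hQbot : Q = ⊥ := by
      rw [eq_bot_iff]; intro w hw; exact Subgroup.mem_bot.2 (hno w hw)
    rw [hQbot, Subgroup.relIndex_bot_left] at hQidx
    exact hQidx h1
  have hPQ : ¬ (P : Subgroup G) ≤ Q := by
    intro h
    have hPH : (P : Subgroup G) ≤ H := h.trans inf_le_right
    exact P.not_dvd_index (h2.trans (Subgroup.index_dvd_of_le hPH))
  have hNC1 : ∀ g ∈ H, (∀ x ∈ Q, g * x * g⁻¹ ∈ Q) → ∀ x ∈ Q, g * x = x * g := by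
    intro g hgH hgQ
    have hgN : g ∈ Subgroup.normalizer (Q : Set G) := mem_normalizer_of_forall Q g hgQ
    let C₁ : Subgroup G := Subgroup.centralizer (Q : Set G) ⊓ (H ⊔ P)
    have hPC₁ : (P : Subgroup G) ≤ C₁ := by
      intro x hx
      rw [Subgroup.mem_inf]
      refine ⟨?_, Subgroup.mem_sup_right hx⟩
      rw [Subgroup.mem_centralizer_iff]
      intro q hq
      exact hPab q (Subgroup.mem_inf.1 hq).1 x hx
    let R : Subgroup G := (P : Subgroup G).map (MulAut.conj g).toMonoidHom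
    have hRp : IsPGroup p R := hPp.map _
    have hRC₁ : R ≤ C₁ := by
      rintro _ ⟨x, hx, rfl⟩
      show g * x * g⁻¹ ∈ C₁
      rw [Subgroup.mem_inf]
      constructor
      · rw [Subgroup.mem_centralizer_iff]
        intro q hq
        have hq' : g⁻¹ * q * g⁻¹⁻¹ ∈ Q :=
          (Subgroup.mem_normalizer_iff.1 (Subgroup.inv_mem _ hgN) q).1 hq
        have h1 := hPab _ (Subgroup.mem_inf.1 hq').1 x hx
        calc q * (g * x * g⁻¹) = g * ((g⁻¹ * q * g⁻¹⁻¹) * x) * g⁻¹ := by group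
          _ = g * (x * (g⁻¹ * q * g⁻¹⁻¹)) * g⁻¹ := by rw [h1]
          _ = g * x * g⁻¹ * q := by group
      · exact Subgroup.mul_mem _ (Subgroup.mul_mem _ (Subgroup.mem_sup_left hgH)
          (Subgroup.mem_sup_right hx)) (Subgroup.inv_mem _ (Subgroup.mem_sup_left hgH))
    obtain ⟨k, hkC, hk⟩ := Lib.Helper28.exists_conj_mem_sylow C₁ P hPC₁ R hRp hRC₁
    rw [Subgroup.mem_inf] at hkC
    set n := k * g with hn
    have hnP : ∀ x ∈ P, n * x * n⁻¹ ∈ P := by
      intro x hx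
      have := hk (g * x * g⁻¹) ⟨x, hx, rfl⟩
      have e : n * x * n⁻¹ = k * (g * x * g⁻¹) * k⁻¹ := by rw [hn]; group
      rw [e]; exact this
    have hnHP : n ∈ H ⊔ (P : Subgroup G) :=
      Subgroup.mul_mem _ hkC.2 (Subgroup.mem_sup_left hgH)
    have hncent : ∀ x ∈ P, n * x = x * n := by
      apply split_centralizes P hPab n hnP
      intro j hj
      have hyP : ∀ x ∈ (P : Subgroup G), n ^ j * x * (n ^ j)⁻¹ ∈ (P : Subgroup G) :=
        pow_conj_mem (P : Subgroup G) n hnP j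
      have hyH : n ^ j ∈ H :=
        mem_of_mem_sup_of_coprime H P hPp _ (Subgroup.pow_mem _ hnHP j) hj
      apply cyc_ii (P : Subgroup G) hPp hP (n ^ j) hyP hj Q hPQ
      intro x hx
      rw [Subgroup.mem_inf]
      constructor
      · exact (P : Subgroup G).mul_mem (hyP x hx) ((P : Subgroup G).inv_mem hx)
      · have h5 := H.mul_mem hyH
          ((inferInstance : H.Normal).conj_mem _ (H.inv_mem hyH) x)
        simpa [mul_assoc] using h5
    intro x hx
    have hxP := (Subgroup.mem_inf.1 hx).1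
    have h1 := hncent x hxP
    have h2 := (Subgroup.mem_centralizer_iff.1 hkC.1) x hx
    have h3 : k * (g * x) = k * (x * g) := by
      calc k * (g * x) = n * x := by rw [hn]; group
        _ = x * n := h1
        _ = (x * k) * g := by rw [hn]; group
        _ = (k * x) * g := by rw [h2]
        _ = k * (x * g) := by group
    exact mul_left_cancel h3
  obtain ⟨hH1, K, hKH, hKcop, hKmem, ⟨r, hKr⟩, hKQ⟩ :=
    burnside_sub H Q inf_le_right (hPp.to_le inf_le_left) hQidx hNC1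
  refine ⟨hH1, ?_⟩
  have hKn : K.Normal := by
    refine ⟨fun κ hκ g => ?_⟩
    apply hKmem _ ((inferInstance : H.Normal).conj_mem κ (hKH hκ) g)
    have : g * κ * g⁻¹ = MulAut.conj g κ := rfl
    rw [this, MulEquiv.orderOf_eq]
    exact Nat.Coprime.coprime_dvd_left (Subgroup.orderOf_dvd_natCard K hκ) hKcop
  let Hbar : Subgroup (G ⧸ K) := H.map (QuotientGroup.mk' K)
  haveI : Hbar.Normal := Subgroup.Normal.map inferInstance _ (QuotientGroup.mk'_surjective K)
  let C : Subgroup G := (Subgroup.centralizer (Hbar : Set (G ⧸ K))).comap (QuotientGroup.mk' K)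
  haveI hCn : C.Normal := Subgroup.Normal.comap inferInstance _
  have hCmem : ∀ g, g ∈ C ↔ ∀ h ∈ H, (h : G ⧸ K) * g = g * h := by
    intro g
    show (g : G ⧸ K) ∈ Subgroup.centralizer (Hbar : Set (G ⧸ K)) ↔ _
    rw [Subgroup.mem_centralizer_iff]
    constructor
    · intro hh h hhH; exact hh _ ⟨h, hhH, rfl⟩
    · rintro hh _ ⟨h, hhH, rfl⟩; exact hh h hhH
  have hPC : (P : Subgroup G) ≤ C := by
    intro x hx
    rw [hCmem]
    intro h hh
    obtain ⟨l, hl, q, hq, rfl⟩ := hKQ h hh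
    have hl1 : (l : G ⧸ K) = 1 := (QuotientGroup.eq_one_iff l).2 hl
    rw [QuotientGroup.mk_mul, hl1, one_mul, ← QuotientGroup.mk_mul, ← QuotientGroup.mk_mul,
      hPab q (Subgroup.mem_inf.1 hq).1 x hx]
  have hKP : ∀ z ∈ K, z ∈ P → z = 1 := by
    intro z hzK hzP
    obtain ⟨j, hj⟩ := hPp ⟨z, hzP⟩
    have hj' : z ^ p ^ j = 1 := congrArg Subtype.val hj
    have h7 : orderOf z ∣ 1 := by
      rw [← Nat.Coprime.gcd_eq_one (Nat.Coprime.pow_right j hKcop)]
      exact Nat.dvd_gcd (Subgroup.orderOf_dvd_natCard K hzK) (orderOf_dvd_of_pow_eq_one hj')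
    exact orderOf_eq_one_iff.1 (Nat.dvd_one.1 h7)
  have hNC2 : ∀ g ∈ C, (∀ x ∈ (P : Subgroup G), g * x * g⁻¹ ∈ (P : Subgroup G)) →
      ∀ x ∈ (P : Subgroup G), g * x = x * g := by
    intro g hgC hgP
    apply split_centralizes P hPab g hgP
    intro j hj
    have hyC : g ^ j ∈ C := C.pow_mem hgC j
    have hyP : ∀ x ∈ (P : Subgroup G), g ^ j * x * (g ^ j)⁻¹ ∈ (P : Subgroup G) :=
      pow_conj_mem (P : Subgroup G) g hgP j
    obtain ⟨w, hwQ, hw1⟩ := hQne
    have hwQ' := Subgroup.mem_inf.1 hwQ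
    apply cyc_i (P : Subgroup G) hPp hP (g ^ j) hyP hj w hwQ'.1 hw1
    have h1 := (hCmem _).1 hyC w hwQ'.2
    have h2 : (g ^ j) * w * (g ^ j)⁻¹ * w⁻¹ ∈ K := by
      rw [← QuotientGroup.eq_one_iff]
      simp only [QuotientGroup.mk_mul, QuotientGroup.mk_inv]
      rw [← h1]; group
    have h3 : (g ^ j) * w * (g ^ j)⁻¹ * w⁻¹ ∈ (P : Subgroup G) :=
      (P : Subgroup G).mul_mem (hyP w hwQ'.1) ((P : Subgroup G).inv_mem hwQ'.1)
    have h4 := hKP _ h2 h3
    calc g ^ j * w = ((g ^ j) * w * (g ^ j)⁻¹ * w⁻¹) * (w * g ^ j) := by group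
      _ = w * g ^ j := by rw [h4, one_mul]
  obtain ⟨_, L, hLC, hLcop, hLmem, ⟨r', hLr⟩, _⟩ := burnside_sub C (P : Subgroup G) hPC hPp
    (fun h => P.not_dvd_index (h.trans (Subgroup.relIndex_dvd_index_of_le hPC))) hNC2
  have hLn : L.Normal := by
    refine ⟨fun κ hκ g => ?_⟩
    apply hLmem _ (hCn.conj_mem κ (hLC hκ) g)
    have : g * κ * g⁻¹ = MulAut.conj g κ := rfl
    rw [this, MulEquiv.orderOf_eq]
    exact Nat.Coprime.coprime_dvd_left (Subgroup.orderOf_dvd_natCard L hκ) hLcop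
  refine ⟨3, ![⊥, L, C, ⊤], rfl, rfl, ?_, ?_, ?_⟩
  · rw [Fin.monotone_iff_le_succ]
    intro i
    fin_cases i
    · exact bot_le
    · exact hLC
    · exact le_top
  · intro i
    fin_cases i
    · exact (inferInstance : (⊥ : Subgroup G).Normal)
    · exact hLn
    · exact hCn
    · exact (inferInstance : (⊤ : Subgroup G).Normal)
  · intro i
    fin_cases i
    · right
      show ((⊥ : Subgroup G).relIndex L).Coprime p
      rw [Subgroup.relIndex_bot_left]; exact hLcop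
    · left; exact ⟨r', hLr⟩
    · right
      show (C.relIndex ⊤).Coprime p
      rw [Subgroup.relIndex_top_right]
      exact Nat.Coprime.coprime_dvd_left (Subgroup.index_dvd_of_le hPC)
        (hp.coprime_iff_not_dvd.2 P.not_dvd_index).symm

end Cfsg.Agent.S4145
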