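import Cfsg.Statements.S3803
import Cfsg.Agent.Lib.Helper22.PIndex
import Cfsg.Agent.Lib.Helper1.Coprime
import Cfsg.Agent.Lib.Helper1.Frattini
import Cfsg.Agent.S4145

set_option autoImplicit false
open Cfsg

namespace Cfsg.Agent.S3803

theorem exists_between {X : Type*} [Group X] [Finite X] (P H : Subgroup X) (n i j : ℕ)
    (hP : Nat.card P = 2 ^ n) (hHP : H ≤ P) (hH : Nat.card H = 2 ^ i) (hij : i ≤ j) (hjn : j ≤ n) :
    ∃ K : Subgroup X, H ≤ K ∧ K ≤ P ∧ Nat.card K = 2 ^ j := by
  haveI : Fact (Nat.Prime 2) := ⟨Nat.prime_two⟩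
  obtain ⟨K', hK', hHK'⟩ := Sylow.exists_subgroup_card_pow_prime_le (G := P) 2 (n := i) (m := j)
    (by rw [hP]; exact pow_dvd_pow 2 hjn) (H.subgroupOf P)
    (by rw [Lib.Helper1.card_subgroupOf_of_le hHP, hH]) hij
  refine ⟨K'.map P.subtype, ?_, Subgroup.map_subtype_le _, ?_⟩
  · intro h hh
    exact ⟨⟨h, hHP hh⟩, hHK' (by rw [Subgroup.mem_subgroupOf]; exact hh), rfl⟩
  · rw [Subgroup.card_map_of_injective P.subtype_injective, hK']

/-- An element of odd order normalizing a cyclic `2`-group centralizes it. -/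
theorem lemC {X : Type*} [Group X] [Finite X] (x g : X) (n : ℕ) (hx : orderOf x = 2 ^ n)
    (hg : Odd (orderOf g)) (hgx : g * x * g⁻¹ ∈ Subgroup.zpowers x) : g * x = x * g := by
  haveI : Fact (Nat.Prime 2) := ⟨Nat.prime_two⟩
  rcases Nat.eq_zero_or_pos n with rfl | hn
  · rw [pow_zero, orderOf_eq_one_iff] at hx
    rw [hx]; simp
  rw [← mem_powers_iff_mem_zpowers] at hgx
  obtain ⟨s, hs⟩ := hgx
  have hs' : g * x * g⁻¹ = x ^ s := hs.symm
  have hx1 : x ^ 2 ^ (n - 1) ≠ 1 := by
    intro h
    have h1 := orderOf_dvd_of_pow_eq_one h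
    rw [hx] at h1
    have h2 := Nat.pow_dvd_pow_iff_le_right (x := 2) (by norm_num) |>.1 h1
    omega
  have hodd : ¬ 2 ∣ s := by
    rintro ⟨t, rfl⟩
    apply hx1
    have h1 : (g * x * g⁻¹) ^ 2 ^ (n - 1) = 1 := by
      rw [hs', ← pow_mul]
      have : 2 * t * 2 ^ (n - 1) = 2 ^ n * t := by
        obtain ⟨m, rfl⟩ : ∃ m, n = m + 1 := ⟨n - 1, by omega⟩
        simp only [Nat.add_sub_cancel]
        ring
      rw [this, pow_mul, ← hx, pow_orderOf_eq_one, one_pow]
    rw [conj_pow] at h1
    have h2 : x ^ 2 ^ (n - 1) = g⁻¹ * (g * x ^ 2 ^ (n - 1) * g⁻¹) * g := by group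
    rw [h2, h1]; group
  obtain ⟨m, rfl⟩ : ∃ m, s = m + 1 := ⟨s - 1, by
    rcases Nat.eq_zero_or_pos s with rfl | h
    · exact absurd (dvd_zero 2) hodd
    · omega⟩
  exact S4145.cyc_core (p := 2) x g n m hx hs' (by omega) (Nat.coprime_two_right.2 hg)

theorem lemG {X : Type*} [Group X] [Finite X] (K A : Subgroup X) (hK : IsPGroup 2 K)
    (hA : Odd (Nat.card A)) (hAK : A ≤ Subgroup.normalizer (K : Set X))
    (hmax : ∀ M' : Subgroup K, M'.index = 2 →
      A ≤ Subgroup.normalizer ((M'.map K.subtype : Subgroup X) : Set X)) :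
    A ≤ Subgroup.centralizer (K : Set X) := by
  haveI : Fact (Nat.Prime 2) := ⟨Nat.prime_two⟩
  apply Lib.Helper1.coprime_frattini_trivial A K hAK
  · obtain ⟨k, hk⟩ := (hK.to_subgroup (frattini K)).exists_card_eq
    rw [hk]
    exact Nat.Coprime.pow_right k (Nat.coprime_two_right.2 hA)
  · intro a ha k hk
    have hak : a * k * a⁻¹ ∈ K := (Subgroup.mem_normalizer_iff.1 (hAK ha) k).1 hk
    refine ⟨⟨a * k * a⁻¹, hak⟩ * (⟨k, hk⟩ : K)⁻¹, ?_, rfl⟩
    rw [SetLike.mem_coe, Lib.Helper1.mem_frattini_iff]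
    intro M' hM'
    have hidx := (Lib.Helper1.pgroup_coatom hK M' hM').2
    rw [Subgroup.mul_mem_iff_of_index_two hidx, Subgroup.inv_mem_iff]
    have h1 := Subgroup.mem_normalizer_iff.1 (hmax M' hidx ha) k
    have e1 : ∀ (z : X) (hz : z ∈ K), z ∈ M'.map K.subtype ↔ (⟨z, hz⟩ : K) ∈ M' := by
      intro z hz
      constructor
      · rintro ⟨y, hy, hyz⟩
        have : y = ⟨z, hz⟩ := Subtype.ext hyz
        exact this ▸ hy
      · intro h; exact ⟨_, h, rfl⟩
    rw [e1 k hk, e1 _ hak] at h1
    exact h1.symm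

/-- Let P be a 2-subgroup and A a subgroup of odd order of a finite group, with A normalizing P. Let D ≤ P with 1 < |D| < |P|. If every subgroup of P of order |D|, and also every subgroup of P of order 4 in case |D| = 2, is normalized by A, then A centralizes P. -/
theorem result {X : Type*} [Group X] [Finite X] (P A D : Subgroup X) (hP : IsPGroup 2 P) (hA : Odd (Nat.card A))
    (hAP : A ≤ Subgroup.normalizer (P : Set X)) (hDP : D ≤ P) (hD1 : 1 < Nat.card D) (hD2 : Nat.card D < Nat.card P)
    (hinv : ∀ E : Subgroup X, E ≤ P → (Nat.card E = Nat.card D ∨ (Nat.card D = 2 ∧ Nat.card E = 4)) → A ≤ Subgroup.normalizer (E : Set X)) :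
    A ≤ Subgroup.centralizer (P : Set X) := by
  classical
  haveI : Fact (Nat.Prime 2) := ⟨Nat.prime_two⟩
  obtain ⟨n, hn⟩ := hP.exists_card_eq
  obtain ⟨d, hd⟩ := (hP.to_le hDP).exists_card_eq
  have hd1 : 1 ≤ d := by
    rcases Nat.eq_zero_or_pos d with rfl | h
    · rw [hd] at hD1; simp at hD1
    · exact h
  have hdn : d < n := by
    rw [hd, hn] at hD2
    exact (Nat.pow_lt_pow_iff_right (by norm_num)).1 hD2
  have hAo : ∀ a ∈ A, Odd (orderOf a) := by
    intro a ha
    exact Odd.of_dvd_nat hA (Subgroup.orderOf_dvd_natCard A ha)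
  have hPo : ∀ x ∈ P, ∃ k, orderOf x = 2 ^ k := by
    intro x hx
    obtain ⟨k, hk⟩ := (IsPGroup.iff_orderOf.1 hP) ⟨x, hx⟩
    exact ⟨k, by rw [← hk, Subgroup.orderOf_mk]⟩
  -- cyclic invariant subgroups are centralized
  have hcyc : ∀ x ∈ P, A ≤ Subgroup.normalizer ((Subgroup.zpowers x : Subgroup X) : Set X) →
      ∀ a ∈ A, a * x = x * a := by
    intro x hx hN a ha
    obtain ⟨k, hk⟩ := hPo x hx
    exact lemC x a k hk (hAo a ha)
      ((Subgroup.mem_normalizer_iff.1 (hN ha) x).1 (Subgroup.mem_zpowers x))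
  -- Step 1
  have step1 : ∀ x ∈ P, x ^ 4 = 1 → ∀ a ∈ A, a * x = x * a := by
    intro x hx hx4
    have h4 : orderOf x ∣ 2 ^ 2 := orderOf_dvd_of_pow_eq_one (by simpa using hx4)
    obtain ⟨i, hi, hxi⟩ := (Nat.dvd_prime_pow Nat.prime_two).1 h4
    have hCP : Subgroup.zpowers x ≤ P := by rw [Subgroup.zpowers_le]; exact hx
    have hCc : Nat.card (Subgroup.zpowers x) = 2 ^ i := by rw [Nat.card_zpowers, hxi]
    by_cases hd2 : d = 1
    · subst hd2
      interval_cases i
      · rw [pow_zero, orderOf_eq_one_iff] at hxi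
        intro a _; rw [hxi]; simp
      · exact hcyc x hx (hinv _ hCP (Or.inl (by rw [hCc, hd])))
      · exact hcyc x hx (hinv _ hCP (Or.inr ⟨by rw [hd]; norm_num, by rw [hCc]; norm_num⟩))
    · have hid : i ≤ d := by omega
      obtain ⟨H, hCH, hHP, hHc⟩ := exists_between P _ n i d hn hCP hCc hid hdn.le
      obtain ⟨K, hHK, hKP, hKc⟩ := exists_between P H n d (d + 1) hn hHP hHc (by omega) hdn
      have hxH : x ∈ H := hCH (Subgroup.mem_zpowers x)
      have hAH : A ≤ Subgroup.normalizer (H : Set X) := hinv H hHP (Or.inl (by rw [hHc, hd]))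
      have hKp : IsPGroup 2 K := hP.to_le hKP
      have hidx2 : ∀ M' : Subgroup K, M'.index = 2 →
          Nat.card (M'.map K.subtype : Subgroup X) = 2 ^ d := by
        intro M' hM'
        rw [Subgroup.card_map_of_injective K.subtype_injective]
        have h1 := Subgroup.card_mul_index M'
        rw [hM', hKc, pow_succ] at h1
        exact Nat.eq_of_mul_eq_mul_right (by norm_num) h1
      have hmaxN : ∀ M' : Subgroup K, M'.index = 2 →
          A ≤ Subgroup.normalizer ((M'.map K.subtype : Subgroup X) : Set X) := by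
        intro M' hM'
        exact hinv _ ((Subgroup.map_subtype_le _).trans hKP) (Or.inl (by rw [hidx2 M' hM', hd]))
      by_cases huniq : ∀ M' : Subgroup K, M'.index = 2 → M'.map K.subtype = H
      · -- K is cyclic
        obtain ⟨y, hyK, hyH⟩ : ∃ y ∈ K, y ∉ H := by
          by_contra hcon
          push Not at hcon
          have h1 : K ≤ H := hcon
          have h2 := Subgroup.card_le_of_le h1
          rw [hKc, hHc] at h2
          have := Nat.pow_lt_pow_right (a := 2) (by norm_num) (Nat.lt_succ_self d)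
          omega
        have hYtop : Subgroup.zpowers (⟨y, hyK⟩ : K) = ⊤ := by
          rcases eq_top_or_exists_le_coatom (Subgroup.zpowers (⟨y, hyK⟩ : K)) with h | ⟨M', hM', hle⟩
          · exact h
          · exfalso
            apply hyH
            rw [← huniq M' (Lib.Helper1.pgroup_coatom hKp M' hM').2]
            exact ⟨⟨y, hyK⟩, hle (Subgroup.mem_zpowers _), rfl⟩
        haveI : IsCyclic K := ⟨⟨⟨y, hyK⟩, fun z => by
          have hz : z ∈ Subgroup.zpowers (⟨y, hyK⟩ : K) := hYtop ▸ Subgroup.mem_top z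
          exact hz⟩⟩
        obtain ⟨g, hg⟩ := IsCyclic.exists_generator (α := H.subgroupOf K)
        set h : X := ((g : K) : X) with hh
        have hhH : h ∈ H := g.2
        have hgen : ∀ z ∈ H, z ∈ Subgroup.zpowers h := by
          intro z hz
          obtain ⟨k, hk⟩ := Subgroup.mem_zpowers_iff.1 (hg ⟨⟨z, hHK hz⟩, hz⟩)
          refine Subgroup.mem_zpowers_iff.2 ⟨k, ?_⟩
          have := congrArg (fun w : H.subgroupOf K => ((w : K) : X)) hk
          simpa using this
        intro a ha
        obtain ⟨k, hk⟩ := hPo h (hHP hhH)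
        have hah : a * h = h * a := lemC h a k hk (hAo a ha)
          (hgen _ ((Subgroup.mem_normalizer_iff.1 (hAH ha) h).1 hhH))
        obtain ⟨s, hs⟩ := Subgroup.mem_zpowers_iff.1 (hgen x hxH)
        rw [← hs]
        exact (Commute.zpow_right (show Commute a h from hah) s).eq
      · push Not at huniq
        obtain ⟨M', hM', hne⟩ := huniq
        set M := M'.map K.subtype with hM
        have hMK : M ≤ K := Subgroup.map_subtype_le _
        have hMc : Nat.card M = 2 ^ d := hidx2 M' hM'
        have hsup : H ⊔ M = K := by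
          have hle : H ⊔ M ≤ K := sup_le hHK hMK
          have hlt : H < H ⊔ M := by
            refine lt_of_le_of_ne le_sup_left ?_
            intro heq
            have hMH : M ≤ H := heq ▸ le_sup_right
            exact hne (Subgroup.eq_of_le_of_card_ge hMH (by rw [hMc, hHc]))
          obtain ⟨e, he⟩ := (hKp.to_le hle).exists_card_eq
          have h1 := Lib.Helper1.card_lt_of_lt hlt
          rw [hHc, he] at h1
          have h2 : d < e := (Nat.pow_lt_pow_iff_right (by norm_num)).1 h1
          apply Subgroup.eq_of_le_of_card_ge hle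
          rw [hKc, he]
          exact Nat.pow_le_pow_right (by norm_num) h2
        have hAK : A ≤ Subgroup.normalizer (K : Set X) := by
          intro a ha
          apply S4145.mem_normalizer_of_forall
          intro z hz
          have h1 : H.map (MulAut.conj a).toMonoidHom ≤ H := by
            rintro _ ⟨w, hw, rfl⟩
            exact (Subgroup.mem_normalizer_iff.1 (hAH ha) w).1 hw
          have h2 : M.map (MulAut.conj a).toMonoidHom ≤ M := by
            rintro _ ⟨w, hw, rfl⟩
            exact (Subgroup.mem_normalizer_iff.1 (hmaxN M' hM' ha) w).1 hw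
          have h3 : K.map (MulAut.conj a).toMonoidHom ≤ K := by
            rw [← hsup, Subgroup.map_sup]
            exact sup_le_sup h1 h2
          exact h3 ⟨z, hz, rfl⟩
        have hcen := lemG K A hKp hA hAK hmaxN
        intro a ha
        exact ((Subgroup.mem_centralizer_iff.1 (hcen ha)) x (hHK hxH)).symm
  -- Step 2
  intro a ha
  let α : MulAut P := P.normalizerMonoidHom ⟨a, hAP ha⟩
  have hαapp : ∀ x : P, ((α x : P) : X) = a * x * a⁻¹ := fun x => rfl
  have hα : (orderOf α).Coprime 2 := by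
    have h1 : orderOf α ∣ orderOf a := by
      have := orderOf_map_dvd P.normalizerMonoidHom (⟨a, hAP ha⟩ : Subgroup.normalizer (P : Set X))
      rwa [Subgroup.orderOf_mk] at this
    exact Nat.Coprime.coprime_dvd_left h1 (Nat.coprime_two_right.2 (hAo a ha))
  obtain ⟨D', _, hD2', hD3⟩ := Lib.Helper22.exists_small_exponent hP α hα
  have hα1 : α = 1 := by
    apply hD3
    intro x hx
    apply Subtype.ext
    rw [hαapp]
    have hx4 : ((x : P) : X) ^ 4 = 1 := by
      have := congrArg Subtype.val (hD2' x hx)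
      simpa using this
    rw [step1 x x.2 hx4 a ha]; group
  rw [Subgroup.mem_centralizer_iff]
  intro y hy
  have h1 := hαapp ⟨y, hy⟩
  rw [hα1] at h1
  have h2 : y = a * y * a⁻¹ := h1
  calc y * a = (a * y * a⁻¹) * a := by rw [← h2]
    _ = a * y := by group

end Cfsg.Agent.S3803
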