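import Cfsg.Statements.S3808
import Cfsg.Agent.Lib.Helper10.Fitting
import Cfsg.Agent.Lib.Helper5.Card
import Mathlib

set_option autoImplicit false
open Cfsg

namespace Cfsg.Agent.S3808

/-- Let S be a finite p-group with an extraspecial subgroup Q of index p. Then either Z(S) = Z(Q), or S = Q·Z(S) and Z(S) has order p². -/
theorem result {S : Type*} [Group S] [Finite S] (p : ℕ) [Fact p.Prime] (hS : IsPGroup p S) (Q : Subgroup S) (hQ : Cfsg.IsExtraspecial p ↥Q) (hQi : Q.index = p) :
    Subgroup.center S = (Subgroup.center ↥Q).map Q.subtype ∨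
      (Q ⊔ Subgroup.center S = ⊤ ∧ Nat.card (Subgroup.center S) = p ^ 2) := by
  have hp : p.Prime := Fact.out
  have hnil : Group.IsNilpotent S := hS.isNilpotent
  have hQn : Q.Normal := by
    apply Subgroup.normal_of_index_eq_minFac_card
    obtain ⟨n, hn⟩ := hS.exists_card_eq
    have hn0 : n ≠ 0 := by
      rintro rfl
      have := Q.index_dvd_card
      rw [hQi, hn, pow_zero] at this
      exact hp.one_lt.ne' (Nat.dvd_one.mp this)
    rw [hQi, hn, hp.pow_minFac hn0]
  set N := (Subgroup.center ↥Q).map Q.subtype with hN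
  have hNcard : Nat.card N = p := by
    rw [hN, Subgroup.card_map_of_injective Q.subtype_injective, hQ.2]
  have hNn : N.Normal := ConjAct.normal_of_characteristic_of_normal
  have hNbot : N ≠ ⊥ := by
    intro h
    rw [h, Subgroup.card_bot] at hNcard
    exact hp.one_lt.ne hNcard
  have hNZ : N ≤ Subgroup.center S := by
    have h1 := Cfsg.Agent.Lib.Helper10.normal_inf_center_ne_bot N hNn hNbot
    have h2 : Nat.card ↥(N ⊓ Subgroup.center S) ∣ p := by
      rw [← hNcard]; exact Subgroup.card_dvd_of_le inf_le_left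
    rcases (Nat.dvd_prime hp).mp h2 with h3 | h3
    · exact absurd (Subgroup.card_eq_one.mp h3) h1
    · have h4 : N ⊓ Subgroup.center S = N :=
        Subgroup.eq_of_le_of_card_ge inf_le_left (by rw [h3, hNcard])
      rw [← h4]; exact inf_le_right
  have hZQ : Q ⊓ Subgroup.center S ≤ N := by
    rintro z ⟨hzQ, hz⟩
    refine ⟨⟨z, hzQ⟩, ?_, rfl⟩
    have hz' : z ∈ Subgroup.center S := hz
    show (⟨z, hzQ⟩ : ↥Q) ∈ Subgroup.center ↥Q
    rw [Subgroup.mem_center_iff]
    intro g
    apply Subtype.ext
    exact Subgroup.mem_center_iff.mp hz' g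
  have hNQ : N ≤ Q := Subgroup.map_subtype_le _
  by_cases h : Subgroup.center S ≤ Q
  · left
    exact le_antisymm (fun z hz => hZQ ⟨h hz, hz⟩) hNZ
  · right
    have htop : Q ⊔ Subgroup.center S = ⊤ := by
      have h1 := Subgroup.relIndex_mul_index (le_sup_left : Q ≤ Q ⊔ Subgroup.center S)
      rw [hQi] at h1
      have h2 : Q.relIndex (Q ⊔ Subgroup.center S) ≠ 1 := by
        intro h3
        rw [Subgroup.relIndex_eq_one] at h3
        exact h (le_sup_right.trans h3)
      have h3 : Q.relIndex (Q ⊔ Subgroup.center S) ∣ p := ⟨_, h1.symm⟩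
      rcases (Nat.dvd_prime hp).mp h3 with h4 | h4
      · exact absurd h4 h2
      · rw [h4] at h1
        have h5 : (Q ⊔ Subgroup.center S).index = 1 := by
          have : p * (Q ⊔ Subgroup.center S).index = p * 1 := by rw [h1, mul_one]
          exact Nat.eq_of_mul_eq_mul_left hp.pos this
        exact Subgroup.index_eq_one.mp h5
    refine ⟨htop, ?_⟩
    have h1 := Cfsg.Agent.Lib.Helper5.card_sup_mul_card_inf Q (Subgroup.center S)
      (by rw [Subgroup.normalizer_eq_top]; exact le_top)
    have h2 : Q ⊓ Subgroup.center S = N := le_antisymm hZQ (le_inf hNQ hNZ)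
    rw [htop, h2, hNcard, Subgroup.card_top, ← Q.index_mul_card, hQi] at h1
    have hpos : 0 < Nat.card Q := Nat.card_pos
    have : Nat.card Q * (p ^ 2) = Nat.card Q * Nat.card (Subgroup.center S) := by
      rw [← h1]; ring
    exact (Nat.eq_of_mul_eq_mul_left hpos this).symm

end Cfsg.Agent.S3808
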