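import Cfsg.Statements.S3809
import Cfsg.Agent.S0095
import Mathlib

set_option autoImplicit false
open Cfsg

namespace Cfsg.Agent.S3809

open scoped commutatorElement

/-- Let S be a finite p-group with an extraspecial subgroup of index p. Then S has order p^(2+2n) for some n ≥ 1, derived length at most 3, and exponent dividing p³. -/
theorem result {S : Type*} [Group S] [Finite S] (p : ℕ) [Fact p.Prime] (hS : IsPGroup p S) (Q : Subgroup S) (hQ : Cfsg.IsExtraspecial p ↥Q) (hQi : Q.index = p) :
    (∃ n : ℕ, 1 ≤ n ∧ Nat.card S = p ^ (2 + 2 * n)) ∧ derivedSeries S 3 = ⊥ ∧ ∀ x : S, x ^ (p ^ 3) = 1 := by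
  have hp : p.Prime := Fact.out
  have hQn : Q.Normal := by
    apply Subgroup.normal_of_index_eq_minFac_card
    obtain ⟨n, hn⟩ := hS.exists_card_eq
    have hn0 : n ≠ 0 := by
      rintro rfl
      have := Q.index_dvd_card
      rw [hQi, hn, pow_zero] at this
      exact hp.one_lt.ne' (Nat.dvd_one.mp this)
    rw [hQi, hn, hp.pow_minFac hn0]
  have hqcard : Nat.card (S ⧸ Q) = p := by rw [← Subgroup.index_eq_card, hQi]
  have hcomm : commutator ↥Q = Subgroup.center ↥Q := hQ.1.2.2
  have hZcard : Nat.card (Subgroup.center ↥Q) = p := hQ.2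
  refine ⟨?_, ?_, ?_⟩
  · obtain ⟨n, hn1, hn⟩ := Cfsg.Agent.S0095.result hQ
    refine ⟨n, hn1, ?_⟩
    rw [← Q.index_mul_card, hQi, hn]; ring
  · have hcyc : IsCyclic (S ⧸ Q) := isCyclic_of_prime_card hqcard
    have h1 : derivedSeries S 1 ≤ Q := by
      rw [derivedSeries_succ, derivedSeries_zero, Subgroup.commutator_le]
      intro a _ b _
      rw [← QuotientGroup.eq_one_iff, commutatorElement_def]
      simp only [QuotientGroup.mk_mul, QuotientGroup.mk_inv]
      have := hcyc.isMulCommutative.is_comm.comm (QuotientGroup.mk a : S ⧸ Q) (QuotientGroup.mk b)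
      rw [this]; group
    have h2 : derivedSeries S 2 ≤ (Subgroup.center ↥Q).map Q.subtype := by
      rw [derivedSeries_succ, ← hcomm, commutator_def, Subgroup.map_commutator]
      have : (⊤ : Subgroup ↥Q).map Q.subtype = Q := by
        rw [← MonoidHom.range_eq_map, Subgroup.range_subtype]
      rw [this]
      exact Subgroup.commutator_mono h1 h1
    rw [derivedSeries_succ, eq_bot_iff, Subgroup.commutator_le]
    intro a ha b hb
    obtain ⟨a', ha', rfl⟩ := h2 ha
    obtain ⟨b', hb', rfl⟩ := h2 hb
    rw [Subgroup.mem_bot, commutatorElement_eq_one_iff_mul_comm]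
    have := Subgroup.mem_center_iff.mp ha' b'
    exact (congrArg Subtype.val this).symm
  · intro x
    have hxQ : x ^ p ∈ Q := by
      rw [← QuotientGroup.eq_one_iff, QuotientGroup.mk_pow, ← hqcard, pow_card_eq_one']
    have hpow : ∀ a : ↥Q, a ^ p ∈ Subgroup.center ↥Q := by
      intro a
      rw [Subgroup.mem_center_iff]
      intro b
      have hc : ⁅b, a⁆ ∈ Subgroup.center ↥Q := by
        rw [← hcomm, commutator_def]
        exact Subgroup.commutator_mem_commutator (Subgroup.mem_top _) (Subgroup.mem_top _)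
      have hcp : ⁅b, a⁆ ^ p = 1 := by
        have := pow_card_eq_one' (x := (⟨⁅b, a⁆, hc⟩ : Subgroup.center ↥Q))
        rw [hZcard] at this
        exact congrArg Subtype.val this
      have h1 : b * a * b⁻¹ = ⁅b, a⁆ * a := by rw [commutatorElement_def]; group
      have h2 : Commute ⁅b, a⁆ a := (Subgroup.mem_center_iff.mp hc a).symm
      have h3 : b * a ^ p * b⁻¹ = a ^ p := by
        rw [← conj_pow, h1, h2.mul_pow, hcp, one_mul]
      calc b * a ^ p = (b * a ^ p * b⁻¹) * b := by group
        _ = a ^ p * b := by rw [h3]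
    have h1 := hpow ⟨x ^ p, hxQ⟩
    have h2 := pow_card_eq_one' (x := (⟨_, h1⟩ : Subgroup.center ↥Q))
    rw [hZcard] at h2
    have h3 : ((x ^ p) ^ p) ^ p = 1 := by
      have := congrArg (fun z : Subgroup.center ↥Q => ((z : ↥Q) : S)) h2
      simpa using this
    rw [← h3, ← pow_mul, ← pow_mul]
    congr 1
    ring

end Cfsg.Agent.S3809
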