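import Cfsg.Statements.S3810
import Mathlib
import Cfsg.Agent.Lib.Helper21.P4

set_option autoImplicit false
open Cfsg

namespace Cfsg.Agent.S3810

lemma normal_of_index_p {P : Type*} [Group P] [Finite P] (p : ℕ) [hp : Fact p.Prime]
    (hPG : IsPGroup p P) (A : Subgroup P) (hidx : A.index = p) : A.Normal := by
  obtain ⟨n, hn⟩ := IsPGroup.iff_card.1 hPG
  have hn0 : n ≠ 0 := by
    rintro rfl
    rw [pow_zero] at hn
    have h := A.card_mul_index
    rw [hn, hidx] at h
    have : p ∣ 1 := Dvd.intro_left _ h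
    exact hp.out.one_lt.ne' (Nat.dvd_one.1 this)
  apply Subgroup.normal_of_index_eq_minFac_card
  rw [hidx, hn, Nat.Prime.pow_minFac hp.out hn0]

lemma card_comm_mul_center {P : Type*} [Group P] [Finite P] (p : ℕ) [hp : Fact p.Prime]
    (hPG : IsPGroup p P) (A : Subgroup P) (hA : ∀ a ∈ A, ∀ b ∈ A, a * b = b * a)
    (hidx : A.index = p) (hnc : ¬ ∀ a b : P, a * b = b * a) :
    Nat.card (commutator P) * Nat.card (Subgroup.center P) = Nat.card A := by
  classical
  haveI hAn : A.Normal := normal_of_index_p p hPG A hidx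
  have hgen : ∀ x : P, x ∉ A → A ⊔ Subgroup.zpowers x = ⊤ := by
    intro x hx
    have hlt : A < A ⊔ Subgroup.zpowers x := by
      refine lt_of_le_of_ne le_sup_left ?_
      intro e
      apply hx
      rw [e]
      exact (le_sup_right : Subgroup.zpowers x ≤ _) (Subgroup.mem_zpowers x)
    have h1 := Cfsg.Agent.Lib.Helper21.pg_mul_card_dvd hPG hlt
    apply Subgroup.eq_top_of_card_eq
    have h2 := A.card_mul_index
    rw [hidx, mul_comm] at h2
    rw [h2] at h1
    exact Nat.dvd_antisymm (Subgroup.card_subgroup_dvd_card _) h1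
  have hcen : ∀ x : P, A ⊔ Subgroup.zpowers x = ⊤ → ∀ a ∈ A, a * x = x * a →
      a ∈ Subgroup.center P := by
    intro x hx a ha hax
    have h1 : A ⊔ Subgroup.zpowers x ≤ Subgroup.centralizer {a} := by
      refine sup_le ?_ (Subgroup.zpowers_le.2 ?_)
      · intro b hb
        rw [Subgroup.mem_centralizer_singleton_iff]
        exact hA b hb a ha
      · rw [Subgroup.mem_centralizer_singleton_iff]
        exact hax.symm
    rw [Subgroup.mem_center_iff]
    intro g
    have : g ∈ Subgroup.centralizer {a} := h1 (by rw [hx]; exact Subgroup.mem_top g)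
    exact Subgroup.mem_centralizer_singleton_iff.1 this
  have hZA : Subgroup.center P ≤ A := by
    intro z hz
    by_contra hzA
    apply hnc
    have h1 : A ≤ Subgroup.center P := fun a ha =>
      hcen z (hgen z hzA) a ha (Subgroup.mem_center_iff.1 hz a)
    have h2 : (⊤ : Subgroup P) ≤ Subgroup.center P := by
      rw [← hgen z hzA]
      exact sup_le h1 (Subgroup.zpowers_le.2 hz)
    intro a b
    exact (Subgroup.mem_center_iff.1 (h2 (Subgroup.mem_top a)) b).symm
  obtain ⟨x, hx⟩ : ∃ x : P, x ∉ A := by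
    by_contra hcon
    push Not at hcon
    have : A = ⊤ := (Subgroup.eq_top_iff' A).2 hcon
    rw [this, Subgroup.index_top] at hidx
    exact hp.out.one_lt.ne hidx
  have hinf : A ⊓ Subgroup.centralizer ({x} : Set P) = Subgroup.center P := by
    apply le_antisymm
    · intro a ha
      obtain ⟨h1, h2⟩ := Subgroup.mem_inf.1 ha
      exact hcen x (hgen x hx) a h1 (Subgroup.mem_centralizer_singleton_iff.1 h2)
    · exact le_inf hZA (Subgroup.center_le_centralizer _)
  have := Cfsg.Agent.Lib.Helper21.card_commutator_mul_card_centralizer A hA x (hgen x hx)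
  rw [hinf] at this
  exact this

/-- Let S be a finite p-group with an extraspecial subgroup of index p. Then S has an abelian subgroup of index p if and only if S has order p⁴. -/
theorem result {S : Type*} [Group S] [Finite S] (p : ℕ) [Fact p.Prime] (hS : IsPGroup p S) (Q : Subgroup S) (hQ : Cfsg.IsExtraspecial p ↥Q) (hQi : Q.index = p) :
    (∃ A : Subgroup S, IsMulCommutative ↥A ∧ A.index = p) ↔ Nat.card S = p ^ 4 := by
  classical
  have hp : p.Prime := Fact.out
  obtain ⟨⟨hQp, _, hQc⟩, hQz⟩ := hQ
  have hQnc : ¬ ∀ a b : ↥Q, a * b = b * a := by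
    intro hc
    have hZ : Subgroup.center ↥Q = ⊤ := by
      rw [eq_top_iff]
      intro a _
      rw [Subgroup.mem_center_iff]
      intro g
      exact hc g a
    have hC : commutator ↥Q = ⊥ := (commutator_eq_bot_iff_center_eq_top ↥Q).2 hZ
    rw [← hQc, hC, Subgroup.card_bot] at hQz
    exact hp.one_lt.ne hQz
  constructor
  · rintro ⟨A, hA, hAi⟩
    haveI hAn : A.Normal := normal_of_index_p p hS A hAi
    have h1 : A.relIndex Q ∣ p := by
      rw [← hAi]
      exact Subgroup.relIndex_dvd_index_of_normal A Q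
    have h2 : A.relIndex Q ≠ 1 := by
      intro h
      have hle : Q ≤ A := Subgroup.relIndex_eq_one.1 h
      apply hQnc
      intro a b
      apply Subtype.ext
      have := hA.is_comm.comm ⟨a, hle a.2⟩ ⟨b, hle b.2⟩
      exact congrArg (fun t : ↥A => (t : S)) this
    have h3 : (A.subgroupOf Q).index = p := ((Nat.dvd_prime hp).1 h1).resolve_left h2
    have h4 := card_comm_mul_center p hQp (A.subgroupOf Q) (by
      intro a ha b hb
      apply Subtype.ext
      have := hA.is_comm.comm ⟨a, Subgroup.mem_subgroupOf.1 ha⟩ ⟨b, Subgroup.mem_subgroupOf.1 hb⟩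
      exact congrArg (fun t : ↥A => (t : S)) this) h3 hQnc
    rw [hQc, hQz] at h4
    have h5 := (A.subgroupOf Q).card_mul_index
    rw [← h4, h3] at h5
    have h6 := Q.card_mul_index
    rw [← h5, hQi] at h6
    rw [← h6]
    ring
  · intro hcard
    have hnc : ¬ ∀ a b : S, a * b = b * a := by
      intro hc
      apply hQnc
      intro a b
      exact Subtype.ext (hc a b)
    obtain ⟨A, hA, hAc⟩ := Cfsg.Agent.Lib.Helper21.p4_exists_abelian p hcard hnc
    refine ⟨A, ⟨⟨fun a b => Subtype.ext (hA a a.2 b b.2)⟩⟩, ?_⟩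
    have h := A.card_mul_index
    rw [hAc, hcard] at h
    have h1 : p ^ 3 * A.index = p ^ 3 * p := by rw [h]; ring
    exact Nat.eq_of_mul_eq_mul_left (pow_pos hp.pos 3) h1

end Cfsg.Agent.S3810
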