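import Cfsg.Statements.S3824
import Cfsg.Agent.Lib.Helper1.ClassSize

set_option autoImplicit false
open Cfsg

namespace Cfsg.Agent.S3824

/-- Every finite group having an abelian subgroup whose index is a power of 2 is solvable. -/
theorem result {G : Type*} [Group G] [Finite G]
    (A : Subgroup G) (hA : IsMulCommutative A) (hidx : ∃ k : ℕ, A.index = 2 ^ k) : Group.IsSolvable G := by
  obtain ⟨k, hk⟩ := hidx
  apply Cfsg.Agent.Lib.Helper1.isSolvable_of_pRegPow Nat.prime_two _ G rfl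
  intro x hx
  obtain ⟨g, hg⟩ := Cfsg.Agent.Lib.Helper1.exists_conj_mem_of_abelian A hA _ x rfl
    (by rw [hk]; exact Nat.Coprime.pow_right k hx)
  have h1 : ConjClasses.mk x = ConjClasses.mk (g * x * g⁻¹) :=
    ConjClasses.mk_eq_mk_iff_isConj.mpr (isConj_iff.mpr ⟨g, rfl⟩)
  rw [← Cfsg.Agent.Lib.Helper1.ncard_conjClass_eq_index, h1,
    Cfsg.Agent.Lib.Helper1.ncard_conjClass_eq_index]
  have hHC : A ≤ Subgroup.centralizer ({g * x * g⁻¹} : Set G) := by
    intro u hu
    rw [Subgroup.mem_centralizer_singleton_iff]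
    exact congrArg Subtype.val (hA.is_comm.comm ⟨u, hu⟩ ⟨_, hg⟩)
  obtain ⟨j, -, hj⟩ := (Nat.dvd_prime_pow Nat.prime_two).mp (hk ▸ Subgroup.index_dvd_of_le hHC)
  exact ⟨j, hj⟩

end Cfsg.Agent.S3824
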