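import Cfsg.Statements.S3857
import Mathlib
import Cfsg.Agent.Lib.Helper21.GK

set_option autoImplicit false
open Cfsg

namespace Cfsg.Agent.S3857

/-- A finite solvable group whose prime graph (prime divisors of the order, two distinct primes joined when there is an element of order their product) is disconnected is a Frobenius group or a 2-Frobenius group (it has normal subgroups H < K with K a Frobenius group with kernel H and G/H a Frobenius group with kernel K/H). -/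
theorem result {G : Type*} [Group G] [Finite G] (hsol : Group.IsSolvable G)
    (hdisc : (∃ A : Set ℕ, (∃ a ∈ A, a.Prime ∧ a ∣ Nat.card G) ∧ (∃ b ∉ A, b.Prime ∧ b ∣ Nat.card G) ∧
      ∀ a ∈ A, ∀ b ∉ A, a.Prime → b.Prime → a ∣ Nat.card G → b ∣ Nat.card G → ¬ ∃ g : G, orderOf g = a * b)) :
    (∃ C : Subgroup G, Cfsg.IsFrobeniusComplement C) ∨
    (∃ (H K : Subgroup G) (_ : H.Normal), K.Normal ∧ H < K ∧
      (∃ C : Subgroup ↥K, Cfsg.IsFrobeniusComplement C ∧ Cfsg.frobeniusKernel C = (H.subgroupOf K : Set ↥K)) ∧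
      (∃ C : Subgroup (G ⧸ H), Cfsg.IsFrobeniusComplement C ∧ Cfsg.frobeniusKernel C = (K.map (QuotientGroup.mk' H) : Set (G ⧸ H)))) := by
  classical
  obtain ⟨A, ⟨a0, ha0A, ha0, ha0G⟩, ⟨b0, hb0A, hb0, hb0G⟩, hA⟩ := hdisc
  have hmix : ∀ a b : ℕ, a.Prime → b.Prime → a ∈ A → ¬ b ∈ A → ∀ g : G, orderOf g ≠ a * b := by
    intro a b ha hb haA hbA g hg
    have h1 : a * b ∣ Nat.card G := by rw [← hg]; exact orderOf_dvd_natCard g
    exact hA a haA b hbA ha hb ((dvd_mul_right a b).trans h1) ((dvd_mul_left b a).trans h1)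
      ⟨g, hg⟩
  have htop : (⊤ : Subgroup G) ≠ ⊥ := by
    intro e
    have h1 : Nat.card (⊤ : Subgroup G) = 1 := by rw [e, Subgroup.card_bot]
    rw [Subgroup.card_top] at h1
    rw [h1] at ha0G
    exact ha0.one_lt.ne' (Nat.dvd_one.1 ha0G)
  obtain ⟨p, V, hp, hVn, _, hVne, hVp, _⟩ :=
    Cfsg.Agent.Lib.Helper21.gk_exists_normal_pgroup (⊤ : Subgroup G) htop
  by_cases hpA : p ∈ A
  · exact Cfsg.Agent.Lib.Helper21.gk_main hsol (fun n => n ∈ A) hmix
      ⟨V, hVn, hVne, Cfsg.Agent.Lib.Helper21.gk_pgroup (fun n => n ∈ A) hp V hVp hpA⟩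
      ⟨b0, hb0, hb0A, hb0G⟩
  · exact Cfsg.Agent.Lib.Helper21.gk_main hsol (fun n => ¬ n ∈ A)
      (fun a b ha hb haA hbA g hg => hmix b a hb ha (not_not.1 hbA) haA g (by rw [hg, mul_comm]))
      ⟨V, hVn, hVne, Cfsg.Agent.Lib.Helper21.gk_pgroup (fun n => ¬ n ∈ A) hp V hVp hpA⟩
      ⟨a0, ha0, not_not.2 ha0A, ha0G⟩

end Cfsg.Agent.S3857
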