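import Cfsg.Statements.S3864
import Cfsg.Agent.S1255
import Cfsg.Agent.S1254
import Cfsg.Agent.Lib.Helper9.WR
import Cfsg.Agent.Lib.Helper9.QD
import Cfsg.Agent.Lib.Helper9.WRF11
import Cfsg.Agent.Lib.Helper9.Fus2

set_option autoImplicit false
open Cfsg

namespace Cfsg.Agent.S3864

open DihedralGroup Cfsg.Agent.Lib.Helper9 Cfsg.Agent.Lib.Helper14

theorem par {m : ℕ} (i : ZMod (2 ^ m)) : ∃ k : ZMod (2 ^ m), i = 2 * k ∨ i = 2 * k + 1 := by
  haveI : NeZero (2 ^ m) := ⟨by positivity⟩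
  refine ⟨((i.val / 2 : ℕ) : ZMod (2 ^ m)), ?_⟩
  rcases Nat.mod_two_eq_zero_or_one i.val with h | h
  · left
    have h1 : i.val = 2 * (i.val / 2) := by omega
    calc i = ((i.val : ℕ) : ZMod (2 ^ m)) := (ZMod.natCast_zmod_val i).symm
      _ = ((2 * (i.val / 2) : ℕ) : ZMod (2 ^ m)) := by rw [← h1]
      _ = _ := by push_cast; ring
  · right
    have h1 : i.val = 2 * (i.val / 2) + 1 := by omega
    calc i = ((i.val : ℕ) : ZMod (2 ^ m)) := (ZMod.natCast_zmod_val i).symm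
      _ = ((2 * (i.val / 2) + 1 : ℕ) : ZMod (2 ^ m)) := by rw [← h1]
      _ = _ := by push_cast; ring

theorem two_mul_ne_one {m : ℕ} (hm : 1 ≤ m) (k : ZMod (2 ^ m)) : 2 * k ≠ 1 := by
  intro h
  have hd : 2 ∣ 2 ^ m := dvd_pow_self 2 (by omega)
  have h1 := congrArg (ZMod.castHom hd (ZMod 2)) h
  rw [map_mul, map_one, map_ofNat] at h1
  revert h1
  generalize (ZMod.castHom hd (ZMod 2)) k = x
  revert x
  decide

section
variable {m : ℕ} {G : Type*} [Group G] [Finite G] (P : Sylow 2 G) (ι : DihedralGroup (2 ^ m) →* G)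

theorem mk_sr (i k : ZMod (2 ^ m)) :
    ConjClasses.mk (ι (sr (i + 2 * k))) = ConjClasses.mk (ι (sr i)) := by
  rw [ConjClasses.mk_eq_mk_iff_isConj, isConj_iff]
  refine ⟨ι (r k), ?_⟩
  rw [← map_inv, ← map_mul, ← map_mul, inv_r, r_mul_sr, sr_mul_r]
  congr 2
  ring

theorem mk_sr_cases (i : ZMod (2 ^ m)) :
    ConjClasses.mk (ι (sr i)) = ConjClasses.mk (ι (sr 0)) ∨
      ConjClasses.mk (ι (sr i)) = ConjClasses.mk (ι (sr 1)) := by
  obtain ⟨k, rfl | rfl⟩ := par i
  · left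
    have := mk_sr ι 0 k
    rwa [zero_add] at this
  · right
    have := mk_sr ι 1 k
    rwa [add_comm] at this

theorem invol_P (hm : 1 ≤ m) (hι : Function.Injective ι) (hs : ∀ t ∈ P, ∃ d, ι d = t) (t : G)
    (ht : t ∈ P) (ho : orderOf t = 2) :
    t = ι (r ((2 ^ (m - 1) : ℕ) : ZMod (2 ^ m))) ∨ ∃ i, t = ι (sr i) := by
  obtain ⟨d, rfl⟩ := hs t ht
  rw [orderOf_injective ι hι] at ho
  cases d with
  | r i => left; rw [Cfsg.Agent.S0107.r_invol_unique m hm i ho]
  | sr i => exact Or.inr ⟨i, rfl⟩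

theorem invol_class (hm : 1 ≤ m) (hι : Function.Injective ι) (hs : ∀ t ∈ P, ∃ d, ι d = t) (t : G)
    (ho : orderOf t = 2) :
    ConjClasses.mk t = ConjClasses.mk (ι (r ((2 ^ (m - 1) : ℕ) : ZMod (2 ^ m)))) ∨
      ConjClasses.mk t = ConjClasses.mk (ι (sr 0)) ∨
      ConjClasses.mk t = ConjClasses.mk (ι (sr 1)) := by
  haveI : Fact (Nat.Prime 2) := ⟨Nat.prime_two⟩
  obtain ⟨g, hg⟩ := Cfsg.Agent.Lib.Helper9.exists_conj_mem_sylow P t (k := 1) (by rw [ho, pow_one])
  have h1 : ConjClasses.mk t = ConjClasses.mk (g * t * g⁻¹) := by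
    rw [ConjClasses.mk_eq_mk_iff_isConj, isConj_iff]
    exact ⟨g, rfl⟩
  have h2 : orderOf (g * t * g⁻¹) = 2 := by rw [Cfsg.Agent.S1255.orderOf_conj', ho]
  rw [h1]
  rcases invol_P P ι hm hι hs _ hg h2 with h | ⟨i, h⟩
  · left; rw [h]
  · right; rw [h]; exact mk_sr_cases ι i

/-- with a normal complement, fusion in `P` is controlled by `P` -/
theorem nc_conj (K : Subgroup G) [K.Normal] (hc : K.IsComplement' (P : Subgroup G)) (x y g : G)
    (hx : x ∈ P) (hy : y ∈ P) (h : g * x * g⁻¹ = y) : ∃ s ∈ P, s * x * s⁻¹ = y := by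
  obtain ⟨⟨⟨k, hk⟩, ⟨s, hs⟩⟩, hks, -⟩ := hc.existsUnique g
  change k * s = g at hks
  refine ⟨s, hs, ?_⟩
  have hx' : s * x * s⁻¹ ∈ (P : Subgroup G) := P.mul_mem (P.mul_mem hs hx) (P.inv_mem hs)
  have h1 : y * (s * x * s⁻¹)⁻¹ ∈ K := by
    have : y * (s * x * s⁻¹)⁻¹ = k * ((s * x * s⁻¹) * k⁻¹ * (s * x * s⁻¹)⁻¹) := by
      rw [← h, ← hks]; group
    rw [this]
    exact K.mul_mem hk (‹K.Normal›.conj_mem _ (K.inv_mem hk) _)
  have h2 : y * (s * x * s⁻¹)⁻¹ ∈ (P : Subgroup G) := P.mul_mem hy (P.inv_mem hx')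
  have h3 := Subgroup.disjoint_def.mp hc.disjoint h1 h2
  exact (mul_inv_eq_one.mp h3).symm

theorem nc_facts (hm : 2 ≤ m) (hι : Function.Injective ι) (hs : ∀ t ∈ P, ∃ d, ι d = t)
    (hmem : ∀ d, ι d ∈ P) (K : Subgroup G) [K.Normal] (hc : K.IsComplement' (P : Subgroup G)) :
    ConjClasses.mk (ι (sr 0)) ≠ ConjClasses.mk (ι (sr 1)) := by
  intro h
  rw [ConjClasses.mk_eq_mk_iff_isConj, isConj_iff] at h
  obtain ⟨g, hg⟩ := h
  obtain ⟨s, hsP, h1⟩ := nc_conj P K hc _ _ g (hmem _) (hmem _) hg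
  obtain ⟨d, rfl⟩ := hs s hsP
  rw [← map_inv, ← map_mul, ← map_mul] at h1
  have h2 := hι h1
  cases d with
  | r j =>
    rw [inv_r, r_mul_sr, sr_mul_r, sr.injEq] at h2
    exact two_mul_ne_one (by omega) (-j) (by linear_combination h2)
  | sr j =>
    rw [inv_sr, sr_mul_sr, r_mul_sr, sr.injEq] at h2
    exact two_mul_ne_one (by omega) j (by linear_combination h2)

/-- no fusion of the central involution gives a normal complement -/
theorem complement_of_not (hm : 2 ≤ m) (e : (P : Subgroup G) ≃* DihedralGroup (2 ^ m))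
    (hι : Function.Injective ι) (hs : ∀ t ∈ P, ∃ d, ι d = t)
    (hA : ConjClasses.mk (ι (sr 0)) ≠ ConjClasses.mk (ι (r ((2 ^ (m - 1) : ℕ) : ZMod (2 ^ m)))))
    (hB : ConjClasses.mk (ι (sr 1)) ≠ ConjClasses.mk (ι (r ((2 ^ (m - 1) : ℕ) : ZMod (2 ^ m))))) :
    ∃ N : Subgroup G, N.Normal ∧ N.IsComplement' (P : Subgroup G) := by
  haveI : Fact (Nat.Prime 2) := ⟨Nat.prime_two⟩
  haveI : NeZero (2 ^ m) := ⟨by positivity⟩
  have hD2 : IsPGroup 2 (DihedralGroup (2 ^ m)) := P.2.of_equiv e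
  have hsc : SelfCent (P : Subgroup G) :=
    SelfCent.of_injective e.toMonoidHom e.injective (selfCent_dihedral (2 ^ m) hD2)
  by_contra hno
  obtain ⟨Q, hQS, hQ, g, hgN, hgo, hgC⟩ := SelfCent.exists_odd_action P hsc hno
  rcases hQ with hQ | ⟨⟨eQ⟩⟩
  · have htr := Cfsg.Agent.S1255.klein_transitive Q hQ g hgN hgo hgC
    set z := ι (r ((2 ^ (m - 1) : ℕ) : ZMod (2 ^ m))) with hz
    have key : ∀ i, ¬ ∃ c : G, c * ι (sr i) * c⁻¹ = z := by
      rintro i ⟨c, hc⟩
      have h1 : ConjClasses.mk (ι (sr i)) = ConjClasses.mk z := by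
        rw [ConjClasses.mk_eq_mk_iff_isConj, isConj_iff]
        exact ⟨c, hc⟩
      rcases mk_sr_cases ι i with h | h
      · exact hA (h.symm.trans h1)
      · exact hB (h.symm.trans h1)
    have hsq : ∀ u ∈ Q, u * u = 1 := by
      intro u hu
      have h1 : (⟨u, hu⟩ : Q) * ⟨u, hu⟩ = 1 := IsKleinFour.mul_self _
      exact congrArg Subtype.val h1
    have hord : ∀ u ∈ Q, u ≠ 1 → orderOf u = 2 := by
      intro u hu hu1
      exact orderOf_eq_prime (by rw [pow_two]; exact hsq u hu) hu1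
    have hz1 : z ≠ 1 := by
      intro h
      have h1 : (r ((2 ^ (m - 1) : ℕ) : ZMod (2 ^ m)) : DihedralGroup (2 ^ m)) = 1 :=
        hι (by rw [map_one]; exact h)
      rw [one_def, r.injEq, ZMod.natCast_eq_zero_iff] at h1
      have h2 := Nat.le_of_dvd (by positivity) h1
      have h3 : 2 ^ (m - 1) < 2 ^ m := Nat.pow_lt_pow_right (by norm_num) (by omega)
      omega
    have hsr1 : ∀ i, ι (sr i) ≠ 1 := by
      intro i h
      have h1 : (sr i : DihedralGroup (2 ^ m)) = 1 := hι (by rw [map_one]; exact h)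
      rw [one_def] at h1
      cases h1
    -- two distinct nontrivial elements
    obtain ⟨x, hx1⟩ : ∃ x : Q, x ≠ 1 := by
      haveI : Nontrivial Q := by
        rw [← Finite.one_lt_card_iff_nontrivial, hQ.card_four]; norm_num
      exact exists_ne 1
    have hx1' : (x : G) ≠ 1 := fun h => hx1 (Subtype.ext h)
    obtain ⟨y, hy⟩ : ∃ y : Q, y ∉ Subgroup.zpowers x := by
      by_contra hcon
      push Not at hcon
      have h1 : Subgroup.zpowers x = ⊤ := (Subgroup.eq_top_iff' _).2 hcon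
      have h2 : Nat.card (Subgroup.zpowers x) = 4 := by
        rw [h1, Subgroup.card_top, hQ.card_four]
      rw [Nat.card_zpowers, ← Subgroup.orderOf_coe, hord x x.2 hx1'] at h2
      omega
    have hy1 : (y : G) ≠ 1 := by
      intro h
      apply hy
      have : y = 1 := Subtype.ext h
      rw [this]; exact Subgroup.one_mem _
    have hxy : (x : G) ≠ y := by
      intro h
      apply hy
      have : y = x := Subtype.ext h.symm
      rw [this]; exact Subgroup.mem_zpowers x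
    rcases invol_P P ι (by omega) hι hs x (hQS x.2) (hord x x.2 hx1') with hxz | ⟨i, hxi⟩
    · rcases invol_P P ι (by omega) hι hs y (hQS y.2) (hord y y.2 hy1) with hyz | ⟨j, hyj⟩
      · exact hxy (hxz.trans hyz.symm)
      · apply key j
        rw [← hyj, hz, ← hxz]
        exact htr y x y.2 x.2 hy1 hx1'
    · rcases invol_P P ι (by omega) hι hs y (hQS y.2) (hord y y.2 hy1) with hyz | ⟨j, hyj⟩
      · apply key i
        rw [← hxi, hz, ← hyz]
        exact htr x y x.2 y.2 hx1' hy1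
      · have hxyQ : (x : G) * y ∈ Q := Q.mul_mem x.2 y.2
        have hxy1 : (x : G) * y ≠ 1 := by
          intro h
          apply hxy
          calc (x : G) = x * (y * y) := by rw [hsq y y.2, mul_one]
            _ = (x * y) * y := by group
            _ = y := by rw [h, one_mul]
        rcases invol_P P ι (by omega) hι hs _ (hQS hxyQ) (hord _ hxyQ hxy1) with h | ⟨l, h⟩
        · apply key i
          rw [← hxi, hz, ← h]
          exact htr x _ x.2 hxyQ hx1' hxy1
        · rw [hxi, hyj, ← map_mul, sr_mul_sr] at h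
          have := hι h
          cases this
  · exact no_q8_in_dihedral (2 ^ m)
      (e.toMonoidHom.comp ((Subgroup.inclusion hQS).comp eQ.symm.toMonoidHom))
      (e.injective.comp ((Subgroup.inclusion_injective hQS).comp eQ.symm.injective))

/-- if `sr e` is fused to the central involution there is no normal subgroup of index four -/
theorem no_index_four (hm : 2 ≤ m) (hs : ∀ t ∈ P, ∃ d, ι d = t) (e : ZMod (2 ^ m))
    (hA : ConjClasses.mk (ι (sr e)) = ConjClasses.mk (ι (r ((2 ^ (m - 1) : ℕ) : ZMod (2 ^ m)))))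
    (N : Subgroup G) (hN : N.Normal) : N.index ≠ 4 := by
  haveI : Fact (Nat.Prime 2) := ⟨Nat.prime_two⟩
  haveI : NeZero (2 ^ m) := ⟨by positivity⟩
  intro h4
  have hcard : Nat.card (G ⧸ N) = 2 ^ 2 := by rw [← Subgroup.index_eq_card, h4]; norm_num
  have hcomm : ∀ u v : G, u * v * u⁻¹ * v⁻¹ ∈ N := by
    intro u v
    rw [← QuotientGroup.eq_one_iff]
    have h1 : ((u * v * u⁻¹ * v⁻¹ : G) : G ⧸ N) = (u : G ⧸ N) * v * (u : G ⧸ N)⁻¹ * (v : G ⧸ N)⁻¹ := rfl
    rw [h1]
    have h2 := (IsPGroup.isMulCommutative_of_card_eq_prime_sq hcard).is_comm.comm (u : G ⧸ N) (v : G ⧸ N)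
    rw [h2]; group
  have hr2 : ι (r 2) ∈ N := by
    have h1 := hcomm (ι (r 1)) (ι (sr 0))
    rw [← map_inv, ← map_inv, ← map_mul, ← map_mul, ← map_mul, inv_r, inv_sr, r_mul_sr, sr_mul_r,
      sr_mul_sr] at h1
    convert h1 using 3
    ring
  have hr2k : ∀ k : ZMod (2 ^ m), ι (r (2 * k)) ∈ N := by
    intro k
    have h1 : (r (2 * k) : DihedralGroup (2 ^ m)) = (r 2) ^ k.val := by
      rw [r_pow, ZMod.natCast_zmod_val]
    rw [h1, map_pow]
    exact N.pow_mem hr2 _
  have hz : ι (r ((2 ^ (m - 1) : ℕ) : ZMod (2 ^ m))) ∈ N := by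
    have h1 : ((2 ^ (m - 1) : ℕ) : ZMod (2 ^ m)) = 2 * ((2 ^ (m - 2) : ℕ) : ZMod (2 ^ m)) := by
      obtain ⟨j, rfl⟩ : ∃ j, m = j + 2 := ⟨m - 2, by omega⟩
      have : j + 2 - 1 = j + 1 := by omega
      rw [this, Nat.add_sub_cancel, pow_succ]
      push_cast; ring
    rw [h1]; exact hr2k _
  have hx : ι (sr e) ∈ N := by
    rw [ConjClasses.mk_eq_mk_iff_isConj, isConj_comm, isConj_iff] at hA
    obtain ⟨c, hc⟩ := hA
    rw [← hc]
    exact hN.conj_mem _ hz c
  have hP : ∀ s ∈ P, s ∈ N ∨ s * (ι (r 1))⁻¹ ∈ N := by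
    intro s hsP
    obtain ⟨d, rfl⟩ := hs s hsP
    cases d with
    | r i =>
      obtain ⟨k, rfl | rfl⟩ := par i
      · exact Or.inl (hr2k k)
      · right
        rw [← map_inv, ← map_mul, inv_r, r_mul_r]
        have : 2 * k + 1 + -1 = 2 * k := by ring
        rw [this]; exact hr2k k
    | sr i =>
      obtain ⟨k, hk⟩ := par (i - e)
      rcases hk with hk | hk
      · left
        have h1 : (sr i : DihedralGroup (2 ^ m)) = sr e * r (2 * k) := by
          rw [sr_mul_r, ← hk]; congr 1; ring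
        rw [h1, map_mul]
        exact N.mul_mem hx (hr2k k)
      · right
        have h1 : (sr i : DihedralGroup (2 ^ m)) * (r 1)⁻¹ = sr e * r (2 * k) := by
          rw [inv_r, sr_mul_r, sr_mul_r]; congr 1; linear_combination hk
        rw [← map_inv, ← map_mul, h1, map_mul]
        exact N.mul_mem hx (hr2k k)
  have hall : ∀ q : G ⧸ N, q = 1 ∨ q = ((ι (r 1) : G) : G ⧸ N) := by
    intro q
    obtain ⟨g, rfl⟩ := QuotientGroup.mk_surjective q
    obtain ⟨k, hk, s, hsP, rfl⟩ := exists_mul_of_index_pow P N (e := 2) (by rw [h4]; norm_num) g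
    rcases hP s hsP with h | h
    · left
      rw [QuotientGroup.eq_one_iff]
      exact N.mul_mem hk h
    · right
      have hk1 : ((k : G) : G ⧸ N) = 1 := (QuotientGroup.eq_one_iff k).2 hk
      have hs1 : ((s * (ι (r 1))⁻¹ : G) : G ⧸ N) = 1 := (QuotientGroup.eq_one_iff _).2 h
      have h1 : ((k * s : G) : G ⧸ N) =
          (k : G ⧸ N) * ((s * (ι (r 1))⁻¹ : G) : G ⧸ N) * ((ι (r 1) : G) : G ⧸ N) := by
        rw [← QuotientGroup.mk_mul, ← QuotientGroup.mk_mul]; congr 1; group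
      rw [h1, hk1, hs1, one_mul, one_mul]
  have h5 : Nat.card (G ⧸ N) ≤ 2 := by
    have h6 : (Set.univ : Set (G ⧸ N)) ⊆ {1, ((ι (r 1) : G) : G ⧸ N)} := by
      intro q _
      rcases hall q with h | h
      · left; exact h
      · right; exact h
    calc Nat.card (G ⧸ N) = (Set.univ : Set (G ⧸ N)).ncard := (Set.ncard_univ _).symm
      _ ≤ ({1, ((ι (r 1) : G) : G ⧸ N)} : Set (G ⧸ N)).ncard :=
          Set.ncard_le_ncard h6 (Set.toFinite _)
      _ ≤ 2 := (Set.ncard_insert_le _ _).trans (by rw [Set.ncard_singleton])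
  rw [hcard] at h5
  omega

theorem middle (hm : 2 ≤ m) (eP : (P : Subgroup G) ≃* DihedralGroup (2 ^ m))
    (hι : Function.Injective ι) (hs : ∀ t ∈ P, ∃ d, ι d = t) (e e' : ZMod (2 ^ m))
    (hee : (e = 0 ∧ e' = 1) ∨ (e = 1 ∧ e' = 0))
    (hA : ConjClasses.mk (ι (sr e)) = ConjClasses.mk (ι (r ((2 ^ (m - 1) : ℕ) : ZMod (2 ^ m)))))
    (hB : ConjClasses.mk (ι (sr e')) ≠ ConjClasses.mk (ι (r ((2 ^ (m - 1) : ℕ) : ZMod (2 ^ m))))) :
    Nat.card {C : ConjClasses G // ∃ g : G, ConjClasses.mk g = C ∧ orderOf g = 2} = 2 ∧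
      (∃ N : Subgroup G, N.Normal ∧ N.index = 2) ∧ ∀ N : Subgroup G, N.Normal → N.index ≠ 4 := by
  have hoz : orderOf (ι (sr e)) = 2 := by rw [orderOf_injective ι hι, orderOf_sr]
  have hoz' : orderOf (ι (sr e')) = 2 := by rw [orderOf_injective ι hι, orderOf_sr]
  refine ⟨?_, ?_, no_index_four P ι hm hs e hA⟩
  · refine card_subtype_eq_two _ (ConjClasses.mk (ι (sr e))) (ConjClasses.mk (ι (sr e')))
      (fun h => hB (h.symm.trans hA)) ⟨_, rfl, hoz⟩ ⟨_, rfl, hoz'⟩ ?_
    rintro C ⟨t, rfl, ht⟩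
    rcases invol_class P ι (by omega) hι hs t ht with h | h | h
    · left; rw [h, hA]
    · rcases hee with ⟨rfl, rfl⟩ | ⟨rfl, rfl⟩
      · exact Or.inl h
      · exact Or.inr h
    · rcases hee with ⟨rfl, rfl⟩ | ⟨rfl, rfl⟩
      · exact Or.inr h
      · exact Or.inl h
  · by_contra hno
    have hno' : ∀ H : Subgroup G, H.index ≠ 2 := fun H hH =>
      hno ⟨H, Subgroup.normal_of_index_eq_two hH, hH⟩
    have hall := Cfsg.Agent.S1255.caseC P (2 ^ m)
      (by calc 2 = 2 ^ 1 := by norm_num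
            _ ≤ 2 ^ m := Nat.pow_le_pow_right (by norm_num) (by omega)) eP hno'
    apply hB
    rw [← hA, ConjClasses.mk_eq_mk_iff_isConj]
    exact hall _ _ hoz' hoz

end

/-- Let G be a finite group whose Sylow 2-subgroups are dihedral of order 2 ^ n with n ≥ 3, and count the conjugacy classes of involutions of G. Then exactly one of the following holds: there is one class of involutions and no normal subgroup of index 2; there are two classes of involutions, a normal subgroup of index 2 and none of index 4; there are three classes of involutions and G has a normal 2-complement. -/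
theorem result {G : Type*} [Group G] [Finite G] (P : Sylow 2 G) (n : ℕ) (hn : 3 ≤ n) (hdih : Nonempty (↥(P : Subgroup G) ≃* DihedralGroup (2 ^ (n - 1)))) : (Nat.card {C : ConjClasses G // ∃ g : G, ConjClasses.mk g = C ∧ orderOf g = 2} = 1 ∧ ∀ N : Subgroup G, N.Normal → N.index ≠ 2) ∨ (Nat.card {C : ConjClasses G // ∃ g : G, ConjClasses.mk g = C ∧ orderOf g = 2} = 2 ∧ (∃ N : Subgroup G, N.Normal ∧ N.index = 2) ∧ ∀ N : Subgroup G, N.Normal → N.index ≠ 4) ∨ (Nat.card {C : ConjClasses G // ∃ g : G, ConjClasses.mk g = C ∧ orderOf g = 2} = 3 ∧ Cfsg.HasNormalPComplement 2 G) := by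
  haveI : Fact (Nat.Prime 2) := ⟨Nat.prime_two⟩
  obtain ⟨m, rfl⟩ : ∃ m, n = m + 1 := ⟨n - 1, by omega⟩
  rw [Nat.add_sub_cancel] at hdih
  have hm : 2 ≤ m := by omega
  obtain ⟨e⟩ := hdih
  let ι : DihedralGroup (2 ^ m) →* G := (P : Subgroup G).subtype.comp e.symm.toMonoidHom
  have hι : Function.Injective ι := by
    intro a b hab
    exact e.symm.injective (Subtype.ext hab)
  have hs : ∀ t ∈ P, ∃ d, ι d = t := by
    intro t ht
    exact ⟨e ⟨t, ht⟩, by simp [ι]⟩
  have hmem : ∀ d, ι d ∈ P := fun d => (e.symm d).2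
  have h2m : 2 ≤ 2 ^ m := by
    calc 2 = 2 ^ 1 := by norm_num
      _ ≤ 2 ^ m := Nat.pow_le_pow_right (by norm_num) (by omega)
  have ho : ∀ i, orderOf (ι (DihedralGroup.sr i)) = 2 := fun i => by
    rw [orderOf_injective ι hι, DihedralGroup.orderOf_sr]
  by_cases hA : ConjClasses.mk (ι (DihedralGroup.sr 0)) =
      ConjClasses.mk (ι (DihedralGroup.r ((2 ^ (m - 1) : ℕ) : ZMod (2 ^ m))))
  · by_cases hB : ConjClasses.mk (ι (DihedralGroup.sr 1)) =
      ConjClasses.mk (ι (DihedralGroup.r ((2 ^ (m - 1) : ℕ) : ZMod (2 ^ m))))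
    · left
      have hcl : ∀ t : G, orderOf t = 2 → ConjClasses.mk t = ConjClasses.mk (ι (DihedralGroup.sr 0)) := by
        intro t ht
        rcases invol_class P ι (by omega) hι hs t ht with h | h | h
        · rw [h, hA]
        · exact h
        · rw [h, hB, hA]
      constructor
      · refine Cfsg.Agent.Lib.Helper9.card_subtype_eq_one _ (ConjClasses.mk (ι (DihedralGroup.sr 0)))
          ⟨_, rfl, ho 0⟩ ?_
        rintro C ⟨t, rfl, ht⟩
        exact hcl t ht
      · intro N _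
        refine (Cfsg.Agent.S1255.caseA P (2 ^ m) h2m e ?_).1 N
        intro a b ha hb
        rw [← ConjClasses.mk_eq_mk_iff_isConj, hcl a ha, hcl b hb]
    · right; left
      exact middle P ι hm e hι hs 0 1 (Or.inl ⟨rfl, rfl⟩) hA hB
  · by_cases hB : ConjClasses.mk (ι (DihedralGroup.sr 1)) =
      ConjClasses.mk (ι (DihedralGroup.r ((2 ^ (m - 1) : ℕ) : ZMod (2 ^ m))))
    · right; left
      exact middle P ι hm e hι hs 1 0 (Or.inr ⟨rfl, rfl⟩) hB hA
    · right; right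
      obtain ⟨K, hK, hc⟩ := complement_of_not P ι hm e hι hs hA hB
      refine ⟨?_, (Cfsg.Agent.Lib.Lead.hasNormalPComplement_iff P).2 ⟨K, hK, hc⟩⟩
      have hoz : orderOf (ι (DihedralGroup.r ((2 ^ (m - 1) : ℕ) : ZMod (2 ^ m)))) = 2 := by
        haveI : NeZero (2 ^ m) := ⟨by positivity⟩
        rw [orderOf_injective ι hι]
        apply orderOf_eq_prime
        · rw [DihedralGroup.r_pow, DihedralGroup.one_def, DihedralGroup.r.injEq]
          have : ((2 ^ (m - 1) : ℕ) : ZMod (2 ^ m)) * ((2 : ℕ) : ZMod (2 ^ m)) = ((2 ^ m : ℕ) : ZMod (2 ^ m)) := by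
            obtain ⟨j, rfl⟩ : ∃ j, m = j + 1 := ⟨m - 1, by omega⟩
            rw [Nat.add_sub_cancel, pow_succ 2 j]
            push_cast; ring
          rw [this, ZMod.natCast_self]
        · rw [DihedralGroup.one_def, Ne, DihedralGroup.r.injEq, ZMod.natCast_eq_zero_iff]
          intro h1
          have h2 := Nat.le_of_dvd (by positivity) h1
          have h3 : 2 ^ (m - 1) < 2 ^ m := Nat.pow_lt_pow_right (by norm_num) (by omega)
          omega
      refine Cfsg.Agent.Lib.Helper9.card_subtype_eq_three _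
        (ConjClasses.mk (ι (DihedralGroup.r ((2 ^ (m - 1) : ℕ) : ZMod (2 ^ m)))))
        (ConjClasses.mk (ι (DihedralGroup.sr 0))) (ConjClasses.mk (ι (DihedralGroup.sr 1)))
        (Ne.symm hA) (Ne.symm hB) (nc_facts P ι hm hι hs hmem K hc) ⟨_, rfl, hoz⟩ ⟨_, rfl, ho 0⟩
        ⟨_, rfl, ho 1⟩ ?_
      rintro C ⟨t, rfl, ht⟩
      exact invol_class P ι (by omega) hι hs t ht

end Cfsg.Agent.S3864
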