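import Cfsg.Statements.S3869
import Mathlib
import Cfsg.Agent.Lib.Helper21.IrredCp

set_option autoImplicit false
open Cfsg
open Cfsg.Agent.Lib.Helper21

namespace Cfsg.Agent.S3869

section aux

variable {G : Type*} [Group G] [Finite G] {p : ℕ} [Fact p.Prime]

lemma exists_rep (A : Subgroup G) [A.Normal] (hidx : A.index = p) (x : G) (hx : x ∉ A) (g : G) :
    ∃ (i : ℤ) (a : G), a ∈ A ∧ g = x ^ i * a := by
  have hcard : Nat.card (G ⧸ A) = p := hidx
  have hx1 : (x : G ⧸ A) ≠ 1 := by
    intro h
    exact hx ((QuotientGroup.eq_one_iff x).mp h)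
  have htop := zpowers_eq_top_of_prime_card hcard hx1
  have hg : (g : G ⧸ A) ∈ Subgroup.zpowers (x : G ⧸ A) := by
    rw [htop]
    trivial
  obtain ⟨i, hi⟩ := Subgroup.mem_zpowers_iff.mp hg
  refine ⟨i, (x ^ i)⁻¹ * g, ?_, by group⟩
  rw [← QuotientGroup.eq, QuotientGroup.mk_zpow]
  exact hi

lemma not_central (hna : ¬ IsMulCommutative G) (A : Subgroup G) [A.Normal]
    (hAc : ∀ a ∈ A, ∀ b ∈ A, a * b = b * a) (hidx : A.index = p) (x : G) (hx : x ∉ A) :
    ∃ a ∈ A, x * a * x⁻¹ ≠ a := by
  by_contra hcon
  push Not at hcon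
  apply hna
  have hxa : ∀ a ∈ A, Commute x a := fun a ha => by
    have h := hcon a ha
    show x * a = a * x
    calc x * a = x * a * x⁻¹ * x := by group
      _ = a * x := by rw [h]
  refine ⟨⟨fun g h => ?_⟩⟩
  obtain ⟨i, a, ha, rfl⟩ := exists_rep A hidx x hx g
  obtain ⟨j, b, hb, rfl⟩ := exists_rep A hidx x hx h
  have h1 : Commute (x ^ i) (x ^ j) := (Commute.refl x).zpow_zpow i j
  have h2 : Commute (x ^ i) b := (hxa b hb).zpow_left i
  have h3 : Commute a (x ^ j) := ((hxa a ha).zpow_left j).symm
  have h4 : Commute a b := hAc a ha b hb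
  exact ((h1.mul_right h2).mul_left (h3.mul_right h4))

lemma normal_of_invariant (A : Subgroup G) [A.Normal]
    (hAc : ∀ a ∈ A, ∀ b ∈ A, a * b = b * a) (hidx : A.index = p) (x : G) (hx : x ∉ A)
    (B : Subgroup G) (hBA : B ≤ A) (hinv : ∀ b ∈ B, x * b * x⁻¹ ∈ B) : B.Normal := by
  have hxn : x ∈ Subgroup.normalizer (B : Set G) := by
    have hmap : B.map (MulAut.conj x).toMonoidHom = B := by
      apply Subgroup.eq_of_le_of_card_ge
      · rintro _ ⟨b, hb, rfl⟩
        exact hinv b hb
      · rw [Subgroup.card_map_of_injective (MulAut.conj x).injective]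
    rw [Subgroup.mem_normalizer_iff]
    intro h
    refine ⟨hinv h, fun hh => ?_⟩
    rw [← hmap] at hh
    obtain ⟨b, hb, hbe⟩ := hh
    have hbe' : x * b * x⁻¹ = x * h * x⁻¹ := hbe
    have hbh : b = h := by
      have h1 := mul_right_cancel hbe'
      exact mul_left_cancel h1
    rwa [← hbh]
  have hAn : A ≤ Subgroup.normalizer (B : Set G) := by
    intro a ha
    rw [Subgroup.mem_normalizer_iff]
    intro h
    constructor
    · intro hh
      have h1 : a * h * a⁻¹ = h := by
        rw [hAc a ha h (hBA hh)]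
        group
      rwa [h1]
    · intro hh
      have hhA : h ∈ A := by
        have h1 := hBA hh
        have h2 : h = a⁻¹ * (a * h * a⁻¹) * a := by group
        rw [h2]
        exact mul_mem (mul_mem (inv_mem ha) h1) ha
      have h1 : a * h * a⁻¹ = h := by
        rw [hAc a ha h hhA]
        group
      rwa [h1] at hh
  rw [← Subgroup.normalizer_eq_top_iff, eq_top_iff]
  intro g _
  obtain ⟨i, a, ha, rfl⟩ := exists_rep A hidx x hx g
  exact mul_mem (zpow_mem hxn i) (hAn ha)

lemma pclosed_of_pgroup {H : Type*} [Group H] (hH : IsPGroup p H) : Cfsg.IsPClosed p H := by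
  intro P
  have h1 : (⊤ : Subgroup H) = P := P.3 (hH.to_subgroup ⊤) le_top
  rw [← h1]
  infer_instance

lemma pclosed_of_qgroup {H : Type*} [Group H] {q : ℕ} [Fact q.Prime] (hpq : q ≠ p)
    (hH : IsPGroup q H) : Cfsg.IsPClosed p H := by
  intro P
  have h1 : Disjoint (P : Subgroup H) (P : Subgroup H) :=
    IsPGroup.disjoint_of_ne p q hpq.symm _ _ P.2 (hH.to_subgroup _)
  rw [disjoint_self] at h1
  rw [h1]
  infer_instance

end aux

/-- Let p and q be distinct primes and G a finite non-abelian group with a normal elementary abelian q-subgroup A that is a minimal normal subgroup of G and has index p. Then A has order q^e with e the multiplicative order of q modulo p, and G is minimal non-p-closed: its Sylow p-subgroups are not normal, while in every proper subgroup and in every proper quotient of G the Sylow p-subgroups are normal. -/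
theorem result {G : Type*} [Group G] [Finite G] {p q : ℕ} [Fact p.Prime] (hq : q.Prime) (hpq : q ≠ p)
    (hna : ¬ IsMulCommutative G) (A : Subgroup G) [A.Normal] (hA : Cfsg.IsElementaryAbelian q A) (hidx : A.index = p)
    (hmin : ∀ B : Subgroup G, B.Normal → B ≤ A → B = ⊥ ∨ B = A) :
    Nat.card ↥A = q ^ orderOf (q : ZMod p) ∧ ¬ Cfsg.IsPClosed p G ∧ (∀ H : Subgroup G, H ≠ ⊤ → Cfsg.IsPClosed p ↥H) ∧
      ∀ (N : Subgroup G) [N.Normal], N ≠ ⊥ → Cfsg.IsPClosed p (G ⧸ N) := by
  obtain ⟨hAcomm, hAexp⟩ := hA
  haveI : Fact q.Prime := ⟨hq⟩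
  have hAc : ∀ a ∈ A, ∀ b ∈ A, a * b = b * a := by
    intro a ha b hb
    have h := hAcomm.is_comm.comm (⟨a, ha⟩ : A) ⟨b, hb⟩
    exact congrArg Subtype.val h
  have hp : p.Prime := Fact.out
  have hAq : IsPGroup q A := fun a => ⟨1, by
    rw [pow_one]
    exact Subtype.ext (by simpa using hAexp a a.2)⟩
  obtain ⟨x, hx⟩ : ∃ x, x ∉ A := by
    by_contra h
    push Not at h
    have h1 : A = ⊤ := eq_top_iff.mpr (fun g _ => h g)
    rw [h1, Subgroup.index_top] at hidx
    exact hp.one_lt.ne hidx
  have hpow : ∀ g : G, g ^ p ∈ A := by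
    intro g
    rw [← hidx]
    exact Subgroup.pow_index_mem A g
  refine ⟨?_, ?_, ?_, ?_⟩
  · obtain ⟨a0, ha0, hne⟩ := not_central hna A hAc hidx x hx
    have hxp : x ^ p ∈ A := hpow x
    apply card_eq_of_irred p q hq hpq (fun a b => Subtype.ext (hAc a a.2 b b.2))
      (fun a => Subtype.ext (by simpa using hAexp a a.2))
      ((MulAut.conjNormal x : MulAut A).toMonoidHom)
    · intro a
      have hit : ∀ n : ℕ, ∀ a : A, (⇑((MulAut.conjNormal x : MulAut A).toMonoidHom))^[n] a =
          MulAut.conjNormal (x ^ n) a := by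
        intro n
        induction n with
        | zero => intro a; simp
        | succ n ih =>
          intro a
          rw [Function.iterate_succ_apply', ih, pow_succ', map_mul]
          rfl
      rw [hit]
      apply Subtype.ext
      rw [MulAut.conjNormal_apply, hAc _ hxp a a.2]
      group
    · refine ⟨⟨a0, ha0⟩, fun h => hne ?_⟩
      exact congrArg Subtype.val h
    · intro B hB
      have hle : B.map A.subtype ≤ A := by
        rintro _ ⟨b, _, rfl⟩
        exact b.2
      have hn : (B.map A.subtype).Normal := normal_of_invariant A hAc hidx x hx _ hle (by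
          rintro _ ⟨b, hb, rfl⟩
          exact ⟨MulAut.conjNormal x b, hB b hb, rfl⟩)
      rcases hmin _ hn hle with h | h
      · left
        exact (Subgroup.map_eq_bot_iff_of_injective _ A.subtype_injective).mp h
      · right
        rw [eq_top_iff]
        intro a _
        have h1 : (a : G) ∈ B.map A.subtype := by
          rw [h]
          exact a.2
        obtain ⟨b, hb, hbe⟩ := h1
        have h2 : b = a := Subtype.ext hbe
        rwa [← h2]
  · intro hcl
    obtain ⟨P⟩ : Nonempty (Sylow p G) := inferInstance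
    have hPn := hcl P
    have hdis : Disjoint (P : Subgroup G) A := IsPGroup.disjoint_of_ne p q hpq.symm _ _ P.2 hAq
    have hpG : p ∣ Nat.card G := by
      rw [← hidx]
      exact Subgroup.index_dvd_card A
    have hPne : (P : Subgroup G) ≠ ⊥ := P.ne_bot_of_dvd_card hpG
    obtain ⟨⟨y, hy⟩, hy1⟩ := (Subgroup.ne_bot_iff_exists_ne_one).mp hPne
    have hy1' : y ≠ 1 := fun h => hy1 (Subtype.ext h)
    have hyA : y ∉ A := by
      intro h
      have h1 : y ∈ (P : Subgroup G) ⊓ A := ⟨hy, h⟩
      rw [hdis.eq_bot, Subgroup.mem_bot] at h1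
      exact hy1' h1
    obtain ⟨a, ha, hne⟩ := not_central hna A hAc hidx y hyA
    apply hne
    have hc := Subgroup.commute_of_normal_of_disjoint _ _ hPn inferInstance hdis y a hy ha
    rw [hc.eq]
    group
  · intro H hH
    by_cases hHA : H ≤ A
    · apply pclosed_of_qgroup hpq
      intro h
      refine ⟨1, ?_⟩
      rw [pow_one]
      exact Subtype.ext (by simpa using hAexp h (hHA h.2))
    · obtain ⟨h, hhH, hhA⟩ := SetLike.not_le_iff_exists.mp hHA
      have hn : (H ⊓ A).Normal := normal_of_invariant A hAc hidx h hhA _ inf_le_right (by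
        intro b hb
        exact Subgroup.mem_inf.mpr ⟨H.mul_mem (H.mul_mem hhH hb.1) (H.inv_mem hhH),
          (inferInstance : A.Normal).conj_mem b hb.2 h⟩)
      rcases hmin _ hn inf_le_right with h1 | h1
      · apply pclosed_of_pgroup
        intro k
        refine ⟨1, ?_⟩
        rw [pow_one]
        apply Subtype.ext
        have h2 : (k : G) ^ p ∈ H ⊓ A := ⟨pow_mem k.2 p, hpow k⟩
        rw [h1, Subgroup.mem_bot] at h2
        simpa using h2
      · exfalso
        apply hH
        rw [eq_top_iff]
        intro g _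
        obtain ⟨i, a, ha, rfl⟩ := exists_rep A hidx h hhA g
        have haH : a ∈ H := (inf_eq_right.mp h1) ha
        exact mul_mem (zpow_mem hhH i) haH
  · intro N hN hN1
    have hn : (N ⊓ A).Normal := inferInstance
    rcases hmin _ hn inf_le_right with h1 | h1
    · exfalso
      have hdis : Disjoint N A := disjoint_iff.mpr h1
      obtain ⟨⟨y, hy⟩, hy1⟩ := (Subgroup.ne_bot_iff_exists_ne_one).mp hN1
      have hy1' : y ≠ 1 := fun h => hy1 (Subtype.ext h)
      have hyA : y ∉ A := by
        intro h
        have h2 : y ∈ N ⊓ A := ⟨hy, h⟩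
        rw [h1, Subgroup.mem_bot] at h2
        exact hy1' h2
      obtain ⟨a, ha, hne⟩ := not_central hna A hAc hidx y hyA
      apply hne
      have hc := Subgroup.commute_of_normal_of_disjoint _ _ hN inferInstance hdis y a hy ha
      rw [hc.eq]
      group
    · apply pclosed_of_pgroup
      have hAN : A ≤ N := inf_eq_right.mp h1
      have hd : N.index ∣ p := by
        rw [← hidx]
        exact Subgroup.index_dvd_of_le hAN
      have hc : Nat.card (G ⧸ N) = N.index := rfl
      rcases (Nat.dvd_prime hp).mp hd with h2 | h2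
      · exact IsPGroup.of_card (n := 0) (by rw [hc, h2, pow_zero])
      · exact IsPGroup.of_card (n := 1) (by rw [hc, h2, pow_one])

end Cfsg.Agent.S3869
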