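import Cfsg.Statements.S3868
import Mathlib
import Cfsg.Agent.S3869
import Cfsg.Agent.Lib.Helper5.PCore

set_option autoImplicit false
open Cfsg
open Subgroup
open scoped Pointwise

namespace Cfsg.Agent.S3868

section aux

variable {G : Type*} [Group G] [Finite G] {p : ℕ} [Fact p.Prime]

lemma sup_normal (hquo : ∀ (N : Subgroup G) [N.Normal], N ≠ ⊥ → Cfsg.IsPClosed p (G ⧸ N))
    (P : Sylow p G) (N : Subgroup G) [N.Normal] (hN : N ≠ ⊥) :
    ((P : Subgroup G) ⊔ N).Normal := by
  have h1 := hquo N hN (P.mapSurjective (QuotientGroup.mk'_surjective N))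
  rw [Sylow.coe_mapSurjective] at h1
  have h2 := h1.comap (QuotientGroup.mk' N)
  rwa [Subgroup.comap_map_eq, QuotientGroup.ker_mk'] at h2

lemma sylow_normal (hsub : ∀ H : Subgroup G, H ≠ ⊤ → Cfsg.IsPClosed p ↥H) (M : Subgroup G)
    [M.Normal] (hM : M ≠ ⊤) (T : Sylow p M) : ((T : Subgroup M).map M.subtype).Normal := by
  have hT : (T : Subgroup M).Normal := hsub M hM T
  have h1 := Sylow.normalizer_sup_eq_top T
  have h2 : M ≤ normalizer (((T : Subgroup M).map M.subtype : Subgroup G) : Set G) := by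
    intro m hm
    rw [mem_normalizer_iff]
    intro h
    constructor
    · rintro ⟨t, ht, rfl⟩
      exact ⟨⟨m, hm⟩ * t * ⟨m, hm⟩⁻¹, hT.conj_mem t ht ⟨m, hm⟩, rfl⟩
    · rintro ⟨t, ht, hte⟩
      refine ⟨⟨m, hm⟩⁻¹ * t * ⟨m, hm⟩, ?_, ?_⟩
      · have h3 := hT.conj_mem t ht ⟨m, hm⟩⁻¹
        rwa [inv_inv] at h3
      · show m⁻¹ * (t : G) * m = h
        have hte' : (t : G) = m * h * m⁻¹ := hte
        rw [hte']
        group
  rw [sup_eq_left.mpr h2] at h1
  exact normalizer_eq_top_iff.mp h1

lemma eq_one_of_mem (N : Subgroup G) (hpN : ¬ p ∣ Nat.card N) (c : G)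
    (hc : ∃ k : ℕ, c ^ p ^ k = 1) (hcN : c ∈ N) : c = 1 := by
  have hp : p.Prime := Fact.out
  obtain ⟨k, hck⟩ := hc
  have hcN' : c ^ Nat.card N = 1 := by
    have h := pow_card_eq_one' (x := (⟨c, hcN⟩ : N))
    simpa only [SubmonoidClass.coe_pow, OneMemClass.coe_one] using congrArg Subtype.val h
  have hcop : Nat.Coprime (p ^ k) (Nat.card N) :=
    Nat.Coprime.pow_left k ((Nat.Prime.coprime_iff_not_dvd hp).mpr hpN)
  have h1 : orderOf c ∣ p ^ k := orderOf_dvd_of_pow_eq_one hck
  have h2 : orderOf c ∣ Nat.card N := orderOf_dvd_of_pow_eq_one hcN'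
  exact orderOf_eq_one_iff.mp (Nat.eq_one_of_dvd_coprimes hcop h1 h2)

lemma commute_of_proper (hsub : ∀ H : Subgroup G, H ≠ ⊤ → Cfsg.IsPClosed p ↥H) (N : Subgroup G)
    [N.Normal] (hpN : ¬ p ∣ Nat.card N) (H : Subgroup G) (hH : H ≠ ⊤) (x n : G) (hx : x ∈ H)
    (hxp : ∃ k : ℕ, x ^ p ^ k = 1) (hn : n ∈ H) (hnN : n ∈ N) : x * n = n * x := by
  have hp : p.Prime := Fact.out
  have hz : IsPGroup p (zpowers (⟨x, hx⟩ : H)) := by
    obtain ⟨k, hk⟩ := hxp
    have ho : orderOf (⟨x, hx⟩ : H) ∣ p ^ k :=
      orderOf_dvd_of_pow_eq_one (Subtype.ext (by simpa using hk))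
    obtain ⟨j, _, hj⟩ := (Nat.dvd_prime_pow hp).mp ho
    exact IsPGroup.of_card (n := j) (by rw [Nat.card_zpowers, hj])
  obtain ⟨S0, hS0⟩ := hz.exists_le_sylow
  have hS0n : (S0 : Subgroup H).Normal := hsub H hH S0
  have hx' : (⟨x, hx⟩ : H) ∈ S0 := hS0 (mem_zpowers _)
  have hc : (⟨x, hx⟩ : H) * ((⟨n, hn⟩ : H) * (⟨x, hx⟩ : H)⁻¹ * (⟨n, hn⟩ : H)⁻¹) ∈ S0 :=
    mul_mem hx' (hS0n.conj_mem _ (inv_mem hx') ⟨n, hn⟩)
  obtain ⟨k, hk⟩ := S0.2 ⟨_, hc⟩
  have hck : (x * (n * x⁻¹ * n⁻¹)) ^ p ^ k = 1 := by
    have h := congrArg (fun z : (S0 : Subgroup H) => ((z : H) : G)) hk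
    simpa using h
  have hcN : x * (n * x⁻¹ * n⁻¹) ∈ N := by
    have h1 : x * (n * x⁻¹ * n⁻¹) = (x * n * x⁻¹) * n⁻¹ := by group
    rw [h1]
    exact mul_mem ((inferInstance : N.Normal).conj_mem n hnN x) (inv_mem hnN)
  have hc1 := eq_one_of_mem N hpN _ ⟨k, hck⟩ hcN
  calc x * n = (x * (n * x⁻¹ * n⁻¹)) * (n * x) := by group
    _ = n * x := by rw [hc1, one_mul]

end aux

/-- Structure of the non-simple minimal non-p-closed groups. Call a finite group p-closed when its Sylow p-subgroups are normal, and minimal non-p-closed when it is not p-closed but every proper subgroup and every proper quotient is. If such a group G is not simple, then there is a prime q ≠ p such that G has order p · q^e, where e is the multiplicative order of q modulo p, and G has a normal subgroup A of order q^e that is elementary abelian and is a minimal normal subgroup of G (so G is the semidirect product of A by a group of order p acting irreducibly). -/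
theorem result {G : Type*} [Group G] [Finite G] {p : ℕ} [Fact p.Prime]
    (hnc : ¬ Cfsg.IsPClosed p G) (hsub : ∀ H : Subgroup G, H ≠ ⊤ → Cfsg.IsPClosed p ↥H)
    (hquo : ∀ (N : Subgroup G) [N.Normal], N ≠ ⊥ → Cfsg.IsPClosed p (G ⧸ N)) (hns : ¬ IsSimpleGroup G) :
    ∃ q : ℕ, q.Prime ∧ q ≠ p ∧ Nat.card G = p * q ^ orderOf (q : ZMod p) ∧
      ∃ A : Subgroup G, A.Normal ∧ Nat.card ↥A = q ^ orderOf (q : ZMod p) ∧ Cfsg.IsElementaryAbelian q A ∧
        ∀ B : Subgroup G, B.Normal → B ≤ A → B = ⊥ ∨ B = A := by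
  have hp : p.Prime := Fact.out
  obtain ⟨P, hPn⟩ : ∃ P : Sylow p G, ¬ (P : Subgroup G).Normal := by
    by_contra h
    push Not at h
    exact hnc h
  haveI : Nontrivial G := by
    by_contra h
    rw [not_nontrivial_iff_subsingleton] at h
    apply hPn
    exact ⟨fun n hn g => by rwa [Subsingleton.elim (g * n * g⁻¹) n]⟩
  obtain ⟨N, hNn, hN1, hN2⟩ : ∃ N : Subgroup G, N.Normal ∧ N ≠ ⊥ ∧ N ≠ ⊤ := by
    by_contra h
    push Not at h
    apply hns
    refine { toNontrivial := inferInstance, eq_bot_or_eq_top_of_normal := ?_ }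
    intro H hH
    by_cases h1 : H = ⊥
    · left; exact h1
    · right; exact h H hH h1
  have pel : ∀ y ∈ P, ∃ k : ℕ, y ^ p ^ k = 1 := by
    intro y hy
    obtain ⟨k, hk⟩ := P.2 ⟨y, hy⟩
    exact ⟨k, by simpa using congrArg Subtype.val hk⟩
  have hsup : ∀ (M : Subgroup G), M.Normal → M ≠ ⊥ → (P : Subgroup G) ⊔ M = ⊤ := by
    intro M hMn hM1
    by_contra hne
    haveI := hMn
    haveI hK : ((P : Subgroup G) ⊔ M).Normal := sup_normal hquo P M hM1
    have h1 := sylow_normal hsub _ hne (P.subtype le_sup_left)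
    rw [Sylow.coe_subtype, subgroupOf_map_subtype, inf_eq_left.mpr le_sup_left] at h1
    exact hPn h1
  have hcop : ∀ (M : Subgroup G), M.Normal → M ≠ ⊤ → ¬ p ∣ Nat.card M := by
    intro M hMn hM2 hdvd
    haveI := hMn
    obtain ⟨T⟩ : Nonempty (Sylow p M) := inferInstance
    have hTne : (T : Subgroup M) ≠ ⊥ := T.ne_bot_of_dvd_card hdvd
    haveI hTn := sylow_normal hsub M hM2 T
    have hT1 : (T : Subgroup M).map M.subtype ≠ ⊥ := by
      intro h
      exact hTne ((map_eq_bot_iff_of_injective _ M.subtype_injective).mp h)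
    have hTp : IsPGroup p ((T : Subgroup M).map M.subtype) := T.2.map _
    have hle := Cfsg.Agent.Lib.Helper5.normal_pgroup_le_sylow hTn hTp P
    have h1 := sup_normal hquo P _ hT1
    rw [sup_eq_left.mpr hle] at h1
    exact hPn h1
  haveI := hNn
  have hpN := hcop N hNn hN2
  have hPN : (P : Subgroup G) ⊔ N = ⊤ := hsup N hNn hN1
  have hdisj : ∀ y, y ∈ P → y ∈ N → y = 1 := fun y hy hyN => eq_one_of_mem N hpN y (pel y hy) hyN
  have hmin : ∀ B : Subgroup G, B.Normal → B ≤ N → B = ⊥ ∨ B = N := by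
    intro B hBn hBN
    by_cases hB1 : B = ⊥
    · left; exact hB1
    · right
      apply le_antisymm hBN
      intro n hn
      have h1 : n ∈ (P : Subgroup G) ⊔ B := by
        rw [hsup B hBn hB1]
        trivial
      haveI := hBn
      rw [← SetLike.mem_coe, mul_normal] at h1
      obtain ⟨x, hx, b, hb, rfl⟩ := Set.mem_mul.mp h1
      have hx1 : x = 1 := hdisj x hx (by
        have h2 : x = (x * b) * b⁻¹ := by group
        rw [h2]
        exact mul_mem hn (inv_mem (hBN hb)))
      rw [hx1, one_mul]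
      exact hb
  have hnotc : ¬ ∀ x ∈ P, ∀ n ∈ N, x * n = n * x := by
    intro hc
    apply hPn
    rw [← normalizer_eq_top_iff, eq_top_iff, ← hPN, sup_le_iff]
    refine ⟨le_normalizer, ?_⟩
    intro n hn
    rw [mem_normalizer_iff]
    intro h
    constructor
    · intro hh
      have h1 : n * h * n⁻¹ = h := by
        rw [← hc h hh n hn]
        group
      rwa [h1]
    · intro hh
      have h1 := hc _ hh n hn
      have h2 : n * h * n⁻¹ * n = n * h := by group
      rw [h2] at h1
      have h3 : h = n * h * n⁻¹ := mul_left_cancel h1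
      rw [h3]
      exact hh
  have key : ∃ q : ℕ, q.Prime ∧ q ≠ p ∧ IsPGroup q N := by
    by_contra hcon
    push Not at hcon
    apply hnotc
    set C0 : Subgroup N := (centralizer ((P : Subgroup G) : Set G)).subgroupOf N with hC0
    have hidx : C0.index = 1 := by
      rw [Nat.eq_one_iff_not_exists_prime_dvd]
      intro q hq hqd
      by_cases hqp : q = p
      · rw [hqp] at hqd
        exact hpN (hqd.trans (index_dvd_card C0))
      · haveI : Fact q.Prime := ⟨hq⟩
        letI act : MulAction (P : Subgroup G) (Sylow q N) :=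
          MulAction.compHom (Sylow q N)
            ((MulAut.conjNormal (H := N)).comp (P : Subgroup G).subtype)
        have hnd : ¬ p ∣ Nat.card (Sylow q N) := by
          intro h
          obtain ⟨Q1⟩ : Nonempty (Sylow q N) := inferInstance
          exact hpN ((h.trans Q1.card_dvd_index).trans (index_dvd_card _))
        obtain ⟨Q0, hQ0⟩ := P.2.nonempty_fixed_point_of_prime_not_dvd_card (Sylow q N) hnd
        have hinv : ∀ x ∈ P, ∀ y : N, y ∈ Q0 → MulAut.conjNormal x y ∈ Q0 := by
          intro x hx y hy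
          have h1 : (MulAut.conjNormal x : MulAut N) • Q0 = Q0 := hQ0 ⟨x, hx⟩
          have h2 : (MulAut.conjNormal x : MulAut N) • y ∈
              (MulAut.conjNormal x : MulAut N) • (Q0 : Subgroup N) :=
            Subgroup.smul_mem_pointwise_smul y _ _ hy
          rw [← Sylow.pointwise_smul_def, h1] at h2
          exact h2
        set Q : Subgroup G := (Q0 : Subgroup N).map N.subtype with hQ
        have hQN : Q ≤ N := by
          rintro _ ⟨y, _, rfl⟩
          exact y.2
        have hinvG : ∀ x ∈ P, ∀ h ∈ Q, x * h * x⁻¹ ∈ Q := by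
          rintro x hx _ ⟨y, hy, rfl⟩
          exact ⟨MulAut.conjNormal x y, hinv x hx y hy, rfl⟩
        have hPQ : (P : Subgroup G) ≤ normalizer (Q : Set G) := by
          intro x hx
          rw [mem_normalizer_iff]
          intro h
          refine ⟨hinvG x hx h, fun hh => ?_⟩
          have h1 := hinvG x⁻¹ (inv_mem hx) _ hh
          have e : x⁻¹ * (x * h * x⁻¹) * x⁻¹⁻¹ = h := by group
          rwa [e] at h1
        by_cases htop : (P : Subgroup G) ⊔ Q = ⊤
        · exfalso
          apply hcon q hq hqp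
          have hQtop : ∀ n : N, n ∈ Q0 := by
            intro n
            have h1 : (n : G) ∈ (P : Subgroup G) ⊔ Q := by
              rw [htop]
              trivial
            rw [← SetLike.mem_coe, coe_mul_of_left_le_normalizer_right _ _ hPQ] at h1
            obtain ⟨x, hx, y, hy, hxy⟩ := Set.mem_mul.mp h1
            have hx1 : x = 1 := hdisj x hx (by
              have h2 : x = (n : G) * y⁻¹ := by
                rw [← hxy]
                group
              rw [h2]
              exact mul_mem n.2 (inv_mem (hQN hy)))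
            rw [hx1, one_mul] at hxy
            obtain ⟨y', hy', hye⟩ := hy
            have h3 : y' = n := Subtype.ext (hye.trans hxy)
            rwa [← h3]
          intro n
          obtain ⟨k, hk⟩ := Q0.2 ⟨n, hQtop n⟩
          exact ⟨k, by simpa using congrArg Subtype.val hk⟩
        · have hle : (Q0 : Subgroup N) ≤ C0 := by
            intro y hy
            rw [hC0, mem_subgroupOf, mem_centralizer_iff]
            intro x hx
            exact commute_of_proper hsub N hpN _ htop x y (le_sup_left (a := (P : Subgroup G)) hx)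
              (pel x hx) (le_sup_right (b := Q) ⟨y, hy, rfl⟩) y.2
          exact Q0.not_dvd_index (hqd.trans (index_dvd_of_le hle))
    rw [index_eq_one] at hidx
    intro x hx n hn
    have h1 : (⟨n, hn⟩ : N) ∈ C0 := by
      rw [hidx]
      trivial
    rw [hC0, mem_subgroupOf, mem_centralizer_iff] at h1
    exact h1 x hx
  obtain ⟨q, hq, hqp, hNq⟩ := key
  haveI : Fact q.Prime := ⟨hq⟩
  haveI : Nontrivial N := (Subgroup.nontrivial_iff_ne_bot N).mpr hN1
  have hNab : ∀ a ∈ N, ∀ b ∈ N, a * b = b * a := by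
    have hZn : (N ⊓ centralizer (N : Set G)).Normal := inferInstance
    rcases hmin _ hZn inf_le_left with h | h
    · exfalso
      haveI := hNq.center_nontrivial
      obtain ⟨z, hz⟩ := exists_ne (1 : center N)
      have hz' : ((z : N) : G) ∈ N ⊓ centralizer (N : Set G) :=
        ⟨z.1.2, mem_centralizer_iff.mpr (fun n hn => by
          have h1 := mem_center_iff.mp z.2 ⟨n, hn⟩
          exact congrArg Subtype.val h1)⟩
      rw [h, mem_bot] at hz'
      exact hz (Subtype.ext (Subtype.ext hz'))
    · intro a ha b hb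
      have h1 : b ∈ N ⊓ centralizer (N : Set G) := by
        rw [h]
        exact hb
      exact mem_centralizer_iff.mp h1.2 a ha
  have hNexp : ∀ a ∈ N, a ^ q = 1 := by
    let W : Subgroup G :=
      { carrier := {n | n ∈ N ∧ n ^ q = 1}
        mul_mem' := fun {a b} ha hb => ⟨mul_mem ha.1 hb.1, by
          rw [(show Commute a b from hNab a ha.1 b hb.1).mul_pow, ha.2, hb.2, one_mul]⟩
        one_mem' := ⟨one_mem _, one_pow _⟩
        inv_mem' := fun {a} ha => ⟨inv_mem ha.1, by rw [inv_pow, ha.2, inv_one]⟩ }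
    have hWn : W.Normal := ⟨fun n hn g => ⟨hNn.conj_mem n hn.1 g, by
      rw [conj_pow, hn.2]
      group⟩⟩
    have hWN : W ≤ N := fun n hn => hn.1
    rcases hmin W hWn hWN with h | h
    · exfalso
      have hqd : q ∣ Nat.card N := by
        obtain ⟨k, hk⟩ := IsPGroup.iff_card.mp hNq
        have hk0 : k ≠ 0 := by
          rintro rfl
          rw [pow_zero] at hk
          exact hN1 (card_eq_one.mp hk)
        rw [hk]
        exact dvd_pow_self q hk0
      obtain ⟨y, hy⟩ := exists_prime_orderOf_dvd_card' q hqd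
      have hyW : (y : G) ∈ W := ⟨y.2, by
        have h1 := pow_orderOf_eq_one y
        rw [hy] at h1
        simpa using congrArg Subtype.val h1⟩
      rw [h, mem_bot] at hyW
      have h2 : y = 1 := Subtype.ext hyW
      rw [h2, orderOf_one] at hy
      exact hq.one_lt.ne hy
    · intro a ha
      have h1 : a ∈ W := by
        rw [h]
        exact ha
      exact h1.2
  have hCn : (centralizer (N : Set G)).Normal := inferInstance
  have hC2 : centralizer (N : Set G) ≠ ⊤ := by
    intro h
    apply hnotc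
    intro x _ n hn
    have h1 : x ∈ centralizer (N : Set G) := by
      rw [h]
      trivial
    exact (mem_centralizer_iff.mp h1 n hn).symm
  have hpC := hcop _ hCn hC2
  have hP1 : (P : Subgroup G) ≠ ⊥ := by
    intro h
    apply hPn
    rw [h]
    infer_instance
  have hpP : p ∣ Nat.card P := by
    obtain ⟨k, hk⟩ := IsPGroup.iff_card.mp P.2
    have hk0 : k ≠ 0 := by
      rintro rfl
      rw [pow_zero] at hk
      exact hP1 (card_eq_one.mp hk)
    rw [hk]
    exact dvd_pow_self p hk0
  obtain ⟨x', hx'⟩ := exists_prime_orderOf_dvd_card' p hpP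
  obtain ⟨x, hxP⟩ := x'
  have hxo : orderOf x = p := by
    rw [← hx', Subgroup.orderOf_mk]
  have hx1 : x ≠ 1 := by
    rintro rfl
    rw [orderOf_one] at hxo
    exact hp.one_lt.ne hxo
  have hxtop : zpowers x ⊔ N = ⊤ := by
    by_contra hne
    have hc : x ∈ centralizer (N : Set G) := by
      rw [mem_centralizer_iff]
      intro n hn
      exact (commute_of_proper hsub N hpN _ hne x n (le_sup_left (a := zpowers x) (mem_zpowers x))
        (pel x hxP) (le_sup_right (b := N) hn) hn).symm
    exact hx1 (eq_one_of_mem _ hpC x (pel x hxP) hc)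
  have hidx : N.index = p := by
    have h1 : N.relIndex (zpowers x ⊔ N) = N.relIndex (zpowers x) := relIndex_sup_right _ _
    rw [hxtop, relIndex_top_right] at h1
    rw [h1, ← inf_relIndex_right]
    have h2 : N ⊓ zpowers x = ⊥ := by
      rw [eq_bot_iff]
      intro y hy
      rw [mem_bot]
      exact hdisj y (zpowers_le.mpr hxP hy.2) hy.1
    rw [h2, relIndex_bot_left, Nat.card_zpowers, hxo]
  have hna : ¬ IsMulCommutative G := by
    intro h
    apply hPn
    exact ⟨fun n hn g => by
      have h1 : g * n * g⁻¹ = n := by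
        rw [h.is_comm.comm g n]
        group
      rwa [h1]⟩
  have hEA : Cfsg.IsElementaryAbelian q N :=
    ⟨⟨⟨fun a b => Subtype.ext (hNab a a.2 b b.2)⟩⟩, hNexp⟩
  have hres := Cfsg.Agent.S3869.result hq hqp hna N hEA hidx hmin
  refine ⟨q, hq, hqp, ?_, N, hNn, hres.1, hEA, hmin⟩
  rw [← N.index_mul_card, hidx, hres.1]

end Cfsg.Agent.S3868
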