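import Cfsg.Statements.S3870
import Cfsg.Agent.Lib.Helper17.Syl
import Mathlib

set_option autoImplicit false
open Cfsg

namespace Cfsg.Agent.S3870
open Cfsg.Agent.Lib.Helper17

/-- Let G be a finite simple group whose Sylow p-subgroups are not normal but such that every proper subgroup of G has a normal Sylow p-subgroup. Then any two distinct Sylow p-subgroups of G intersect trivially, and for every Sylow p-subgroup P the normalizer of every non-identity subgroup of P lies in the normalizer of P. -/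
theorem result {G : Type*} [Group G] [Finite G] [IsSimpleGroup G] {p : ℕ} [Fact p.Prime]
    (hnc : ¬ Cfsg.IsPClosed p G) (hsub : ∀ H : Subgroup G, H ≠ ⊤ → Cfsg.IsPClosed p ↥H) :
    (∀ P Q : Sylow p G, P ≠ Q → (P : Subgroup G) ⊓ (Q : Subgroup G) = ⊥) ∧
      ∀ (P : Sylow p G) (R : Subgroup G), R ≤ P → R ≠ ⊥ →
        Subgroup.normalizer (R : Set G) ≤ Subgroup.normalizer ((P : Subgroup G) : Set G) := by
  classical
  have huniq : ∀ H : Subgroup G, H ≠ ⊤ → ∀ T T' : Subgroup G, IsSyl p T H → IsSyl p T' H → T = T' := by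
    rintro H hH _ _ ⟨S, rfl⟩ ⟨S', rfl⟩
    have hn := hsub H hH S
    have := Sylow.unique_of_normal S hn
    rw [Subsingleton.elim S S']
  have hN : ∀ R : Subgroup G, IsPGroup p R → R ≠ ⊥ → Subgroup.normalizer (R : Set G) ≠ ⊤ := by
    intro R hR hR1 hRt
    have hn : R.Normal := Subgroup.normalizer_eq_top_iff.mp hRt
    have hRtop : R = ⊤ := hn.eq_bot_or_eq_top.resolve_left hR1
    apply hnc
    intro P
    have : (P : Subgroup G) = ⊤ := by
      have := P.3 (Q := ⊤) (by rw [← hRtop]; exact hR) le_top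
      exact this.symm
    rw [this]
    infer_instance
  -- every nontrivial p-subgroup lies in a unique Sylow
  have key : ∀ (k : ℕ) (D : Subgroup G), Nat.card G - Nat.card D = k → D ≠ ⊥ →
      ∀ P Q : Sylow p G, D ≤ P → D ≤ Q → P = Q := by
    intro k
    induction k using Nat.strong_induction_on with
    | _ k ih =>
    intro D hk hD P Q hDP hDQ
    have hDp : IsPGroup p D := P.2.to_le hDP
    by_cases hP : D = P
    · have := P.3 Q.2 (hP ▸ hDQ)
      exact Sylow.ext this.symm
    by_cases hQ : D = Q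
    · have := Q.3 P.2 (hQ ▸ hDP)
      exact Sylow.ext this
    obtain ⟨x, hxP, hxN, hxD⟩ := pgroup_normalizer_grow P.2 (lt_of_le_of_ne hDP hP)
    obtain ⟨y, hyQ, hyN, hyD⟩ := pgroup_normalizer_grow Q.2 (lt_of_le_of_ne hDQ hQ)
    set N := Subgroup.normalizer (D : Set G) with hNdef
    have hNt : N ≠ ⊤ := hN D hDp hD
    have hlt : ∀ E : Subgroup G, D < E → Nat.card G - Nat.card E < k := by
      intro E hE
      have h1 : Nat.card D < Nat.card E := (Set.ncard_lt_ncard (SetLike.coe_ssubset_coe.mpr hE) (Set.toFinite _))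
      have h2 : Nat.card E ≤ Nat.card G := Subgroup.card_le_card_group E
      omega
    have hA : D < (P : Subgroup G) ⊓ N := by
      refine lt_of_le_of_ne (le_inf hDP Subgroup.le_normalizer) ?_
      intro h
      exact hxD (h ▸ ⟨hxP, hxN⟩)
    have hB : D < (Q : Subgroup G) ⊓ N := by
      refine lt_of_le_of_ne (le_inf hDQ Subgroup.le_normalizer) ?_
      intro h
      exact hyD (h ▸ ⟨hyQ, hyN⟩)
    obtain ⟨T, hT, hAT⟩ := exists_isSyl_ge (p := p) (A := (P : Subgroup G) ⊓ N) (M := N) inf_le_right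
      (P.2.to_le inf_le_left)
    obtain ⟨T', hT', hBT⟩ := exists_isSyl_ge (p := p) (A := (Q : Subgroup G) ⊓ N) (M := N) inf_le_right
      (Q.2.to_le inf_le_left)
    have hTT : T = T' := huniq N hNt T T' hT hT'
    subst hTT
    obtain ⟨S, hS⟩ := hT.isPGroup.exists_le_sylow
    have hne : ∀ E : Subgroup G, D < E → E ≠ ⊥ := by
      intro E hE h
      rw [h] at hE
      exact absurd hE (not_lt_bot)
    have h1 : P = S := ih _ (hlt _ hA) _ rfl (hne _ hA) P S inf_le_left (hAT.trans hS)
    have h2 : Q = S := ih _ (hlt _ hB) _ rfl (hne _ hB) Q S inf_le_left (hBT.trans hS)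
    rw [h1, h2]
  have hTI : ∀ P Q : Sylow p G, P ≠ Q → (P : Subgroup G) ⊓ (Q : Subgroup G) = ⊥ := by
    intro P Q hPQ
    by_contra h
    exact hPQ (key _ _ rfl h P Q inf_le_left inf_le_right)
  refine ⟨hTI, ?_⟩
  intro P R hRP hR g hg
  have h1 : R ≤ ((MulAut.conj g • P : Sylow p G) : Subgroup G) := by
    intro r hr
    rw [Sylow.pointwise_smul_def, Subgroup.mem_pointwise_smul_iff_inv_smul_mem]
    have : g⁻¹ * r * g ∈ R := by
      have := (Subgroup.mem_normalizer_iff.mp (inv_mem hg) r).mp hr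
      simpa using this
    apply hRP
    simpa [MulAut.smul_def] using this
  have h2 : P = MulAut.conj g • P := key _ R rfl hR _ _ hRP h1
  have h3 : g • P = P := by
    rw [Sylow.smul_def]; exact h2.symm
  exact Sylow.smul_eq_iff_mem_normalizer.mp h3

end Cfsg.Agent.S3870
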