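import Cfsg.Statements.S3873
import Mathlib
import Cfsg.Agent.S3868

set_option autoImplicit false
open Cfsg
open Subgroup

namespace Cfsg.Agent.S3873

/-- Say that a finite group is p-exponent closed when its elements of order dividing p form a subgroup. Let G be a finite group that is not p-exponent closed, but all of whose proper subgroups and proper quotients are, and suppose G is neither simple nor a p-group. Then there is a prime q ≠ p such that G has order p · q^e, where e is the multiplicative order of q modulo p, and G has a normal elementary abelian subgroup of order q^e that is a minimal normal subgroup of G. -/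
theorem result {G : Type*} [Group G] [Finite G] {p : ℕ} [Fact p.Prime]
    (hnc : ¬ (∃ H : Subgroup G, (H : Set G) = {g : G | g ^ p = 1})) (hsub : ∀ K : Subgroup G, K ≠ ⊤ → (∃ H : Subgroup ↥K, (H : Set ↥K) = {g : ↥K | g ^ p = 1}))
    (hquo : ∀ (N : Subgroup G) [N.Normal], N ≠ ⊥ → (∃ H : Subgroup (G ⧸ N), (H : Set (G ⧸ N)) = {g : (G ⧸ N) | g ^ p = 1}))
    (hns : ¬ IsSimpleGroup G) (hnp : ¬ IsPGroup p G) :
    ∃ q : ℕ, q.Prime ∧ q ≠ p ∧ Nat.card G = p * q ^ orderOf (q : ZMod p) ∧
      ∃ A : Subgroup G, A.Normal ∧ Nat.card ↥A = q ^ orderOf (q : ZMod p) ∧ Cfsg.IsElementaryAbelian q A ∧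
        ∀ B : Subgroup G, B.Normal → B ≤ A → B = ⊥ ∨ B = A := by
  have hp : p.Prime := Fact.out
  have hexpq : ∀ (N : Subgroup G) [N.Normal], N ≠ ⊥ → ∀ g : G, g ^ p ∈ N := by
    intro N _ hN
    obtain ⟨Hb, hHb⟩ := hquo N hN
    set T : Subgroup G := Hb.comap (QuotientGroup.mk' N) with hT
    have hTmem : ∀ g, g ∈ T ↔ g ^ p ∈ N := by
      intro g
      rw [hT, Subgroup.mem_comap, ← SetLike.mem_coe, hHb]
      show ((g : G ⧸ N)) ^ p = 1 ↔ _
      rw [← QuotientGroup.mk_pow, QuotientGroup.eq_one_iff]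
    have hTtop : T = ⊤ := by
      by_contra hne
      obtain ⟨H, hH⟩ := hsub T hne
      apply hnc
      refine ⟨H.map T.subtype, ?_⟩
      ext g
      constructor
      · rintro ⟨h, hh, rfl⟩
        have h1 : h ∈ (H : Set T) := hh
        rw [hH] at h1
        have h2 : h ^ p = 1 := h1
        show (h : G) ^ p = 1
        simpa only [SubmonoidClass.coe_pow, OneMemClass.coe_one] using congrArg Subtype.val h2
      · intro hg
        have hg' : g ^ p = 1 := hg
        have hgT : g ∈ T := (hTmem g).mpr (by rw [hg']; exact one_mem _)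
        refine ⟨⟨g, hgT⟩, ?_, rfl⟩
        show (⟨g, hgT⟩ : T) ∈ (H : Set T)
        rw [hH]
        show (⟨g, hgT⟩ : T) ^ p = 1
        exact Subtype.ext hg'
    intro g
    rw [← hTmem, hTtop]
    trivial
  haveI : Nontrivial G := by
    by_contra h
    rw [not_nontrivial_iff_subsingleton] at h
    exact hnp (fun g => ⟨0, Subsingleton.elim _ _⟩)
  obtain ⟨N, hNn, hN1, hN2⟩ : ∃ N : Subgroup G, N.Normal ∧ N ≠ ⊥ ∧ N ≠ ⊤ := by
    by_contra h
    push Not at h
    apply hns
    refine { toNontrivial := inferInstance, eq_bot_or_eq_top_of_normal := ?_ }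
    intro H hH
    by_cases h1 : H = ⊥
    · left; exact h1
    · right; exact h H hH h1
  haveI := hNn
  have hpN : ¬ p ∣ Nat.card N := by
    intro hd
    obtain ⟨H, hH⟩ := hsub N hN2
    set W := H.map N.subtype with hW
    have hWmem : ∀ g, g ∈ W ↔ g ∈ N ∧ g ^ p = 1 := by
      intro g
      constructor
      · rintro ⟨h, hh, rfl⟩
        have h1 : h ∈ (H : Set N) := hh
        rw [hH] at h1
        have h2 : h ^ p = 1 := h1
        refine ⟨h.2, ?_⟩
        show (h : G) ^ p = 1
        simpa only [SubmonoidClass.coe_pow, OneMemClass.coe_one] using congrArg Subtype.val h2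
      · rintro ⟨hgN, hg'⟩
        refine ⟨⟨g, hgN⟩, ?_, rfl⟩
        show (⟨g, hgN⟩ : N) ∈ (H : Set N)
        rw [hH]
        show (⟨g, hgN⟩ : N) ^ p = 1
        exact Subtype.ext hg'
    have hWn : W.Normal := ⟨fun n hn g => (hWmem _).mpr
      ⟨hNn.conj_mem n ((hWmem n).mp hn).1 g, by
        rw [conj_pow, ((hWmem n).mp hn).2]
        group⟩⟩
    have hW1 : W ≠ ⊥ := by
      obtain ⟨y, hy⟩ := exists_prime_orderOf_dvd_card' p hd
      intro h
      have h1 : (y : G) ∈ W := (hWmem _).mpr ⟨y.2, by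
        have h2 := pow_orderOf_eq_one y
        rw [hy] at h2
        simpa only [SubmonoidClass.coe_pow, OneMemClass.coe_one] using congrArg Subtype.val h2⟩
      rw [h, mem_bot] at h1
      have h2 : y = 1 := Subtype.ext h1
      rw [h2, orderOf_one] at hy
      exact hp.one_lt.ne hy
    apply hnp
    intro g
    refine ⟨2, ?_⟩
    haveI := hWn
    have h1 := hexpq W hW1 g
    have h2 := ((hWmem _).mp h1).2
    rw [pow_two, pow_mul]
    exact h2
  have hpel : ∀ x : G, (∃ k : ℕ, x ^ p ^ k = 1) → x ^ p = 1 := by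
    rintro x ⟨k, hk⟩
    exact Cfsg.Agent.S3868.eq_one_of_mem N hpN (x ^ p)
      ⟨k, by rw [← pow_mul, mul_comm, pow_mul, hk, one_pow]⟩ (hexpq N hN1 x)
  apply Cfsg.Agent.S3868.result _ _ _ hns
  · intro hcl
    obtain ⟨P⟩ : Nonempty (Sylow p G) := inferInstance
    have hPn := hcl P
    apply hnc
    refine ⟨P, ?_⟩
    ext g
    constructor
    · intro hg
      obtain ⟨k, hk⟩ := P.2 ⟨g, hg⟩
      exact hpel g ⟨k, by
        simpa only [SubmonoidClass.coe_pow, OneMemClass.coe_one] using congrArg Subtype.val hk⟩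
    · intro hg
      have hg' : g ^ p = 1 := hg
      have hz : IsPGroup p (zpowers g) := by
        have ho : orderOf g ∣ p ^ 1 := by
          rw [pow_one]
          exact orderOf_dvd_of_pow_eq_one hg'
        obtain ⟨j, _, hj⟩ := (Nat.dvd_prime_pow hp).mp ho
        exact IsPGroup.of_card (n := j) (by rw [Nat.card_zpowers, hj])
      obtain ⟨Q, hQ⟩ := hz.exists_le_sylow
      haveI := Sylow.unique_of_normal P hPn
      have h1 : Q = P := Subsingleton.elim _ _
      rw [← h1]
      exact hQ (mem_zpowers g)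
  · intro K hK S
    obtain ⟨H, hH⟩ := hsub K hK
    have hHmem : ∀ k : K, k ∈ H ↔ k ^ p = 1 := fun k => by
      rw [← SetLike.mem_coe, hH]
      rfl
    have hHp : IsPGroup p H := fun h => ⟨1, by
      rw [pow_one]
      exact Subtype.ext ((hHmem h).mp h.2)⟩
    have hSH : (S : Subgroup K) ≤ H := by
      intro s hs
      rw [hHmem]
      obtain ⟨k, hk⟩ := S.2 ⟨s, hs⟩
      have h1 : (s : G) ^ p ^ k = 1 := by
        have h2 := congrArg (fun z : (S : Subgroup K) => ((z : K) : G)) hk
        simpa only [SubmonoidClass.coe_pow, OneMemClass.coe_one] using h2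
      exact Subtype.ext (hpel s ⟨k, h1⟩)
    have hEq : H = S := S.3 hHp hSH
    rw [← hEq]
    exact ⟨fun n hn g => (hHmem _).mpr (by
      rw [conj_pow, (hHmem n).mp hn]
      group)⟩
  · intro M _ hM
    apply Cfsg.Agent.S3869.pclosed_of_pgroup
    intro x
    obtain ⟨g, rfl⟩ := QuotientGroup.mk_surjective x
    exact ⟨1, by
      rw [pow_one, ← QuotientGroup.mk_pow, QuotientGroup.eq_one_iff]
      exact hexpq M hM g⟩

end Cfsg.Agent.S3873
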