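import Cfsg.Statements.S3889
-- import your own Cfsg.Agent.* helpers here
import Mathlib

set_option autoImplicit false
open Cfsg

namespace Cfsg.Agent.S3889

/-- A finite abelian group that is the union of a family of proper subgroups any two of which intersect trivially is elementary abelian: its exponent is a prime. -/
theorem result {G : Type*} [CommGroup G] [Finite G] (𝓑 : Set (Subgroup G)) (hprop : ∀ B ∈ 𝓑, B ≠ ⊤)
    (hcov : ∀ g : G, ∃ B ∈ 𝓑, g ∈ B) (hdisj : ∀ B ∈ 𝓑, ∀ C ∈ 𝓑, B ≠ C → B ⊓ C = ⊥) :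
    (Monoid.exponent G).Prime := by
  have key : ∀ (g h : G) (B : Subgroup G), B ∈ 𝓑 → g ≠ 1 → g ∈ B → h ∉ B →
      orderOf h ∣ orderOf g := by
    intro g h B hB hg1 hgB hhB
    obtain ⟨C, hC, hhC⟩ := hcov h
    obtain ⟨D, hD, hghD⟩ := hcov (g * h)
    have hCB : B ≠ C := fun e => hhB (e ▸ hhC)
    have hDC : D ≠ C := by
      intro e
      have h1 : g ∈ C := by
        have := C.mul_mem (e ▸ hghD) (C.inv_mem hhC)
        simpa using this
      have h2 : g ∈ B ⊓ C := ⟨hgB, h1⟩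
      rw [hdisj B hB C hC hCB, Subgroup.mem_bot] at h2
      exact hg1 h2
    apply orderOf_dvd_of_pow_eq_one
    have h1 : (g * h) ^ orderOf g = h ^ orderOf g := by
      rw [mul_pow, pow_orderOf_eq_one, one_mul]
    have h2 : h ^ orderOf g ∈ D ⊓ C := ⟨h1 ▸ D.pow_mem hghD _, C.pow_mem hhC _⟩
    rw [hdisj D hD C hC hDC, Subgroup.mem_bot] at h2
    exact h2
  have key2 : ∀ (g h : G) (B : Subgroup G), B ∈ 𝓑 → g ≠ 1 → g ∈ B → h ∉ B →
      orderOf g = orderOf h := by
    intro g h B hB hg1 hgB hhB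
    obtain ⟨C, hC, hhC⟩ := hcov h
    have hCB : B ≠ C := fun e => hhB (e ▸ hhC)
    have hh1 : h ≠ 1 := fun e => hhB (e ▸ B.one_mem)
    have hgC : g ∉ C := by
      intro h1
      have h2 : g ∈ B ⊓ C := ⟨hgB, h1⟩
      rw [hdisj B hB C hC hCB, Subgroup.mem_bot] at h2
      exact hg1 h2
    exact Nat.dvd_antisymm (key h g C hC hh1 hhC hgC) (key g h B hB hg1 hgB hhB)
  have hout : ∀ B ∈ 𝓑, ∃ k : G, k ∉ B := by
    intro B hB
    by_contra hcon
    push Not at hcon
    exact hprop B hB (eq_top_iff.mpr fun x _ => hcon x)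
  obtain ⟨B₀, hB₀, -⟩ := hcov 1
  obtain ⟨h₀, hh₀⟩ := hout B₀ hB₀
  have hh₀1 : h₀ ≠ 1 := fun e => hh₀ (e ▸ B₀.one_mem)
  have hall : ∀ g : G, g ≠ 1 → orderOf g = orderOf h₀ := by
    intro g hg1
    obtain ⟨B, hB, hgB⟩ := hcov g
    by_cases h1 : h₀ ∈ B
    · obtain ⟨k, hk⟩ := hout B hB
      rw [key2 g k B hB hg1 hgB hk, key2 h₀ k B hB hh₀1 h1 hk]
    · exact key2 g h₀ B hB hg1 hgB h1
  set n := orderOf h₀ with hn
  have hn1 : n ≠ 1 := fun e => hh₀1 (orderOf_eq_one_iff.mp e)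
  have hn0 : n ≠ 0 := (orderOf_pos h₀).ne'
  have hprime : n.Prime := by
    have hp := Nat.minFac_prime hn1
    have hd := Nat.minFac_dvd n
    have h1 : orderOf (h₀ ^ (orderOf h₀ / n.minFac)) = n.minFac :=
      orderOf_pow_orderOf_div hn0 hd
    have h2 : h₀ ^ (orderOf h₀ / n.minFac) ≠ 1 := by
      intro e
      rw [e, orderOf_one] at h1
      exact hp.one_lt.ne h1
    rw [hall _ h2] at h1
    rw [h1]
    exact hp
  have hexp : Monoid.exponent G = n := by
    apply Nat.dvd_antisymm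
    · apply Monoid.exponent_dvd_of_forall_pow_eq_one
      intro g
      by_cases hg : g = 1
      · rw [hg, one_pow]
      · rw [← hall g hg, pow_orderOf_eq_one]
    · exact Monoid.order_dvd_exponent h₀
  rw [hexp]
  exact hprime

end Cfsg.Agent.S3889
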