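import Cfsg.Statements.S3890
import Mathlib
import Cfsg.Agent.Lib.Helper2.GrpNil
import Cfsg.Agent.S3889

set_option autoImplicit false
open Cfsg

namespace Cfsg.Agent.S3890

section
open Subgroup

variable {G : Type*} [Group G]

theorem pelem_mem {p : ℕ} (P : Sylow p G) (x : G)
    (hx : x ∈ normalizer ((P : Subgroup G) : Set G)) (k : ℕ) (hk : x ^ (p ^ k) = 1) : x ∈ P := by
  have hz : IsPGroup p (zpowers x) := by
    rintro ⟨g, hg⟩
    obtain ⟨j, rfl⟩ := hg
    refine ⟨k, ?_⟩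
    ext
    show (x ^ j) ^ (p ^ k) = 1
    rw [← zpow_natCast, ← zpow_mul, mul_comm, zpow_mul, zpow_natCast, hk, one_zpow]
  have h1 : IsPGroup p (zpowers x ⊔ (P : Subgroup G) : Subgroup G) :=
    hz.to_sup_of_normal_right' P.2 (zpowers_le.2 hx)
  have h2 := P.is_maximal' h1 le_sup_right
  have : x ∈ (zpowers x ⊔ (P : Subgroup G) : Subgroup G) := le_sup_left (a := zpowers x) (mem_zpowers x)
  rw [h2] at this
  exact this

structure Cov [Finite G] (𝓐 : Finset (Subgroup G)) : Prop where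
  prop : ∀ A ∈ 𝓐, A ≠ ⊤
  cov : ∀ g : G, ∃ A ∈ 𝓐, g ∈ A
  min : ∀ 𝓑 : Finset (Subgroup G), (∀ A ∈ 𝓑, A ≠ ⊤) ∧ (∀ g : G, ∃ A ∈ 𝓑, g ∈ A) → 𝓐.card ≤ 𝓑.card
  nil : ∀ A ∈ 𝓐, Group.IsNilpotent ↥A
  cen : Subgroup.center G = ⊥

variable [Finite G] {𝓐 : Finset (Subgroup G)}

theorem two_mem (C : Cov 𝓐) {M A B : Subgroup G} (hM : M ≠ ⊤) (hA : A ∈ 𝓐) (hB : B ∈ 𝓐)
    (hAM : A ≤ M) (hBM : B ≤ M) : A = B := by
  classical
  by_contra hne
  have hB' : B ∈ 𝓐.erase A := Finset.mem_erase.2 ⟨fun h => hne h.symm, hB⟩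
  have h1 := C.min (insert M ((𝓐.erase A).erase B)) ⟨?_, ?_⟩
  · have h2 := Finset.card_insert_le M ((𝓐.erase A).erase B)
    rw [Finset.card_erase_of_mem hB', Finset.card_erase_of_mem hA] at h2
    have h3 : 0 < (𝓐.erase A).card := Finset.card_pos.2 ⟨B, hB'⟩
    rw [Finset.card_erase_of_mem hA] at h3
    omega
  · intro X hX
    rcases Finset.mem_insert.1 hX with rfl | hX
    · exact hM
    · exact C.prop X (Finset.mem_of_mem_erase (Finset.mem_of_mem_erase hX))
  · intro g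
    obtain ⟨X, hX, hg⟩ := C.cov g
    by_cases h1 : X = A
    · exact ⟨M, Finset.mem_insert_self _ _, hAM (h1 ▸ hg)⟩
    by_cases h2 : X = B
    · exact ⟨M, Finset.mem_insert_self _ _, hBM (h2 ▸ hg)⟩
    exact ⟨X, Finset.mem_insert_of_mem (Finset.mem_erase.2 ⟨h2, Finset.mem_erase.2 ⟨h1, hX⟩⟩), hg⟩

theorem decomp (p : ℕ) [hp : Fact p.Prime] (y : G) : ∃ m k : ℕ, ¬ p ∣ m ∧ (y ^ m) ^ (p ^ k) = 1 ∧
    (y ^ (p ^ k)) ^ m = 1 ∧ ∃ u v : ℤ, y = (y ^ m) ^ u * (y ^ (p ^ k)) ^ v := by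
  obtain ⟨k, m, hm, ho⟩ := Nat.exists_eq_pow_mul_and_not_dvd (orderOf_pos y).ne' p hp.out.ne_one
  refine ⟨m, k, hm, ?_, ?_, ?_⟩
  · rw [← pow_mul, mul_comm, ← ho, pow_orderOf_eq_one]
  · rw [← pow_mul, ← ho, pow_orderOf_eq_one]
  · have hc : Nat.Coprime m (p ^ k) :=
      (Nat.Coprime.pow_left k ((Nat.Prime.coprime_iff_not_dvd hp.out).2 hm)).symm
    have hb := Nat.gcd_eq_gcd_ab m (p ^ k)
    rw [hc] at hb
    refine ⟨Nat.gcdA m (p ^ k), Nat.gcdB m (p ^ k), ?_⟩
    rw [← zpow_natCast y m, ← zpow_natCast y (p ^ k), ← zpow_mul, ← zpow_mul, ← zpow_add, ← hb]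
    simp

theorem sylow_comm {p : ℕ} [Fact p.Prime] (P : Sylow p G) (hab : IsMulCommutative ↥(P : Subgroup G))
    (Q : Sylow p G) {s t : G} (hs : s ∈ Q) (ht : t ∈ Q) : s * t = t * s := by
  obtain ⟨g, rfl⟩ := MulAction.exists_smul_eq G P Q
  have key : ∀ s : G, s ∈ (g • P : Sylow p G) → g⁻¹ * s * g ∈ (P : Subgroup G) := by
    intro s hs
    have hs' : s ∈ ((g • P : Sylow p G) : Subgroup G) := hs
    rw [Sylow.smul_def] at hs'
    have := (Subgroup.mem_pointwise_smul_iff_inv_smul_mem (S := (P : Subgroup G))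
      (a := MulAut.conj g) (x := s)).1 hs'
    simpa [MulAut.smul_def, MulAut.conj_inv_apply] using this
  have h1 := hab.is_comm.comm ⟨_, key s hs⟩ ⟨_, key t ht⟩
  have h2 : (g⁻¹ * s * g) * (g⁻¹ * t * g) = (g⁻¹ * t * g) * (g⁻¹ * s * g) := congrArg Subtype.val h1
  have h3 : g⁻¹ * (s * t) * g = g⁻¹ * (t * s) * g := by
    calc g⁻¹ * (s * t) * g = (g⁻¹ * s * g) * (g⁻¹ * t * g) := by group
      _ = (g⁻¹ * t * g) * (g⁻¹ * s * g) := h2
      _ = _ := by group
  exact mul_left_cancel (mul_right_cancel h3)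


theorem cop {p m : ℕ} [hp : Fact p.Prime] (hm : ¬ p ∣ m) (j : ℕ) : Nat.Coprime m (p ^ j) :=
  (Nat.Coprime.pow_left j ((Nat.Prime.coprime_iff_not_dvd hp.out).2 hm)).symm

theorem central {p : ℕ} [Fact p.Prime] (P : Sylow p G) (hab : IsMulCommutative ↥(P : Subgroup G))
    {A : Subgroup G} (hA : Group.IsNilpotent ↥A) {x : G} (hx : x ∈ A) {j : ℕ} (hxj : x ^ (p ^ j) = 1)
    {a : G} (ha : a ∈ A) : a * x = x * a := by
  obtain ⟨m, k, hm, h1, h2, u, v, huv⟩ := decomp p a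
  have c2 : Commute (a ^ (p ^ k)) x := by
    have hco : (orderOf (⟨a ^ (p ^ k), pow_mem ha _⟩ : A)).Coprime (orderOf (⟨x, hx⟩ : A)) := by
      rw [Subgroup.orderOf_mk, Subgroup.orderOf_mk]
      have d1 : orderOf (a ^ (p ^ k)) ∣ m := orderOf_dvd_of_pow_eq_one h2
      have d2 : orderOf x ∣ p ^ j := orderOf_dvd_of_pow_eq_one hxj
      exact Nat.Coprime.coprime_dvd_left d1 (Nat.Coprime.coprime_dvd_right d2 (cop hm j))
    have := Cfsg.Agent.Lib.Helper2.commute_of_coprime_of_isNilpotent hco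
    exact congrArg Subtype.val this
  have c1 : Commute (a ^ m) x := by
    obtain ⟨S⟩ : Nonempty (Sylow p ↥A) := inferInstance
    have hSn : (S : Subgroup A).Normal :=
      ((Group.isNilpotent_of_finite_tfae (G := A)).out 0 3 rfl rfl).mp hA p inferInstance S
    have mem : ∀ z : A, ∀ i, z ^ (p ^ i) = 1 → z ∈ S := by
      intro z i hz
      apply pelem_mem S z _ i hz
      rw [Subgroup.normalizer_eq_top_iff.2 hSn]; trivial
    have hp : IsPGroup p ((S : Subgroup A).map A.subtype) := S.2.map _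
    obtain ⟨Q, hQ⟩ := hp.exists_le_sylow
    have m1 : a ^ m ∈ Q := hQ ⟨⟨a ^ m, pow_mem ha _⟩, mem _ k (Subtype.ext h1), rfl⟩
    have m2 : x ∈ Q := hQ ⟨⟨x, hx⟩, mem _ j (Subtype.ext hxj), rfl⟩
    exact sylow_comm P hab Q m1 m2
  rw [huv]
  exact ((c1.zpow_left u).mul_left (c2.zpow_left v))

theorem inter_triv (C : Cov 𝓐) {p : ℕ} [Fact p.Prime] (P : Sylow p G)
    (hab : IsMulCommutative ↥(P : Subgroup G)) {A B : Subgroup G} (hA : A ∈ 𝓐) (hB : B ∈ 𝓐) {x : G}
    (hxA : x ∈ A) (hxB : x ∈ B) {j : ℕ} (hxj : x ^ (p ^ j) = 1) (hx1 : x ≠ 1) : A = B := by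
  have hC : centralizer ({x} : Set G) ≠ ⊤ := by
    intro h
    apply hx1
    have : x ∈ center G := by
      rw [Subgroup.mem_center_iff]
      intro g
      have hg : g ∈ centralizer ({x} : Set G) := h ▸ mem_top g
      exact mem_centralizer_singleton_iff.1 hg
    rw [C.cen] at this
    exact mem_bot.1 this
  exact two_mem C hC hA hB
    (fun a ha => mem_centralizer_singleton_iff.2 (central P hab (C.nil A hA) hxA hxj ha))
    (fun a ha => mem_centralizer_singleton_iff.2 (central P hab (C.nil B hB) hxB hxj ha))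

theorem ppow {p : ℕ} (Q : Sylow p G) {t : G} (ht : t ∈ Q) : ∃ j : ℕ, t ^ (p ^ j) = 1 := by
  obtain ⟨j, hj⟩ := Q.2 ⟨t, ht⟩
  exact ⟨j, by simpa using congrArg Subtype.val hj⟩

theorem cent_le_norm (H : Subgroup G) : centralizer (H : Set G) ≤ normalizer (H : Set G) := by
  intro y hy
  have hyc : ∀ t ∈ H, t * y = y * t := fun t ht => mem_centralizer_iff.1 hy t ht
  rw [mem_normalizer_iff]
  intro h
  constructor
  · intro hh
    have : y * h * y⁻¹ = h := by rw [← hyc h hh]; group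
    rw [this]; exact hh
  · intro hh
    have h1 := hyc _ hh
    have : h = y * h * y⁻¹ := by
      have h2 : y * h = y * (y * h * y⁻¹) := by
        calc y * h = y * h * y⁻¹ * y := by group
          _ = y * (y * h * y⁻¹) := h1
      exact mul_left_cancel h2
    rw [this]; exact hh

theorem cent_eq (C : Cov 𝓐) {p : ℕ} [Fact p.Prime] (P : Sylow p G)
    (hab : IsMulCommutative ↥(P : Subgroup G)) (Q : Sylow p G) {A : Subgroup G} (hA : A ∈ 𝓐)
    (hQA : (Q : Subgroup G) ≤ A) {x₀ : G} (hx₀ : x₀ ∈ Q) (hx₁ : x₀ ≠ 1) :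
    centralizer ((Q : Subgroup G) : Set G) = A := by
  apply le_antisymm
  · intro y hy
    have hyc : ∀ t ∈ Q, t * y = y * t := fun t ht => mem_centralizer_iff.1 hy t ht
    obtain ⟨m, k, hm, h1, h2, u, v, huv⟩ := decomp p y
    have hyN : y ∈ normalizer ((Q : Subgroup G) : Set G) := cent_le_norm _ hy
    have e1 : y ^ m ∈ A := hQA (pelem_mem Q _ (pow_mem hyN m) k h1)
    obtain ⟨j, hj⟩ := ppow Q hx₀
    obtain ⟨B, hB, hxB⟩ := C.cov (x₀ * y ^ (p ^ k))
    have hcomm : Commute x₀ (y ^ (p ^ k)) := (show Commute x₀ y from hyc x₀ hx₀).pow_right _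
    have e2 : (x₀ * y ^ (p ^ k)) ^ m = x₀ ^ m := by rw [hcomm.mul_pow, h2, mul_one]
    have e3 : x₀ ^ m ∈ B := e2 ▸ pow_mem hxB m
    have e4 : x₀ ^ m ≠ 1 := by
      intro h
      have d1 : orderOf x₀ ∣ m := orderOf_dvd_of_pow_eq_one h
      have d2 : orderOf x₀ ∣ p ^ j := orderOf_dvd_of_pow_eq_one hj
      have h3 := Nat.dvd_gcd d1 d2
      rw [cop hm j] at h3
      exact hx₁ (orderOf_eq_one_iff.1 (Nat.dvd_one.1 h3))
    have e5 : (x₀ ^ m) ^ (p ^ j) = 1 := by rw [← pow_mul, mul_comm, pow_mul, hj, one_pow]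
    have hAB : A = B := inter_triv C P hab hA hB (hQA (pow_mem hx₀ m)) e3 e5 e4
    have e6 : y ^ (p ^ k) ∈ A := by
      have : x₀ * y ^ (p ^ k) ∈ A := by rw [hAB]; exact hxB
      exact (Subgroup.mul_mem_cancel_left A (hQA hx₀)).1 this
    rw [huv]
    exact mul_mem (zpow_mem e1 u) (zpow_mem e6 v)
  · intro a ha
    rw [mem_centralizer_iff]
    intro t ht
    obtain ⟨j, hj⟩ := ppow Q ht
    exact (central P hab (C.nil A hA) (hQA ht) hj ha).symm

theorem le_of_cyclic (C : Cov 𝓐) (Q : Subgroup G) (hc : IsCyclic ↥Q) : ∃ A ∈ 𝓐, Q ≤ A := by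
  obtain ⟨g, hg⟩ := IsCyclic.exists_generator (α := ↥Q)
  obtain ⟨A, hA, hgA⟩ := C.cov g.1
  refine ⟨A, hA, fun x hx => ?_⟩
  obtain ⟨i, hi⟩ := hg ⟨x, hx⟩
  have : (g : G) ^ i = x := by simpa using congrArg Subtype.val hi
  rw [← this]
  exact zpow_mem hgA i

theorem ea_of_not_le (C : Cov 𝓐) {p : ℕ} [hp : Fact p.Prime] (P : Sylow p G)
    (hab : IsMulCommutative ↥(P : Subgroup G)) (Q : Sylow p G)
    (hQ : ∀ A ∈ 𝓐, ¬ (Q : Subgroup G) ≤ A) : (∀ a ∈ Q, a ^ p = 1) ∧ p < Nat.card Q := by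
  obtain ⟨n, hn⟩ := IsPGroup.iff_card.1 Q.2
  constructor
  · let _ : CommGroup ↥(Q : Subgroup G) :=
      { (inferInstance : Group ↥(Q : Subgroup G)) with
        mul_comm := fun s t => Subtype.ext (sylow_comm P hab Q s.2 t.2) }
    have hexp := Cfsg.Agent.S3889.result (G := ↥(Q : Subgroup G))
      {B' | ∃ A ∈ 𝓐, B' = A.subgroupOf Q} ?_ ?_ ?_
    · have h1 : Monoid.exponent ↥(Q : Subgroup G) ∣ p ^ n := hn ▸ Group.exponent_dvd_nat_card
      have h2 := (Nat.prime_dvd_prime_iff_eq hexp hp.out).1 (hexp.dvd_of_dvd_pow h1)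
      intro a ha
      have h3 := Monoid.pow_exponent_eq_one (⟨a, ha⟩ : ↥(Q : Subgroup G))
      rw [h2] at h3
      exact congrArg Subtype.val h3
    · rintro B' ⟨A, hA, rfl⟩ h
      exact hQ A hA (Subgroup.subgroupOf_eq_top.1 h)
    · intro g
      obtain ⟨A, hA, hg⟩ := C.cov g.1
      exact ⟨A.subgroupOf Q, ⟨A, hA, rfl⟩, Subgroup.mem_subgroupOf.2 hg⟩
    · rintro B' ⟨A, hA, rfl⟩ C' ⟨B, hB, rfl⟩ hne
      rw [eq_bot_iff]
      intro x hx
      rw [Subgroup.mem_bot]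
      by_contra hx1
      obtain ⟨j, hj⟩ := ppow Q x.2
      have := inter_triv C P hab hA hB (Subgroup.mem_subgroupOf.1 hx.1) (Subgroup.mem_subgroupOf.1 hx.2) hj
        (fun h => hx1 (Subtype.ext h))
      exact hne (by rw [this])
  · by_contra hlt
    push Not at hlt
    have hc : IsCyclic ↥(Q : Subgroup G) := by
      apply isCyclic_of_card_dvd_prime (p := p)
      rw [hn] at hlt ⊢
      have : n ≤ 1 := by
        by_contra h
        push Not at h
        have := Nat.pow_lt_pow_right hp.out.one_lt h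
        rw [pow_one] at this
        omega
      calc p ^ n ∣ p ^ 1 := pow_dvd_pow p this
        _ = p := pow_one p
    obtain ⟨A, hA, h⟩ := le_of_cyclic C _ hc
    exact hQ A hA h


theorem smul_mem_conj {p : ℕ} (P : Sylow p G) (g t : G) (ht : t ∈ P) :
    g * t * g⁻¹ ∈ (g • P : Sylow p G) := by
  have : g * t * g⁻¹ ∈ ((g • P : Sylow p G) : Subgroup G) := by
    rw [Sylow.smul_def]
    exact Subgroup.smul_mem_pointwise_smul t (MulAut.conj g) (P : Subgroup G) ht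
  exact this

theorem struct (C : Cov 𝓐) {p : ℕ} [Fact p.Prime] (P : Sylow p G)
    (hab : IsMulCommutative ↥(P : Subgroup G)) (hnn : ¬ (P : Subgroup G).Normal)
    (hall : ∀ Q : Sylow p G, ∃ A ∈ 𝓐, (Q : Subgroup G) ≤ A) :
    ∃ A ∈ 𝓐, (P : Subgroup G) ≤ A ∧ centralizer ((P : Subgroup G) : Set G) = A ∧
      (∀ M : Subgroup G, M ≠ ⊤ → A ≤ M → M ≤ normalizer ((P : Subgroup G) : Set G)) ∧
      (∀ g x : G, x ∈ P → x ∈ (g • P : Sylow p G) → x ≠ 1 →
        g ∈ normalizer ((P : Subgroup G) : Set G)) := by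
  obtain ⟨x₀, hx₀, hx₁⟩ : ∃ x₀ ∈ P, x₀ ≠ 1 := by
    by_contra hcon
    push Not at hcon
    apply hnn
    have : (P : Subgroup G) = ⊥ := (Subgroup.eq_bot_iff_forall _).2 hcon
    rw [this]
    infer_instance
  obtain ⟨A, hA, hPA⟩ := hall P
  have hcA := cent_eq C P hab P hA hPA hx₀ hx₁
  have key : ∀ g : G, ((g • P : Sylow p G) : Subgroup G) ≤ A →
      g ∈ normalizer ((P : Subgroup G) : Set G) := by
    intro g hg
    have hle : ((g • P : Sylow p G) : Subgroup G) ≤ P := by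
      intro t ht
      obtain ⟨j, hj⟩ := ppow (g • P) ht
      apply pelem_mem P t _ j hj
      apply cent_le_norm
      rw [mem_centralizer_iff]
      intro s hs
      exact central P hab (C.nil A hA) (hg ht) hj (hPA hs)
    have h1 := (g • P).is_maximal' P.2 hle
    exact Sylow.smul_eq_iff_mem_normalizer.1 (Sylow.ext h1.symm)
  refine ⟨A, hA, hPA, hcA, ?_, ?_⟩
  · intro M hM hAM m hm
    obtain ⟨B, hB, hPB⟩ := hall (m • P)
    have hcB := cent_eq C P hab (m • P) hB hPB (smul_mem_conj P m x₀ hx₀)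
      (fun h => hx₁ (by simpa using h))
    have hBM : B ≤ M := by
      intro y hy
      rw [← hcB] at hy
      have h1 : m⁻¹ * y * m ∈ A := by
        rw [← hcA, mem_centralizer_iff]
        intro t ht
        have h2 := mem_centralizer_iff.1 hy _ (smul_mem_conj P m t ht)
        calc t * (m⁻¹ * y * m) = m⁻¹ * ((m * t * m⁻¹) * y) * m := by group
          _ = m⁻¹ * (y * (m * t * m⁻¹)) * m := by rw [h2]
          _ = m⁻¹ * y * m * t := by group
      have h3 : y = m * (m⁻¹ * y * m) * m⁻¹ := by group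
      rw [h3]
      exact mul_mem (mul_mem hm (hAM h1)) (inv_mem hm)
    have hAB := two_mem C hM hA hB hAM hBM
    exact key m (hAB ▸ hPB)
  · intro g x hxP hxg hx1
    obtain ⟨B, hB, hPB⟩ := hall (g • P)
    obtain ⟨j, hj⟩ := ppow P hxP
    have hAB := inter_triv C P hab hA hB (hPA hxP) (hPB hxg) hj hx1
    exact key g (hAB ▸ hPB)

theorem coatom_norm {p : ℕ} (P : Sylow p G) (hnn : ¬ (P : Subgroup G).Normal) {A : Subgroup G}
    (hcA : centralizer ((P : Subgroup G) : Set G) = A)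
    (h : ∀ M : Subgroup G, M ≠ ⊤ → A ≤ M → M ≤ normalizer ((P : Subgroup G) : Set G)) :
    IsCoatom (normalizer ((P : Subgroup G) : Set G)) := by
  refine ⟨fun h => hnn (Subgroup.normalizer_eq_top_iff.1 h), fun M hNM => ?_⟩
  by_contra hM
  have h1 : A ≤ M := by
    rw [← hcA]
    exact (cent_le_norm _).trans hNM.le
  exact absurd (h M hM h1) hNM.not_ge

theorem ea_transfer (C : Cov 𝓐) {p : ℕ} [hp : Fact p.Prime] (P : Sylow p G)
    (hab : IsMulCommutative ↥(P : Subgroup G))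
    (hall : ¬ ∀ Q : Sylow p G, ∃ A ∈ 𝓐, (Q : Subgroup G) ≤ A) :
    Cfsg.IsElementaryAbelian p (P : Subgroup G) ∧ p < Nat.card ↥(P : Subgroup G) := by
  push Not at hall
  obtain ⟨Q, hQ⟩ := hall
  obtain ⟨h1, h2⟩ := ea_of_not_le C P hab Q hQ
  obtain ⟨g, rfl⟩ := MulAction.exists_smul_eq G P Q
  refine ⟨⟨hab, fun a ha => ?_⟩, ?_⟩
  · have := h1 _ (smul_mem_conj P g a ha)
    rw [conj_pow] at this
    simpa using this
  · have : Nat.card (g • P : Sylow p G) = Nat.card P := by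
      rw [Sylow.card_eq_multiplicity, Sylow.card_eq_multiplicity]
    rw [← this]
    exact h2

end

/-- A cover of a group is a finite set of proper subgroups whose union is the whole group; it is minimal when no cover has fewer members, and nilpotent when all its members are nilpotent. Let G be a finite group with trivial center admitting a nilpotent minimal cover 𝓐, and let P be an abelian Sylow p-subgroup of G that is not normal. Then either P is elementary abelian of order greater than p, or P is a Sylow p-subgroup of some member A of 𝓐, the normalizer N of P is a maximal subgroup of G, N meets each of its conjugates by elements outside N in a subgroup of order prime to p, and the centralizer of P equals A. -/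
theorem result {G : Type*} [Group G] [Finite G] (hZ : Subgroup.center G = ⊥) (𝓐 : Finset (Subgroup G))
    (h𝓐 : ((∀ A ∈ 𝓐, A ≠ ⊤) ∧ (∀ g : G, ∃ A ∈ 𝓐, g ∈ A)) ∧ (∀ 𝓑 : Finset (Subgroup G), (∀ A ∈ 𝓑, A ≠ ⊤) ∧ (∀ g : G, ∃ A ∈ 𝓑, g ∈ A) → 𝓐.card ≤ 𝓑.card) ∧ (∀ A ∈ 𝓐, Group.IsNilpotent ↥A)) {p : ℕ} [Fact p.Prime] (P : Sylow p G) (hab : IsMulCommutative ↥(P : Subgroup G))
    (hnn : ¬ (P : Subgroup G).Normal) :
    (Cfsg.IsElementaryAbelian p (P : Subgroup G) ∧ p < Nat.card ↥(P : Subgroup G)) ∨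
    (∃ A ∈ 𝓐, (P : Subgroup G) ≤ A ∧ ¬ p ∣ ((P : Subgroup G).subgroupOf A).index ∧
      IsCoatom (Subgroup.normalizer ((P : Subgroup G) : Set G)) ∧
      (∀ g : G, g ∉ Subgroup.normalizer ((P : Subgroup G) : Set G) →
        ¬ p ∣ Nat.card ↥(Subgroup.normalizer ((P : Subgroup G) : Set G) ⊓
          (Subgroup.normalizer ((P : Subgroup G) : Set G)).map (MulAut.conj g).toMonoidHom)) ∧
      Subgroup.centralizer ((P : Subgroup G) : Set G) = A) := by
  classical
  obtain ⟨⟨hprop, hcov⟩, hmin, hnil⟩ := h𝓐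
  have C : Cov 𝓐 := ⟨hprop, hcov, hmin, hnil, hZ⟩
  by_cases hall : ∀ Q : Sylow p G, ∃ A ∈ 𝓐, (Q : Subgroup G) ≤ A
  swap
  · left
    exact ea_transfer C P hab hall
  right
  obtain ⟨A, hA, hPA, hcA, h3, h4⟩ := struct C P hab hnn hall
  refine ⟨A, hA, hPA, ?_, coatom_norm P hnn hcA h3, ?_, hcA⟩
  · intro hd
    have h1 : ((P : Subgroup G).subgroupOf A).index * A.index = (P : Subgroup G).index :=
      Subgroup.relIndex_mul_index hPA
    exact P.not_dvd_index (h1 ▸ Dvd.dvd.mul_right hd _)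
  · intro g hg hd
    obtain ⟨x, hx⟩ := exists_prime_orderOf_dvd_card' p hd
    have hxp : (x : G) ^ (p ^ 1) = 1 := by
      have := pow_orderOf_eq_one x
      rw [hx] at this
      rw [pow_one]
      exact congrArg Subtype.val this
    have hx1 : (x : G) ≠ 1 := by
      intro h
      have : x = 1 := Subtype.ext h
      rw [this, orderOf_one] at hx
      exact (Fact.out : p.Prime).one_lt.ne hx
    have hxP : (x : G) ∈ P := pelem_mem P _ x.2.1 1 hxp
    obtain ⟨n, hn, hnx⟩ := x.2.2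
    have hnx' : g * n * g⁻¹ = (x : G) := hnx
    have hnp : n ^ (p ^ 1) = 1 := by
      rw [← hnx', conj_pow] at hxp
      simpa using hxp
    have hnP : n ∈ P := pelem_mem P _ hn 1 hnp
    exact hg (h4 g x hxP (hnx' ▸ smul_mem_conj P g n hnP) hx1)

end Cfsg.Agent.S3890
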