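import Cfsg.Statements.S3891
import Mathlib
import Cfsg.Agent.S3890

set_option autoImplicit false
open Cfsg

namespace Cfsg.Agent.S3891

/-- A cover of a group is a finite set of proper subgroups whose union is the whole group; it is minimal when no cover has fewer members, and nilpotent when all its members are nilpotent. Let G be a finite group with trivial center admitting a nilpotent minimal cover, and let P be a non-normal Sylow p-subgroup of G that is cyclic, or abelian but not elementary abelian. Then the centralizer of P is nilpotent and the normalizer of P is the unique maximal subgroup of G containing the centralizer of P. -/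
theorem result {G : Type*} [Group G] [Finite G] (hZ : Subgroup.center G = ⊥) (𝓐 : Finset (Subgroup G))
    (h𝓐 : ((∀ A ∈ 𝓐, A ≠ ⊤) ∧ (∀ g : G, ∃ A ∈ 𝓐, g ∈ A)) ∧ (∀ 𝓑 : Finset (Subgroup G), (∀ A ∈ 𝓑, A ≠ ⊤) ∧ (∀ g : G, ∃ A ∈ 𝓑, g ∈ A) → 𝓐.card ≤ 𝓑.card) ∧ (∀ A ∈ 𝓐, Group.IsNilpotent ↥A)) {p : ℕ} [Fact p.Prime] (P : Sylow p G)
    (hP : IsCyclic ↥(P : Subgroup G) ∨ (IsMulCommutative ↥(P : Subgroup G) ∧ ¬ Cfsg.IsElementaryAbelian p (P : Subgroup G)))
    (hnn : ¬ (P : Subgroup G).Normal) :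
    Group.IsNilpotent ↥(Subgroup.centralizer ((P : Subgroup G) : Set G)) ∧
      IsCoatom (Subgroup.normalizer ((P : Subgroup G) : Set G)) ∧
      ∀ M : Subgroup G, IsCoatom M → Subgroup.centralizer ((P : Subgroup G) : Set G) ≤ M →
        M = Subgroup.normalizer ((P : Subgroup G) : Set G) := by
  classical
  obtain ⟨⟨hprop, hcov⟩, hmin, hnil⟩ := h𝓐
  have C : Cfsg.Agent.S3890.Cov 𝓐 := ⟨hprop, hcov, hmin, hnil, hZ⟩
  have hab : IsMulCommutative ↥(P : Subgroup G) := by
    rcases hP with hc | h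
    · exact ⟨⟨fun a b => (IsCyclic.commGroup (α := ↥(P : Subgroup G))).mul_comm a b⟩⟩
    · exact h.1
  have hall : ∀ Q : Sylow p G, ∃ A ∈ 𝓐, (Q : Subgroup G) ≤ A := by
    by_contra hcon
    obtain ⟨h1, h2⟩ := Cfsg.Agent.S3890.ea_transfer C P hab hcon
    rcases hP with hc | h
    · obtain ⟨g, hg⟩ := IsCyclic.exists_generator (α := ↥(P : Subgroup G))
      have h3 : orderOf g = Nat.card ↥(P : Subgroup G) := orderOf_eq_card_of_forall_mem_zpowers hg
      have h4 : g ^ p = 1 := Subtype.ext (h1.2 g.1 g.2)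
      have h5 := Nat.le_of_dvd (Fact.out : p.Prime).pos (orderOf_dvd_of_pow_eq_one h4)
      omega
    · exact h.2 h1
  obtain ⟨A, hA, hPA, hcA, h3, h4⟩ := Cfsg.Agent.S3890.struct C P hab hnn hall
  have hco := Cfsg.Agent.S3890.coatom_norm P hnn hcA h3
  refine ⟨?_, hco, ?_⟩
  · rw [hcA]
    exact hnil A hA
  · intro M hM hle
    have h5 : M ≤ Subgroup.normalizer ((P : Subgroup G) : Set G) := h3 M hM.1 (hcA ▸ hle)
    by_contra hne
    exact hco.1 (hM.2 _ (lt_of_le_of_ne h5 hne))

end Cfsg.Agent.S3891
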