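import Cfsg.Statements.S3892
import Mathlib
-- import your own Cfsg.Agent.* helpers here

set_option autoImplicit false
open Cfsg

namespace Cfsg.Agent.S3892

open Equiv Equiv.Perm

theorem center_ne_one {A : Type*} [Group A] [Group.IsNilpotent A] {x : A} (hx : x ≠ 1) :
    ∃ z : A, z ≠ 1 ∧ ∀ y : A, y * z = z * y := by
  by_contra hcon
  push Not at hcon
  have hall : ∀ n : ℕ, Subgroup.upperCentralSeries A n = ⊥ := by
    intro n
    induction n with
    | zero => exact Subgroup.upperCentralSeries_zero A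
    | succ n ih =>
      rw [eq_bot_iff]
      intro z hz
      rw [Subgroup.mem_upperCentralSeries_succ_iff] at hz
      rw [Subgroup.mem_bot]
      by_contra hz1
      obtain ⟨y, hy⟩ := hcon z hz1
      apply hy
      have := hz y
      rw [ih, Subgroup.mem_bot] at this
      exact (commutatorElement_eq_one_iff_mul_comm.1 this).symm
  obtain ⟨n, hn⟩ := (inferInstance : Group.IsNilpotent A).nilpotent'
  rw [hall n] at hn
  have : x ∈ (⊥ : Subgroup A) := hn ▸ Subgroup.mem_top x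
  exact hx (Subgroup.mem_bot.1 this)

/-- central element of a nilpotent subgroup, in the ambient group -/
theorem exists_central {G : Type*} [Group G] (A : Subgroup G) (hA : Group.IsNilpotent A) (x : G)
    (hxA : x ∈ A) (hx : x ≠ 1) : ∃ z ∈ A, z ≠ 1 ∧ ∀ t ∈ A, t * z = z * t := by
  obtain ⟨z, hz1, hz⟩ := center_ne_one (A := A) (x := ⟨x, hxA⟩)
    (fun h => hx (congrArg Subtype.val h))
  exact ⟨z.1, z.2, fun h => hz1 (Subtype.ext h), fun t ht => congrArg Subtype.val (hz ⟨t, ht⟩)⟩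

/-- no proper subgroup contains two members of a minimal cover -/
theorem two_in_one {G : Type*} [Group G] (𝓐 : Finset (Subgroup G))
    (hcov : ∀ g : G, ∃ A ∈ 𝓐, g ∈ A) (hprop : ∀ A ∈ 𝓐, A ≠ ⊤)
    (hmin : ∀ 𝓑 : Finset (Subgroup G), (∀ A ∈ 𝓑, A ≠ ⊤) ∧ (∀ g : G, ∃ A ∈ 𝓑, g ∈ A) →
      𝓐.card ≤ 𝓑.card)
    (M : Subgroup G) (hM : M ≠ ⊤) (A B : Subgroup G) (hA : A ∈ 𝓐) (hB : B ∈ 𝓐) (hAB : A ≠ B)
    (hAM : A ≤ M) (hBM : B ≤ M) : False := by
  classical
  have h1 := hmin (insert M ((𝓐.erase A).erase B)) ⟨by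
    intro C hC
    rcases Finset.mem_insert.mp hC with rfl | hC
    · exact hM
    · exact hprop C (Finset.mem_of_mem_erase (Finset.mem_of_mem_erase hC)), by
    intro g
    obtain ⟨C, hC, hgC⟩ := hcov g
    by_cases hCA : C = A
    · exact ⟨M, Finset.mem_insert_self _ _, hAM (hCA ▸ hgC)⟩
    by_cases hCB : C = B
    · exact ⟨M, Finset.mem_insert_self _ _, hBM (hCB ▸ hgC)⟩
    exact ⟨C, Finset.mem_insert_of_mem (Finset.mem_erase.mpr ⟨hCB, Finset.mem_erase.mpr ⟨hCA, hC⟩⟩),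
      hgC⟩⟩
  have h2 := Finset.card_insert_le M ((𝓐.erase A).erase B)
  have h3 : ((𝓐.erase A).erase B).card = (𝓐.erase A).card - 1 :=
    Finset.card_erase_of_mem (Finset.mem_erase.mpr ⟨hAB.symm, hB⟩)
  have h4 : (𝓐.erase A).card = 𝓐.card - 1 := Finset.card_erase_of_mem hA
  have h5 : 2 ≤ 𝓐.card := by
    have : ({A, B} : Finset (Subgroup G)) ⊆ 𝓐 := by
      intro C hC
      rcases Finset.mem_insert.mp hC with rfl | hC
      · exact hA
      · rw [Finset.mem_singleton.mp hC]; exact hB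
    have h6 := Finset.card_le_card this
    rwa [Finset.card_pair hAB] at h6
  omega

/-- the general principle -/
theorem no_cover {G : Type*} [Group G] (x y : G) (M : Subgroup G) (hM : M ≠ ⊤)
    (hx : ∀ A : Subgroup G, Group.IsNilpotent A → x ∈ A → A ≤ M)
    (hy : ∀ A : Subgroup G, Group.IsNilpotent A → y ∈ A → A ≤ M)
    (hxy : ∀ A : Subgroup G, Group.IsNilpotent A → x ∈ A → y ∈ A → False) :
    ¬ ∃ 𝓐 : Finset (Subgroup G), ((∀ A ∈ 𝓐, A ≠ ⊤) ∧ (∀ g : G, ∃ A ∈ 𝓐, g ∈ A)) ∧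
      (∀ 𝓑 : Finset (Subgroup G), (∀ A ∈ 𝓑, A ≠ ⊤) ∧ (∀ g : G, ∃ A ∈ 𝓑, g ∈ A) →
        𝓐.card ≤ 𝓑.card) ∧ (∀ A ∈ 𝓐, Group.IsNilpotent ↥A) := by
  rintro ⟨𝓐, ⟨hprop, hcov⟩, hmin, hnil⟩
  obtain ⟨A, hA, hxA⟩ := hcov x
  obtain ⟨B, hB, hyB⟩ := hcov y
  have hAB : A ≠ B := by
    rintro rfl
    exact hxy A (hnil A hA) hxA hyB
  exact two_in_one 𝓐 hcov hprop hmin M hM A B hA hB hAB (hx A (hnil A hA) hxA)
    (hy B (hnil B hB) hyB)

section perm

variable {Ω : Type*} [DecidableEq Ω] [Fintype Ω]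

theorem fix_all {X Z : Perm Ω} (hX : X.IsCycle) (hc : Z * X = X * Z) {a : Ω} (ha : X a ≠ a)
    (hZa : Z a = a) : ∀ b, X b ≠ b → Z b = b := by
  intro b hb
  obtain ⟨k, rfl⟩ := hX.exists_pow_eq ha hb
  have h1 : Z * X ^ k = X ^ k * Z := (Commute.pow_right (show Commute Z X from hc) k)
  calc Z ((X ^ k) a) = (Z * X ^ k) a := rfl
    _ = (X ^ k * Z) a := by rw [h1]
    _ = (X ^ k) a := by rw [Perm.mul_apply, hZa]

theorem fix_comm {X Z : Perm Ω} (hc : Z * X = X * Z) (a : Ω) : X (Z a) = Z a ↔ X a = a := by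
  have h1 : X (Z a) = Z (X a) := by
    calc X (Z a) = (X * Z) a := rfl
      _ = (Z * X) a := by rw [hc]
      _ = Z (X a) := rfl
  rw [h1]
  exact Z.injective.eq_iff

variable {G : Type*} [Group G] (ι : G →* Perm Ω) (hι : Function.Injective ι)

include hι in
theorem central_one (A : Subgroup G) (hA : Group.IsNilpotent A) (x : G) (hxA : x ∈ A)
    (hX : (ι x).IsCycle) (a₀ : Ω) (hfix : ∀ p, ι x p = p ↔ p = a₀) :
    ∃ z ∈ A, (∀ t ∈ A, t * z = z * t) ∧ ∀ p, ι z p = p ↔ ι x p = p := by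
  have hx1 : x ≠ 1 := by
    rintro rfl
    rw [map_one] at hX
    exact hX.ne_one rfl
  obtain ⟨z, hzA, hz1, hz⟩ := exists_central A hA x hxA hx1
  refine ⟨z, hzA, hz, ?_⟩
  have hc : ι z * ι x = ι x * ι z := by rw [← map_mul, ← map_mul, hz x hxA]
  have hza : ι z a₀ = a₀ := (hfix _).mp ((fix_comm hc a₀).mpr ((hfix a₀).mpr rfl))
  intro p
  constructor
  · intro hp
    by_contra hxp
    apply hz1
    apply hι
    rw [map_one]
    ext b
    by_cases hb : ι x b = b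
    · rw [(hfix b).mp hb]; exact hza
    · exact fix_all hX hc hxp hp b hb
  · intro hp
    rw [(hfix p).mp hp]; exact hza

include hι in
theorem central_two (A : Subgroup G) (hA : Group.IsNilpotent A) (x : G) (hxA : x ∈ A)
    (hX : (ι x).IsCycle) (a₀ b₀ : Ω) (hab : a₀ ≠ b₀) (hfix : ∀ p, ι x p = p ↔ p = a₀ ∨ p = b₀)
    (hodd : Odd (Fintype.card Ω)) (heven : ∀ t, sign (ι t) = 1) :
    ∃ z ∈ A, (∀ t ∈ A, t * z = z * t) ∧ ∀ p, ι z p = p ↔ ι x p = p := by
  have hx1 : x ≠ 1 := by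
    rintro rfl
    rw [map_one] at hX
    exact hX.ne_one rfl
  -- images of the two fixed points
  have hpres : ∀ w : G, w * x = x * w → (ι w a₀ = a₀ ∧ ι w b₀ = b₀) ∨ (ι w a₀ = b₀ ∧ ι w b₀ = a₀) := by
    intro w hw
    have hc : ι w * ι x = ι x * ι w := by rw [← map_mul, ← map_mul, hw]
    have h1 := (hfix _).mp ((fix_comm hc a₀).mpr ((hfix a₀).mpr (Or.inl rfl)))
    have h2 := (hfix _).mp ((fix_comm hc b₀).mpr ((hfix b₀).mpr (Or.inr rfl)))
    have h3 : ι w a₀ ≠ ι w b₀ := fun h => hab ((ι w).injective h)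
    rcases h1 with h1 | h1 <;> rcases h2 with h2 | h2
    · exact absurd (h1.trans h2.symm) h3
    · exact Or.inl ⟨h1, h2⟩
    · exact Or.inr ⟨h1, h2⟩
    · exact absurd (h1.trans h2.symm) h3
  have key : ∀ w : G, w * x = x * w → w ≠ 1 → ∀ p, ι w p = p → ι x p = p := by
    intro w hw hw1 p hp
    have hc : ι w * ι x = ι x * ι w := by rw [← map_mul, ← map_mul, hw]
    by_contra hxp
    have hall := fix_all hX hc hxp hp
    rcases hpres w hw with ⟨h1, h2⟩ | ⟨h1, h2⟩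
    · apply hw1
      apply hι
      rw [map_one]
      ext b
      by_cases hb : ι x b = b
      · rcases (hfix b).mp hb with rfl | rfl
        · exact h1
        · exact h2
      · exact hall b hb
    · have h3 : ι w = swap a₀ b₀ := by
        ext b
        by_cases hb : ι x b = b
        · rcases (hfix b).mp hb with rfl | rfl
          · rw [h1, swap_apply_left]
          · rw [h2, swap_apply_right]
        · rw [hall b hb, swap_apply_of_ne_of_ne]
          · rintro rfl; exact hb ((hfix _).mpr (Or.inl rfl))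
          · rintro rfl; exact hb ((hfix _).mpr (Or.inr rfl))
      have h4 := heven w
      rw [h3, sign_swap hab] at h4
      exact absurd h4 (by decide)
  obtain ⟨z, hzA, hz1, hz⟩ := exists_central A hA x hxA hx1
  have hzx : z * x = x * z := (hz x hxA).symm
  rcases hpres z hzx with ⟨h1, h2⟩ | ⟨h1, h2⟩
  · refine ⟨z, hzA, hz, fun p => ⟨key z hzx hz1 p, fun hp => ?_⟩⟩
    rcases (hfix p).mp hp with rfl | rfl
    · exact h1
    · exact h2
  · have hz2x : z ^ 2 * x = x * z ^ 2 := (Commute.pow_left (show Commute z x from hzx) 2)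
    have hz21 : z ^ 2 ≠ 1 := by
      intro h
      have h3 : (ι z) ^ 2 = 1 := by rw [← map_pow, h, map_one]
      have h4 := two_dvd_card_support h3
      have h5 : (ι z).support = Finset.univ := by
        ext p
        simp only [mem_support, Finset.mem_univ, iff_true]
        intro hp
        rcases (hfix p).mp (key z hzx hz1 p hp) with rfl | rfl
        · exact hab (hp.symm.trans h1)
        · exact hab (h2.symm.trans hp)
      rw [h5, Finset.card_univ] at h4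
      exact (Nat.not_even_iff_odd.mpr hodd) (even_iff_two_dvd.mpr h4)
    refine ⟨z ^ 2, A.pow_mem hzA 2, fun t ht =>
      (Commute.pow_right (show Commute t z from hz t ht) 2), fun p => ⟨key _ hz2x hz21 p, fun hp => ?_⟩⟩
    have h6 : ∀ q, ι (z ^ 2) q = ι z (ι z q) := by
      intro q
      rw [map_pow, pow_two]; rfl
    rcases (hfix p).mp hp with rfl | rfl
    · rw [h6, h1, h2]
    · rw [h6, h2, h1]

/-- the stabilizer of a set of points -/
def stabSet (Φ : Set Ω) : Subgroup G where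
  carrier := {t | ∀ p, ι t p ∈ Φ ↔ p ∈ Φ}
  one_mem' := by intro p; simp
  mul_mem' := by
    intro s t hs ht p
    rw [map_mul, Perm.mul_apply, hs, ht]
  inv_mem' := by
    intro t ht p
    have := ht (ι t⁻¹ p)
    rw [map_inv] at this ⊢
    simp at this
    exact this.symm

theorem le_stabSet (A : Subgroup G) (x : G)
    (h : ∃ z ∈ A, (∀ t ∈ A, t * z = z * t) ∧ ∀ p, ι z p = p ↔ ι x p = p) :
    A ≤ stabSet ι {p | ι x p = p} := by
  obtain ⟨z, -, hz, hfix⟩ := h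
  intro t ht p
  show ι x (ι t p) = ι t p ↔ ι x p = p
  rw [← hfix, ← hfix]
  exact fix_comm (by rw [← map_mul, ← map_mul, hz t ht]) p

omit [Fintype Ω] in
theorem no_common (X z : Perm Ω) (p0 p1 p2 p3 : Ω) (h01 : p0 ≠ p1) (h02 : p0 ≠ p2) (h03 : p0 ≠ p3)
    (h12 : p1 ≠ p2) (h13 : p1 ≠ p3) (h23 : p2 ≠ p3)
    (e0 : X p0 = p1) (e1 : X p1 = p2) (e2 : X p2 = p3) (hzX : z * X = X * z)
    (hzY : z * (swap p0 p1 * X * (swap p0 p1)⁻¹) = (swap p0 p1 * X * (swap p0 p1)⁻¹) * z)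
    (hz0 : z p0 ≠ p0) : False := by
  obtain ⟨c, hc⟩ : ∃ c, c = swap p0 p1 * X * (swap p0 p1)⁻¹ * X⁻¹ := ⟨_, rfl⟩
  have zX : ∀ p, z (X p) = X (z p) := by
    intro p
    calc z (X p) = (z * X) p := rfl
      _ = (X * z) p := by rw [hzX]
      _ = _ := rfl
  have hcomm : Commute z c := by
    rw [hc]
    exact Commute.mul_right hzY (Commute.inv_right hzX)
  have zc : ∀ p, z (c p) = c (z p) := by
    intro p
    calc z (c p) = (z * c) p := rfl
      _ = (c * z) p := by rw [hcomm.eq]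
      _ = _ := rfl
  have hcX : ∀ q, c (X q) = swap p0 p1 (X (swap p0 p1 q)) := by
    intro q
    rw [hc, swap_inv]
    simp
  have c1 : c p1 = p2 := by
    rw [← e0, hcX, swap_apply_left, e1, swap_apply_of_ne_of_ne h02.symm h12.symm]
  have c2 : c p2 = p0 := by
    rw [← e1, hcX, swap_apply_right, e0, swap_apply_right]
  have hgen : ∀ p, p ≠ p1 → p ≠ p2 → c p = swap p0 p1 p := by
    intro p hp1 hp2
    obtain ⟨q, rfl⟩ := X.surjective p
    have hq0 : q ≠ p0 := by rintro rfl; exact hp1 e0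
    have hq1 : q ≠ p1 := by rintro rfl; exact hp2 e1
    rw [hcX, swap_apply_of_ne_of_ne hq0 hq1]
  have c0 : c p0 = p1 := by rw [hgen p0 h01 h02, swap_apply_left]
  have cfix : ∀ p, p ≠ p0 → p ≠ p1 → p ≠ p2 → c p = p := by
    intro p hp0 hp1 hp2
    rw [hgen p hp1 hp2, swap_apply_of_ne_of_ne hp0 hp1]
  have hmove : ∀ p, c p ≠ p → z p = p0 ∨ z p = p1 ∨ z p = p2 := by
    intro p hp
    by_contra hcon
    push Not at hcon
    have h1 := cfix (z p) hcon.1 hcon.2.1 hcon.2.2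
    rw [← zc] at h1
    exact hp (z.injective h1)
  rcases hmove p0 (by rw [c0]; exact h01.symm) with h | h | h
  · exact hz0 h
  · -- z p0 = p1, z p1 = p2, z p2 = p3
    have h1 : z p1 = p2 := by rw [← e0, zX, h, e1]
    have h2 : z p2 = p3 := by rw [← e1, zX, h1, e2]
    rcases hmove p2 (by rw [c2]; exact h02) with h' | h' | h'
    · exact h03 (h'.symm.trans h2)
    · exact h13 (h'.symm.trans h2)
    · exact h23 (h'.symm.trans h2)
  · have h1 : z p1 = p3 := by rw [← e0, zX, h, e2]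
    rcases hmove p1 (by rw [c1]; exact h12.symm) with h' | h' | h'
    · exact h03 (h'.symm.trans h1)
    · exact h13 (h'.symm.trans h1)
    · exact h23 (h'.symm.trans h1)

theorem no_cover_cycle (x y : G) (p0 p1 p2 p3 : Ω) (h01 : p0 ≠ p1) (h02 : p0 ≠ p2) (h03 : p0 ≠ p3)
    (h12 : p1 ≠ p2) (h13 : p1 ≠ p3) (h23 : p2 ≠ p3)
    (e0 : ι x p0 = p1) (e1 : ι x p1 = p2) (e2 : ι x p2 = p3) (hX : (ι x).IsCycle)
    (hy : ι y = swap p0 p1 * ι x * (swap p0 p1)⁻¹)
    (hcent : ∀ w : G, (ι w).IsCycle → (∀ p, ι w p = p ↔ ι x p = p) → ∀ A : Subgroup G,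
      Group.IsNilpotent A → w ∈ A →
        ∃ z ∈ A, (∀ t ∈ A, t * z = z * t) ∧ ∀ p, ι z p = p ↔ ι w p = p)
    (hM : ∃ t : G, ∃ p, ι x p = p ∧ ι x (ι t p) ≠ ι t p) :
    ¬ ∃ 𝓐 : Finset (Subgroup G), ((∀ A ∈ 𝓐, A ≠ ⊤) ∧ (∀ g : G, ∃ A ∈ 𝓐, g ∈ A)) ∧
      (∀ 𝓑 : Finset (Subgroup G), (∀ A ∈ 𝓑, A ≠ ⊤) ∧ (∀ g : G, ∃ A ∈ 𝓑, g ∈ A) →
        𝓐.card ≤ 𝓑.card) ∧ (∀ A ∈ 𝓐, Group.IsNilpotent ↥A) := by
  have hfy : ∀ p, ι y p = p ↔ ι x p = p := by
    intro p
    rw [hy, swap_inv]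
    simp only [Perm.mul_apply]
    by_cases hp0 : p = p0
    · subst hp0
      rw [swap_apply_left, e1, swap_apply_of_ne_of_ne h02.symm h12.symm, e0]
      exact ⟨fun h => absurd h h02.symm, fun h => absurd h h01.symm⟩
    by_cases hp1 : p = p1
    · subst hp1
      rw [swap_apply_right, e0, swap_apply_right, e1]
      exact ⟨fun h => absurd h h01, fun h => absurd h h12.symm⟩
    rw [swap_apply_of_ne_of_ne hp0 hp1]
    constructor
    · intro h
      have h1 : ι x p = swap p0 p1 p := by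
        conv_rhs => rw [← h]
        rw [swap_apply_self]
      rwa [swap_apply_of_ne_of_ne hp0 hp1] at h1
    · intro h
      rw [h, swap_apply_of_ne_of_ne hp0 hp1]
  have hY : (ι y).IsCycle := hy ▸ hX.conj
  have hset : {p | ι y p = p} = {p | ι x p = p} := Set.ext hfy
  apply no_cover x y (stabSet ι {p | ι x p = p})
  · intro htop
    obtain ⟨t, p, hp, htp⟩ := hM
    have : t ∈ stabSet ι {p | ι x p = p} := htop ▸ Subgroup.mem_top t
    exact htp ((this p).mpr hp)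
  · intro A hA hxA
    exact le_stabSet ι A x (hcent x hX (fun _ => Iff.rfl) A hA hxA)
  · intro A hA hyA
    rw [← hset]
    exact le_stabSet ι A y (hcent y hY hfy A hA hyA)
  · intro A hA hxA hyA
    obtain ⟨z, -, hz, hfix⟩ := hcent x hX (fun _ => Iff.rfl) A hA hxA
    apply no_common (ι x) (ι z) p0 p1 p2 p3 h01 h02 h03 h12 h13 h23 e0 e1 e2
    · rw [← map_mul, ← map_mul, hz x hxA]
    · rw [← hy, ← map_mul, ← map_mul, hz y hyA]
    · intro h
      have := (hfix p0).mp h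
      rw [e0] at this
      exact h01 this.symm

end perm

theorem cr_fix {n : ℕ} (i p : Fin n) (hi : 0 < i.val) : Fin.cycleRange i p = p ↔ i < p := by
  constructor
  · intro h
    by_contra hlt
    have hle : p ≤ i := not_lt.mp hlt
    have h1 := Fin.coe_cycleRange_of_le hle
    rw [h] at h1
    split_ifs at h1 with h2
    · rw [h2] at h1; omega
    · omega
  · exact Fin.cycleRange_of_gt

theorem cr_step {n : ℕ} (i : Fin n) (k : ℕ) (hk : k < i.val) :
    Fin.cycleRange i ⟨k, lt_trans hk i.2⟩ = ⟨k + 1, lt_of_le_of_lt hk i.2⟩ :=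
  Fin.ext (Fin.coe_cycleRange_of_lt (show (⟨k, lt_trans hk i.2⟩ : Fin n) < i from hk))

theorem sym_case (n : ℕ) (hn : 5 ≤ n) :
    ¬ ∃ 𝓐 : Finset (Subgroup (Equiv.Perm (Fin n))), ((∀ A ∈ 𝓐, A ≠ ⊤) ∧
      (∀ g : (Equiv.Perm (Fin n)), ∃ A ∈ 𝓐, g ∈ A)) ∧
      (∀ 𝓑 : Finset (Subgroup (Equiv.Perm (Fin n))), (∀ A ∈ 𝓑, A ≠ ⊤) ∧
        (∀ g : (Equiv.Perm (Fin n)), ∃ A ∈ 𝓑, g ∈ A) → 𝓐.card ≤ 𝓑.card) ∧
      (∀ A ∈ 𝓐, Group.IsNilpotent ↥A) := by
  have : NeZero n := ⟨by omega⟩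
  obtain ⟨i, hi⟩ : ∃ i : Fin n, i.val = n - 2 := ⟨⟨n - 2, by omega⟩, rfl⟩
  obtain ⟨a₀, ha₀⟩ : ∃ a : Fin n, a.val = n - 1 := ⟨⟨n - 1, by omega⟩, rfl⟩
  have hfix : ∀ p, Fin.cycleRange i p = p ↔ p = a₀ := by
    intro p
    rw [cr_fix i p (by omega)]
    constructor
    · intro h
      apply Fin.ext
      have h1 : i.val < p.val := h
      have := p.2
      omega
    · intro h
      rw [h]
      show i.val < a₀.val
      omega
  have hi0 : i ≠ 0 := by
    intro h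
    have h3 : (i : ℕ) = 0 := by rw [h]; simp
    omega
  have e0 := cr_step i 0 (by omega)
  have e1 := cr_step i 1 (by omega)
  have e2 := cr_step i 2 (by omega)
  refine no_cover_cycle (MonoidHom.id _) (Fin.cycleRange i) _ _ _ _ _ ?_ ?_ ?_ ?_ ?_ ?_ e0 e1 e2
    (Fin.isCycle_cycleRange hi0) rfl ?_ ?_
  · simp [Fin.ext_iff]
  · simp [Fin.ext_iff]
  · simp [Fin.ext_iff]
  · simp [Fin.ext_iff]
  · simp [Fin.ext_iff]
  · simp [Fin.ext_iff]
  · intro w hw hfw A hA hwA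
    exact central_one (MonoidHom.id _) (fun _ _ h => h) A hA w hwA hw a₀
      (fun p => (hfw p).trans (hfix p))
  · refine ⟨swap ⟨0, by omega⟩ a₀, a₀, (hfix a₀).mpr rfl, ?_⟩
    show Fin.cycleRange i (swap ⟨0, by omega⟩ a₀ a₀) ≠ swap ⟨0, by omega⟩ a₀ a₀
    rw [swap_apply_right, e0]
    simp [Fin.ext_iff]

theorem alt_aux (n : ℕ) (i : Fin n) (hi : 3 ≤ i.val) (hev : Even i.val) (a₀ : Fin n) (ha : i < a₀)
    (hcent : ∀ w : alternatingGroup (Fin n), (w : Perm (Fin n)).IsCycle →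
      (∀ p, (w : Perm (Fin n)) p = p ↔ Fin.cycleRange i p = p) →
      ∀ A : Subgroup (alternatingGroup (Fin n)), Group.IsNilpotent A → w ∈ A →
        ∃ z ∈ A, (∀ t ∈ A, t * z = z * t) ∧
          ∀ p, (z : Perm (Fin n)) p = p ↔ (w : Perm (Fin n)) p = p) :
    ¬ ∃ 𝓐 : Finset (Subgroup ↥(alternatingGroup (Fin n))), ((∀ A ∈ 𝓐, A ≠ ⊤) ∧
      (∀ g : ↥(alternatingGroup (Fin n)), ∃ A ∈ 𝓐, g ∈ A)) ∧
      (∀ 𝓑 : Finset (Subgroup ↥(alternatingGroup (Fin n))), (∀ A ∈ 𝓑, A ≠ ⊤) ∧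
        (∀ g : ↥(alternatingGroup (Fin n)), ∃ A ∈ 𝓑, g ∈ A) → 𝓐.card ≤ 𝓑.card) ∧
      (∀ A ∈ 𝓐, Group.IsNilpotent ↥A) := by
  have hn := i.2
  have : NeZero n := ⟨by omega⟩
  have hi0 : i ≠ 0 := by
    intro h
    have h3 : (i : ℕ) = 0 := by rw [h]; simp
    omega
  have e0 := cr_step i 0 (by omega)
  have e1 := cr_step i 1 (by omega)
  have e2 := cr_step i 2 (by omega)
  have hsX : sign (Fin.cycleRange i) = 1 := by
    rw [Fin.sign_cycleRange, hev.neg_one_pow]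
  have hXm : Fin.cycleRange i ∈ alternatingGroup (Fin n) := mem_alternatingGroup.mpr hsX
  have hYm : ∀ g : Perm (Fin n), g * Fin.cycleRange i * g⁻¹ ∈ alternatingGroup (Fin n) := by
    intro g
    rw [mem_alternatingGroup, Perm.sign_mul, Perm.sign_mul, sign_inv, hsX, mul_one]
    exact Int.units_mul_self _
  have ha' : i.val < a₀.val := ha
  refine no_cover_cycle (alternatingGroup (Fin n)).subtype ⟨Fin.cycleRange i, hXm⟩
    ⟨_, hYm (swap ⟨0, by omega⟩ ⟨0 + 1, by omega⟩)⟩ _ _ _ _ ?_ ?_ ?_ ?_ ?_ ?_ e0 e1 e2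
    (Fin.isCycle_cycleRange hi0) rfl hcent ?_
  · simp [Fin.ext_iff]
  · simp [Fin.ext_iff]
  · simp [Fin.ext_iff]
  · simp [Fin.ext_iff]
  · simp [Fin.ext_iff]
  · simp [Fin.ext_iff]
  · have h0a : (⟨0, by omega⟩ : Fin n) ≠ a₀ := by
      intro h
      have := congrArg Fin.val h
      simp at this
      omega
    have h12 : (⟨1, by omega⟩ : Fin n) ≠ ⟨2, by omega⟩ := by simp [Fin.ext_iff]
    have h1a : a₀ ≠ (⟨1, by omega⟩ : Fin n) := by
      intro h
      have := congrArg Fin.val h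
      simp at this
      omega
    have h2a : a₀ ≠ (⟨2, by omega⟩ : Fin n) := by
      intro h
      have := congrArg Fin.val h
      simp at this
      omega
    refine ⟨⟨swap ⟨0, by omega⟩ a₀ * swap ⟨1, by omega⟩ ⟨2, by omega⟩, ?_⟩, a₀,
      Fin.cycleRange_of_gt ha, ?_⟩
    · rw [mem_alternatingGroup, Perm.sign_mul, sign_swap h0a, sign_swap h12]
      rfl
    · show Fin.cycleRange i ((swap (⟨0, by omega⟩ : Fin n) a₀ *
          swap (⟨1, by omega⟩ : Fin n) ⟨2, by omega⟩) a₀) ≠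
        (swap (⟨0, by omega⟩ : Fin n) a₀ * swap (⟨1, by omega⟩ : Fin n) ⟨2, by omega⟩) a₀
      rw [Perm.mul_apply, swap_apply_of_ne_of_ne h1a h2a, swap_apply_right, e0]
      simp [Fin.ext_iff]

theorem alt_even (n : ℕ) (hn : 6 ≤ n) (hev : Even n) :
    ¬ ∃ 𝓐 : Finset (Subgroup ↥(alternatingGroup (Fin n))), ((∀ A ∈ 𝓐, A ≠ ⊤) ∧
      (∀ g : ↥(alternatingGroup (Fin n)), ∃ A ∈ 𝓐, g ∈ A)) ∧
      (∀ 𝓑 : Finset (Subgroup ↥(alternatingGroup (Fin n))), (∀ A ∈ 𝓑, A ≠ ⊤) ∧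
        (∀ g : ↥(alternatingGroup (Fin n)), ∃ A ∈ 𝓑, g ∈ A) → 𝓐.card ≤ 𝓑.card) ∧
      (∀ A ∈ 𝓐, Group.IsNilpotent ↥A) := by
  obtain ⟨i, hi⟩ : ∃ i : Fin n, i.val = n - 2 := ⟨⟨n - 2, by omega⟩, rfl⟩
  obtain ⟨a₀, ha₀⟩ : ∃ a : Fin n, a.val = n - 1 := ⟨⟨n - 1, by omega⟩, rfl⟩
  have hfix : ∀ p, Fin.cycleRange i p = p ↔ p = a₀ := by
    intro p
    rw [cr_fix i p (by omega)]
    constructor
    · intro h
      apply Fin.ext
      have h1 : i.val < p.val := h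
      have := p.2
      omega
    · intro h
      rw [h]
      show i.val < a₀.val
      omega
  apply alt_aux n i (by omega) (by rw [hi]; exact (Nat.even_sub (by omega)).mpr (by simp [hev])) a₀
    (by show i.val < a₀.val; omega)
  intro w hw hfw A hA hwA
  exact central_one (alternatingGroup (Fin n)).subtype Subtype.val_injective A hA w hwA hw a₀
    (fun p => (hfw p).trans (hfix p))

theorem alt_odd (n : ℕ) (hn : 7 ≤ n) (hodd : Odd n) :
    ¬ ∃ 𝓐 : Finset (Subgroup ↥(alternatingGroup (Fin n))), ((∀ A ∈ 𝓐, A ≠ ⊤) ∧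
      (∀ g : ↥(alternatingGroup (Fin n)), ∃ A ∈ 𝓐, g ∈ A)) ∧
      (∀ 𝓑 : Finset (Subgroup ↥(alternatingGroup (Fin n))), (∀ A ∈ 𝓑, A ≠ ⊤) ∧
        (∀ g : ↥(alternatingGroup (Fin n)), ∃ A ∈ 𝓑, g ∈ A) → 𝓐.card ≤ 𝓑.card) ∧
      (∀ A ∈ 𝓐, Group.IsNilpotent ↥A) := by
  obtain ⟨i, hi⟩ : ∃ i : Fin n, i.val = n - 3 := ⟨⟨n - 3, by omega⟩, rfl⟩
  obtain ⟨a₀, ha₀⟩ : ∃ a : Fin n, a.val = n - 2 := ⟨⟨n - 2, by omega⟩, rfl⟩
  obtain ⟨b₀, hb₀⟩ : ∃ a : Fin n, a.val = n - 1 := ⟨⟨n - 1, by omega⟩, rfl⟩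
  have hab : a₀ ≠ b₀ := by
    intro h
    have := congrArg Fin.val h
    omega
  have hfix : ∀ p, Fin.cycleRange i p = p ↔ p = a₀ ∨ p = b₀ := by
    intro p
    rw [cr_fix i p (by omega)]
    constructor
    · intro h
      have h1 : i.val < p.val := h
      have := p.2
      have h2 : p.val = n - 2 ∨ p.val = n - 1 := by omega
      rcases h2 with h2 | h2
      · left; apply Fin.ext; omega
      · right; apply Fin.ext; omega
    · rintro (h | h)
      · rw [h]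
        show i.val < a₀.val
        omega
      · rw [h]
        show i.val < b₀.val
        omega
  apply alt_aux n i (by omega) (by
    rw [hi]
    obtain ⟨k, hk⟩ := hodd
    exact ⟨k - 1, by omega⟩) a₀ (by show i.val < a₀.val; omega)
  intro w hw hfw A hA hwA
  exact central_two (alternatingGroup (Fin n)).subtype Subtype.val_injective A hA w hwA hw a₀ b₀ hab
    (fun p => (hfw p).trans (hfix p)) (by rw [Fintype.card_fin]; exact hodd)
    (fun t => mem_alternatingGroup.mp t.2)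

set_option maxRecDepth 100000 in
theorem d4a : ∀ z t : Perm (Fin 4), z ≠ 1 → (swap 0 1 * swap 1 2) * z = z * (swap 0 1 * swap 1 2) →
    t * z = z * t → sign t = 1 := by decide

set_option maxRecDepth 100000 in
theorem d4b : ∀ z t : Perm (Fin 4), z ≠ 1 → (swap 0 1 * swap 1 3) * z = z * (swap 0 1 * swap 1 3) →
    t * z = z * t → sign t = 1 := by decide

set_option maxRecDepth 100000 in
theorem d4c : ∀ z : Perm (Fin 4), (swap 0 1 * swap 1 2) * z = z * (swap 0 1 * swap 1 2) →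
    (swap 0 1 * swap 1 3) * z = z * (swap 0 1 * swap 1 3) → z = 1 := by decide

theorem sym_four :
    ¬ ∃ 𝓐 : Finset (Subgroup (Equiv.Perm (Fin 4))), ((∀ A ∈ 𝓐, A ≠ ⊤) ∧
      (∀ g : (Equiv.Perm (Fin 4)), ∃ A ∈ 𝓐, g ∈ A)) ∧
      (∀ 𝓑 : Finset (Subgroup (Equiv.Perm (Fin 4))), (∀ A ∈ 𝓑, A ≠ ⊤) ∧
        (∀ g : (Equiv.Perm (Fin 4)), ∃ A ∈ 𝓑, g ∈ A) → 𝓐.card ≤ 𝓑.card) ∧
      (∀ A ∈ 𝓐, Group.IsNilpotent ↥A) := by
  apply no_cover (swap 0 1 * swap 1 2) (swap 0 1 * swap 1 3) (alternatingGroup (Fin 4))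
  · intro h
    have : (swap 0 1 : Perm (Fin 4)) ∈ alternatingGroup (Fin 4) := h ▸ Subgroup.mem_top _
    rw [mem_alternatingGroup] at this
    exact absurd this (by decide)
  · intro A hA hxA
    obtain ⟨z, -, hz1, hz⟩ := exists_central A hA _ hxA (by decide)
    intro t ht
    exact mem_alternatingGroup.mpr (d4a z t hz1 (hz _ hxA) (hz t ht))
  · intro A hA hxA
    obtain ⟨z, -, hz1, hz⟩ := exists_central A hA _ hxA (by decide)
    intro t ht
    exact mem_alternatingGroup.mpr (d4b z t hz1 (hz _ hxA) (hz t ht))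
  · intro A hA hxA hyA
    obtain ⟨z, -, hz1, hz⟩ := exists_central A hA _ hxA (by decide)
    exact hz1 (d4c z (hz _ hxA) (hz _ hyA))

set_option maxRecDepth 100000 in
theorem d5a : ∀ z : Perm (Fin 5), sign z = 1 → z ≠ 1 →
    (swap 0 1 * swap 1 2) * z = z * (swap 0 1 * swap 1 2) →
    z = swap 0 1 * swap 1 2 ∨ z = (swap 0 1 * swap 1 2)⁻¹ := by decide

set_option maxRecDepth 100000 in
theorem d5b : ∀ t : Perm (Fin 5), sign t = 1 →
    t * (swap 0 1 * swap 1 2) = (swap 0 1 * swap 1 2) * t → t 4 = 4 ∧ t 3 = 3 := by decide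

set_option maxRecDepth 100000 in
theorem d5c : ∀ z : Perm (Fin 5), sign z = 1 → z ≠ 1 →
    (swap 0 1 * swap 1 3) * z = z * (swap 0 1 * swap 1 3) →
    z = swap 0 1 * swap 1 3 ∨ z = (swap 0 1 * swap 1 3)⁻¹ := by decide

set_option maxRecDepth 100000 in
theorem d5d : ∀ t : Perm (Fin 5), sign t = 1 →
    t * (swap 0 1 * swap 1 3) = (swap 0 1 * swap 1 3) * t → t 4 = 4 := by decide

theorem comm_of_cases {X z t : Perm (Fin 5)} (hz : z = X ∨ z = X⁻¹) (h : t * z = z * t) :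
    t * X = X * t := by
  rcases hz with rfl | rfl
  · exact h
  · exact (Commute.inv_right_iff.mp (show Commute t X⁻¹ from h))

theorem alt_five :
    ¬ ∃ 𝓐 : Finset (Subgroup ↥(alternatingGroup (Fin 5))), ((∀ A ∈ 𝓐, A ≠ ⊤) ∧
      (∀ g : ↥(alternatingGroup (Fin 5)), ∃ A ∈ 𝓐, g ∈ A)) ∧
      (∀ 𝓑 : Finset (Subgroup ↥(alternatingGroup (Fin 5))), (∀ A ∈ 𝓑, A ≠ ⊤) ∧
        (∀ g : ↥(alternatingGroup (Fin 5)), ∃ A ∈ 𝓑, g ∈ A) → 𝓐.card ≤ 𝓑.card) ∧
      (∀ A ∈ 𝓐, Group.IsNilpotent ↥A) := by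
  have hxm : (swap 0 1 * swap 1 2 : Perm (Fin 5)) ∈ alternatingGroup (Fin 5) :=
    mem_alternatingGroup.mpr (by decide)
  have hym : (swap 0 1 * swap 1 3 : Perm (Fin 5)) ∈ alternatingGroup (Fin 5) :=
    mem_alternatingGroup.mpr (by decide)
  have htm : (swap 0 4 * swap 1 2 : Perm (Fin 5)) ∈ alternatingGroup (Fin 5) :=
    mem_alternatingGroup.mpr (by decide)
  have hX : ∀ A : Subgroup (alternatingGroup (Fin 5)), Group.IsNilpotent A →
      (⟨_, hxm⟩ : alternatingGroup (Fin 5)) ∈ A →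
      ∀ t ∈ A, (t : Perm (Fin 5)) 4 = 4 ∧ (t : Perm (Fin 5)) 3 = 3 := by
    intro A hA hxA t ht
    obtain ⟨z, -, hz1, hz⟩ := exists_central A hA _ hxA
      (fun h => absurd (show (swap 0 1 * swap 1 2 : Perm (Fin 5)) = 1 from congrArg Subtype.val h)
        (by decide))
    have h1 := d5a z.1 (mem_alternatingGroup.mp z.2) (fun h => hz1 (Subtype.ext h))
      (congrArg Subtype.val (hz _ hxA))
    exact d5b t.1 (mem_alternatingGroup.mp t.2) (comm_of_cases h1 (congrArg Subtype.val (hz t ht)))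
  have hY : ∀ A : Subgroup (alternatingGroup (Fin 5)), Group.IsNilpotent A →
      (⟨_, hym⟩ : alternatingGroup (Fin 5)) ∈ A → ∀ t ∈ A, (t : Perm (Fin 5)) 4 = 4 := by
    intro A hA hxA t ht
    obtain ⟨z, -, hz1, hz⟩ := exists_central A hA _ hxA
      (fun h => absurd (show (swap 0 1 * swap 1 3 : Perm (Fin 5)) = 1 from congrArg Subtype.val h)
        (by decide))
    have h1 := d5c z.1 (mem_alternatingGroup.mp z.2) (fun h => hz1 (Subtype.ext h))
      (congrArg Subtype.val (hz _ hxA))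
    exact d5d t.1 (mem_alternatingGroup.mp t.2) (comm_of_cases h1 (congrArg Subtype.val (hz t ht)))
  have hmem : ∀ t : alternatingGroup (Fin 5), (t : Perm (Fin 5)) 4 = 4 →
      t ∈ stabSet (alternatingGroup (Fin 5)).subtype ({4} : Set (Fin 5)) := by
    intro t ht p
    show (t : Perm (Fin 5)) p = 4 ↔ p = 4
    constructor
    · intro h
      exact (t : Perm (Fin 5)).injective (h.trans ht.symm)
    · rintro rfl; exact ht
  apply no_cover ⟨_, hxm⟩ ⟨_, hym⟩ (stabSet (alternatingGroup (Fin 5)).subtype ({4} : Set (Fin 5)))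
  · intro h
    have h1 : (⟨_, htm⟩ : alternatingGroup (Fin 5)) ∈
      stabSet (alternatingGroup (Fin 5)).subtype ({4} : Set (Fin 5)) := h ▸ Subgroup.mem_top _
    have h2 : (swap 0 4 * swap 1 2 : Perm (Fin 5)) 4 = 4 := (h1 4).mpr rfl
    exact absurd h2 (by decide)
  · intro A hA hxA t ht
    exact hmem t (hX A hA hxA t ht).1
  · intro A hA hyA t ht
    exact hmem t (hY A hA hyA t ht)
  · intro A hA hxA hyA
    have h1 : (swap 0 1 * swap 1 3 : Perm (Fin 5)) 3 = 3 := (hX A hA hxA _ hyA).2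
    exact absurd h1 (by decide)

/-- A cover of a group is a finite set of proper subgroups whose union is the whole group; it is minimal when no cover has fewer members, and nilpotent when all its members are nilpotent. The alternating groups of degree at least 5 and the symmetric groups of degree at least 4 have no nilpotent minimal cover. -/
theorem result (n : ℕ) :
    (5 ≤ n → ¬ ∃ 𝓐 : Finset (Subgroup ↥(alternatingGroup (Fin n))), ((∀ A ∈ 𝓐, A ≠ ⊤) ∧ (∀ g : ↥(alternatingGroup (Fin n)), ∃ A ∈ 𝓐, g ∈ A)) ∧ (∀ 𝓑 : Finset (Subgroup ↥(alternatingGroup (Fin n))), (∀ A ∈ 𝓑, A ≠ ⊤) ∧ (∀ g : ↥(alternatingGroup (Fin n)), ∃ A ∈ 𝓑, g ∈ A) → 𝓐.card ≤ 𝓑.card) ∧ (∀ A ∈ 𝓐, Group.IsNilpotent ↥A)) ∧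
    (4 ≤ n → ¬ ∃ 𝓐 : Finset (Subgroup (Equiv.Perm (Fin n))), ((∀ A ∈ 𝓐, A ≠ ⊤) ∧ (∀ g : (Equiv.Perm (Fin n)), ∃ A ∈ 𝓐, g ∈ A)) ∧ (∀ 𝓑 : Finset (Subgroup (Equiv.Perm (Fin n))), (∀ A ∈ 𝓑, A ≠ ⊤) ∧ (∀ g : (Equiv.Perm (Fin n)), ∃ A ∈ 𝓑, g ∈ A) → 𝓐.card ≤ 𝓑.card) ∧ (∀ A ∈ 𝓐, Group.IsNilpotent ↥A)) := by
  constructor
  · intro hn
    rcases Nat.even_or_odd n with he | ho
    · exact alt_even n (by obtain ⟨k, hk⟩ := he; omega) he
    · by_cases h5 : n = 5
      · subst h5; exact alt_five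
      · exact alt_odd n (by obtain ⟨k, hk⟩ := ho; omega) ho
  · intro hn
    by_cases h4 : n = 4
    · subst h4; exact sym_four
    · exact sym_case n (by omega)

end Cfsg.Agent.S3892
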