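import Cfsg.Statements.S3893
-- import your own Cfsg.Agent.* helpers here
import Cfsg.Agent.Lib.Helper29.SzLie

set_option autoImplicit false
open Cfsg

namespace Cfsg.Agent.S3893

theorem exists_center_ne_one {A : Type*} [Group A] [Group.IsNilpotent A] {x : A} (hx : x ≠ 1) :
    ∃ z : A, z ≠ 1 ∧ ∀ y : A, y * z = z * y := by
  by_contra hcon
  push Not at hcon
  have hall : ∀ n : ℕ, Subgroup.upperCentralSeries A n = ⊥ := by
    intro n
    induction n with
    | zero => exact Subgroup.upperCentralSeries_zero A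
    | succ n ih =>
      rw [eq_bot_iff]
      intro z hz
      rw [Subgroup.mem_upperCentralSeries_succ_iff] at hz
      rw [Subgroup.mem_bot]
      by_contra hz1
      obtain ⟨y, hy⟩ := hcon z hz1
      apply hy
      have := hz y
      rw [ih, Subgroup.mem_bot] at this
      exact (commutatorElement_eq_one_iff_mul_comm.1 this).symm
  obtain ⟨n, hn⟩ := (inferInstance : Group.IsNilpotent A).nilpotent'
  rw [hall n] at hn
  have : x ∈ (⊥ : Subgroup A) := hn ▸ Subgroup.mem_top x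
  exact hx (Subgroup.mem_bot.1 this)

section abstract

variable {G Ω : Type*} [Group G] [MulAction G Ω]

/-- an element commuting with `y` permutes the fixed points of `y` -/
theorem fix_of_comm {y t : G} (h : t * y = y * t) {a : Ω} (ha : y • a = a) : y • (t • a) = t • a := by
  rw [← mul_smul, ← h, mul_smul, ha]

variable [Finite Ω]
  (hodd : Odd (Nat.card Ω))
  (h3 : ∀ (g : G) (a b c : Ω), a ≠ b → a ≠ c → b ≠ c → g • a = a → g • b = b → g • c = c → g = 1)

include hodd h3 in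
theorem no_swap [Finite G] {y t : G} (hy : y ≠ 1) (h : t * y = y * t) {a b : Ω} (hab : a ≠ b)
    (ha : y • a = a) (hb : y • b = b) : t • a = a := by
  by_contra hta
  have hfix : ∀ c : Ω, y • c = c → c = a ∨ c = b := by
    intro c hc
    by_contra hcon
    push Not at hcon
    exact hy (h3 y a b c hab (Ne.symm hcon.1) (Ne.symm hcon.2) ha hb hc)
  have hta' : t • a = b := (hfix _ (fix_of_comm h ha)).resolve_left hta
  have htb' : t • b = a := by
    rcases hfix _ (fix_of_comm h hb) with h1 | h1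
    · exact h1
    · exact absurd (smul_left_cancel t (hta'.trans h1.symm)) hab
  -- the `2`-part of `t`
  obtain ⟨k, o, ho, hko⟩ := Nat.exists_eq_two_pow_mul_odd (orderOf_pos t).ne'
  set s := t ^ o with hs
  have hpow : ∀ n : ℕ, (Odd n → t ^ n • a = b ∧ t ^ n • b = a) ∧
      (Even n → t ^ n • a = a ∧ t ^ n • b = b) := by
    intro n
    induction n with
    | zero => simp
    | succ n ih =>
      constructor
      · intro hn
        have hn' : Even n := by
          rcases Nat.even_or_odd n with h | h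
          · exact h
          · exact absurd (h.add_one) (by simpa using hn)
        obtain ⟨e1, e2⟩ := ih.2 hn'
        rw [pow_succ', mul_smul, mul_smul, e1, e2]
        exact ⟨hta', htb'⟩
      · intro hn
        have hn' : Odd n := by
          rcases Nat.even_or_odd n with h | h
          · exact absurd (h.add_one) (by simpa using hn)
          · exact h
        obtain ⟨e1, e2⟩ := ih.1 hn'
        rw [pow_succ', mul_smul, mul_smul, e1, e2]
        exact ⟨htb', hta'⟩
  obtain ⟨hsa, hsb⟩ := (hpow o).1 ho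
  have hs1 : s ≠ 1 := by
    intro h1
    rw [← hs, h1, one_smul] at hsa
    exact hab hsa
  have hsy : s * y = y * s := by
    have : Commute t y := h
    exact (this.pow_left o)
  have hs2 : s ^ 2 ^ k = 1 := by
    rw [hs, ← pow_mul, mul_comm, ← hko, pow_orderOf_eq_one]
  have hp : IsPGroup 2 (Subgroup.zpowers s) := by
    rintro ⟨g, hg⟩
    obtain ⟨j, rfl⟩ := Subgroup.mem_zpowers_iff.1 hg
    refine ⟨k, Subtype.ext ?_⟩
    show (s ^ j) ^ 2 ^ k = 1
    rw [← zpow_natCast, ← zpow_mul, mul_comm, zpow_mul, zpow_natCast, hs2, one_zpow]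
  have : Fact (Nat.Prime 2) := ⟨Nat.prime_two⟩
  have hmod := hp.card_modEq_card_fixedPoints Ω
  have hmem : ∀ c : Ω, c ∈ MulAction.fixedPoints (Subgroup.zpowers s) Ω ↔ s • c = c := by
    intro c
    constructor
    · intro hc
      exact hc ⟨s, Subgroup.mem_zpowers s⟩
    · rintro hc ⟨g, hg⟩
      obtain ⟨j, rfl⟩ := Subgroup.mem_zpowers_iff.1 hg
      show s ^ j • c = c
      exact MulAction.fixedBy_subset_fixedBy_zpow Ω s j hc
  have hoddfix : Odd (Nat.card (MulAction.fixedPoints (Subgroup.zpowers s) Ω)) := by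
    rw [Nat.odd_iff] at hodd ⊢
    rw [← hmod, hodd]
  have hne : (MulAction.fixedPoints (Subgroup.zpowers s) Ω).Nonempty := by
    by_contra hemp
    rw [Set.not_nonempty_iff_eq_empty] at hemp
    rw [hemp] at hoddfix
    simp at hoddfix
  obtain ⟨c, hc⟩ := hne
  have hc' := (hmem c).1 hc
  have hca : c ≠ a := by
    rintro rfl
    exact hab (hc'.symm.trans hsa)
  have hcb : c ≠ b := by
    rintro rfl
    exact hab (hsb.symm.trans hc')
  have hyc : y • c ≠ c := fun hyc => hy (h3 y a b c hab hca.symm hcb.symm ha hb hyc)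
  have hd : s • (y • c) = y • c := fix_of_comm hsy.symm hc'
  have hset : MulAction.fixedPoints (Subgroup.zpowers s) Ω = {c, y • c} := by
    ext e
    rw [hmem]
    constructor
    · intro he
      by_contra hcon
      simp only [Set.mem_insert_iff, Set.mem_singleton_iff, not_or] at hcon
      exact hs1 (h3 s c (y • c) e hyc.symm (Ne.symm hcon.1) (Ne.symm hcon.2) hc' hd he)
    · rintro (rfl | rfl)
      · exact hc'
      · exact hd
  rw [hset, Nat.card_coe_set_eq, Set.ncard_pair hyc.symm] at hoddfix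
  exact absurd hoddfix (by decide)

include h3 in
/-- a nilpotent subgroup containing an element with a unique fixed point fixes this point -/
theorem le_stab_of_unique {A : Subgroup G} (hA : Group.IsNilpotent A) {u : G} (huA : u ∈ A) {a : Ω}
    (hua : u • a = a) (huniq : ∀ b : Ω, u • b = b → b = a) (hu1 : u ≠ 1) :
    A ≤ MulAction.stabilizer G a := by
  obtain ⟨z, hz1, hz⟩ := exists_center_ne_one (A := A) (x := ⟨u, huA⟩)
    (fun h => hu1 (congrArg Subtype.val h))
  have hz1' : z.1 ≠ 1 := fun h => hz1 (Subtype.ext h)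
  have hz' : ∀ y ∈ A, y * z.1 = z.1 * y := fun y hy => congrArg Subtype.val (hz ⟨y, hy⟩)
  have hza : z.1 • a = a := huniq _ (fix_of_comm (hz' u huA).symm hua)
  intro t ht
  rw [MulAction.mem_stabilizer_iff]
  by_contra hta
  have h1 : z.1 • (t • a) = t • a := fix_of_comm (hz' t ht) hza
  have h2 : z.1 • (u • (t • a)) = u • (t • a) := fix_of_comm (hz' u huA) h1
  have h4 : u • (t • a) ≠ t • a := fun h => hta (huniq _ h)
  have h5 : u • (t • a) ≠ a := by
    intro h
    apply hta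
    apply smul_left_cancel u
    rw [h, hua]
  exact hz1' (h3 z.1 a (t • a) (u • (t • a)) (Ne.symm hta) h5.symm h4.symm hza h1 h2)

include hodd h3 in
/-- a nilpotent subgroup containing an element with two fixed points fixes them -/
theorem le_stab_of_two [Finite G] {A : Subgroup G} (hA : Group.IsNilpotent A) {h : G} (hhA : h ∈ A)
    {a b : Ω} (hab : a ≠ b) (hh1 : h ≠ 1) (ha : h • a = a) (hb : h • b = b) :
    A ≤ MulAction.stabilizer G a := by
  obtain ⟨z, hz1, hz⟩ := exists_center_ne_one (A := A) (x := ⟨h, hhA⟩)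
    (fun h' => hh1 (congrArg Subtype.val h'))
  have hz1' : z.1 ≠ 1 := fun h => hz1 (Subtype.ext h)
  have hz' : ∀ y ∈ A, y * z.1 = z.1 * y := fun y hy => congrArg Subtype.val (hz ⟨y, hy⟩)
  have hza : z.1 • a = a := no_swap hodd h3 hh1 (hz' h hhA).symm hab ha hb
  have hzb : z.1 • b = b := no_swap hodd h3 hh1 (hz' h hhA).symm hab.symm hb ha
  intro t ht
  exact no_swap hodd h3 hz1' (hz' t ht) hab hza hzb

include hodd h3 in
theorem no_nilpotent_min_cover [Finite G]
    (hu : ∀ a : Ω, ∃ u : G, u ≠ 1 ∧ u • a = a ∧ ∀ b : Ω, u • b = b → b = a)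
    (hh : ∃ (h : G) (a b : Ω), a ≠ b ∧ h ≠ 1 ∧ h • a = a ∧ h • b = b)
    (hst : ∀ a : Ω, MulAction.stabilizer G a ≠ ⊤) :
    ¬ ∃ 𝓐 : Finset (Subgroup G), ((∀ A ∈ 𝓐, A ≠ ⊤) ∧ (∀ g : G, ∃ A ∈ 𝓐, g ∈ A)) ∧
      (∀ 𝓑 : Finset (Subgroup G), (∀ A ∈ 𝓑, A ≠ ⊤) ∧ (∀ g : G, ∃ A ∈ 𝓑, g ∈ A) → 𝓐.card ≤ 𝓑.card) ∧
      (∀ A ∈ 𝓐, Group.IsNilpotent ↥A) := by
  classical
  rintro ⟨𝓐, ⟨hprop, hcov⟩, hmin, hnil⟩
  have := Fintype.ofFinite Ω
  set 𝓢 : Finset (Subgroup G) := Finset.univ.image (fun a : Ω => MulAction.stabilizer G a) with h𝓢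
  set 𝓐₁ := 𝓐.filter (fun A => ∃ a : Ω, A ≤ MulAction.stabilizer G a) with h𝓐₁
  set 𝓐₂ := 𝓐.filter (fun A => ¬ ∃ a : Ω, A ≤ MulAction.stabilizer G a) with h𝓐₂
  have hcard : 𝓐₁.card + 𝓐₂.card = 𝓐.card := Finset.card_filter_add_card_filter_not _
  have h𝓑 := hmin (𝓐₂ ∪ 𝓢) ⟨by
    intro A hA
    rcases Finset.mem_union.1 hA with hA | hA
    · exact hprop A (Finset.mem_filter.1 hA).1
    · obtain ⟨a, -, rfl⟩ := Finset.mem_image.1 hA
      exact hst a, by
    intro g
    obtain ⟨A, hA, hgA⟩ := hcov g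
    by_cases hex : ∃ a : Ω, A ≤ MulAction.stabilizer G a
    · obtain ⟨a, ha⟩ := hex
      exact ⟨_, Finset.mem_union_right _ (Finset.mem_image_of_mem _ (Finset.mem_univ a)), ha hgA⟩
    · exact ⟨A, Finset.mem_union_left _ (Finset.mem_filter.2 ⟨hA, hex⟩), hgA⟩⟩
  have h1 : (𝓐₂ ∪ 𝓢).card ≤ 𝓐₂.card + Fintype.card Ω :=
    (Finset.card_union_le _ _).trans (Nat.add_le_add_left Finset.card_image_le _)
  have h2 : 𝓐₁.card ≤ Fintype.card Ω := by omega
  -- an injection of `Option Ω` into `𝓐₁`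
  choose u hu1 hua huniq using hu
  obtain ⟨h, a₀, b₀, hab, hh1, hha, hhb⟩ := hh
  choose c hc𝓐 hcmem using hcov
  let f : Option Ω → Subgroup G := fun o => o.elim (c h) (fun a => c (u a))
  have hle : ∀ a : Ω, c (u a) ≤ MulAction.stabilizer G a := fun a =>
    le_stab_of_unique h3 (hnil _ (hc𝓐 _)) (hcmem _) (hua a) (huniq a) (hu1 a)
  have hlea : c h ≤ MulAction.stabilizer G a₀ :=
    le_stab_of_two hodd h3 (hnil _ (hc𝓐 _)) (hcmem _) hab hh1 hha hhb
  have hleb : c h ≤ MulAction.stabilizer G b₀ :=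
    le_stab_of_two hodd h3 (hnil _ (hc𝓐 _)) (hcmem _) hab.symm hh1 hhb hha
  have hne : ∀ a : Ω, c (u a) ≠ c h := by
    intro a heq
    have e1 : u a • a₀ = a₀ := hlea (heq ▸ hcmem (u a))
    have e2 : u a • b₀ = b₀ := hleb (heq ▸ hcmem (u a))
    exact hab ((huniq a _ e1).trans (huniq a _ e2).symm)
  have hf : Function.Injective f := by
    intro o o' hoo
    cases o with
    | none =>
      cases o' with
      | none => rfl
      | some a => exact absurd hoo.symm (hne a)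
    | some a =>
      cases o' with
      | none => exact absurd hoo (hne a)
      | some a' =>
        have hoo' : c (u a) = c (u a') := hoo
        have e1 : u a • a' = a' := hle a' (hoo' ▸ hcmem (u a))
        rw [huniq a _ e1]
  have hsub : Finset.univ.image f ⊆ 𝓐₁ := by
    intro A hA
    obtain ⟨o, -, rfl⟩ := Finset.mem_image.1 hA
    cases o with
    | none => exact Finset.mem_filter.2 ⟨hc𝓐 _, a₀, hlea⟩
    | some a => exact Finset.mem_filter.2 ⟨hc𝓐 _, a, hle a⟩
  have h4 := Finset.card_le_card hsub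
  rw [Finset.card_image_of_injective _ hf, Finset.card_univ, Fintype.card_option] at h4
  omega

end abstract

/-- A cover of a group is a finite set of proper subgroups whose union is the whole group; it is minimal when no cover has fewer members, and nilpotent when all its members are nilpotent. The Suzuki groups Sz(q), q = 2^(2m+1) with m ≥ 1, have no nilpotent minimal cover. -/
theorem result {F : Type*} [Field F] [Fintype F] (m : ℕ) (hm : 1 ≤ m) (hF : Fintype.card F = 2 ^ (2 * m + 1)) :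
    ¬ ∃ 𝓐 : Finset (Subgroup ↥(Cfsg.Lie.Sz F (2 ^ (m + 1)))), ((∀ A ∈ 𝓐, A ≠ ⊤) ∧ (∀ g : ↥(Cfsg.Lie.Sz F (2 ^ (m + 1))), ∃ A ∈ 𝓐, g ∈ A)) ∧ (∀ 𝓑 : Finset (Subgroup ↥(Cfsg.Lie.Sz F (2 ^ (m + 1)))), (∀ A ∈ 𝓑, A ≠ ⊤) ∧ (∀ g : ↥(Cfsg.Lie.Sz F (2 ^ (m + 1))), ∃ A ∈ 𝓑, g ∈ A) → 𝓐.card ≤ 𝓑.card) ∧ (∀ A ∈ 𝓐, Group.IsNilpotent ↥A) := by
  have hG := Cfsg.Agent.Lib.Helper29.Sz.good_of_card hF
  have hex := Cfsg.Agent.Lib.Helper29.Sz.exists_ne_zero_one hm hF
  let e := (Cfsg.Agent.Lib.Helper29.Sz.lieEquiv hG hex).symm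
  letI : MulAction (Cfsg.Lie.Sz F (2 ^ (m + 1))) (Cfsg.suzukiOvoid F m) :=
    MulAction.compHom _ e.toMonoidHom
  have hsm : ∀ (g : Cfsg.Lie.Sz F (2 ^ (m + 1))) (x : Cfsg.suzukiOvoid F m), g • x = e g • x :=
    fun _ _ => rfl
  have hfin : Finite (Cfsg.suzukiOvoid F m) := (Cfsg.Agent.Lib.Helper29.Sz.finite_ovoid m).to_subtype
  have hval : ∀ (g : Cfsg.Sz F m) (x : Cfsg.suzukiOvoid F m), ((g • x : Cfsg.suzukiOvoid F m) :
      Projectivization F (Fin 4 → F)) = g.1 • x.1 := fun _ _ => rfl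
  apply no_nilpotent_min_cover (Ω := Cfsg.suzukiOvoid F m)
  · rw [Cfsg.Agent.Lib.Helper29.Sz.card_ovoid, hF]
    refine Even.add_one ?_
    rw [← pow_mul]
    exact (Nat.even_pow.2 ⟨by decide, by omega⟩)
  · intro g a b c hab hac hbc h1 h2 h3
    rw [hsm] at h1 h2 h3
    have h4 : (e g).1 = 1 := Cfsg.Agent.Lib.Helper29.Sz.three_fixed hG hex (e g).2 a.2 b.2 c.2
      (fun h => hab (Subtype.ext h)) (fun h => hbc (Subtype.ext h)) (fun h => hac (Subtype.ext h))
      (congrArg Subtype.val h1) (congrArg Subtype.val h2) (congrArg Subtype.val h3)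
    have h5 : e g = 1 := Subtype.ext h4
    exact (map_eq_one_iff e e.injective).1 h5
  · intro a
    obtain ⟨g, hg, hga⟩ := Cfsg.Agent.Lib.Helper29.Sz.exists_to_infty hG a.2
    let u' : Cfsg.Sz F m := ⟨g⁻¹ * Cfsg.Agent.Lib.Helper29.Sz.T m 1 0 * g,
      mul_mem (mul_mem (inv_mem hg) (Cfsg.Agent.Lib.Helper29.Sz.T_mem hG 1 0)) hg⟩
    have huniq : ∀ b : Cfsg.suzukiOvoid F m, u' • b = b → b = a := by
      intro b hb
      have hb' : (g⁻¹ * Cfsg.Agent.Lib.Helper29.Sz.T m 1 0 * g) • b.1 = b.1 := congrArg Subtype.val hb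
      rw [mul_smul, mul_smul, inv_smul_eq_iff] at hb'
      rcases Cfsg.Agent.Lib.Helper29.Sz.mem_ovoid_cases m
        (Cfsg.Agent.Lib.Helper29.Sz.smul_mem_ovoid hg b.2) with h | ⟨x, y, h⟩
      · exact Subtype.ext (smul_left_cancel g (h.trans hga.symm))
      · rw [h] at hb'
        exact absurd hb' (Cfsg.Agent.Lib.Helper29.Sz.T_fix_only hG (by simp))
    have hfix : u' • a = a := by
      apply Subtype.ext
      show (g⁻¹ * Cfsg.Agent.Lib.Helper29.Sz.T m 1 0 * g) • a.1 = a.1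
      rw [mul_smul, mul_smul, hga, Cfsg.Agent.Lib.Helper29.Sz.T_infty, ← hga, inv_smul_smul]
    refine ⟨e.symm u', ?_, ?_, ?_⟩
    · intro h1
      have h2 : u' = 1 := by
        have := congrArg e h1
        rwa [e.apply_symm_apply, map_one] at this
      -- then `u'` fixes everything
      have h3 : (⟨_, Cfsg.Agent.Lib.Helper29.Sz.infty_mem m⟩ : Cfsg.suzukiOvoid F m) = a :=
        huniq _ (by rw [h2, one_smul])
      have h4 : (⟨_, Cfsg.Agent.Lib.Helper29.Sz.ppt_mem m 0 0⟩ : Cfsg.suzukiOvoid F m) = a :=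
        huniq _ (by rw [h2, one_smul])
      exact Cfsg.Agent.Lib.Helper29.Sz.ppt_ne_infty m 0 0 (congrArg Subtype.val (h4.trans h3.symm))
    · rw [hsm, e.apply_symm_apply]
      exact hfix
    · intro b hb
      rw [hsm, e.apply_symm_apply] at hb
      exact huniq b hb
  · obtain ⟨t, ht0, ht1⟩ := id hex
    refine ⟨e.symm ⟨Cfsg.Agent.Lib.Helper29.Sz.hh m (Units.mk0 t ht0),
      Cfsg.Agent.Lib.Helper29.Sz.hh_mem hG _⟩, ⟨_, Cfsg.Agent.Lib.Helper29.Sz.infty_mem m⟩,
      ⟨_, Cfsg.Agent.Lib.Helper29.Sz.ppt_mem m 0 0⟩, ?_, ?_, ?_, ?_⟩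
    · intro h
      exact Cfsg.Agent.Lib.Helper29.Sz.ppt_ne_infty m 0 0 (congrArg Subtype.val h).symm
    · intro h
      have h0 := congrArg e h
      rw [e.apply_symm_apply, map_one] at h0
      have h1 : Cfsg.Agent.Lib.Helper29.Sz.hh m (Units.mk0 t ht0) = 1 := congrArg Subtype.val h0
      rw [← Cfsg.Agent.Lib.Helper29.Sz.hh_one m] at h1
      exact ht1 (congrArg Units.val (Cfsg.Agent.Lib.Helper29.Sz.hh_inj m h1))
    · rw [hsm, e.apply_symm_apply]
      exact Subtype.ext (Cfsg.Agent.Lib.Helper29.Sz.hh_infty m _)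
    · rw [hsm, e.apply_symm_apply]
      exact Subtype.ext (Cfsg.Agent.Lib.Helper29.Sz.hh_zero hG _)
  · intro a htop
    -- the stabiliser of a point is proper, by transitivity
    have hall : ∀ g : Cfsg.Sz F m, g • a = a := by
      intro g
      have : e.symm g ∈ MulAction.stabilizer (Cfsg.Lie.Sz F (2 ^ (m + 1))) a := htop ▸ Subgroup.mem_top _
      rw [MulAction.mem_stabilizer_iff, hsm, e.apply_symm_apply] at this
      exact this
    obtain ⟨g, hg, hga⟩ := Cfsg.Agent.Lib.Helper29.Sz.exists_to_infty hG a.2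
    have h1 : a.1 = Cfsg.suzukiPointInfinity F := by
      rw [← hga]
      exact (congrArg Subtype.val (hall ⟨g, hg⟩)).symm
    have h2 := congrArg Subtype.val (hall ⟨Cfsg.Agent.Lib.Helper29.Sz.w, Cfsg.Agent.Lib.Helper29.Sz.w_mem hG⟩)
    rw [hval, h1] at h2
    have h3 : (Cfsg.Agent.Lib.Helper29.Sz.w : Matrix.SpecialLinearGroup (Fin 4) F) •
      Cfsg.suzukiPointInfinity F = Cfsg.suzukiPointInfinity F := h2
    rw [Cfsg.Agent.Lib.Helper29.Sz.w_infty m] at h3
    exact Cfsg.Agent.Lib.Helper29.Sz.ppt_ne_infty m 0 0 h3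

end Cfsg.Agent.S3893
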