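import Cfsg.Statements.S4262
import Cfsg.Agent.S0035
import Cfsg.Agent.Lib.Helper15.Frob
import Cfsg.Agent.Lib.Helper22.Basic

set_option autoImplicit false
open Cfsg

namespace Cfsg.Agent.S4262

open Subgroup

section
variable {G : Type*} [Group G]

/-- centralizer of an element -/
abbrev Cn (x : G) : Subgroup G := Subgroup.centralizer ({x} : Set G)

theorem mem_Cn {x y : G} : y ∈ Cn x ↔ y * x = x * y := Subgroup.mem_centralizer_singleton_iff

theorem Cn_le_pow (x : G) (n : ℕ) : Cn x ≤ Cn (x ^ n) := by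
  intro y hy
  rw [mem_Cn] at hy ⊢
  exact ((show Commute y x from hy).pow_right n).eq

theorem coatom_eq {A B : Subgroup G} (hA : IsCoatom A) (hB : IsCoatom B) (h : A ≤ B) : A = B := by
  by_contra hne
  exact hB.1 (hA.2 B (lt_of_le_of_ne h hne))

theorem pow_left {u y : G} (hc : Commute u y) (hcop : (orderOf u).Coprime (orderOf y)) :
    ∃ n : ℕ, (u * y) ^ n = u := by
  obtain ⟨m, hm⟩ := exists_pow_eq_self_of_coprime (x := u) (n := orderOf y) hcop.symm
  refine ⟨orderOf y * m, ?_⟩
  rw [pow_mul, hc.mul_pow, pow_orderOf_eq_one, mul_one, hm]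

theorem key2 (h : ∀ g : G, g ∉ center G → IsCoatom (Cn g)) {u y : G} (hu : u ∉ center G)
    (hy : y ∈ Cn u) (hcop : (orderOf u).Coprime (orderOf y)) : y ∈ center G ∨ Cn y = Cn u := by
  by_cases hyZ : y ∈ center G
  · exact Or.inl hyZ
  right
  have hc : Commute u y := (mem_Cn.1 hy).symm
  obtain ⟨n, hn⟩ := pow_left hc hcop
  obtain ⟨n', hn'⟩ := pow_left hc.symm hcop.symm
  have huy : u * y ∉ center G := by
    intro hz
    apply hu
    rw [← hn]; exact pow_mem hz n
  have h1 : Cn (u * y) = Cn u := coatom_eq (h _ huy) (h _ hu) (by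
    have := Cn_le_pow (u * y) n
    rwa [hn] at this)
  have h2 : Cn (u * y) = Cn y := coatom_eq (h _ huy) (h _ hyZ) (by
    have := Cn_le_pow (y * u) n'
    rwa [hn', ← hc.eq] at this)
  rw [← h2, h1]

theorem exists_pow_coprime' [Finite G] {p : ℕ} (hp : p.Prime) (g : G) :
    ∃ a m : ℕ, m.Coprime p ∧ orderOf (g ^ p ^ a) = m ∧ orderOf (g ^ m) = p ^ a := by
  obtain ⟨a, m, hm, hgm⟩ := Nat.exists_eq_pow_mul_and_not_dvd (orderOf_pos g).ne' p hp.ne_one
  have hm0 : m ≠ 0 := by
    rintro rfl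
    exact hm (dvd_zero p)
  refine ⟨a, m, ((Nat.Prime.coprime_iff_not_dvd hp).2 hm).symm, ?_, ?_⟩
  · rw [orderOf_pow_of_dvd (pow_ne_zero _ hp.ne_zero) (by rw [hgm]; exact Dvd.intro _ rfl), hgm,
      Nat.mul_div_cancel_left _ (pow_pos hp.pos _)]
  · rw [orderOf_pow_of_dvd hm0 (by rw [hgm]; exact Dvd.intro_left _ rfl), hgm,
      Nat.mul_div_cancel _ (Nat.pos_of_ne_zero hm0)]

theorem exists_pelement [Finite G] (h : ∀ g : G, g ∉ center G → IsCoatom (Cn g)) {x : G}
    (hx : x ∉ center G) :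
    ∃ p : ℕ, p.Prime ∧ ∃ u : G, u ∉ center G ∧ (∃ a, orderOf u = p ^ a) ∧ Cn u = Cn x ∧
      p ∣ orderOf x := by
  have hne : orderOf (x : G ⧸ center G) ≠ 1 := by
    rw [Ne, orderOf_eq_one_iff, QuotientGroup.eq_one_iff]; exact hx
  obtain ⟨p, hp, hpd⟩ := Nat.exists_prime_and_dvd hne
  obtain ⟨a, m, hm, -, hxm⟩ := exists_pow_coprime' hp x
  have hu : x ^ m ∉ center G := by
    intro hz
    have h1 : p ∣ m := by
      apply hpd.trans
      apply orderOf_dvd_of_pow_eq_one
      rw [← QuotientGroup.mk_pow, QuotientGroup.eq_one_iff]; exact hz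
    exact hp.one_lt.ne' (Nat.Coprime.eq_one_of_dvd hm.symm h1)
  exact ⟨p, hp, x ^ m, hu, ⟨a, hxm⟩, (coatom_eq (h _ hx) (h _ hu) (Cn_le_pow x m)).symm,
    hpd.trans (orderOf_map_dvd (QuotientGroup.mk' _) x)⟩

theorem pprime_mem (h : ∀ g : G, g ∉ center G → IsCoatom (Cn g)) {p a : ℕ} {u : G}
    (hu : u ∉ center G) (hua : orderOf u = p ^ a) {y : G} (hy : y ∈ Cn u)
    (hyp : (orderOf y).Coprime p) : y ∈ center G ∨ Cn y = Cn u :=
  key2 h hu hy (by rw [hua]; exact (Nat.Coprime.pow_left a hyp.symm))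

theorem pprime_central (h : ∀ g : G, g ∉ center G → IsCoatom (Cn g)) {p a : ℕ} {u : G}
    (hu : u ∉ center G) (hua : orderOf u = p ^ a) {y : G} (hy : y ∈ Cn u)
    (hyp : (orderOf y).Coprime p) : ∀ w ∈ Cn u, w * y = y * w := by
  rcases pprime_mem h hu hua hy hyp with hz | hC
  · intro w _; exact (mem_center_iff.1 hz w)
  · intro w hw; rw [← hC] at hw; exact mem_Cn.1 hw

theorem Cn_nilpotent [Finite G] (h : ∀ g : G, g ∉ center G → IsCoatom (Cn g)) {p a : ℕ}
    (hp : p.Prime) {u : G} (hu : u ∉ center G) (hua : orderOf u = p ^ a) :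
    Group.IsNilpotent (Cn u) := by
  have : Fact p.Prime := ⟨hp⟩
  have hP : IsPGroup p (Cn u ⧸ center (Cn u)) := by
    intro yb
    obtain ⟨y, rfl⟩ := QuotientGroup.mk_surjective yb
    obtain ⟨b, m, hm, hord, -⟩ := exists_pow_coprime' hp (y : G)
    refine ⟨b, ?_⟩
    rw [← QuotientGroup.mk_pow, QuotientGroup.eq_one_iff, mem_center_iff]
    intro w
    apply Subtype.ext
    exact pprime_central h hu hua (y := (y : G) ^ p ^ b) (pow_mem y.2 _)
      (by rw [hord]; exact hm) w w.2
  have : Group.IsNilpotent (Cn u ⧸ center (Cn u)) := hP.isNilpotent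
  exact Group.of_quotient_center_nilpotent this

theorem solvable_of_normal [Finite G] (h : ∀ g : G, g ∉ center G → IsCoatom (Cn g)) {x : G}
    (hx : x ∉ center G) (hn : (Cn x).Normal) : Group.IsSolvable G := by
  obtain ⟨p, hp, u, hu, ⟨a, hua⟩, hCu, -⟩ := exists_pelement h hx
  have hnil : Group.IsNilpotent (Cn x) := hCu ▸ Cn_nilpotent h hp hu hua
  have hco := h x hx
  obtain ⟨g0, hg0⟩ : ∃ g0, g0 ∉ Cn x := by
    by_contra hcon
    push Not at hcon
    exact hco.1 (eq_top_iff.2 (fun g _ => hcon g))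
  have htop : Cn x ⊔ zpowers g0 = ⊤ := hco.2 _ (lt_of_le_of_ne le_sup_left
    (fun e => hg0 (by rw [e]; exact mem_sup_right (mem_zpowers g0))))
  have hform : ∀ a : G, ∃ i : ℤ, (a : G ⧸ Cn x) = (g0 : G ⧸ Cn x) ^ i := by
    intro a
    have ha : a ∈ ((Cn x ⊔ zpowers g0 : Subgroup G) : Set G) := by rw [htop]; trivial
    rw [normal_mul] at ha
    obtain ⟨m, hm, w, hw, rfl⟩ := Set.mem_mul.1 ha
    obtain ⟨i, rfl⟩ := mem_zpowers_iff.1 hw
    refine ⟨i, ?_⟩
    rw [QuotientGroup.mk_mul, (QuotientGroup.eq_one_iff m).2 hm, one_mul, QuotientGroup.mk_zpow]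
  have hq : Group.IsSolvable (G ⧸ Cn x) := Group.isSolvable_of_comm (fun a b => by
    obtain ⟨a, rfl⟩ := QuotientGroup.mk_surjective a
    obtain ⟨b, rfl⟩ := QuotientGroup.mk_surjective b
    obtain ⟨i, hi⟩ := hform a
    obtain ⟨j, hj⟩ := hform b
    rw [hi, hj, ← zpow_add, ← zpow_add, add_comm])
  exact (Group.isSolvable_iff_subgroup_quotient (Cn x)).2 ⟨inferInstance, hq⟩

theorem solvable_of_abelian_aux [Finite G] (h : ∀ g : G, g ∉ center G → IsCoatom (Cn g))
    (M : Subgroup G) (hco : IsCoatom M) (hZM : center G ≤ M) {x : G} (hxM : x ∈ M)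
    (hx : x ∉ center G) (hab : ∀ a ∈ M, ∀ b ∈ M, a * b = b * a) (hn : ¬ M.Normal) :
    Group.IsSolvable G := by
  have hNM : normalizer (M : Set G) = M := by
    by_contra hne
    apply hn
    rw [← normalizer_eq_top_iff]
    exact hco.2 _ (lt_of_le_of_ne le_normalizer (Ne.symm hne))
  have hCy : ∀ y ∈ M, y ∉ center G → Cn y = M := by
    intro y hy hyZ
    exact (coatom_eq hco (h y hyZ) (fun m hm => mem_Cn.2 (hab m hm y hy))).symm
  have hcm : ∀ y : G, (y : G ⧸ center G) ∈ M.map (QuotientGroup.mk' (center G)) ↔ y ∈ M := by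
    intro y
    constructor
    · rintro ⟨m, hm, hmy⟩
      have h1 : m⁻¹ * y ∈ center G := QuotientGroup.eq.1 hmy
      have h2 := M.mul_mem hm (hZM h1)
      rwa [mul_inv_cancel_left] at h2
    · intro hy; exact ⟨y, hy, rfl⟩
  have hF : Cfsg.IsFrobeniusComplement (M.map (QuotientGroup.mk' (center G))) := by
    refine ⟨?_, ?_, ?_⟩
    · intro hbot
      apply hx
      have h1 := (hcm x).2 hxM
      rw [hbot, mem_bot] at h1
      exact (QuotientGroup.eq_one_iff x).1 h1
    · intro htop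
      apply hco.1
      rw [eq_top_iff]
      intro g _
      exact (hcm g).1 (by rw [htop]; trivial)
    · intro gb hgb
      obtain ⟨g, rfl⟩ := QuotientGroup.mk_surjective gb
      have hg : g ∉ M := fun hg => hgb ((hcm g).2 hg)
      rw [eq_bot_iff]
      intro yb hyb
      obtain ⟨hy1, hy2⟩ := Subgroup.mem_inf.1 hyb
      obtain ⟨y, rfl⟩ := QuotientGroup.mk_surjective yb
      rw [Cfsg.Agent.Lib.Helper15.mem_conj_smul_iff] at hy2
      have hyM : y ∈ M := (hcm y).1 hy1
      have hyM2 : g⁻¹ * y * g ∈ M := (hcm _).1 hy2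
      rw [mem_bot]
      by_contra hy1'
      have hyZ : y ∉ center G := fun hz => hy1' ((QuotientGroup.eq_one_iff y).2 hz)
      have hyZ2 : g⁻¹ * y * g ∉ center G := by
        intro hz
        apply hyZ
        have h3 := (inferInstance : (center G).Normal).conj_mem _ hz g
        have e : g * (g⁻¹ * y * g) * g⁻¹ = y := by group
        rwa [e] at h3
      have h1 := hCy y hyM hyZ
      have h2 := hCy _ hyM2 hyZ2
      apply hg
      rw [← hNM, mem_normalizer_iff]
      intro n
      constructor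
      · intro hn'
        have e1 : n * (g⁻¹ * y * g) = (g⁻¹ * y * g) * n := mem_Cn.1 (by rw [h2]; exact hn')
        have h3 : g * n * g⁻¹ ∈ Cn y := mem_Cn.2 (by
          calc g * n * g⁻¹ * y = g * (n * (g⁻¹ * y * g)) * g⁻¹ := by group
            _ = g * ((g⁻¹ * y * g) * n) * g⁻¹ := by rw [e1]
            _ = y * (g * n * g⁻¹) := by group)
        rwa [h1] at h3
      · intro hn'
        have e1 : (g * n * g⁻¹) * y = y * (g * n * g⁻¹) := mem_Cn.1 (by rw [h1]; exact hn')
        have h3 : n ∈ Cn (g⁻¹ * y * g) := mem_Cn.2 (by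
          calc n * (g⁻¹ * y * g) = g⁻¹ * ((g * n * g⁻¹) * y) * g := by group
            _ = g⁻¹ * (y * (g * n * g⁻¹)) * g := by rw [e1]
            _ = (g⁻¹ * y * g) * n := by group)
        rwa [h2] at h3
  obtain ⟨N, hNset, hNn, hNc⟩ := Cfsg.Agent.S0035.result _ hF
  have hNbot : N ≠ ⊥ := by
    intro e; rw [e] at hNc
    exact hF.2.1 (Subgroup.isComplement'_bot_left.1 hNc)
  have hNtop : N ≠ ⊤ := by
    intro e; rw [e] at hNc
    exact hF.1 (Subgroup.isComplement'_top_left.1 hNc)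
  obtain ⟨kb, hkN, hk1⟩ : ∃ kb ∈ N, kb ≠ 1 := by
    by_contra hcon
    push Not at hcon
    exact hNbot ((Subgroup.eq_bot_iff_forall N).2 hcon)
  obtain ⟨k, rfl⟩ := QuotientGroup.mk_surjective kb
  have hkZ : k ∉ center G := fun hz => hk1 ((QuotientGroup.eq_one_iff k).2 hz)
  have hle : Cn k ≤ N.comap (QuotientGroup.mk' (center G)) := by
    intro c hc
    rw [mem_comap, ← SetLike.mem_coe, hNset]
    by_contra hcon
    rw [Cfsg.Agent.Lib.Helper15.not_mem_frobeniusKernel_iff] at hcon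
    obtain ⟨hc1, gb, hgb⟩ := hcon
    have hkker : (k : G ⧸ center G) ∈
        Cfsg.frobeniusKernel (M.map (QuotientGroup.mk' (center G))) := by
      rw [← hNset]; exact hkN
    rcases Cfsg.Agent.Lib.Helper15.mem_frobeniusKernel_iff.1 hkker with h1 | h2
    · exact hk1 h1
    · apply h2 gb
      have hne1 : gb⁻¹ * (QuotientGroup.mk' (center G)) c * gb ≠ 1 := by
        intro e
        apply hc1
        have e2 := congrArg (fun t => gb * t * gb⁻¹) e
        simpa [mul_assoc] using e2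
      apply Cfsg.Agent.Lib.Helper15.frob_mem_of_conj_mem hF hgb hne1
      have hcomm : (QuotientGroup.mk' (center G)) c * (k : G ⧸ center G)
          = (k : G ⧸ center G) * (QuotientGroup.mk' (center G)) c := by
        show ((c * k : G) : G ⧸ center G) = ((k * c : G) : G ⧸ center G)
        rw [mem_Cn.1 hc]
      have e3 : (gb⁻¹ * (k : G ⧸ center G) * gb)⁻¹ * (gb⁻¹ * (QuotientGroup.mk' (center G)) c * gb)
          * (gb⁻¹ * (k : G ⧸ center G) * gb) = gb⁻¹ * (QuotientGroup.mk' (center G)) c * gb := by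
        calc _ = gb⁻¹ * ((k : G ⧸ center G)⁻¹ *
              ((QuotientGroup.mk' (center G)) c * (k : G ⧸ center G))) * gb := by group
          _ = gb⁻¹ * (QuotientGroup.mk' (center G)) c * gb := by rw [hcomm]; group
      rw [e3]; exact hgb
  have hKtop : N.comap (QuotientGroup.mk' (center G)) ≠ ⊤ := by
    intro e
    apply hNtop
    rw [eq_top_iff]
    intro yb _
    obtain ⟨y, rfl⟩ := QuotientGroup.mk_surjective yb
    have h1 : y ∈ N.comap (QuotientGroup.mk' (center G)) := by rw [e]; trivial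
    exact h1
  have heq : Cn k = N.comap (QuotientGroup.mk' (center G)) := by
    by_contra hne
    exact hKtop ((h k hkZ).2 _ (lt_of_le_of_ne hle hne))
  exact solvable_of_normal h hkZ (by rw [heq]; exact hNn.comap _)

theorem solvable_of_abelian [Finite G] (h : ∀ g : G, g ∉ center G → IsCoatom (Cn g)) {x : G}
    (hx : x ∉ center G) (hab : ∀ a ∈ Cn x, ∀ b ∈ Cn x, a * b = b * a) : Group.IsSolvable G := by
  by_cases hn : (Cn x).Normal
  · exact solvable_of_normal h hx hn
  · exact solvable_of_abelian_aux h (Cn x) (h x hx) (center_le_centralizer _) (mem_Cn.2 rfl) hx hab hn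

theorem strong [Finite G] (h : ∀ g : G, g ∉ center G → IsCoatom (Cn g))
    (hna : ∀ x : G, x ∉ center G → ¬ ∀ a ∈ Cn x, ∀ b ∈ Cn x, a * b = b * a)
    {p a : ℕ} (hp : p.Prime) {u : G} (hu : u ∉ center G) (hua : orderOf u = p ^ a) {y : G}
    (hy : y ∈ Cn u) (hyp : (orderOf y).Coprime p) : y ∈ center G := by
  rcases pprime_mem h hu hua hy hyp with hz | hC
  · exact hz
  by_contra hyZ
  obtain ⟨q, hq, v, hv, ⟨b, hvb⟩, hCv, hqy⟩ := exists_pelement h hyZ
  have hqp : q ≠ p := by
    rintro rfl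
    exact hq.one_lt.ne' (Nat.Coprime.eq_one_of_dvd hyp.symm hqy)
  have hCvu : Cn v = Cn u := hCv.trans hC
  apply hna u hu
  have hcen : ∀ w ∈ Cn u, ∀ t ∈ Cn u, t * w = w * t := by
    intro w hw
    obtain ⟨c, m, hm, ho1, ho2⟩ := exists_pow_coprime' hp w
    have h1 : w ^ p ^ c ∈ centralizer (Cn u : Set G) := by
      rw [mem_centralizer_iff]; intro t ht
      exact pprime_central h hu hua (pow_mem hw _) (by rw [ho1]; exact hm) t ht
    have h2 : w ^ m ∈ centralizer (Cn u : Set G) := by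
      rw [mem_centralizer_iff]; intro t ht
      exact pprime_central h hv hvb (y := w ^ m) (by rw [hCvu]; exact pow_mem hw _)
        (by rw [ho2]; exact Nat.Coprime.pow_left c ((Nat.coprime_primes hp hq).2 hqp.symm)) t
        (by rw [hCvu]; exact ht)
    have h3 := Cfsg.Agent.Lib.Helper22.mem_of_pow_mem_of_coprime _ w (p ^ c) m
      (Nat.Coprime.pow_left c hm.symm) h1 h2
    intro t ht
    exact mem_centralizer_iff.1 h3 t ht
  intro a ha b hb
  exact hcen b hb a ha

theorem exists_sylow [Finite G] (h : ∀ g : G, g ∉ center G → IsCoatom (Cn g))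
    (hna : ∀ x : G, x ∉ center G → ¬ ∀ a ∈ Cn x, ∀ b ∈ Cn x, a * b = b * a)
    {x : G} (hx : x ∉ center G) :
    ∃ p : ℕ, p.Prime ∧ p ∣ Nat.card G ∧ (IsPGroup p (G ⧸ center G) ∨
      ∃ S : Sylow p (G ⧸ center G),
        Cn x = (S : Subgroup (G ⧸ center G)).comap (QuotientGroup.mk' (center G))) := by
  obtain ⟨p, hp, u, hu, ⟨a, hua⟩, hCu, hpx⟩ := exists_pelement h hx
  refine ⟨p, hp, hpx.trans (orderOf_dvd_natCard x), ?_⟩
  have hP : IsPGroup p ((Cn x).map (QuotientGroup.mk' (center G))) := by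
    rintro ⟨yb, y, hy, rfl⟩
    obtain ⟨b, m, hm, hord, -⟩ := exists_pow_coprime' hp y
    refine ⟨b, Subtype.ext ?_⟩
    show ((QuotientGroup.mk' (center G)) y) ^ p ^ b = 1
    rw [← map_pow]
    apply (QuotientGroup.eq_one_iff _).2
    exact strong h hna hp hu hua (by rw [hCu]; exact pow_mem hy _) (by rw [hord]; exact hm)
  obtain ⟨S, hS⟩ := hP.exists_le_sylow
  have hle : Cn x ≤ (S : Subgroup (G ⧸ center G)).comap (QuotientGroup.mk' (center G)) :=
    map_le_iff_le_comap.1 hS
  by_cases htop : (S : Subgroup (G ⧸ center G)).comap (QuotientGroup.mk' (center G)) = ⊤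
  · left
    intro yb
    obtain ⟨y, rfl⟩ := QuotientGroup.mk_surjective yb
    have h1 : y ∈ (S : Subgroup (G ⧸ center G)).comap (QuotientGroup.mk' (center G)) := by
      rw [htop]; trivial
    obtain ⟨k, hk⟩ := S.2 ⟨_, h1⟩
    exact ⟨k, congrArg Subtype.val hk⟩
  · right
    refine ⟨S, ?_⟩
    by_contra hne
    exact htop ((h x hx).2 _ (lt_of_le_of_ne hle hne))

theorem card_center_bound [Finite G] {p : ℕ} [hp : Fact p.Prime] (L : Subgroup G)
    (hL : ∀ y ∈ L, ∃ k, y ^ p ^ k ∈ center G)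
    (hna : ¬ ∀ a ∈ L, ∀ b ∈ L, a * b = b * a) :
    Nat.card ↥(L ⊓ centralizer (L : Set G)) * p ^ 2 ≤ Nat.card L := by
  have hP : IsPGroup p (L ⧸ center L) := by
    intro yb
    obtain ⟨y, rfl⟩ := QuotientGroup.mk_surjective yb
    obtain ⟨k, hk⟩ := hL y y.2
    refine ⟨k, ?_⟩
    rw [← QuotientGroup.mk_pow, QuotientGroup.eq_one_iff, mem_center_iff]
    intro w
    apply Subtype.ext
    exact mem_center_iff.1 hk w
  obtain ⟨c, hc⟩ := hP.exists_card_eq
  have hidx : (center L).index = p ^ c := hc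
  have hc2 : 2 ≤ c := by
    by_contra hlt
    apply hna
    have hcyc : IsCyclic (L ⧸ center L) := by
      have h01 : c = 0 ∨ c = 1 := by omega
      rcases h01 with rfl | rfl
      · have : Subsingleton (L ⧸ center L) :=
          (Nat.card_eq_one_iff_unique.1 (by simpa using hc)).1
        infer_instance
      · exact isCyclic_of_prime_card (p := p) (by simpa using hc)
    have hcomm := (MonoidHom.isMulCommutative_of_isCyclic_of_ker_le_center
      (QuotientGroup.mk' (center L)) (by rw [QuotientGroup.ker_mk'])).is_comm.comm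
    intro a ha b hb
    exact congrArg Subtype.val (hcomm ⟨a, ha⟩ ⟨b, hb⟩)
  have hcard : Nat.card ↥(L ⊓ centralizer (L : Set G)) = Nat.card (center L) := by
    have e : (center L).map L.subtype = L ⊓ centralizer (L : Set G) := by
      ext w
      constructor
      · rintro ⟨v, hv, rfl⟩
        refine mem_inf.2 ⟨v.2, ?_⟩
        rw [mem_centralizer_iff]
        intro t ht
        exact congrArg Subtype.val (mem_center_iff.1 hv ⟨t, ht⟩)
      · intro hw
        obtain ⟨hw1, hw2⟩ := mem_inf.1 hw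
        refine ⟨⟨w, hw1⟩, ?_, rfl⟩
        rw [SetLike.mem_coe, mem_center_iff]
        intro t
        exact Subtype.ext (mem_centralizer_iff.1 hw2 t t.2)
    rw [← e, card_map_of_injective L.subtype_injective]
  rw [hcard, ← (center L).card_mul_index, hidx]
  exact Nat.mul_le_mul_left _ (Nat.pow_le_pow_right hp.out.pos hc2)

theorem card_comap_sylow [Finite G] {p : ℕ} [hp : Fact p.Prime] (S : Sylow p (G ⧸ center G)) :
    Nat.card ((S : Subgroup (G ⧸ center G)).comap (QuotientGroup.mk' (center G)))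
      = Nat.card (center G) * p ^ (Nat.card (G ⧸ center G)).factorization p := by
  have a1 := ((S : Subgroup (G ⧸ center G)).comap (QuotientGroup.mk' (center G))).index_mul_card
  have a2 : ((S : Subgroup (G ⧸ center G)).comap (QuotientGroup.mk' (center G))).index
      = (S : Subgroup (G ⧸ center G)).index :=
    index_comap_of_surjective _ (QuotientGroup.mk'_surjective _)
  have a3 := (S : Subgroup (G ⧸ center G)).index_mul_card
  have a4 : Nat.card (G ⧸ center G) * Nat.card (center G) = Nat.card G :=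
    (center G).index_mul_card
  rw [S.card_eq_multiplicity] at a3
  rw [a2] at a1
  generalize p ^ (Nat.card (G ⧸ center G)).factorization p = e at a3 ⊢
  have hpos : 0 < (S : Subgroup (G ⧸ center G)).index :=
    Nat.pos_of_ne_zero index_ne_zero_of_finite
  apply Nat.eq_of_mul_eq_mul_left hpos
  rw [a1, ← a4, ← a3]
  ring

theorem count_p [Finite G]
    (hna : ∀ x : G, x ∉ center G → ¬ ∀ a ∈ Cn x, ∀ b ∈ Cn x, a * b = b * a)
    (p : ℕ) [hp : Fact p.Prime] :
    Set.ncard {x : G | x ∉ center G ∧ ∃ S : Sylow p (G ⧸ center G),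
      Cn x = (S : Subgroup (G ⧸ center G)).comap (QuotientGroup.mk' (center G))} * p ^ 2
      ≤ Nat.card G := by
  classical
  have := Fintype.ofFinite G
  have := Fintype.ofFinite (Sylow p (G ⧸ center G))
  let T : Finset G := Finset.univ.filter (fun x => x ∉ center G ∧
    ∃ S : Sylow p (G ⧸ center G),
      Cn x = (S : Subgroup (G ⧸ center G)).comap (QuotientGroup.mk' (center G)))
  have hTset : {x : G | x ∉ center G ∧ ∃ S : Sylow p (G ⧸ center G),
      Cn x = (S : Subgroup (G ⧸ center G)).comap (QuotientGroup.mk' (center G))} = (T : Set G) := by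
    ext x; simp [T]
  rw [hTset, Set.ncard_coe_finset]
  let f : G → Sylow p (G ⧸ center G) := fun x =>
    if hx : ∃ S : Sylow p (G ⧸ center G),
      Cn x = (S : Subgroup (G ⧸ center G)).comap (QuotientGroup.mk' (center G))
    then hx.choose else default
  have hf : ∀ x ∈ T, Cn x =
      ((f x : Sylow p (G ⧸ center G)) : Subgroup (G ⧸ center G)).comap
        (QuotientGroup.mk' (center G)) := by
    intro x hx
    have hx2 := (Finset.mem_filter.1 hx).2.2
    simp only [f, dif_pos hx2]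
    exact hx2.choose_spec
  obtain ⟨l, hl⟩ : ∃ l, l = Nat.card (center G) * p ^ (Nat.card (G ⧸ center G)).factorization p :=
    ⟨_, rfl⟩
  have hcardL : ∀ S : Sylow p (G ⧸ center G),
      Nat.card ((S : Subgroup (G ⧸ center G)).comap (QuotientGroup.mk' (center G))) = l :=
    fun S => (card_comap_sylow S).trans hl.symm
  have hfib : ∀ S ∈ (Finset.univ : Finset (Sylow p (G ⧸ center G))),
      (T.filter (fun a => f a = S)).card ≤ l / p ^ 2 := by
    intro S _
    by_cases hemp : (T.filter (fun a => f a = S)) = ∅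
    · rw [hemp]; simp
    obtain ⟨x0, hx0⟩ := Finset.nonempty_iff_ne_empty.2 hemp
    obtain ⟨hx0T, hx0S⟩ := Finset.mem_filter.1 hx0
    have hL0 : Cn x0 = (S : Subgroup (G ⧸ center G)).comap (QuotientGroup.mk' (center G)) := by
      rw [hf x0 hx0T, hx0S]
    have hx0Z : x0 ∉ center G := (Finset.mem_filter.1 hx0T).2.1
    have hbound := card_center_bound (p := p)
      ((S : Subgroup (G ⧸ center G)).comap (QuotientGroup.mk' (center G)))
      (by
        intro y hy
        obtain ⟨k, hk⟩ := S.2 ⟨_, hy⟩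
        refine ⟨k, ?_⟩
        rw [← QuotientGroup.eq_one_iff]
        exact congrArg Subtype.val hk)
      (by rw [← hL0]; exact hna x0 hx0Z)
    rw [Nat.le_div_iff_mul_le (pow_pos hp.out.pos 2)]
    refine le_trans (Nat.mul_le_mul_right _ ?_) (hbound.trans (hcardL S).le)
    rw [← Set.ncard_coe_finset, ← Nat.card_coe_set_eq]
    apply Nat.card_mono (Set.toFinite _)
    intro a ha
    obtain ⟨haT, haS⟩ := Finset.mem_filter.1 (Finset.mem_coe.1 ha)
    have hLa : Cn a = (S : Subgroup (G ⧸ center G)).comap (QuotientGroup.mk' (center G)) := by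
      rw [hf a haT, haS]
    rw [← hLa]
    refine mem_inf.2 ⟨mem_Cn.2 rfl, ?_⟩
    rw [mem_centralizer_iff]
    intro t ht
    exact mem_Cn.1 ht
  have hmain := Finset.card_le_mul_card_image_of_maps_to (s := T) (t := Finset.univ) (f := f)
    (fun _ _ => Finset.mem_univ _) (l / p ^ 2) hfib
  have hn : (Finset.univ : Finset (Sylow p (G ⧸ center G))).card * l ≤ Nat.card G := by
    let S0 : Sylow p (G ⧸ center G) := default
    have h1 : Nat.card (Sylow p (G ⧸ center G))
        = (normalizer ((S0 : Subgroup (G ⧸ center G)) : Set (G ⧸ center G))).index :=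
      S0.card_eq_index_normalizer
    have h2 : (normalizer ((S0 : Subgroup (G ⧸ center G)) : Set (G ⧸ center G))).index ∣
        (S0 : Subgroup (G ⧸ center G)).index := index_dvd_of_le le_normalizer
    have h3 : ((S0 : Subgroup (G ⧸ center G)).comap (QuotientGroup.mk' (center G))).index
        = (S0 : Subgroup (G ⧸ center G)).index :=
      index_comap_of_surjective _ (QuotientGroup.mk'_surjective _)
    have h4 := ((S0 : Subgroup (G ⧸ center G)).comap (QuotientGroup.mk' (center G))).index_mul_card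
    rw [hcardL S0, h3] at h4
    have hpos : 0 < (S0 : Subgroup (G ⧸ center G)).index :=
      Nat.pos_of_ne_zero index_ne_zero_of_finite
    calc (Finset.univ : Finset (Sylow p (G ⧸ center G))).card * l
        = Nat.card (Sylow p (G ⧸ center G)) * l := by
          rw [Nat.card_eq_fintype_card, Finset.card_univ]
      _ ≤ (S0 : Subgroup (G ⧸ center G)).index * l :=
          Nat.mul_le_mul_right _ (h1 ▸ Nat.le_of_dvd hpos h2)
      _ = Nat.card G := h4
  calc T.card * p ^ 2 ≤ (l / p ^ 2 * (Finset.univ : Finset (Sylow p (G ⧸ center G))).card) * p ^ 2 :=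
        Nat.mul_le_mul_right _ hmain
    _ = (Finset.univ : Finset (Sylow p (G ⧸ center G))).card * (l / p ^ 2 * p ^ 2) := by ring
    _ ≤ (Finset.univ : Finset (Sylow p (G ⧸ center G))).card * l :=
        Nat.mul_le_mul_left _ (Nat.div_mul_le_self _ _)
    _ ≤ Nat.card G := hn

end

theorem sum_inv_sq_le (P : Finset ℕ) (hP : ∀ n ∈ P, 2 ≤ n) :
    ∑ n ∈ P, (1 : ℚ) / (n : ℚ) ^ 2 ≤ 3 / 4 := by
  have key : ∀ N : ℕ, ∑ n ∈ Finset.Icc 2 (N + 2), (1 : ℚ) / (n : ℚ) ^ 2
      ≤ 3 / 4 - 1 / ((N : ℚ) + 2) := by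
    intro N
    induction N with
    | zero => simp; norm_num
    | succ N ih =>
      rw [show N + 1 + 2 = (N + 2) + 1 from rfl, Finset.sum_Icc_succ_top (by omega)]
      have h1 : (1 : ℚ) / (((N + 2 + 1 : ℕ) : ℚ)) ^ 2
          ≤ 1 / ((N : ℚ) + 2) - 1 / (((N + 1 : ℕ) : ℚ) + 2) := by
        push_cast
        have hN : (0 : ℚ) ≤ N := Nat.cast_nonneg N
        rw [div_sub_div _ _ (by positivity) (by positivity),
          div_le_div_iff₀ (by positivity) (by positivity)]
        nlinarith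
      linarith
  have hsub : P ⊆ Finset.Icc 2 (P.sup id + 2) := by
    intro n hn
    rw [Finset.mem_Icc]
    exact ⟨hP n hn, (Finset.le_sup (f := id) hn).trans (Nat.le_add_right _ _)⟩
  calc ∑ n ∈ P, (1 : ℚ) / (n : ℚ) ^ 2
      ≤ ∑ n ∈ Finset.Icc 2 (P.sup id + 2), (1 : ℚ) / (n : ℚ) ^ 2 :=
        Finset.sum_le_sum_of_subset_of_nonneg hsub (fun _ _ _ => by positivity)
    _ ≤ 3 / 4 - 1 / (((P.sup id : ℕ) : ℚ) + 2) := key _
    _ ≤ 3 / 4 := by
        have : (0 : ℚ) ≤ 1 / (((P.sup id : ℕ) : ℚ) + 2) := by positivity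
        linarith

/-- Let G be a finite group in which the centralizer of every non-central element is a maximal subgroup of G. Then G is solvable. -/
theorem result {G : Type*} [Group G] [Finite G]
    (h : ∀ g : G, g ∉ Subgroup.center G → IsCoatom (Subgroup.centralizer ({g} : Set G))) :
    Group.IsSolvable G := by
  classical
  by_cases hab : ∃ x, x ∉ center G ∧ ∀ a ∈ Cn x, ∀ b ∈ Cn x, a * b = b * a
  · obtain ⟨x, hx, hab⟩ := hab
    exact solvable_of_abelian h hx hab
  have hna : ∀ x : G, x ∉ center G → ¬ ∀ a ∈ Cn x, ∀ b ∈ Cn x, a * b = b * a :=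
    fun x hx hc => hab ⟨x, hx, hc⟩
  have hpq : ∀ p : ℕ, p.Prime → IsPGroup p (G ⧸ center G) → Group.IsSolvable G := by
    intro p hp hP
    have : Fact p.Prime := ⟨hp⟩
    have h1 : Group.IsNilpotent (G ⧸ center G) := hP.isNilpotent
    have h2 : Group.IsNilpotent G := Group.of_quotient_center_nilpotent h1
    infer_instance
  by_cases hex : ∃ p : ℕ, p.Prime ∧ IsPGroup p (G ⧸ center G)
  · obtain ⟨p, hp, hP⟩ := hex
    exact hpq p hp hP
  exfalso
  let T : ℕ → Set G := fun n => {x : G | x ∉ center G ∧ ∃ S : Sylow n (G ⧸ center G),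
      Cn x = (S : Subgroup (G ⧸ center G)).comap (QuotientGroup.mk' (center G))}
  let P : Finset ℕ := (Finset.range (Nat.card G + 1)).filter Nat.Prime
  have hcover : ((center G : Set G))ᶜ ⊆ ⋃ n ∈ P, T n := by
    intro x hx
    have hx' : x ∉ center G := hx
    obtain ⟨p, hp, hpG, hor⟩ := exists_sylow h hna hx'
    rcases hor with hP | ⟨S, hS⟩
    · exact absurd ⟨p, hp, hP⟩ hex
    · refine Set.mem_biUnion (x := p) ?_ ⟨hx', S, hS⟩
      simp only [P, Finset.coe_filter, Finset.mem_range, Set.mem_ofPred_eq]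
      exact ⟨Nat.lt_succ_of_le (Nat.le_of_dvd Nat.card_pos hpG), hp⟩
  have h1 : ((center G : Set G))ᶜ.ncard ≤ ∑ n ∈ P, (T n).ncard :=
    (Set.ncard_le_ncard hcover (Set.toFinite _)).trans (Finset.set_ncard_biUnion_le P T)
  have h2 : ((center G : Set G))ᶜ.ncard = Nat.card G - Nat.card (center G) := by
    rw [Set.ncard_compl]; rfl
  have hzle : Nat.card (center G) ≤ Nat.card G := Subgroup.card_le_card_group _
  have h3 : ∀ n ∈ P, ((T n).ncard : ℚ) ≤ (Nat.card G : ℚ) * (1 / (n : ℚ) ^ 2) := by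
    intro n hn
    have hnp : n.Prime := (Finset.mem_filter.1 hn).2
    have : Fact n.Prime := ⟨hnp⟩
    have h4 := count_p hna n
    have h5 : ((T n).ncard : ℚ) * (n : ℚ) ^ 2 ≤ (Nat.card G : ℚ) := by exact_mod_cast h4
    have hn0 : (0 : ℚ) < (n : ℚ) ^ 2 := by
      have : (0 : ℚ) < n := by exact_mod_cast hnp.pos
      positivity
    rw [mul_one_div, le_div_iff₀ hn0]
    exact h5
  have h6 : ((Nat.card G : ℚ) - (Nat.card (center G) : ℚ)) ≤ (Nat.card G : ℚ) * (3 / 4) := by
    have h7 : ((Nat.card G - Nat.card (center G) : ℕ) : ℚ) ≤ ∑ n ∈ P, ((T n).ncard : ℚ) := by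
      rw [← h2]; exact_mod_cast h1
    rw [Nat.cast_sub hzle] at h7
    calc ((Nat.card G : ℚ) - (Nat.card (center G) : ℚ)) ≤ ∑ n ∈ P, ((T n).ncard : ℚ) := h7
      _ ≤ ∑ n ∈ P, (Nat.card G : ℚ) * (1 / (n : ℚ) ^ 2) := Finset.sum_le_sum h3
      _ = (Nat.card G : ℚ) * ∑ n ∈ P, (1 / (n : ℚ) ^ 2) := by rw [Finset.mul_sum]
      _ ≤ (Nat.card G : ℚ) * (3 / 4) := by
          apply mul_le_mul_of_nonneg_left _ (Nat.cast_nonneg _)
          exact sum_inv_sq_le P (fun n hn => (Finset.mem_filter.1 hn).2.two_le)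
  have h8 : Nat.card G ≤ 4 * Nat.card (center G) := by
    have : (Nat.card G : ℚ) ≤ 4 * (Nat.card (center G) : ℚ) := by linarith
    exact_mod_cast this
  have h9 : Nat.card (G ⧸ center G) * Nat.card (center G) = Nat.card G :=
    (center G).index_mul_card
  have hzpos : 0 < Nat.card (center G) := Nat.card_pos
  have h10 : Nat.card (G ⧸ center G) ≤ 4 := by
    rw [← h9] at h8
    exact Nat.le_of_mul_le_mul_right h8 hzpos
  have h11 : 0 < Nat.card (G ⧸ center G) := Nat.card_pos
  apply hex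
  have hcases : Nat.card (G ⧸ center G) = 1 ∨ Nat.card (G ⧸ center G) = 2 ∨
      Nat.card (G ⧸ center G) = 3 ∨ Nat.card (G ⧸ center G) = 4 := by omega
  rcases hcases with e | e | e | e
  · exact ⟨2, Nat.prime_two, IsPGroup.of_card (n := 0) (by rw [e]; norm_num)⟩
  · exact ⟨2, Nat.prime_two, IsPGroup.of_card (n := 1) (by rw [e]; norm_num)⟩
  · exact ⟨3, Nat.prime_three, IsPGroup.of_card (n := 1) (by rw [e]; norm_num)⟩
  · exact ⟨2, Nat.prime_two, IsPGroup.of_card (n := 2) (by rw [e]; norm_num)⟩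

end Cfsg.Agent.S4262
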