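import Cfsg.Statements.S3904
import Cfsg.Agent.S4262
import Cfsg.Agent.Lib.Helper23.FrattiniP

set_option autoImplicit false
open Cfsg

namespace Cfsg.Agent.S3904

open Subgroup
open scoped commutatorElement
open Cfsg.Agent.S4262
open Cfsg.Agent.Lib.Helper23

theorem mem_map_mk_iff {G : Type*} [Group G] (Z M : Subgroup G) [Z.Normal] (hZM : Z ≤ M) (y : G) :
    (QuotientGroup.mk' Z y) ∈ M.map (QuotientGroup.mk' Z) ↔ y ∈ M := by
  constructor
  · rintro ⟨m, hm, hmy⟩
    have h1 : m⁻¹ * y ∈ Z := QuotientGroup.eq.1 hmy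
    have h2 := M.mul_mem hm (hZM h1)
    rwa [mul_inv_cancel_left] at h2
  · intro hy; exact ⟨y, hy, rfl⟩

theorem coatom_map {G : Type*} [Group G] (Z M : Subgroup G) [Z.Normal] (hZM : Z ≤ M)
    (hM : IsCoatom M) : IsCoatom (M.map (QuotientGroup.mk' Z)) := by
  constructor
  · intro e
    apply hM.1
    rw [eq_top_iff]
    intro g _
    exact (mem_map_mk_iff Z M hZM g).1 (by rw [e]; trivial)
  · intro K hK
    have h1 : M ≤ K.comap (QuotientGroup.mk' Z) := map_le_iff_le_comap.1 hK.le
    have h2 : M ≠ K.comap (QuotientGroup.mk' Z) := by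
      intro e
      apply hK.ne
      rw [e, map_comap_eq_self_of_surjective (QuotientGroup.mk'_surjective Z)]
    have h3 := hM.2 _ (lt_of_le_of_ne h1 h2)
    rw [← map_comap_eq_self_of_surjective (QuotientGroup.mk'_surjective Z) K, h3,
      map_top_of_surjective _ (QuotientGroup.mk'_surjective Z)]

theorem structure_lemma {Q : Type*} [Group Q] [Finite Q] (N C : Subgroup Q) (hNn : N.Normal)
    (hN : IsCoatom N) (hC : IsCoatom C) (hNC : N ⊓ C = ⊥) (hsol : Group.IsSolvable N)
    (hnp : ¬ ∃ p : ℕ, p.Prime ∧ IsPGroup p Q) :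
    (∀ L : Subgroup Q, L.Normal → L ≤ N → L = ⊥ ∨ L = N) ∧
    (∀ H : Subgroup Q, H ≠ ⊤ → IsMulCommutative ↥H) ∧
      ∃ p q a : ℕ, p.Prime ∧ q.Prime ∧ p ≠ q ∧ Nat.card Q = p ^ a * q ∧ Nat.card N = p ^ a ∧
        p ∣ Nat.card N ∧ Nat.card C = q ∧
        ∀ P : Subgroup Q, Nat.card ↥P = p ^ a → P.Normal := by
  have hsup : ∀ H : Subgroup Q, ¬ H ≤ N → N ⊔ H = ⊤ := fun H hH =>
    hN.2 _ (lt_of_le_of_ne le_sup_left (fun e => hH (le_sup_right.trans e.ge)))
  have hcardc : ∀ H : Subgroup Q, N ⊓ H = ⊥ → N ⊔ H = ⊤ → Nat.card H = N.index := by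
    intro H h1 h2
    rw [← relIndex_top_right, ← h2, relIndex_sup_left, ← inf_relIndex_right, h1, relIndex_bot_left]
  have hNbot : N ≠ ⊥ := by
    intro e
    have hne : Nat.card Q ≠ 1 := by
      intro h1
      apply hN.1
      have := (Nat.card_eq_one_iff_unique.1 h1).1
      exact Subsingleton.elim _ _
    obtain ⟨p, hp, hpd⟩ := Nat.exists_prime_and_dvd hne
    have : Fact p.Prime := ⟨hp⟩
    obtain ⟨g, hg⟩ := exists_prime_orderOf_dvd_card' p hpd
    have hz : zpowers g ≠ ⊥ := by
      intro e2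
      rw [zpowers_eq_bot] at e2
      rw [e2, orderOf_one] at hg
      exact hp.one_lt.ne hg
    have htop : zpowers g = ⊤ := hN.2 _ (by rw [e]; exact bot_lt_iff_ne_bot.2 hz)
    apply hnp
    refine ⟨p, hp, IsPGroup.of_card (n := 1) ?_⟩
    rw [pow_one, ← hg, ← Nat.card_zpowers, htop, card_top]
  have hCN : ¬ C ≤ N := by
    intro hle
    have e : C = ⊥ := by rw [← hNC]; exact (inf_eq_right.2 hle).symm
    exact hN.1 (hC.2 N (by rw [e]; exact bot_lt_iff_ne_bot.2 hNbot))
  have hmin : ∀ L : Subgroup Q, L.Normal → L ≤ N → L = ⊥ ∨ L = N := by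
    intro L hL hLN
    by_cases hLC : L ≤ C
    · left
      rw [eq_bot_iff, ← hNC]
      exact le_inf hLN hLC
    · right
      have htop : C ⊔ L = ⊤ :=
        hC.2 _ (lt_of_le_of_ne le_sup_left (fun e => hLC (le_sup_right.trans e.ge)))
      apply le_antisymm hLN
      intro n hn
      have hn' : n ∈ C ⊔ L := by rw [htop]; trivial
      obtain ⟨c, hc, l, hl, rfl⟩ := mem_sup_of_normal_right.1 hn'
      have hcN : c ∈ N := by
        have := N.mul_mem hn (N.inv_mem (hLN hl))
        rwa [mul_inv_cancel_right] at this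
      have hc1 : c ∈ N ⊓ C := Subgroup.mem_inf.mpr ⟨hcN, hc⟩
      rw [hNC, mem_bot] at hc1
      rw [hc1, one_mul]; exact hl
  have hab : ∀ a ∈ N, ∀ b ∈ N, a * b = b * a := by
    have hD : ⁅N, N⁆ < N := by
      have hH := hNbot
      rw [← nontrivial_iff_ne_bot] at hH
      conv_rhs => rw [← N.range_subtype, MonoidHom.range_eq_map]
      rw [← N.map_subtype_commutator, map_subtype_lt_map_subtype]
      exact Group.IsSolvable.commutator_lt_top_of_nontrivial N
    have hDn : (⁅N, N⁆).Normal := inferInstance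
    rcases hmin _ hDn hD.le with e | e
    · rw [commutator_eq_bot_iff_le_centralizer] at e
      intro a ha b hb
      exact (mem_centralizer_iff.1 (e hb) a ha)
    · exact absurd e hD.ne
  have hN1 : Nat.card N ≠ 1 := by
    intro h1
    exact hNbot (card_eq_one.1 h1)
  obtain ⟨p, hp, hpd⟩ := Nat.exists_prime_and_dvd hN1
  have : Fact p.Prime := ⟨hp⟩
  obtain ⟨a, hNa⟩ : ∃ a, Nat.card N = p ^ a := by
    let P : Sylow p N := default
    have hPn : (P : Subgroup N).Normal := ⟨fun n hn g => by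
      have e : g * n = n * g := Subtype.ext (hab _ g.2 _ n.2)
      rw [e, mul_inv_cancel_right]; exact hn⟩
    have hchar : (P : Subgroup N).Characteristic := Sylow.characteristic_of_normal P hPn
    have hLn : ((P : Subgroup N).map N.subtype).Normal := inferInstance
    have hLne : (P : Subgroup N).map N.subtype ≠ ⊥ := by
      rw [Ne, map_eq_bot_iff_of_injective _ N.subtype_injective]
      exact P.ne_bot_of_dvd_card hpd
    have hLN := (hmin _ hLn (map_subtype_le _)).resolve_left hLne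
    obtain ⟨a, ha⟩ := IsPGroup.iff_card.1 P.2
    refine ⟨a, ?_⟩
    rw [← ha, ← card_map_of_injective (K := (P : Subgroup N)) N.subtype_injective]
    exact (congrArg (fun X : Subgroup Q => Nat.card X) hLN).symm
  have hCidx : Nat.card C = N.index := hcardc C hNC (hsup C hCN)
  have hC1 : Nat.card C ≠ 1 := by
    intro h1
    apply hCN
    rw [card_eq_one.1 h1]; exact bot_le
  obtain ⟨q, hq, hqd⟩ := Nat.exists_prime_and_dvd hC1
  have : Fact q.Prime := ⟨hq⟩
  have hCq : Nat.card C = q := by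
    obtain ⟨g, hg⟩ := exists_prime_orderOf_dvd_card' (G := C) q hqd
    have hgo : orderOf (g : Q) = q := by rw [orderOf_coe]; exact hg
    have hDC : zpowers (g : Q) ≤ C := zpowers_le.2 g.2
    have hDN : ¬ zpowers (g : Q) ≤ N := by
      intro hle
      have h1 : (g : Q) ∈ N ⊓ C := Subgroup.mem_inf.mpr ⟨hle (mem_zpowers _), g.2⟩
      rw [hNC, mem_bot] at h1
      rw [h1, orderOf_one] at hgo
      exact hq.one_lt.ne hgo
    have h2 : N ⊓ zpowers (g : Q) = ⊥ := by
      rw [eq_bot_iff, ← hNC]; exact inf_le_inf_left N hDC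
    have h3 := hcardc _ h2 (hsup _ hDN)
    rw [hCidx, ← h3, Nat.card_zpowers, hgo]
  have hidx : N.index = q := by rw [← hCidx, hCq]
  have hQ : Nat.card Q = p ^ a * q := by rw [← N.card_mul_index, hNa, hidx]
  have hpq : p ≠ q := by
    rintro rfl
    exact hnp ⟨p, hp, IsPGroup.of_card (n := a + 1) (by rw [hQ, pow_succ])⟩
  refine ⟨hmin, ?_, p, q, a, hp, hq, hpq, hQ, hNa, hpd, hCq, ?_⟩
  · intro H hH
    by_cases hHN : H ≤ N
    · exact ⟨⟨fun x y => Subtype.ext (hab _ (hHN x.2) _ (hHN y.2))⟩⟩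
    · have htop := hsup H hHN
      have hKn : (N ⊓ H).Normal := ⟨fun x hx g => by
        have hg : g ∈ N ⊔ H := by rw [htop]; trivial
        obtain ⟨n, hn, k, hk, rfl⟩ := mem_sup_of_normal_left.1 hg
        obtain ⟨hx1, hx2⟩ := Subgroup.mem_inf.1 hx
        have h1 : k * x * k⁻¹ ∈ N := hNn.conj_mem x hx1 k
        have h2 : k * x * k⁻¹ ∈ H := H.mul_mem (H.mul_mem hk hx2) (H.inv_mem hk)
        have e : n * k * x * (n * k)⁻¹ = k * x * k⁻¹ := by
          have e1 : n * (k * x * k⁻¹) = (k * x * k⁻¹) * n := hab _ hn _ h1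
          calc n * k * x * (n * k)⁻¹ = n * (k * x * k⁻¹) * n⁻¹ := by group
            _ = k * x * k⁻¹ := by rw [e1, mul_inv_cancel_right]
        rw [e]
        exact Subgroup.mem_inf.mpr ⟨h1, h2⟩⟩
      rcases hmin _ hKn inf_le_left with e | e
      · have hHq : Nat.card H = q := by rw [hcardc H e htop, hidx]
        have hcyc : IsCyclic H := isCyclic_of_prime_card hHq
        refine ⟨⟨fun x y => ?_⟩⟩
        let _ := IsCyclic.commGroup (α := H)
        exact mul_comm _ _
      · exfalso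
        apply hH
        rw [← htop]
        exact (sup_eq_right.2 (inf_eq_left.1 e)).symm
  · intro P hP
    have h1 : N.relIndex P ∣ q := hidx ▸ relIndex_dvd_index_of_normal N P
    have h2 : N.relIndex P ∣ p ^ a := hP ▸ relIndex_dvd_card N P
    have h3 : N.relIndex P = 1 :=
      Nat.eq_one_of_dvd_coprimes (Nat.Coprime.pow_left a ((Nat.coprime_primes hp hq).2 hpq)) h2 h1
    have h4 : P ≤ N := relIndex_eq_one.1 h3
    have h5 : P = N := eq_of_le_of_card_ge h4 (by rw [hP, hNa])
    rw [h5]; exact hNn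

section
variable {G : Type*} [Group G]

theorem kernel_data [Finite G] (h : ∀ g : G, g ∉ center G → IsCoatom (Cn g))
    (M : Subgroup G) (hco : IsCoatom M) (hZM : center G ≤ M) {x : G} (hxM : x ∈ M)
    (hx : x ∉ center G) (hab : ∀ a ∈ M, ∀ b ∈ M, a * b = b * a) (hn : ¬ M.Normal) :
    ∃ (N : Subgroup (G ⧸ center G)) (k : G), N.Normal ∧ k ∉ center G ∧
      N.IsComplement' (M.map (QuotientGroup.mk' (center G))) ∧
      Cn k = N.comap (QuotientGroup.mk' (center G)) := by
  have hNM : normalizer (M : Set G) = M := by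
    by_contra hne
    apply hn
    rw [← normalizer_eq_top_iff]
    exact hco.2 _ (lt_of_le_of_ne le_normalizer (Ne.symm hne))
  have hCy : ∀ y ∈ M, y ∉ center G → Cn y = M := by
    intro y hy hyZ
    exact (coatom_eq hco (h y hyZ) (fun m hm => mem_Cn.2 (hab m hm y hy))).symm
  have hcm : ∀ y : G, (y : G ⧸ center G) ∈ M.map (QuotientGroup.mk' (center G)) ↔ y ∈ M := by
    intro y
    constructor
    · rintro ⟨m, hm, hmy⟩
      have h1 : m⁻¹ * y ∈ center G := QuotientGroup.eq.1 hmy
      have h2 := M.mul_mem hm (hZM h1)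
      rwa [mul_inv_cancel_left] at h2
    · intro hy; exact ⟨y, hy, rfl⟩
  have hF : Cfsg.IsFrobeniusComplement (M.map (QuotientGroup.mk' (center G))) := by
    refine ⟨?_, ?_, ?_⟩
    · intro hbot
      apply hx
      have h1 := (hcm x).2 hxM
      rw [hbot, mem_bot] at h1
      exact (QuotientGroup.eq_one_iff x).1 h1
    · intro htop
      apply hco.1
      rw [eq_top_iff]
      intro g _
      exact (hcm g).1 (by rw [htop]; trivial)
    · intro gb hgb
      obtain ⟨g, rfl⟩ := QuotientGroup.mk_surjective gb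
      have hg : g ∉ M := fun hg => hgb ((hcm g).2 hg)
      rw [eq_bot_iff]
      intro yb hyb
      obtain ⟨hy1, hy2⟩ := Subgroup.mem_inf.1 hyb
      obtain ⟨y, rfl⟩ := QuotientGroup.mk_surjective yb
      rw [Cfsg.Agent.Lib.Helper15.mem_conj_smul_iff] at hy2
      have hyM : y ∈ M := (hcm y).1 hy1
      have hyM2 : g⁻¹ * y * g ∈ M := (hcm _).1 hy2
      rw [mem_bot]
      by_contra hy1'
      have hyZ : y ∉ center G := fun hz => hy1' ((QuotientGroup.eq_one_iff y).2 hz)
      have hyZ2 : g⁻¹ * y * g ∉ center G := by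
        intro hz
        apply hyZ
        have h3 := (inferInstance : (center G).Normal).conj_mem _ hz g
        have e : g * (g⁻¹ * y * g) * g⁻¹ = y := by group
        rwa [e] at h3
      have h1 := hCy y hyM hyZ
      have h2 := hCy _ hyM2 hyZ2
      apply hg
      rw [← hNM, mem_normalizer_iff]
      intro n
      constructor
      · intro hn'
        have e1 : n * (g⁻¹ * y * g) = (g⁻¹ * y * g) * n := mem_Cn.1 (by rw [h2]; exact hn')
        have h3 : g * n * g⁻¹ ∈ Cn y := mem_Cn.2 (by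
          calc g * n * g⁻¹ * y = g * (n * (g⁻¹ * y * g)) * g⁻¹ := by group
            _ = g * ((g⁻¹ * y * g) * n) * g⁻¹ := by rw [e1]
            _ = y * (g * n * g⁻¹) := by group)
        rwa [h1] at h3
      · intro hn'
        have e1 : (g * n * g⁻¹) * y = y * (g * n * g⁻¹) := mem_Cn.1 (by rw [h1]; exact hn')
        have h3 : n ∈ Cn (g⁻¹ * y * g) := mem_Cn.2 (by
          calc n * (g⁻¹ * y * g) = g⁻¹ * ((g * n * g⁻¹) * y) * g := by group
            _ = g⁻¹ * (y * (g * n * g⁻¹)) * g := by rw [e1]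
            _ = (g⁻¹ * y * g) * n := by group)
        rwa [h2] at h3
  obtain ⟨N, hNset, hNn, hNc⟩ := Cfsg.Agent.S0035.result _ hF
  have hNbot : N ≠ ⊥ := by
    intro e; rw [e] at hNc
    exact hF.2.1 (Subgroup.isComplement'_bot_left.1 hNc)
  have hNtop : N ≠ ⊤ := by
    intro e; rw [e] at hNc
    exact hF.1 (Subgroup.isComplement'_top_left.1 hNc)
  obtain ⟨kb, hkN, hk1⟩ : ∃ kb ∈ N, kb ≠ 1 := by
    by_contra hcon
    push Not at hcon
    exact hNbot ((Subgroup.eq_bot_iff_forall N).2 hcon)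
  obtain ⟨k, rfl⟩ := QuotientGroup.mk_surjective kb
  have hkZ : k ∉ center G := fun hz => hk1 ((QuotientGroup.eq_one_iff k).2 hz)
  have hle : Cn k ≤ N.comap (QuotientGroup.mk' (center G)) := by
    intro c hc
    rw [mem_comap, ← SetLike.mem_coe, hNset]
    by_contra hcon
    rw [Cfsg.Agent.Lib.Helper15.not_mem_frobeniusKernel_iff] at hcon
    obtain ⟨hc1, gb, hgb⟩ := hcon
    have hkker : (k : G ⧸ center G) ∈
        Cfsg.frobeniusKernel (M.map (QuotientGroup.mk' (center G))) := by
      rw [← hNset]; exact hkN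
    rcases Cfsg.Agent.Lib.Helper15.mem_frobeniusKernel_iff.1 hkker with h1 | h2
    · exact hk1 h1
    · apply h2 gb
      have hne1 : gb⁻¹ * (QuotientGroup.mk' (center G)) c * gb ≠ 1 := by
        intro e
        apply hc1
        have e2 := congrArg (fun t => gb * t * gb⁻¹) e
        simpa [mul_assoc] using e2
      apply Cfsg.Agent.Lib.Helper15.frob_mem_of_conj_mem hF hgb hne1
      have hcomm : (QuotientGroup.mk' (center G)) c * (k : G ⧸ center G)
          = (k : G ⧸ center G) * (QuotientGroup.mk' (center G)) c := by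
        show ((c * k : G) : G ⧸ center G) = ((k * c : G) : G ⧸ center G)
        rw [mem_Cn.1 hc]
      have e3 : (gb⁻¹ * (k : G ⧸ center G) * gb)⁻¹ * (gb⁻¹ * (QuotientGroup.mk' (center G)) c * gb)
          * (gb⁻¹ * (k : G ⧸ center G) * gb) = gb⁻¹ * (QuotientGroup.mk' (center G)) c * gb := by
        calc _ = gb⁻¹ * ((k : G ⧸ center G)⁻¹ *
              ((QuotientGroup.mk' (center G)) c * (k : G ⧸ center G))) * gb := by group
          _ = gb⁻¹ * (QuotientGroup.mk' (center G)) c * gb := by rw [hcomm]; group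
      rw [e3]; exact hgb
  have hKtop : N.comap (QuotientGroup.mk' (center G)) ≠ ⊤ := by
    intro e
    apply hNtop
    rw [eq_top_iff]
    intro yb _
    obtain ⟨y, rfl⟩ := QuotientGroup.mk_surjective yb
    have h1 : y ∈ N.comap (QuotientGroup.mk' (center G)) := by rw [e]; trivial
    exact h1
  have heq : Cn k = N.comap (QuotientGroup.mk' (center G)) := by
    by_contra hne
    exact hKtop ((h k hkZ).2 _ (lt_of_le_of_ne hle hne))
  exact ⟨N, k, hNn, hkZ, hNc, heq⟩

theorem pgroup_of_no_abelian [Finite G] (h : ∀ g : G, g ∉ center G → IsCoatom (Cn g))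
    (hna : ∀ x : G, x ∉ center G → ¬ ∀ a ∈ Cn x, ∀ b ∈ Cn x, a * b = b * a) :
    ∃ p : ℕ, p.Prime ∧ IsPGroup p (G ⧸ center G) := by
  classical
  by_contra hex
  let T : ℕ → Set G := fun n => {x : G | x ∉ center G ∧ ∃ S : Sylow n (G ⧸ center G),
      Cn x = (S : Subgroup (G ⧸ center G)).comap (QuotientGroup.mk' (center G))}
  let P : Finset ℕ := (Finset.range (Nat.card G + 1)).filter Nat.Prime
  have hcover : ((center G : Set G))ᶜ ⊆ ⋃ n ∈ P, T n := by
    intro x hx
    have hx' : x ∉ center G := hx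
    obtain ⟨p, hp, hpG, hor⟩ := exists_sylow h hna hx'
    rcases hor with hP | ⟨S, hS⟩
    · exact absurd ⟨p, hp, hP⟩ hex
    · refine Set.mem_biUnion (x := p) ?_ ⟨hx', S, hS⟩
      simp only [P, Finset.coe_filter, Finset.mem_range, Set.mem_ofPred_eq]
      exact ⟨Nat.lt_succ_of_le (Nat.le_of_dvd Nat.card_pos hpG), hp⟩
  have h1 : ((center G : Set G))ᶜ.ncard ≤ ∑ n ∈ P, (T n).ncard :=
    (Set.ncard_le_ncard hcover (Set.toFinite _)).trans (Finset.set_ncard_biUnion_le P T)
  have h2 : ((center G : Set G))ᶜ.ncard = Nat.card G - Nat.card (center G) := by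
    rw [Set.ncard_compl]; rfl
  have hzle : Nat.card (center G) ≤ Nat.card G := Subgroup.card_le_card_group _
  have h3 : ∀ n ∈ P, ((T n).ncard : ℚ) ≤ (Nat.card G : ℚ) * (1 / (n : ℚ) ^ 2) := by
    intro n hn
    have hnp : n.Prime := (Finset.mem_filter.1 hn).2
    have : Fact n.Prime := ⟨hnp⟩
    have h4 := count_p hna n
    have h5 : ((T n).ncard : ℚ) * (n : ℚ) ^ 2 ≤ (Nat.card G : ℚ) := by exact_mod_cast h4
    have hn0 : (0 : ℚ) < (n : ℚ) ^ 2 := by
      have : (0 : ℚ) < n := by exact_mod_cast hnp.pos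
      positivity
    rw [mul_one_div, le_div_iff₀ hn0]
    exact h5
  have h6 : ((Nat.card G : ℚ) - (Nat.card (center G) : ℚ)) ≤ (Nat.card G : ℚ) * (3 / 4) := by
    have h7 : ((Nat.card G - Nat.card (center G) : ℕ) : ℚ) ≤ ∑ n ∈ P, ((T n).ncard : ℚ) := by
      rw [← h2]; exact_mod_cast h1
    rw [Nat.cast_sub hzle] at h7
    calc ((Nat.card G : ℚ) - (Nat.card (center G) : ℚ)) ≤ ∑ n ∈ P, ((T n).ncard : ℚ) := h7
      _ ≤ ∑ n ∈ P, (Nat.card G : ℚ) * (1 / (n : ℚ) ^ 2) := Finset.sum_le_sum h3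
      _ = (Nat.card G : ℚ) * ∑ n ∈ P, (1 / (n : ℚ) ^ 2) := by rw [Finset.mul_sum]
      _ ≤ (Nat.card G : ℚ) * (3 / 4) := by
          apply mul_le_mul_of_nonneg_left _ (Nat.cast_nonneg _)
          exact sum_inv_sq_le P (fun n hn => (Finset.mem_filter.1 hn).2.two_le)
  have h8 : Nat.card G ≤ 4 * Nat.card (center G) := by
    have : (Nat.card G : ℚ) ≤ 4 * (Nat.card (center G) : ℚ) := by linarith
    exact_mod_cast this
  have h9 : Nat.card (G ⧸ center G) * Nat.card (center G) = Nat.card G :=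
    (center G).index_mul_card
  have hzpos : 0 < Nat.card (center G) := Nat.card_pos
  have h10 : Nat.card (G ⧸ center G) ≤ 4 := by
    rw [← h9] at h8
    exact Nat.le_of_mul_le_mul_right h8 hzpos
  have h11 : 0 < Nat.card (G ⧸ center G) := Nat.card_pos
  apply hex
  have hcases : Nat.card (G ⧸ center G) = 1 ∨ Nat.card (G ⧸ center G) = 2 ∨
      Nat.card (G ⧸ center G) = 3 ∨ Nat.card (G ⧸ center G) = 4 := by omega
  rcases hcases with e | e | e | e
  · exact ⟨2, Nat.prime_two, IsPGroup.of_card (n := 0) (by rw [e]; norm_num)⟩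
  · exact ⟨2, Nat.prime_two, IsPGroup.of_card (n := 1) (by rw [e]; norm_num)⟩
  · exact ⟨3, Nat.prime_three, IsPGroup.of_card (n := 1) (by rw [e]; norm_num)⟩
  · exact ⟨2, Nat.prime_two, IsPGroup.of_card (n := 2) (by rw [e]; norm_num)⟩


theorem data [Finite G] (h : ∀ g : G, g ∉ center G → IsCoatom (Cn g)) {x : G}
    (hx : x ∉ center G) (hab : ∀ a ∈ Cn x, ∀ b ∈ Cn x, a * b = b * a) :
    ∃ N C : Subgroup (G ⧸ center G), N.Normal ∧ IsCoatom N ∧ IsCoatom C ∧ N ⊓ C = ⊥ ∧
      Group.IsSolvable N := by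
  have hco := h x hx
  have hZM : center G ≤ Cn x := center_le_centralizer _
  by_cases hn : (Cn x).Normal
  · obtain ⟨g0, hg0⟩ : ∃ g0, g0 ∉ Cn x := by
      by_contra hcon
      push Not at hcon
      exact hco.1 (eq_top_iff.2 (fun g _ => hcon g))
    have hg0Z : g0 ∉ center G := fun hz => hg0 (hZM hz)
    refine ⟨(Cn x).map (QuotientGroup.mk' (center G)), (Cn g0).map (QuotientGroup.mk' (center G)),
      hn.map _ (QuotientGroup.mk'_surjective _), coatom_map _ _ hZM hco,
      coatom_map _ _ (center_le_centralizer _) (h g0 hg0Z), ?_, ?_⟩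
    · rw [eq_bot_iff]
      intro yb hyb
      obtain ⟨hy1, hy2⟩ := Subgroup.mem_inf.1 hyb
      obtain ⟨y, rfl⟩ := QuotientGroup.mk'_surjective _ yb
      have hyM : y ∈ Cn x := (mem_map_mk_iff _ _ hZM y).1 hy1
      have hyC : y ∈ Cn g0 := (mem_map_mk_iff _ _ (center_le_centralizer _) y).1 hy2
      rw [mem_bot]
      apply (QuotientGroup.eq_one_iff y).2
      by_contra hyZ
      have h1 : Cn x = Cn y :=
        coatom_eq hco (h y hyZ) (fun m hm => mem_Cn.2 (hab m hm y hyM))
      apply hg0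
      rw [h1]
      exact mem_Cn.2 (mem_Cn.1 hyC).symm
    · have h1 : Group.IsSolvable (Cn x) :=
        Group.isSolvable_of_comm (fun a b => Subtype.ext (hab _ a.2 _ b.2))
      exact Group.isSolvable_of_surjective
        ((QuotientGroup.mk' (center G)).subgroupMap_surjective (Cn x))
  · obtain ⟨N, k, hNn, hkZ, hNc, heq⟩ :=
      kernel_data h (Cn x) hco hZM (mem_Cn.2 rfl) hx hab hn
    have hNeq : N = (Cn k).map (QuotientGroup.mk' (center G)) := by
      rw [heq, map_comap_eq_self_of_surjective (QuotientGroup.mk'_surjective _)]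
    refine ⟨N, (Cn x).map (QuotientGroup.mk' (center G)), hNn, ?_, coatom_map _ _ hZM hco,
      hNc.disjoint.eq_bot, ?_⟩
    · rw [hNeq]
      exact coatom_map _ _ (center_le_centralizer _) (h k hkZ)
    · obtain ⟨p, hp, u, hu, ⟨a, hua⟩, hCu, -⟩ := exists_pelement h hkZ
      have hnil : Group.IsNilpotent (Cn k) := hCu ▸ Cn_nilpotent h hp hu hua
      have h1 : Group.IsSolvable (Cn k) := inferInstance
      rw [hNeq]
      exact Group.isSolvable_of_surjective
        ((QuotientGroup.mk' (center G)).subgroupMap_surjective (Cn k))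

end

/-- Let G be a non-abelian finite group in which the centralizer of every non-central element is a maximal subgroup. Then G/Z(G) is either an elementary abelian p-group for some prime p, or a minimal non-abelian group (non-abelian with all proper subgroups abelian) of order p^a · q for distinct primes p, q with a normal Sylow p-subgroup. -/
theorem result {G : Type*} [Group G] [Finite G] (hna : ¬ IsMulCommutative G)
    (h : ∀ x : G, x ∉ Subgroup.center G → IsCoatom (Subgroup.centralizer ({x} : Set G))) :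
    (∃ p : ℕ, p.Prime ∧ Cfsg.IsElementaryAbelian p (⊤ : Subgroup (G ⧸ Subgroup.center G))) ∨
    (¬ IsMulCommutative (G ⧸ Subgroup.center G) ∧ (∀ H : Subgroup (G ⧸ Subgroup.center G), H ≠ ⊤ → IsMulCommutative ↥H) ∧
      ∃ p q a : ℕ, p.Prime ∧ q.Prime ∧ p ≠ q ∧ Nat.card (G ⧸ Subgroup.center G) = p ^ a * q ∧
        ∀ P : Subgroup (G ⧸ Subgroup.center G), Nat.card ↥P = p ^ a → P.Normal) := by
  classical
  have h' : ∀ g : G, g ∉ center G → IsCoatom (Cn g) := h
  by_cases hex : ∃ p : ℕ, p.Prime ∧ IsPGroup p (G ⧸ center G)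
  · left
    obtain ⟨p, hp, hP⟩ := hex
    have : Fact p.Prime := ⟨hp⟩
    have hfr : ∀ yb : G ⧸ center G, yb ∈ frattini (G ⧸ center G) → yb = 1 := by
      intro yb hyb
      obtain ⟨y, rfl⟩ := QuotientGroup.mk'_surjective _ yb
      rw [mem_frattini_iff] at hyb
      apply (QuotientGroup.eq_one_iff y).2
      rw [mem_center_iff]
      intro x
      by_cases hx : x ∈ center G
      · exact (mem_center_iff.1 hx y).symm
      · have h1 := hyb _ (coatom_map _ _ (center_le_centralizer _) (h' x hx))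
        have h2 : y ∈ Cn x := (mem_map_mk_iff _ _ (center_le_centralizer _) y).1 h1
        exact (mem_Cn.1 h2).symm
    refine ⟨p, hp, ⟨⟨fun a b => Subtype.ext ?_⟩⟩, fun a _ => hfr _ (pow_mem_frattini hP a)⟩
    have h1 := hfr _ (comm_mem_frattini hP (a : G ⧸ center G) (b : G ⧸ center G))
    exact (inv_mul_eq_one.1 h1)
  · right
    obtain ⟨x, hx, hab⟩ : ∃ x, x ∉ center G ∧ ∀ a ∈ Cn x, ∀ b ∈ Cn x, a * b = b * a := by
      by_contra hcon
      exact hex (pgroup_of_no_abelian h' (fun x hx hc => hcon ⟨x, hx, hc⟩))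
    obtain ⟨N, C, hNn, hN, hC, hNC, hsol⟩ := data h' hx hab
    obtain ⟨hmin, hprop, p, q, a, hp, hq, hpq, hQ, hNa, hpd, hCq, hPn⟩ :=
      structure_lemma N C hNn hN hC hNC hsol hex
    refine ⟨?_, hprop, p, q, a, hp, hq, hpq, hQ, hPn⟩
    intro hcomm
    apply hna
    have : Fact p.Prime := ⟨hp⟩
    have : Fact q.Prime := ⟨hq⟩
    have hmc : ∀ u v : G ⧸ center G, u * v = v * u := fun u v => hcomm.is_comm.comm u v
    obtain ⟨g, hg⟩ := exists_prime_orderOf_dvd_card' (G := N) p hpd
    obtain ⟨c, hc⟩ := exists_prime_orderOf_dvd_card' (G := C) q (by rw [hCq])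
    have hgo : orderOf (g : G ⧸ center G) = p := by rw [orderOf_coe]; exact hg
    have hco : orderOf (c : G ⧸ center G) = q := by rw [orderOf_coe]; exact hc
    have hzn : (zpowers (g : G ⧸ center G)).Normal := ⟨fun n hn k => by
      rw [hmc k n, mul_inv_cancel_right]; exact hn⟩
    have hz : zpowers (g : G ⧸ center G) = N := by
      refine (hmin _ hzn (zpowers_le.2 g.2)).resolve_left ?_
      intro e
      rw [zpowers_eq_bot] at e
      rw [e, orderOf_one] at hgo
      exact hp.one_lt.ne hgo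
    have hNp : p ^ a = p := by
      rw [← hNa, ← hz, Nat.card_zpowers, hgo]
    have hord : orderOf ((g : G ⧸ center G) * c) = Nat.card (G ⧸ center G) := by
      rw [(show Commute (g : G ⧸ center G) c from hmc _ _).orderOf_mul_eq_mul_orderOf_of_coprime
        (by rw [hgo, hco]; exact (Nat.coprime_primes hp hq).2 hpq), hgo, hco, hQ, hNp]
    have hcyc : IsCyclic (G ⧸ center G) := isCyclic_of_orderOf_eq_card _ hord
    exact ⟨⟨fun u v => commutative_of_cyclic_center_quotient (QuotientGroup.mk' (center G))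
      (by rw [QuotientGroup.ker_mk']) u v⟩⟩

end Cfsg.Agent.S3904
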