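import Cfsg.Statements.S3946
import Mathlib
import Cfsg.Agent.Lib.Helper15.Kegel2

set_option autoImplicit false
open Cfsg

namespace Cfsg.Agent.S3946

open Cfsg.Agent.Lib.Helper15

theorem aux_pow {G : Type*} [Group G] (α : MulAut G) (g : G) (n : ℕ) :
    ((SemidirectProduct.inl g : SemidirectProduct G (MulAut G) (MonoidHom.id _)) *
      SemidirectProduct.inr α) ^ n
      = SemidirectProduct.inl (((List.range n).map (fun i : ℕ => (α ^ i) g)).prod) *
        SemidirectProduct.inr (α ^ n) := by
  induction n with
  | zero => simp
  | succ n ih =>
    rw [pow_succ, ih, List.range_succ, List.map_append, List.prod_append]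
    simp only [List.map_cons, List.map_nil, List.prod_cons, List.prod_nil, mul_one, map_mul]
    have h2 := SemidirectProduct.inl_aut (φ := MonoidHom.id (MulAut G)) (α ^ n) g
    rw [MonoidHom.id_apply] at h2
    rw [h2, pow_succ, map_mul, map_inv]
    group

/-- Call an automorphism α of order n of a group G splitting when x · α(x) · α²(x) ⋯ α^(n−1)(x) = 1 for every x ∈ G. A finite group admitting a splitting automorphism of prime order is nilpotent (this contains the case of a fixed-point-free automorphism of prime order). -/
theorem result {G : Type*} [Group G] [Finite G] (α : MulAut G) (hp : (orderOf α).Prime)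
    (hsplit : ∀ x : G, (((List.range (orderOf α)).map (fun i : ℕ => (α ^ i) x)).prod = 1)) : Group.IsNilpotent G := by
  have hfin : Finite (MulAut G) := by
    apply Finite.of_injective (fun f : MulAut G => (f : G → G))
    intro f g h
    exact MulEquiv.ext (congrFun h)
  have hX : Finite (SemidirectProduct G (MulAut G) (MonoidHom.id _)) :=
    Finite.of_equiv _ SemidirectProduct.equivProd.symm
  have key := kegel_splitting (orderOf α) hp
    ((SemidirectProduct.inl : G →* SemidirectProduct G (MulAut G) (MonoidHom.id _)).range)
    (SemidirectProduct.inr α) ?_ ?_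
  · exact Group.nilpotent_of_mulEquiv
      (MonoidHom.ofInjective (SemidirectProduct.inl_injective (φ := MonoidHom.id (MulAut G)))).symm
  · rw [SemidirectProduct.range_inl_eq_ker_rightHom, Subgroup.normalizer_eq_top]; trivial
  · rintro _ ⟨g, rfl⟩
    rw [aux_pow, hsplit g, pow_orderOf_eq_one, map_one, map_one, one_mul]

end Cfsg.Agent.S3946
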