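import Cfsg.Statements.S4001
import Mathlib
import Cfsg.Agent.Lib.Helper21.TwoFrob
import Cfsg.Agent.Lib.Helper15.Frob3
import Cfsg.Agent.Lib.Helper15.FpfInv
import Cfsg.Agent.S0042

set_option autoImplicit false
open Cfsg

namespace Cfsg.Agent.S4001

/-- Let G be a 2-Frobenius group: it has normal subgroups H < K with K a Frobenius group with kernel H and G/H a Frobenius group with kernel K/H. Then G is solvable; K/H has odd order coprime to the order of H and to the order of G/K (it is the image of an odd-order Hall subgroup); G/K is cyclic; and the prime graph of G has exactly two connected components, both complete: for distinct primes p, q dividing the order of G, G has an element of order pq exactly when p and q either both divide the order of K/H or both do not. -/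
theorem result {G : Type*} [Group G] [Finite G] (H K : Subgroup G) [H.Normal] [K.Normal] (hlt : H < K)
    (hK : ∃ C : Subgroup ↥K, Cfsg.IsFrobeniusComplement C ∧ Cfsg.frobeniusKernel C = (H.subgroupOf K : Set ↥K))
    (hGH : ∃ C : Subgroup (G ⧸ H), Cfsg.IsFrobeniusComplement C ∧ Cfsg.frobeniusKernel C = (K.map (QuotientGroup.mk' H) : Set (G ⧸ H))) :
    Group.IsSolvable G ∧ Odd (Nat.card (↥K ⧸ H.subgroupOf K)) ∧
      Nat.Coprime (Nat.card (↥K ⧸ H.subgroupOf K)) (Nat.card ↥H * Nat.card (G ⧸ K)) ∧ IsCyclic (G ⧸ K) ∧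
      ∀ p q : ℕ, p.Prime → q.Prime → p ≠ q → p ∣ Nat.card G → q ∣ Nat.card G →
        ((∃ g : G, orderOf g = p * q) ↔ (p ∣ Nat.card (↥K ⧸ H.subgroupOf K) ↔ q ∣ Nat.card (↥K ⧸ H.subgroupOf K))) := by
  classical
  obtain ⟨B0, hB0, hB0k⟩ := hK
  obtain ⟨C0, hC0, hC0k⟩ := hGH
  -- kernels
  obtain ⟨K1, hK1s, hK1n, hK1c, hK1ne, hK1f⟩ := Cfsg.Agent.Lib.Helper15.frob_exists_kernel hB0
  have hK1 : K1 = H.subgroupOf K := SetLike.coe_injective (hK1s.trans hB0k)
  subst hK1
  obtain ⟨K2, hK2s, hK2n, hK2c, hK2ne, hK2f⟩ := Cfsg.Agent.Lib.Helper15.frob_exists_kernel hC0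
  have hK2 : K2 = K.map (QuotientGroup.mk' H) := SetLike.coe_injective (hK2s.trans hC0k)
  subst hK2
  -- nilpotency
  have hHnil' : Group.IsNilpotent ↥(H.subgroupOf K) := by
    obtain ⟨N, hNs, _, hNnil⟩ := Cfsg.Agent.S0042.result B0 hB0
    have hN : N = H.subgroupOf K := SetLike.coe_injective (hNs.trans hB0k)
    subst hN
    exact hNnil
  have hHnil : Group.IsNilpotent ↥H :=
    Group.nilpotent_of_mulEquiv (Subgroup.subgroupOfEquivOfLe hlt.le)
  have hKbnil : Group.IsNilpotent ↥(K.map (QuotientGroup.mk' H)) := by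
    obtain ⟨N, hNs, _, hNnil⟩ := Cfsg.Agent.S0042.result C0 hC0
    have hN : N = K.map (QuotientGroup.mk' H) := SetLike.coe_injective (hNs.trans hC0k)
    subst hN
    exact hNnil
  have hHne : H ≠ ⊥ := by
    intro e
    apply hK1ne
    rw [e, Subgroup.bot_subgroupOf]
  have hF1 : ∀ v ∈ H, v ≠ 1 → ∀ k ∈ K, k * v = v * k → k ∈ H := by
    intro v hv hv1 k hk hkv
    have := Cfsg.Agent.Lib.Helper21.tf_centralizer_le_kernel (H.subgroupOf K) B0 hK1c hK1f
      ⟨v, hlt.le hv⟩ (Subgroup.mem_subgroupOf.2 hv) (fun e => hv1 (congrArg Subtype.val e))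
      ⟨k, hk⟩ (Subtype.ext hkv)
    exact Subgroup.mem_subgroupOf.1 this
  have hF2 := Cfsg.Agent.Lib.Helper21.tf_centralizer_le_kernel (K.map (QuotientGroup.mk' H)) C0
    hK2c hK2f
  obtain ⟨k0, hk0K, hk0H⟩ := SetLike.exists_of_lt hlt
  -- cardinalities
  have hnB : Nat.card (↥K ⧸ H.subgroupOf K) = Nat.card ↥(K.map (QuotientGroup.mk' H)) := by
    rw [← Subgroup.relIndex_ker, QuotientGroup.ker_mk']
    rfl
  have hnC : Nat.card (G ⧸ K) = Nat.card ↥C0 := by
    have h1 := hK2c.card_mul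
    have h2 := Subgroup.relIndex_mul_index hlt.le
    have h3 : H.relIndex K = Nat.card ↥(K.map (QuotientGroup.mk' H)) := by
      rw [← Subgroup.relIndex_ker, QuotientGroup.ker_mk']
    have h4 : Nat.card (G ⧸ H) = H.index := rfl
    have h5 : Nat.card (G ⧸ K) = K.index := rfl
    rw [h4, ← h2, h3] at h1
    rw [h5]
    exact (Nat.eq_of_mul_eq_mul_left Nat.card_pos h1).symm
  have hcardG : Nat.card G = Nat.card ↥H * (Nat.card ↥(K.map (QuotientGroup.mk' H)) *
      Nat.card ↥C0) := by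
    rw [hK2c.card_mul]
    exact (H.card_mul_index).symm
  have hcardB0 : Nat.card ↥B0 = Nat.card ↥(K.map (QuotientGroup.mk' H)) := by
    have h1 := hK1c.card_mul
    have h2 := (H.subgroupOf K).card_mul_index
    rw [← h2] at h1
    have h3 := Nat.eq_of_mul_eq_mul_left Nat.card_pos h1
    rw [h3, ← hnB]
    rfl
  have hcardH : Nat.card ↥(H.subgroupOf K) = Nat.card ↥H :=
    Nat.card_congr (Subgroup.subgroupOfEquivOfLe hlt.le).toEquiv
  have hcop1 : (Nat.card ↥(K.map (QuotientGroup.mk' H))).Coprime (Nat.card ↥H) := by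
    have := Cfsg.Agent.Lib.Helper15.coprime_of_fpf B0 (H.subgroupOf K)
      (by rw [Subgroup.normalizer_eq_top]; exact le_top) hK1f
    rwa [hcardB0, hcardH] at this
  have hcop2 : (Nat.card ↥C0).Coprime (Nat.card ↥(K.map (QuotientGroup.mk' H))) :=
    Cfsg.Agent.Lib.Helper15.coprime_of_fpf C0 (K.map (QuotientGroup.mk' H))
      (by rw [Subgroup.normalizer_eq_top]; exact le_top) hK2f
  -- invariant subgroups of prime order
  have hconj : ∀ r : ℕ, r.Prime → r ∣ Nat.card ↥(K.map (QuotientGroup.mk' H)) →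
      ∃ z ∈ K.map (QuotientGroup.mk' H), orderOf z = r ∧
        ∀ c : G ⧸ H, c * z * c⁻¹ ∈ Subgroup.zpowers z := by
    intro r hr hrK
    haveI : Fact r.Prime := ⟨hr⟩
    obtain ⟨V, hVn, hVK, hVne, hVc, hVp⟩ :=
      Cfsg.Agent.Lib.Helper15.exists_normal_central_pSubgroup (K.map (QuotientGroup.mk' H))
        hKbnil r hrK
    obtain ⟨z, hzV, hz⟩ := Cfsg.Agent.Lib.Helper21.tf_exists_prime_of_pgroup r V hVp hVne
    refine ⟨z, hVK hzV, hz, ?_⟩
    intro c
    have h1 : c * z * c⁻¹ ∈ V := hVn.conj_mem z hzV c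
    have h2 : orderOf (c * z * c⁻¹) = r := by
      rw [← hz]
      exact (MulAut.conj c).orderOf_eq z
    exact Cfsg.Agent.Lib.Helper21.tf_unique H K hHnil hHne hF1 hr (hVK hzV) (hVK h1)
      (hVc _ h1 z (hVK hzV)) hz h2
  have hKbcard : Nat.card ↥(K.map (QuotientGroup.mk' H)) ≠ 1 :=
    fun h => hK2ne (Subgroup.card_eq_one.1 h)
  -- `C0` is commutative
  have hC0comm : ∀ c ∈ C0, ∀ d ∈ C0, c * d = d * c := by
    intro c hc d hd
    obtain ⟨r, hr, hrK⟩ := Nat.exists_prime_and_dvd hKbcard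
    obtain ⟨z, hzK, hz, hzc⟩ := hconj r hr hrK
    obtain ⟨i, hi⟩ := Subgroup.mem_zpowers_iff.1 (hzc c)
    obtain ⟨j, hj⟩ := Subgroup.mem_zpowers_iff.1 (hzc d)
    have e1 : (c * d) * z * (c * d)⁻¹ = z ^ (i * j) := by
      calc (c * d) * z * (c * d)⁻¹ = c * (d * z * d⁻¹) * c⁻¹ := by group
        _ = c * z ^ j * c⁻¹ := by rw [hj]
        _ = (c * z * c⁻¹) ^ j := (conj_zpow).symm
        _ = z ^ (i * j) := by rw [← hi, zpow_mul]
    have e2 : (d * c) * z * (d * c)⁻¹ = z ^ (i * j) := by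
      calc (d * c) * z * (d * c)⁻¹ = d * (c * z * c⁻¹) * d⁻¹ := by group
        _ = d * z ^ i * d⁻¹ := by rw [hi]
        _ = (d * z * d⁻¹) ^ i := (conj_zpow).symm
        _ = z ^ (i * j) := by rw [← hj, ← zpow_mul, mul_comm]
    by_contra hne
    have hw : (d * c)⁻¹ * (c * d) ≠ 1 := by
      intro e
      apply hne
      exact (inv_mul_eq_one.1 e).symm
    have hwC : (d * c)⁻¹ * (c * d) ∈ C0 :=
      C0.mul_mem (C0.inv_mem (C0.mul_mem hd hc)) (C0.mul_mem hc hd)
    have e3 : z * ((d * c)⁻¹ * (c * d)) = ((d * c)⁻¹ * (c * d)) * z := by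
      have e4 : (c * d) * z * (c * d)⁻¹ = (d * c) * z * (d * c)⁻¹ := e1.trans e2.symm
      calc z * ((d * c)⁻¹ * (c * d))
          = (d * c)⁻¹ * ((d * c) * z * (d * c)⁻¹) * (c * d) := by group
        _ = (d * c)⁻¹ * ((c * d) * z * (c * d)⁻¹) * (c * d) := by rw [e4]
        _ = ((d * c)⁻¹ * (c * d)) * z := by group
    have hzmem : z ∈ K.map (QuotientGroup.mk' H) ⊓
        Subgroup.centralizer {(d * c)⁻¹ * (c * d)} :=
      Subgroup.mem_inf.2 ⟨hzK, Subgroup.mem_centralizer_singleton_iff.2 e3⟩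
    rw [hK2f _ hwC hw, Subgroup.mem_bot] at hzmem
    rw [hzmem, orderOf_one] at hz
    exact hr.one_lt.ne hz
  have hC0cyc : IsCyclic ↥C0 :=
    Cfsg.Agent.Lib.Helper15.isCyclic_of_fpf C0 (K.map (QuotientGroup.mk' H)) hK2ne
      (by rw [Subgroup.normalizer_eq_top]; exact le_top) hK2f
      (Or.inl ⟨⟨fun a b => Subtype.ext (hC0comm a a.2 b b.2)⟩⟩)
  -- `G ⧸ K` is cyclic
  have hGKcyc : IsCyclic (G ⧸ K) := by
    let f : G ⧸ H →* G ⧸ K := QuotientGroup.map H K (MonoidHom.id G) hlt.le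
    have hfmk : ∀ g : G, f (QuotientGroup.mk g) = QuotientGroup.mk g := fun g => rfl
    have hsurj : Function.Surjective (f.comp C0.subtype) := by
      intro y
      obtain ⟨g, rfl⟩ := QuotientGroup.mk_surjective y
      obtain ⟨⟨kb, c⟩, hkc⟩ := hK2c.2 (QuotientGroup.mk g : G ⧸ H)
      have hkc' : (kb : G ⧸ H) * (c : G ⧸ H) = QuotientGroup.mk g := hkc
      refine ⟨c, ?_⟩
      obtain ⟨k, hk, hkk⟩ := Subgroup.mem_map.1 kb.2
      have h1 : f (kb : G ⧸ H) = 1 := by
        rw [← hkk]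
        show f (QuotientGroup.mk k) = 1
        rw [hfmk]
        exact (QuotientGroup.eq_one_iff k).2 hk
      show f (c : G ⧸ H) = _
      rw [← hfmk g, ← hkc', map_mul, h1, one_mul]
    exact isCyclic_of_surjective _ hsurj
  -- oddness
  have hodd : Odd (Nat.card ↥(K.map (QuotientGroup.mk' H))) := by
    rw [← Nat.not_even_iff_odd]
    intro hev
    obtain ⟨z, hzK, hz, hzc⟩ := hconj 2 Nat.prime_two hev.two_dvd
    obtain ⟨c, hc, hc1⟩ : ∃ c ∈ C0, c ≠ 1 := by
      by_contra hcon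
      push Not at hcon
      exact hC0.1 ((Subgroup.eq_bot_iff_forall C0).2 hcon)
    have hz1 : z ≠ 1 := by
      intro e
      rw [e, orderOf_one] at hz
      omega
    obtain ⟨i, hi⟩ := Subgroup.mem_zpowers_iff.1 (hzc c)
    have hz2 : z ^ (2 : ℤ) = 1 := by
      have := pow_orderOf_eq_one z
      rw [hz] at this
      exact_mod_cast this
    have e1 : c * z * c⁻¹ = z := by
      rcases Int.even_or_odd' i with ⟨m, hm | hm⟩
      · exfalso
        rw [hm, zpow_mul, hz2, one_zpow] at hi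
        apply hz1
        calc z = c⁻¹ * (c * z * c⁻¹) * c := by group
          _ = 1 := by rw [← hi]; group
      · rw [hm, zpow_add, zpow_mul, hz2, one_zpow, one_mul, zpow_one] at hi
        exact hi.symm
    have e2 : z * c = c * z := (mul_inv_eq_iff_eq_mul.1 e1).symm
    have hzmem : z ∈ K.map (QuotientGroup.mk' H) ⊓ Subgroup.centralizer {c} :=
      Subgroup.mem_inf.2 ⟨hzK, Subgroup.mem_centralizer_singleton_iff.2 e2⟩
    rw [hK2f _ hc hc1, Subgroup.mem_bot] at hzmem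
    exact hz1 hzmem
  -- solvability
  have hsolvK : Group.IsSolvable ↥K := by
    haveI : Group.IsSolvable ↥H := inferInstance
    haveI : Group.IsSolvable ↥(K.map (QuotientGroup.mk' H)) := inferInstance
    apply solvable_of_ker_le_range (Subgroup.inclusion hlt.le)
      ((QuotientGroup.mk' H).subgroupMap K)
    intro k hk
    have h1 : ((QuotientGroup.mk' H).subgroupMap K k : G ⧸ H) = 1 := by
      rw [MonoidHom.mem_ker.1 hk]; rfl
    have h2 : (k : G) ∈ H := (QuotientGroup.eq_one_iff (k : G)).1 h1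
    exact ⟨⟨k, h2⟩, Subtype.ext rfl⟩
  have hsolv : Group.IsSolvable G := by
    haveI := hsolvK
    haveI : Group.IsSolvable (G ⧸ K) := by
      obtain ⟨g, hg⟩ := hGKcyc.exists_generator
      apply isSolvable_of_comm
      intro a b
      obtain ⟨i, rfl⟩ := Subgroup.mem_zpowers_iff.1 (hg a)
      obtain ⟨j, rfl⟩ := Subgroup.mem_zpowers_iff.1 (hg b)
      rw [← zpow_add, ← zpow_add, add_comm]
    apply solvable_of_ker_le_range K.subtype (QuotientGroup.mk' K)
    intro k hk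
    rw [QuotientGroup.ker_mk'] at hk
    exact ⟨⟨k, hk⟩, rfl⟩
  -- no mixed elements
  have hM : ∀ p q : ℕ, p.Prime → q.Prime → p ≠ q →
      p ∣ Nat.card ↥(K.map (QuotientGroup.mk' H)) →
      ¬ q ∣ Nat.card ↥(K.map (QuotientGroup.mk' H)) → ∀ g : G, orderOf g ≠ p * q := by
    intro p q hp hq hpq hpB hqB g hg
    have hoa : orderOf (g ^ q) = p := by
      rw [orderOf_pow_of_dvd hq.ne_zero (by rw [hg]; exact dvd_mul_left q p), hg]
      exact Nat.mul_div_cancel _ hq.pos
    have hob : orderOf (g ^ p) = q := by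
      rw [orderOf_pow_of_dvd hp.ne_zero (by rw [hg]; exact dvd_mul_right p q), hg]
      exact Nat.mul_div_cancel_left _ hp.pos
    have hab : g ^ p * g ^ q = g ^ q * g ^ p := by rw [← pow_add, ← pow_add, add_comm]
    have haH : g ^ q ∉ H := by
      intro h
      have h1 : orderOf (⟨g ^ q, h⟩ : ↥H) ∣ Nat.card ↥H := orderOf_dvd_natCard _
      rw [Subgroup.orderOf_mk, hoa] at h1
      exact hp.one_lt.ne' (Nat.eq_one_of_dvd_coprimes hcop1 hpB h1)
    have haK : g ^ q ∈ K := by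
      rw [← QuotientGroup.eq_one_iff, ← orderOf_eq_one_iff]
      have h1 : orderOf ((g ^ q : G) : G ⧸ K) ∣ p := by
        rw [← hoa]; exact orderOf_map_dvd (QuotientGroup.mk' K) (g ^ q)
      have h2 : orderOf ((g ^ q : G) : G ⧸ K) ∣ Nat.card ↥C0 := by
        rw [← hnC]; exact orderOf_dvd_natCard _
      exact Nat.eq_one_of_dvd_coprimes hcop2 h2 (h1.trans hpB)
    have hbK : ((g ^ p : G) : G ⧸ H) ∈ K.map (QuotientGroup.mk' H) := by
      apply hF2 ((g ^ q : G) : G ⧸ H) (Subgroup.mem_map.2 ⟨g ^ q, haK, rfl⟩)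
        (fun e => haH ((QuotientGroup.eq_one_iff _).1 e))
      rw [← QuotientGroup.mk_mul, ← QuotientGroup.mk_mul, hab]
    have hbH : g ^ p ∈ H := by
      rw [← QuotientGroup.eq_one_iff, ← orderOf_eq_one_iff]
      have h1 : orderOf ((g ^ p : G) : G ⧸ H) ∣ q := by
        rw [← hob]; exact orderOf_map_dvd (QuotientGroup.mk' H) (g ^ p)
      have h2 : orderOf ((g ^ p : G) : G ⧸ H) ∣ Nat.card ↥(K.map (QuotientGroup.mk' H)) := by
        have := orderOf_dvd_natCard (⟨_, hbK⟩ : ↥(K.map (QuotientGroup.mk' H)))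
        rwa [Subgroup.orderOf_mk] at this
      rcases (Nat.dvd_prime hq).1 h1 with h | h
      · exact h
      · rw [h] at h2
        exact absurd h2 hqB
    have hb1 : g ^ p ≠ 1 := by
      intro e
      rw [e, orderOf_one] at hob
      exact hq.one_lt.ne hob
    exact haH (hF1 _ hbH hb1 _ haK hab.symm)
  -- elements of order `p q` with `p ∣ |H|`, `q ∣ |C0|`
  have hN : ∀ p q : ℕ, p.Prime → q.Prime → p ≠ q → p ∣ Nat.card ↥H → q ∣ Nat.card ↥C0 →
      ∃ g : G, orderOf g = p * q := by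
    intro p q hp hq hpq hpH hqC
    haveI : Fact q.Prime := ⟨hq⟩
    obtain ⟨v, hv, hvc⟩ := Cfsg.Agent.Lib.Helper21.tf_fix H K hHnil hF1 ⟨k0, hk0K, hk0H⟩ C0 hC0
      hC0k hcop1.symm hp hpH
    obtain ⟨c, hc⟩ := exists_prime_orderOf_dvd_card' (G := ↥C0) q hqC
    rw [← Subgroup.orderOf_coe] at hc
    obtain ⟨x, hx⟩ := QuotientGroup.mk_surjective (c : G ⧸ H)
    have hdvd : q ∣ orderOf x := by
      rw [← hc, ← hx]; exact orderOf_map_dvd (QuotientGroup.mk' H) x
    have hog : orderOf (x ^ (orderOf x / q)) = q :=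
      orderOf_pow_orderOf_div (orderOf_pos x).ne' hdvd
    have hmem : ((x ^ (orderOf x / q) : G) : G ⧸ H) ∈ C0 := by
      rw [QuotientGroup.mk_pow, hx]
      exact C0.pow_mem c.2 _
    exact ⟨v * x ^ (orderOf x / q),
      Cfsg.Agent.Lib.Helper21.tf_orderOf_mul hp hq hpq (hvc _ hmem).symm hv hog⟩
  have hdiv : ∀ p : ℕ, p.Prime → p ∣ Nat.card G →
      ¬ p ∣ Nat.card ↥(K.map (QuotientGroup.mk' H)) → p ∣ Nat.card ↥H ∨ p ∣ Nat.card ↥C0 := by
    intro p hp hpG hpB
    rw [hcardG] at hpG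
    rcases (Nat.Prime.dvd_mul hp).1 hpG with h | h
    · exact Or.inl h
    · rcases (Nat.Prime.dvd_mul hp).1 h with h | h
      · exact absurd h hpB
      · exact Or.inr h
  refine ⟨hsolv, by rw [hnB]; exact hodd, ?_, hGKcyc, ?_⟩
  · rw [hnB, hnC]
    exact Nat.Coprime.mul_right hcop1 hcop2.symm
  · intro p q hp hq hpq hpG hqG
    rw [hnB]
    constructor
    · rintro ⟨g, hg⟩
      constructor
      · intro hpB
        by_contra hqB
        exact hM p q hp hq hpq hpB hqB g hg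
      · intro hqB
        by_contra hpB
        exact hM q p hq hp hpq.symm hqB hpB g (by rw [hg, mul_comm])
    · intro hiff
      by_cases hpB : p ∣ Nat.card ↥(K.map (QuotientGroup.mk' H))
      · obtain ⟨y, hy⟩ := Cfsg.Agent.Lib.Helper21.tf_exists_pq_nilpotent
          (K.map (QuotientGroup.mk' H)) hKbnil hp hq hpq hpB (hiff.1 hpB)
        obtain ⟨g, hg⟩ := Cfsg.Agent.Lib.Helper21.tf_exists_orderOf (QuotientGroup.mk' H)
          (QuotientGroup.mk'_surjective H) y
        exact ⟨g, hg.trans hy⟩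
      · have hqB : ¬ q ∣ Nat.card ↥(K.map (QuotientGroup.mk' H)) := fun h => hpB (hiff.2 h)
        rcases hdiv p hp hpG hpB with hp1 | hp1 <;> rcases hdiv q hq hqG hqB with hq1 | hq1
        · exact Cfsg.Agent.Lib.Helper21.tf_exists_pq_nilpotent H hHnil hp hq hpq hp1 hq1
        · exact hN p q hp hq hpq hp1 hq1
        · obtain ⟨g, hg⟩ := hN q p hq hp hpq.symm hq1 hp1
          exact ⟨g, by rw [hg, mul_comm]⟩
        · haveI : Fact p.Prime := ⟨hp⟩
          haveI : Fact q.Prime := ⟨hq⟩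
          obtain ⟨c, hc⟩ := exists_prime_orderOf_dvd_card' (G := ↥C0) p hp1
          obtain ⟨d, hd⟩ := exists_prime_orderOf_dvd_card' (G := ↥C0) q hq1
          rw [← Subgroup.orderOf_coe] at hc hd
          obtain ⟨g, hg⟩ := Cfsg.Agent.Lib.Helper21.tf_exists_orderOf (QuotientGroup.mk' H)
            (QuotientGroup.mk'_surjective H) ((c : G ⧸ H) * d)
          exact ⟨g, hg.trans (Cfsg.Agent.Lib.Helper21.tf_orderOf_mul hp hq hpq
            (hC0comm c c.2 d d.2) hc hd)⟩

end Cfsg.Agent.S4001
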