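import Cfsg.Statements.S4002
import Mathlib.NumberTheory.Bertrand
import Cfsg.Agent.S1475
import Cfsg.Agent.S0003

set_option autoImplicit false
open Cfsg

namespace Cfsg.Agent.S4002

theorem three_primes (n : ℕ) (hn : 7 ≤ n) :
    ∃ p q r : ℕ, p.Prime ∧ q.Prime ∧ r.Prime ∧ p < q ∧ q < r ∧ r ≤ n ∧ n < p * q := by
  by_cases h1 : n ≤ 14
  · exact ⟨3, 5, 7, by norm_num, by norm_num, by norm_num, by norm_num, by norm_num, hn, by omega⟩
  by_cases h2 : n ≤ 34
  · exact ⟨5, 7, 11, by norm_num, by norm_num, by norm_num, by norm_num, by norm_num, by omega,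
      by omega⟩
  set k := n / 8 with hk
  have hk4 : 4 ≤ k := by omega
  have hkn : 8 * k ≤ n := by omega
  have hkn' : n < 8 * (k + 1) := by omega
  obtain ⟨p, hp, hp1, hp2⟩ := Nat.exists_prime_lt_and_le_two_mul k (by omega)
  obtain ⟨q, hq, hq1, hq2⟩ := Nat.exists_prime_lt_and_le_two_mul (2 * k) (by omega)
  obtain ⟨r, hr, hr1, hr2⟩ := Nat.exists_prime_lt_and_le_two_mul (4 * k) (by omega)
  refine ⟨p, q, r, hp, hq, hr, by omega, by omega, by omega, ?_⟩
  have h3 : (k + 1) * (2 * k + 1) ≤ p * q := Nat.mul_le_mul hp1 hq1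
  have h4 : 8 * (k + 1) ≤ (k + 1) * (2 * k + 1) := by nlinarith
  omega

/-- If the set of element orders of a finite group G is {1, 2, …, n} with n ≥ 7, then G is not solvable. -/
theorem result {G : Type*} [Group G] [Finite G] (n : ℕ) (hn : 7 ≤ n) (h : Set.range (orderOf : G → ℕ) = {k : ℕ | 1 ≤ k ∧ k ≤ n}) : ¬ Group.IsSolvable G := by
  classical
  intro hsol
  obtain ⟨p, q, r, hp, hq, hr, hpq, hqr, hrn, hnpq⟩ := three_primes n hn
  have hord : ∀ g : G, orderOf g ≤ n := by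
    intro g
    have : orderOf g ∈ Set.range (orderOf : G → ℕ) := ⟨g, rfl⟩
    rw [h] at this
    exact this.2
  have hdvd : ∀ s : ℕ, 1 ≤ s → s ≤ n → s ∣ Nat.card G := by
    intro s h1 h2
    have : s ∈ Set.range (orderOf : G → ℕ) := by rw [h]; exact ⟨h1, h2⟩
    obtain ⟨g, rfl⟩ := this
    exact orderOf_dvd_natCard g
  have hpG := hdvd p hp.one_lt.le (by omega)
  have hqG := hdvd q hq.one_lt.le (by omega)
  have hrG := hdvd r hr.one_lt.le hrn
  have hN0 : Nat.card G ≠ 0 := Nat.card_pos.ne'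
  obtain ⟨a, N1, hN1, e1⟩ := Nat.exists_eq_pow_mul_and_not_dvd hN0 p hp.ne_one
  have hN10 : N1 ≠ 0 := by rintro rfl; simp at hN1
  obtain ⟨b, N2, hN2, e2⟩ := Nat.exists_eq_pow_mul_and_not_dvd hN10 q hq.ne_one
  have hN20 : N2 ≠ 0 := by rintro rfl; simp at hN2
  obtain ⟨c, N3, hN3, e3⟩ := Nat.exists_eq_pow_mul_and_not_dvd hN20 r hr.ne_one
  have hpq' : p ≠ q := by omega
  have hpr' : p ≠ r := by omega
  have hqr' : q ≠ r := by omega
  have hpN3 : ¬ p ∣ N3 := fun hd => hN1 (by rw [e2, e3]; exact Dvd.dvd.mul_left (Dvd.dvd.mul_left hd _) _)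
  have hqN3 : ¬ q ∣ N3 := fun hd => hN2 (by rw [e3]; exact Dvd.dvd.mul_left hd _)
  have ha : a ≠ 0 := by
    rintro rfl
    rw [pow_zero, one_mul] at e1
    exact hN1 (e1 ▸ hpG)
  have hqN1 : q ∣ N1 := by
    rw [e1] at hqG
    exact (Nat.Coprime.dvd_mul_left (Nat.Coprime.pow_right a ((Nat.coprime_primes hq hp).2 hpq'.symm))).1 hqG
  have hb : b ≠ 0 := by
    rintro rfl
    rw [pow_zero, one_mul] at e2
    exact hN2 (e2 ▸ hqN1)
  have hrN2 : r ∣ N2 := by
    rw [e1, e2] at hrG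
    have h1 := (Nat.Coprime.dvd_mul_left (Nat.Coprime.pow_right a ((Nat.coprime_primes hr hp).2 hpr'.symm))).1 hrG
    exact (Nat.Coprime.dvd_mul_left (Nat.Coprime.pow_right b ((Nat.coprime_primes hr hq).2 hqr'.symm))).1 h1
  have hc : c ≠ 0 := by
    rintro rfl
    rw [pow_zero, one_mul] at e3
    exact hN3 (e3 ▸ hrN2)
  have hcard : Nat.card G = (p ^ a * q ^ b * r ^ c) * N3 := by rw [e1, e2, e3]; ring
  have hcop : (p ^ a * q ^ b * r ^ c).Coprime N3 := by
    apply Nat.Coprime.mul_left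
    · apply Nat.Coprime.mul_left
      · exact Nat.Coprime.pow_left a ((Nat.Prime.coprime_iff_not_dvd hp).2 hpN3)
      · exact Nat.Coprime.pow_left b ((Nat.Prime.coprime_iff_not_dvd hq).2 hqN3)
    · exact Nat.Coprime.pow_left c ((Nat.Prime.coprime_iff_not_dvd hr).2 hN3)
  obtain ⟨H, hH⟩ := S0003.result _ _ hcard hcop
  haveI : Group.IsSolvable H := inferInstance
  have hprimes : ∀ s : ℕ, s.Prime → s ∣ p ^ a * q ^ b * r ^ c → s = p ∨ s = q ∨ s = r := by
    intro s hs hd
    rcases (Nat.Prime.dvd_mul hs).1 hd with hd | hd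
    · rcases (Nat.Prime.dvd_mul hs).1 hd with hd | hd
      · left; exact (Nat.prime_dvd_prime_iff_eq hs hp).1 (hs.dvd_of_dvd_pow hd)
      · right; left; exact (Nat.prime_dvd_prime_iff_eq hs hq).1 (hs.dvd_of_dvd_pow hd)
    · right; right; exact (Nat.prime_dvd_prime_iff_eq hs hr).1 (hs.dvd_of_dvd_pow hd)
  have hbig : ∀ s t : ℕ, (s = p ∨ s = q ∨ s = r) → (t = p ∨ t = q ∨ t = r) → s ≠ t → n < s * t := by
    intro s t hs ht hne
    have h1 : p * q ≤ p * r := Nat.mul_le_mul_left _ hqr.le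
    have h2 : p * q ≤ q * r := Nat.mul_le_mul hpq.le hqr.le
    rcases hs with rfl | rfl | rfl <;> rcases ht with rfl | rfl | rfl <;>
      first
        | exact absurd rfl hne
        | (simp only [mul_comm] at *; omega)
        | (rw [mul_comm]; omega)
        | omega
  have hE : ∀ g : H, IsPrimePow (orderOf g) ∨ g = 1 := by
    intro g
    by_cases hg : g = 1
    · right; exact hg
    left
    have ho1 : orderOf g ≠ 1 := fun h1 => hg (orderOf_eq_one_iff.1 h1)
    have hod : orderOf g ∣ p ^ a * q ^ b * r ^ c := hH ▸ orderOf_dvd_natCard g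
    have hon : orderOf g ≤ n := by rw [← Subgroup.orderOf_coe]; exact hord _
    obtain ⟨s, hs, hsd⟩ := Nat.exists_prime_and_dvd ho1
    have huniq : ∀ {d : ℕ}, d.Prime → d ∣ orderOf g → d = s := by
      intro d hd hdd
      by_contra hne
      have h1 := hbig d s (hprimes d hd (hdd.trans hod)) (hprimes s hs (hsd.trans hod)) hne
      have h2 : d * s ∣ orderOf g :=
        Nat.Coprime.mul_dvd_of_dvd_of_dvd ((Nat.coprime_primes hd hs).2 hne) hdd hsd
      have h3 := Nat.le_of_dvd (orderOf_pos g) h2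
      omega
    have h4 := Nat.eq_prime_pow_of_unique_prime_dvd (orderOf_pos g).ne' huniq
    rw [h4]
    apply IsPrimePow.pow hs.isPrimePow
    intro h0
    rw [h0, pow_zero] at h4
    exact ho1 h4
  have h2 := S1475.result hE
  rw [hH] at h2
  have h3 : ({p, q, r} : Finset ℕ) ⊆ (p ^ a * q ^ b * r ^ c).primeFactors := by
    intro s hs
    have hne0 : p ^ a * q ^ b * r ^ c ≠ 0 := by
      have := hp.pos; have := hq.pos; have := hr.pos
      positivity
    simp only [Finset.mem_insert, Finset.mem_singleton] at hs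
    rw [Nat.mem_primeFactors]
    rcases hs with rfl | rfl | rfl
    · exact ⟨hp, Dvd.dvd.mul_right (Dvd.dvd.mul_right (dvd_pow_self _ ha) _) _, hne0⟩
    · exact ⟨hq, Dvd.dvd.mul_right (Dvd.dvd.mul_left (dvd_pow_self _ hb) _) _, hne0⟩
    · exact ⟨hr, Dvd.dvd.mul_left (dvd_pow_self _ hc) _, hne0⟩
  have h4 := Finset.card_le_card h3
  have h5 : ({p, q, r} : Finset ℕ).card = 3 := by
    rw [Finset.card_insert_of_notMem, Finset.card_insert_of_notMem, Finset.card_singleton]
    · simpa using hqr'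
    · simp only [Finset.mem_insert, Finset.mem_singleton]
      push Not
      exact ⟨hpq', hpr'⟩
  omega

end Cfsg.Agent.S4002
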