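import Cfsg.Statements.S4039
import Mathlib
import Cfsg.Agent.Lib.Helper17.Syl
import Cfsg.Agent.Lib.Helper17.Quot
import Cfsg.Agent.Lib.Helper17.SE
import Cfsg.Agent.Lib.Helper15.Thompson4
import Cfsg.Agent.Lib.Helper1.Wielandt
import Cfsg.Agent.Lib.Helper2.GrpNil
import Cfsg.Agent.S0079

set_option autoImplicit false
open Cfsg

namespace Cfsg.Agent.S4039

open Cfsg.Agent.Lib.Helper17 Cfsg.Agent.Lib.Helper15

universe u

/-- In the core-free case the normalizer of a nontrivial subgroup normalized by `M` is `M`. -/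
theorem normalizer_eq {G : Type*} [Group G] (M : Subgroup G) (hmax : IsCoatom M)
    (hcore : M.normalCore = ⊥) (C : Subgroup G) (hC : C ≠ ⊥) (hCM : C ≤ M)
    (hn : M ≤ Subgroup.normalizer (C : Set G)) : Subgroup.normalizer (C : Set G) = M := by
  rcases hmax.le_iff.mp hn with h | h
  · exfalso
    have hCn : C.Normal := Subgroup.normalizer_eq_top_iff.mp h
    have := (Subgroup.normal_le_normalCore (H := M) (N := C)).mpr hCM
    rw [hcore] at this
    exact hC (le_bot_iff.mp this)
  · exact h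

theorem pel_mem {G : Type*} [Group G] [Finite G] {p : ℕ} [Fact p.Prime] {M P : Subgroup G}
    (hP : IsSyl p P M) (hPn : M ≤ Subgroup.normalizer (P : Set G)) {y : G} (hy : y ∈ M) {a : ℕ}
    (hya : y ^ p ^ a = 1) : y ∈ P := by
  obtain ⟨k, -, hk⟩ := (Nat.dvd_prime_pow (Fact.out : p.Prime)).1 (orderOf_dvd_of_pow_eq_one hya)
  have h1 : IsPGroup p (Subgroup.zpowers y) :=
    IsPGroup.of_card (n := k) (by rw [Nat.card_zpowers, hk])
  obtain ⟨m, hm, hle⟩ := hP.exists_conj_ge (Subgroup.zpowers_le.mpr hy) h1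
  rw [map_conj_eq_of_mem_normalizer (hPn hm)] at hle
  exact hle (Subgroup.mem_zpowers y)

theorem decomp {G : Type*} [Group G] [Finite G] {p : ℕ} [Fact p.Prime] {M P : Subgroup G}
    (hnil : Group.IsNilpotent M) (hP : IsSyl p P M) (hPn : M ≤ Subgroup.normalizer (P : Set G))
    {m : G} (hm : m ∈ M) :
    ∃ b ∈ M, ∃ a ∈ P, m = b * a ∧ ∀ x ∈ P, b * x = x * b := by
  obtain ⟨z, y, hz, hy, hmzy, hzc, a, hya⟩ :=
    Cfsg.Agent.Lib.Helper1.exists_pPart_decomp (Fact.out : p.Prime) m
  have hzM : z ∈ M := (Subgroup.zpowers_le.mpr hm) hz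
  have hyM : y ∈ M := (Subgroup.zpowers_le.mpr hm) hy
  refine ⟨z, hzM, y, pel_mem hP hPn hyM hya, hmzy, ?_⟩
  intro x hx
  have hxM := hP.le hx
  obtain ⟨k, hk⟩ := hP.isPGroup ⟨x, hx⟩
  have hk' : x ^ p ^ k = 1 := congrArg Subtype.val hk
  obtain ⟨j, -, hj⟩ := (Nat.dvd_prime_pow (Fact.out : p.Prime)).1 (orderOf_dvd_of_pow_eq_one hk')
  have hc : (orderOf (⟨z, hzM⟩ : M)).Coprime (orderOf (⟨x, hxM⟩ : M)) := by
    rw [Subgroup.orderOf_mk, Subgroup.orderOf_mk, hj]
    exact Nat.Coprime.pow_right _ hzc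
  have := Cfsg.Agent.Lib.Helper2.commute_of_coprime_of_isNilpotent hc
  exact congrArg Subtype.val this

theorem comm_central {G : Type*} [Group G] {M : Subgroup G} (hnil : Group.IsNilpotent M)
    (hcl : Group.nilpotencyClass ↥M ≤ 2) {a b c : G} (ha : a ∈ M) (hb : b ∈ M) (hc : c ∈ M) :
    c * (a * b * a⁻¹ * b⁻¹) = (a * b * a⁻¹ * b⁻¹) * c := by
  have h1 : Subgroup.upperCentralSeries ↥M 2 = ⊤ := by
    exact Subgroup.upperCentralSeries_eq_top_iff_nilpotencyClass_le.mpr hcl
  have h2 : (⟨a, ha⟩ : M) ∈ Subgroup.upperCentralSeries ↥M (1 + 1) := by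
    show _ ∈ Subgroup.upperCentralSeries ↥M 2
    rw [h1]; trivial
  rw [Subgroup.mem_upperCentralSeries_succ_iff] at h2
  have h3 := h2 ⟨b, hb⟩
  rw [Subgroup.upperCentralSeries_one, Subgroup.mem_center_iff] at h3
  exact congrArg Subtype.val (h3 ⟨c, hc⟩)

theorem conj_pow' {G : Type*} [Group G] (g z : G) (n : ℕ) :
    (g⁻¹ * z * g) ^ n = g⁻¹ * z ^ n * g := by
  have := conj_pow (a := g⁻¹) (b := z) (i := n)
  simpa using this

theorem npc {G : Type*} [Group G] [Finite G] (M : Subgroup G) (hmax : IsCoatom M)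
    (hnil : Group.IsNilpotent M) (hcl : Group.nilpotencyClass ↥M ≤ 2) (hcore : M.normalCore = ⊥)
    (p : ℕ) [Fact p.Prime] (hp : p ∣ Nat.card M) : Cfsg.HasNormalPComplement p G := by
  obtain ⟨P, hP⟩ := exists_isSyl p M
  have hPne : P ≠ ⊥ := hP.ne_bot hp
  have hPn : M ≤ Subgroup.normalizer (P : Set G) := by
    obtain ⟨P0, rfl⟩ := hP
    have h1 : (P0 : Subgroup M).Normal :=
      ((Group.isNilpotent_of_finite_tfae (G := M)).out 0 3 rfl rfl).mp hnil p inferInstance P0
    apply Cfsg.Agent.Lib.Helper17.le_normalizer_of_conj_mem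
    rintro m hm _ ⟨x, hx, rfl⟩
    exact ⟨⟨m, hm⟩ * x * ⟨m, hm⟩⁻¹, h1.conj_mem x hx ⟨m, hm⟩, rfl⟩
  have hNP := normalizer_eq M hmax hcore P hPne hP.le hPn
  obtain ⟨P', hP', hPP'⟩ := exists_isSyl_ge (le_top : P ≤ ⊤) hP.isPGroup
  have hPeq : P' = P := by
    by_contra hne
    have hlt : P < P' := lt_of_le_of_ne hPP' (Ne.symm hne)
    obtain ⟨x, hx1, hx2, hx3⟩ := pgroup_normalizer_grow hP'.isPGroup hlt
    have h1 := hP.eq_of_le (inf_le_right : P' ⊓ M ≤ M) (hP'.isPGroup.to_le inf_le_left)
      (le_inf hPP' hP.le)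
    apply hx3
    rw [← h1]
    exact ⟨hx1, hNP ▸ hx2⟩
  rw [hPeq] at hP'
  obtain ⟨Pg, hPg⟩ := hP'.exists_sylow_top
  -- the centre of `P`
  set Z : Subgroup G := P ⊓ Subgroup.centralizer (P : Set G) with hZdef
  have hZP : Z ≤ P := inf_le_left
  have hZc : ∀ z ∈ Z, ∀ x ∈ P, x * z = z * x := fun z hz x hx =>
    Subgroup.mem_centralizer_iff.mp (Subgroup.mem_inf.mp hz).2 x hx
  have hZne : Z ≠ ⊥ := by
    have : Nontrivial ↥P := (Subgroup.nontrivial_iff_ne_bot P).mpr hPne
    have : Group.IsNilpotent ↥P := hP.isPGroup.isNilpotent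
    have hc := Group.IsNilpotent.center_ne_bot ↥P
    rcases Subgroup.bot_or_exists_ne_one (Subgroup.center ↥P) with h | ⟨z, hz, hz1⟩
    · exact absurd h hc
    · intro hbot
      have hzZ : (z : G) ∈ Z := by
        refine Subgroup.mem_inf.mpr ⟨z.2, ?_⟩
        rw [Subgroup.mem_centralizer_iff]
        intro x hx
        exact congrArg Subtype.val (Subgroup.mem_center_iff.mp hz ⟨x, hx⟩)
      rw [hbot, Subgroup.mem_bot] at hzZ
      exact hz1 (Subtype.ext hzZ)
  have hcomm : ∀ a ∈ P, ∀ d ∈ P, a * d * a⁻¹ * d⁻¹ ∈ Z := by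
    intro a ha d hd
    refine Subgroup.mem_inf.mpr ⟨P.mul_mem (P.mul_mem (P.mul_mem ha hd) (P.inv_mem ha))
      (P.inv_mem hd), ?_⟩
    rw [Subgroup.mem_centralizer_iff]
    intro x hx
    exact comm_central hnil hcl (hP.le ha) (hP.le hd) (hP.le hx)
  have hN : ∀ D : Subgroup G, Z ≤ D → D ≤ P → M ≤ Subgroup.normalizer (D : Set G) := by
    intro D hZD hDP
    apply Cfsg.Agent.Lib.Helper17.le_normalizer_of_conj_mem
    intro m hm d hd
    obtain ⟨b, hb, a, ha, rfl, hbx⟩ := decomp hnil hP hPn hm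
    have h1 : a * d * a⁻¹ ∈ D := by
      have := D.mul_mem (hZD (hcomm a ha d (hDP hd))) hd
      simpa using this
    have h2 := hbx _ (hDP h1)
    have h3 : b * a * d * (b * a)⁻¹ = a * d * a⁻¹ := by
      calc b * a * d * (b * a)⁻¹ = (b * (a * d * a⁻¹)) * b⁻¹ := by group
        _ = a * d * a⁻¹ := by rw [h2]; group
    rw [h3]; exact h1
  have hND : ∀ D : Subgroup G, Z ≤ D → D ≤ P → Subgroup.normalizer (D : Set G) = M := by
    intro D hZD hDP
    refine normalizer_eq M hmax hcore D ?_ (hDP.trans hP.le) (hN D hZD hDP)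
    intro h
    rw [h] at hZD
    exact hZne (le_bot_iff.mp hZD)
  have hNM : Subgroup.normalizer (M : Set G) = M := by
    refine normalizer_eq M hmax hcore M ?_ le_rfl Subgroup.le_normalizer
    intro h
    have := hP.le
    rw [h] at this
    exact hPne (le_bot_iff.mp this)
  have hW : ∀ g : G, Z.map (MulAut.conj g).toMonoidHom ≤ P → g ∈ M := by
    intro g hg
    have h1 : Z ≤ P.map (MulAut.conj g).toMonoidHom := by
      intro z hz
      rw [mem_map_conj]
      have hzc : g⁻¹ * z * g ∈ Subgroup.normalizer (Z : Set G) := by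
        apply centralizer_le_normalizer' Z
        rw [Subgroup.mem_centralizer_iff]
        intro w hw
        have h2 : g * w * g⁻¹ ∈ P := hg (conj_mem_map_conj hw)
        have h3 := hZc z hz _ h2
        calc w * (g⁻¹ * z * g) = g⁻¹ * ((g * w * g⁻¹) * z) * g := by group
          _ = g⁻¹ * z * g * w := by rw [h3]; group
      rw [hND Z le_rfl hZP] at hzc
      obtain ⟨k, hk⟩ := hP.isPGroup ⟨z, hZP hz⟩
      have hk' : z ^ p ^ k = 1 := congrArg Subtype.val hk
      refine pel_mem hP hPn hzc (a := k) ?_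
      rw [conj_pow', hk']; group
    have hD1 := hND (P ⊓ P.map (MulAut.conj g).toMonoidHom) (le_inf hZP h1) inf_le_left
    have hD2 := hND ((P ⊓ P.map (MulAut.conj g).toMonoidHom).map (MulAut.conj g⁻¹).toMonoidHom)
      (by
        intro z hz
        rw [mem_map_conj, inv_inv]
        exact Subgroup.mem_inf.mpr ⟨hg (conj_mem_map_conj hz), conj_mem_map_conj (hZP hz)⟩)
      (by
        intro x hx
        rw [mem_map_conj, inv_inv] at hx
        have := (Subgroup.mem_inf.mp hx).2
        rw [mem_map_conj] at this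
        simpa [mul_assoc] using this)
    rw [normalizer_map_conj, hD1] at hD2
    have h3 : g⁻¹ ∈ Subgroup.normalizer (M : Set G) := mem_normalizer_iff_map_conj.mpr hD2
    rw [hNM] at h3
    exact inv_mem_iff.mp h3
  have hZp : IsPGroup p Z := hP.isPGroup.to_le hZP
  have hfus : ∀ x ∈ P, ∀ y ∈ P, (∃ g : G, g * x * g⁻¹ = y) → ∃ h ∈ P, h * x * h⁻¹ = y := by
    rintro x hx y hy ⟨g, hgy⟩
    have hZC : Z ≤ Subgroup.centralizer ({y} : Set G) := by
      intro z hz
      rw [Subgroup.mem_centralizer_singleton_iff]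
      exact (hZc z hz y hy).symm
    have hZgC : Z.map (MulAut.conj g).toMonoidHom ≤ Subgroup.centralizer ({y} : Set G) := by
      intro w hw
      rw [mem_map_conj] at hw
      rw [Subgroup.mem_centralizer_singleton_iff]
      have h3 := hZc _ hw x hx
      rw [← hgy]
      calc w * (g * x * g⁻¹) = g * ((g⁻¹ * w * g) * x) * g⁻¹ := by group
        _ = g * x * g⁻¹ * w := by rw [← h3]; group
    obtain ⟨R, hR, hZR⟩ := exists_isSyl_ge hZC hZp
    obtain ⟨c, hc, hle⟩ := hR.exists_conj_ge hZgC (hZp.map _)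
    obtain ⟨h, hh⟩ := pgroup_le_conj_sylow hR.isPGroup Pg
    rw [hPg] at hh
    have e1 : h⁻¹ ∈ M := hW _ (le_map_conj_iff.mp (hZR.trans hh))
    have e2 : (c * h)⁻¹ * g ∈ M := by
      apply hW
      rw [← map_conj_map_conj]
      apply le_map_conj_iff.mp
      rw [← map_conj_map_conj]
      exact hle.trans (Subgroup.map_mono hh)
    have e3 : c⁻¹ * g ∈ M := by
      have := M.mul_mem (M.inv_mem e1) e2
      simpa [mul_assoc] using this
    obtain ⟨b, hb, a, ha, hba, hbx⟩ := decomp hnil hP hPn e3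
    refine ⟨a, ha, ?_⟩
    have h1 : a * x * a⁻¹ ∈ P := P.mul_mem (P.mul_mem ha hx) (P.inv_mem ha)
    have h2 := hbx _ h1
    rw [Subgroup.mem_centralizer_singleton_iff] at hc
    have h4 : (c⁻¹ * g) * x * (c⁻¹ * g)⁻¹ = y := by
      calc (c⁻¹ * g) * x * (c⁻¹ * g)⁻¹ = c⁻¹ * (g * x * g⁻¹) * c := by group
        _ = c⁻¹ * (c * y) := by rw [hgy, mul_assoc, hc]
        _ = y := by group
    rw [hba] at h4
    rw [← h4]
    calc a * x * a⁻¹ = (a * x * a⁻¹) * b * b⁻¹ := by group
      _ = b * a * x * (b * a)⁻¹ := by rw [← h2]; group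
  have hPnil : Group.IsNilpotent ↥(Pg : Subgroup G) := Pg.2.isNilpotent
  obtain ⟨N, hNn, hc⟩ := (Cfsg.Agent.S0079.result (Pg : Subgroup G) hPnil
    Pg.card_coprime_index).mpr (by rw [hPg]; exact hfus)
  exact ⟨Pg, N, hNn, hc⟩
theorem corefree {G : Type*} [Group G] [Finite G] (M : Subgroup G) (hmax : IsCoatom M)
    (hnil : Group.IsNilpotent M) (hcl : Group.nilpotencyClass ↥M ≤ 2) (hcore : M.normalCore = ⊥) :
    Group.IsSolvable G := by
  by_cases hM : M = ⊥
  · subst hM
    obtain ⟨x, hx⟩ : ∃ x : G, x ≠ 1 := by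
      by_contra hcon
      push Not at hcon
      apply hmax.1
      rw [eq_top_iff]
      intro y _
      rw [hcon y]
      exact one_mem _
    have htop : Subgroup.zpowers x = ⊤ := by
      rcases hmax.le_iff.mp (bot_le : ⊥ ≤ Subgroup.zpowers x) with h | h
      · exact h
      · exact absurd (Subgroup.zpowers_eq_bot.mp h) hx
    apply Group.isSolvable_of_comm
    intro a b
    have ha : a ∈ Subgroup.zpowers x := htop ▸ Subgroup.mem_top a
    have hb : b ∈ Subgroup.zpowers x := htop ▸ Subgroup.mem_top b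
    obtain ⟨i, rfl⟩ := Subgroup.mem_zpowers_iff.mp ha
    obtain ⟨j, rfl⟩ := Subgroup.mem_zpowers_iff.mp hb
    rw [← zpow_add, ← zpow_add, add_comm]
  · obtain ⟨k, hk⟩ : ∃ k, ∀ j, derivedSeries G k ≤ derivedSeries G j := by
      obtain ⟨m, ⟨k, rfl⟩, hmin⟩ := Nat.lt_wfRel.wf.has_min
        (Set.range fun j => Nat.card (derivedSeries G j)) ⟨_, 0, rfl⟩
      refine ⟨k, fun j => ?_⟩
      have h1 : derivedSeries G (max j k) ≤ derivedSeries G k :=
        derivedSeries_antitone G (le_max_right j k)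
      have h2 : Nat.card (derivedSeries G k) ≤ Nat.card (derivedSeries G (max j k)) :=
        not_lt.mp (hmin _ ⟨max j k, rfl⟩)
      have h3 := Subgroup.eq_of_le_of_card_ge h1 h2
      rw [← h3]
      exact derivedSeries_antitone G (le_max_left j k)
    set R := derivedSeries G k with hR
    have hRn : R.Normal := derivedSeries_normal G k
    have hcop : (Nat.card R).Coprime (Nat.card M) := by
      apply Nat.Coprime.symm
      apply Nat.coprime_of_dvd
      intro p hp hpM hpR
      have : Fact p.Prime := ⟨hp⟩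
      obtain ⟨P, N, hNn, hc⟩ := npc M hmax hnil hcl hcore p hpM
      have hidx : N.index = Nat.card P := hc.symm.index_eq_card
      have hpg : IsPGroup p (G ⧸ N) := by
        obtain ⟨n, hn⟩ := IsPGroup.iff_card.mp P.2
        apply IsPGroup.of_card (n := n)
        rw [← hn, ← hidx]
        rfl
      have hsol : Group.IsSolvable (G ⧸ N) := by
        have := hpg.isNilpotent
        infer_instance
      obtain ⟨j, hj⟩ := (Group.isSolvable_def _).mp hsol
      rw [← map_derivedSeries_eq (QuotientGroup.mk'_surjective N) j] at hj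
      have h1 : derivedSeries G j ≤ N := by
        have := (Subgroup.map_eq_bot_iff _).mp hj
        rwa [QuotientGroup.ker_mk'] at this
      have h2 : Nat.card R ∣ Nat.card N := Subgroup.card_dvd_of_le ((hk j).trans h1)
      have h3 : ¬ p ∣ (P : Subgroup G).index := P.not_dvd_index
      rw [hc.index_eq_card] at h3
      exact h3 (hpR.trans h2)
    have hRM : R ⊓ M = ⊥ := (Subgroup.disjoint_of_coprime_natCard hcop).eq_bot
    have hnt : Nontrivial ↥M := (Subgroup.nontrivial_iff_ne_bot M).mpr hM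
    have hcen : Subgroup.center ↥M ≠ ⊥ := Group.IsNilpotent.center_ne_bot ↥M
    have hc1 : Nat.card (Subgroup.center ↥M) ≠ 1 := fun h => hcen (Subgroup.card_eq_one.mp h)
    obtain ⟨q, hq, hqd⟩ := Nat.exists_prime_and_dvd hc1
    have : Fact q.Prime := ⟨hq⟩
    obtain ⟨z, hz⟩ := exists_prime_orderOf_dvd_card' q hqd
    set x : G := ((z : ↥M) : G) with hx
    have hxo : orderOf x = q := by
      rw [hx, Subgroup.orderOf_coe, Subgroup.orderOf_coe, hz]
    have hMx : M ≤ Subgroup.centralizer ({x} : Set G) := by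
      intro m hm
      rw [Subgroup.mem_centralizer_singleton_iff]
      have := Subgroup.mem_center_iff.mp z.2 ⟨m, hm⟩
      exact congrArg Subtype.val this
    have hxne : Subgroup.zpowers x ≠ ⊥ := by
      intro h
      rw [Subgroup.zpowers_eq_bot] at h
      rw [h, orderOf_one] at hxo
      exact hq.one_lt.ne hxo
    have hNx := normalizer_eq M hmax hcore (Subgroup.zpowers x) hxne
      (Subgroup.zpowers_le.mpr (z : ↥M).2)
      (hMx.trans (centralizer_singleton_le_normalizer_zpowers x))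
    have hCx : Subgroup.centralizer ({x} : Set G) ≤ M :=
      hNx ▸ centralizer_singleton_le_normalizer_zpowers x
    have hRnil : Group.IsNilpotent R := by
      refine thompson_fpf q hq R x (by rw [← hxo, pow_orderOf_eq_one]) ?_ ?_
      · rw [Subgroup.normalizer_eq_top]; trivial
      · exact le_bot_iff.mp (hRM ▸ inf_le_inf_left R hCx)
    have hRsol : Group.IsSolvable R := inferInstance
    have hQsol : Group.IsSolvable (G ⧸ R) := by
      rw [Group.isSolvable_def]
      refine ⟨k, ?_⟩
      rw [← map_derivedSeries_eq (QuotientGroup.mk'_surjective R) k, ← hR,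
        QuotientGroup.map_mk'_self]
    exact Group.isSolvable_of_ker_le_range R.subtype (QuotientGroup.mk' R) (by simp)

theorem main : ∀ (n : ℕ) (G : Type u) [Group G] [Finite G] (M : Subgroup G), Nat.card G = n →
    IsCoatom M → Group.IsNilpotent M → Group.nilpotencyClass ↥M ≤ 2 → Group.IsSolvable G := by
  intro n
  induction n using Nat.strong_induction_on with
  | _ n ih =>
    intro G _ _ M hn hmax hnil hcl
    by_cases hcore : M.normalCore = ⊥
    · exact corefree M hmax hnil hcl hcore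
    · set K := M.normalCore with hK
      have hKM : K ≤ M := Subgroup.normalCore_le M
      have hKn : K.Normal := Subgroup.normalCore_normal M
      have hlt : Nat.card (G ⧸ K) < n := by
        rw [← hn, Subgroup.card_eq_card_quotient_mul_card_subgroup K]
        have h1 : 1 < Nat.card K := by
          rcases Nat.lt_or_ge 1 (Nat.card K) with h | h
          · exact h
          · exact absurd (Subgroup.eq_bot_of_card_le K h) hcore
        have h2 : 0 < Nat.card (G ⧸ K) := Nat.card_pos
        nlinarith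
      have hsurj := (QuotientGroup.mk' K).subgroupMap_surjective M
      have hQ : Group.IsSolvable (G ⧸ K) := by
        refine ih _ hlt (G ⧸ K) (M.map (QuotientGroup.mk' K)) rfl (isCoatom_map_mk' hmax hKM) ?_ ?_
        · exact Group.nilpotent_of_surjective _ hsurj
        · exact (Group.nilpotencyClass_le_of_surjective _ hsurj).trans hcl
      have hMsol : Group.IsSolvable M := inferInstance
      have hKsol : Group.IsSolvable K :=
        Group.isSolvable_of_isSolvable_injective (Subgroup.inclusion_injective hKM)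
      exact Group.isSolvable_of_ker_le_range K.subtype (QuotientGroup.mk' K) (by simp)

/-- A finite group possessing a maximal subgroup that is nilpotent of class at most 2 is solvable. -/
theorem result {G : Type*} [Group G] [Finite G]
    (M : Subgroup G) (hmax : IsCoatom M) (hnil : Group.IsNilpotent M) (hcl : Group.nilpotencyClass ↥M ≤ 2) :
    Group.IsSolvable G := by
  exact main _ G M rfl hmax hnil hcl

end Cfsg.Agent.S4039
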