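import Cfsg.Statements.S4040
-- import your own Cfsg.Agent.* helpers here
import Mathlib
import Cfsg.Agent.Lib.Helper17.Syl
import Cfsg.Agent.Lib.Helper17.Quot
import Cfsg.Agent.Lib.Helper17.SE
import Cfsg.Agent.Lib.Helper5.ZJ3
import Cfsg.Agent.Lib.Helper15.Thompson4
import Cfsg.Agent.S0659

set_option autoImplicit false
open Cfsg

namespace Cfsg.Agent.S4040
open Cfsg.Agent.Lib.Helper17 Cfsg.Agent.Lib.Helper5 Cfsg.Agent.Lib.Helper15

universe u

/-- In the core-free case the normalizer of a nontrivial subgroup normalized by `M` is `M`. -/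
theorem normalizer_eq {G : Type*} [Group G] (M : Subgroup G) (hmax : IsCoatom M)
    (hcore : M.normalCore = ⊥) (C : Subgroup G) (hC : C ≠ ⊥) (hCM : C ≤ M)
    (hn : M ≤ Subgroup.normalizer (C : Set G)) : Subgroup.normalizer (C : Set G) = M := by
  rcases hmax.le_iff.mp hn with h | h
  · exfalso
    have hCn : C.Normal := Subgroup.normalizer_eq_top_iff.mp h
    have := (Subgroup.normal_le_normalCore (H := M) (N := C)).mpr hCM
    rw [hcore] at this
    exact hC (le_bot_iff.mp this)
  · exact h

theorem center_le_maxAb {P : Type*} [Group P] [Finite P] {A : Subgroup P}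
    (hA : A ∈ Cfsg.maxAbelianSubgroups P) : Subgroup.center P ≤ A := by
  have hc : IsMulCommutative ↥(A ⊔ Subgroup.center P) := by
    refine comm_sup hA.1 inferInstance ?_
    intro z hz
    rw [Subgroup.mem_centralizer_iff]
    intro a _
    exact (Subgroup.mem_center_iff.mp hz a)
  have h1 := hA.2 _ hc
  have h2 : A = A ⊔ Subgroup.center P := Subgroup.eq_of_le_of_card_ge le_sup_left h1
  rw [h2]
  exact le_sup_right

theorem zj_ne_bot {G : Type*} [Group G] [Finite G] {p : ℕ} [Fact p.Prime] (P : Subgroup G)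
    (hP : IsPGroup p P) (hne : P ≠ ⊥) : Cfsg.centerThompsonAOf P ≠ ⊥ := by
  rw [centerThompsonAOf_eq_map]
  intro h
  rw [Subgroup.map_eq_bot_iff_of_injective _ P.subtype_injective] at h
  have h1 : Subgroup.center ↥P ≤ sInf (Cfsg.maxAbelianSubgroups ↥P) :=
    le_sInf fun A hA => center_le_maxAb hA
  rw [h] at h1
  have : Nontrivial ↥P := (Subgroup.nontrivial_iff_ne_bot P).mpr hne
  have : Group.IsNilpotent ↥P := hP.isNilpotent
  exact Group.IsNilpotent.center_ne_bot ↥P (le_bot_iff.mp h1)

theorem zj_le {G : Type*} [Group G] [Finite G] (P : Subgroup G) : Cfsg.centerThompsonAOf P ≤ P := by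
  rw [centerThompsonAOf_eq_map]
  exact Subgroup.map_subtype_le _

theorem normalizer_le_zj {G : Type*} [Group G] [Finite G] (P : Subgroup G) :
    Subgroup.normalizer (P : Set G) ≤ Subgroup.normalizer (Cfsg.centerThompsonAOf P : Set G) := by
  intro g hg
  rw [mem_normalizer_iff_map_conj]
  rw [← centerThompsonAOf_map (MulAut.conj g).toMonoidHom P,
    Cfsg.Agent.Lib.Helper17.map_conj_eq_of_mem_normalizer hg]
  rw [(MonoidHom.ker_eq_bot_iff _).mpr (MulAut.conj g).injective, inf_bot_eq]

theorem npc {G : Type*} [Group G] [Finite G] (M : Subgroup G) (hmax : IsCoatom M)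
    (hnil : Group.IsNilpotent M) (hodd : Odd (Nat.card M)) (hcore : M.normalCore = ⊥)
    (p : ℕ) [Fact p.Prime] (hp : p ∣ Nat.card M) : Cfsg.HasNormalPComplement p G := by
  obtain ⟨P, hP⟩ := exists_isSyl p M
  have hPne : P ≠ ⊥ := hP.ne_bot hp
  have hPn : M ≤ Subgroup.normalizer (P : Set G) := by
    obtain ⟨P0, rfl⟩ := hP
    have h1 : (P0 : Subgroup M).Normal :=
      ((Group.isNilpotent_of_finite_tfae (G := M)).out 0 3 rfl rfl).mp hnil p inferInstance P0
    apply Cfsg.Agent.Lib.Helper17.le_normalizer_of_conj_mem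
    rintro m hm _ ⟨x, hx, rfl⟩
    exact ⟨⟨m, hm⟩ * x * ⟨m, hm⟩⁻¹, h1.conj_mem x hx ⟨m, hm⟩, rfl⟩
  have hNP := normalizer_eq M hmax hcore P hPne hP.le hPn
  obtain ⟨P', hP', hPP'⟩ := exists_isSyl_ge (le_top : P ≤ ⊤) hP.isPGroup
  have hPeq : P' = P := by
    by_contra hne
    have hlt : P < P' := lt_of_le_of_ne hPP' (Ne.symm hne)
    obtain ⟨x, hx1, hx2, hx3⟩ := pgroup_normalizer_grow hP'.isPGroup hlt
    have h1 := hP.eq_of_le (inf_le_right : P' ⊓ M ≤ M) (hP'.isPGroup.to_le inf_le_left)
      (le_inf hPP' hP.le)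
    apply hx3
    rw [← h1]
    exact ⟨hx1, hNP ▸ hx2⟩
  rw [hPeq] at hP'
  obtain ⟨Pg, hPg⟩ := hP'.exists_sylow_top
  have hZ := normalizer_eq M hmax hcore (Cfsg.centerThompsonAOf P) (zj_ne_bot P hP.isPGroup hPne)
    ((zj_le P).trans hP.le) (hPn.trans (normalizer_le_zj P))
  have hp2 : p ≠ 2 := by
    rintro rfl
    exact (Nat.not_even_iff_odd.mpr hodd) (even_iff_two_dvd.mpr hp)
  apply Cfsg.Agent.S0659.result hp2 Pg
  rw [hPg, hZ]
  exact hasNormalPComplement_of_isNilpotent p hnil

theorem corefree {G : Type*} [Group G] [Finite G] (M : Subgroup G) (hmax : IsCoatom M)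
    (hnil : Group.IsNilpotent M) (hodd : Odd (Nat.card M)) (hcore : M.normalCore = ⊥) :
    Group.IsSolvable G := by
  by_cases hM : M = ⊥
  · subst hM
    obtain ⟨x, hx⟩ : ∃ x : G, x ≠ 1 := by
      by_contra hcon
      push Not at hcon
      apply hmax.1
      rw [eq_top_iff]
      intro y _
      rw [hcon y]
      exact one_mem _
    have htop : Subgroup.zpowers x = ⊤ := by
      rcases hmax.le_iff.mp (bot_le : ⊥ ≤ Subgroup.zpowers x) with h | h
      · exact h
      · exact absurd (Subgroup.zpowers_eq_bot.mp h) hx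
    apply Group.isSolvable_of_comm
    intro a b
    have ha : a ∈ Subgroup.zpowers x := htop ▸ Subgroup.mem_top a
    have hb : b ∈ Subgroup.zpowers x := htop ▸ Subgroup.mem_top b
    obtain ⟨i, rfl⟩ := Subgroup.mem_zpowers_iff.mp ha
    obtain ⟨j, rfl⟩ := Subgroup.mem_zpowers_iff.mp hb
    rw [← zpow_add, ← zpow_add, add_comm]
  · obtain ⟨k, hk⟩ : ∃ k, ∀ j, derivedSeries G k ≤ derivedSeries G j := by
      obtain ⟨m, ⟨k, rfl⟩, hmin⟩ := Nat.lt_wfRel.wf.has_min
        (Set.range fun j => Nat.card (derivedSeries G j)) ⟨_, 0, rfl⟩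
      refine ⟨k, fun j => ?_⟩
      have h1 : derivedSeries G (max j k) ≤ derivedSeries G k :=
        derivedSeries_antitone G (le_max_right j k)
      have h2 : Nat.card (derivedSeries G k) ≤ Nat.card (derivedSeries G (max j k)) :=
        not_lt.mp (hmin _ ⟨max j k, rfl⟩)
      have h3 := Subgroup.eq_of_le_of_card_ge h1 h2
      rw [← h3]
      exact derivedSeries_antitone G (le_max_left j k)
    set R := derivedSeries G k with hR
    have hRn : R.Normal := derivedSeries_normal G k
    have hcop : (Nat.card R).Coprime (Nat.card M) := by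
      apply Nat.Coprime.symm
      apply Nat.coprime_of_dvd
      intro p hp hpM hpR
      have : Fact p.Prime := ⟨hp⟩
      obtain ⟨P, N, hNn, hc⟩ := npc M hmax hnil hodd hcore p hpM
      have hidx : N.index = Nat.card P := hc.symm.index_eq_card
      have hpg : IsPGroup p (G ⧸ N) := by
        obtain ⟨n, hn⟩ := IsPGroup.iff_card.mp P.2
        apply IsPGroup.of_card (n := n)
        rw [← hn, ← hidx]
        rfl
      have hsol : Group.IsSolvable (G ⧸ N) := by
        have := hpg.isNilpotent
        infer_instance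
      obtain ⟨j, hj⟩ := (Group.isSolvable_def _).mp hsol
      rw [← map_derivedSeries_eq (QuotientGroup.mk'_surjective N) j] at hj
      have h1 : derivedSeries G j ≤ N := by
        have := (Subgroup.map_eq_bot_iff _).mp hj
        rwa [QuotientGroup.ker_mk'] at this
      have h2 : Nat.card R ∣ Nat.card N := Subgroup.card_dvd_of_le ((hk j).trans h1)
      have h3 : ¬ p ∣ (P : Subgroup G).index := P.not_dvd_index
      rw [hc.index_eq_card] at h3
      exact h3 (hpR.trans h2)
    have hRM : R ⊓ M = ⊥ := (Subgroup.disjoint_of_coprime_natCard hcop).eq_bot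
    have hnt : Nontrivial ↥M := (Subgroup.nontrivial_iff_ne_bot M).mpr hM
    have hcen : Subgroup.center ↥M ≠ ⊥ := Group.IsNilpotent.center_ne_bot ↥M
    have hc1 : Nat.card (Subgroup.center ↥M) ≠ 1 := fun h => hcen (Subgroup.card_eq_one.mp h)
    obtain ⟨q, hq, hqd⟩ := Nat.exists_prime_and_dvd hc1
    have : Fact q.Prime := ⟨hq⟩
    obtain ⟨z, hz⟩ := exists_prime_orderOf_dvd_card' q hqd
    set x : G := ((z : ↥M) : G) with hx
    have hxo : orderOf x = q := by
      rw [hx, Subgroup.orderOf_coe, Subgroup.orderOf_coe, hz]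
    have hMx : M ≤ Subgroup.centralizer ({x} : Set G) := by
      intro m hm
      rw [Subgroup.mem_centralizer_singleton_iff]
      have := Subgroup.mem_center_iff.mp z.2 ⟨m, hm⟩
      exact congrArg Subtype.val this
    have hxne : Subgroup.zpowers x ≠ ⊥ := by
      intro h
      rw [Subgroup.zpowers_eq_bot] at h
      rw [h, orderOf_one] at hxo
      exact hq.one_lt.ne hxo
    have hNx := normalizer_eq M hmax hcore (Subgroup.zpowers x) hxne
      (Subgroup.zpowers_le.mpr (z : ↥M).2)
      (hMx.trans (centralizer_singleton_le_normalizer_zpowers x))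
    have hCx : Subgroup.centralizer ({x} : Set G) ≤ M :=
      hNx ▸ centralizer_singleton_le_normalizer_zpowers x
    have hRnil : Group.IsNilpotent R := by
      refine thompson_fpf q hq R x (by rw [← hxo, pow_orderOf_eq_one]) ?_ ?_
      · rw [Subgroup.normalizer_eq_top]; trivial
      · exact le_bot_iff.mp (hRM ▸ inf_le_inf_left R hCx)
    have hRsol : Group.IsSolvable R := inferInstance
    have hQsol : Group.IsSolvable (G ⧸ R) := by
      rw [Group.isSolvable_def]
      refine ⟨k, ?_⟩
      rw [← map_derivedSeries_eq (QuotientGroup.mk'_surjective R) k, ← hR,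
        QuotientGroup.map_mk'_self]
    exact Group.isSolvable_of_ker_le_range R.subtype (QuotientGroup.mk' R) (by simp)

theorem main : ∀ (n : ℕ) (G : Type u) [Group G] [Finite G] (M : Subgroup G), Nat.card G = n →
    IsCoatom M → Group.IsNilpotent M → Odd (Nat.card M) → Group.IsSolvable G := by
  intro n
  induction n using Nat.strong_induction_on with
  | _ n ih =>
    intro G _ _ M hn hmax hnil hodd
    by_cases hcore : M.normalCore = ⊥
    · exact corefree M hmax hnil hodd hcore
    · set K := M.normalCore with hK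
      have hKM : K ≤ M := Subgroup.normalCore_le M
      have hKn : K.Normal := Subgroup.normalCore_normal M
      have hlt : Nat.card (G ⧸ K) < n := by
        rw [← hn, Subgroup.card_eq_card_quotient_mul_card_subgroup K]
        have h1 : 1 < Nat.card K := by
          rcases Nat.lt_or_ge 1 (Nat.card K) with h | h
          · exact h
          · exact absurd (Subgroup.eq_bot_of_card_le K h) hcore
        have h2 : 0 < Nat.card (G ⧸ K) := Nat.card_pos
        nlinarith
      have hsurj := (QuotientGroup.mk' K).subgroupMap_surjective M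
      have hQ : Group.IsSolvable (G ⧸ K) := by
        refine ih _ hlt (G ⧸ K) (M.map (QuotientGroup.mk' K)) rfl (isCoatom_map_mk' hmax hKM) ?_ ?_
        · exact Group.nilpotent_of_surjective _ hsurj
        · exact Odd.of_dvd_nat hodd (Subgroup.card_dvd_of_surjective _ hsurj)
      have hMsol : Group.IsSolvable M := inferInstance
      have hKsol : Group.IsSolvable K :=
        Group.isSolvable_of_isSolvable_injective (Subgroup.inclusion_injective hKM)
      exact Group.isSolvable_of_ker_le_range K.subtype (QuotientGroup.mk' K) (by simp)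

/-- A finite group possessing a maximal subgroup that is nilpotent of odd order is solvable. -/
theorem result {G : Type*} [Group G] [Finite G]
    (M : Subgroup G) (hmax : IsCoatom M) (hnil : Group.IsNilpotent M) (hodd : Odd (Nat.card M)) :
    Group.IsSolvable G := by
  exact main _ G M rfl hmax hnil hodd

end Cfsg.Agent.S4040
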