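import Cfsg.Statements.S4113
-- import your own Cfsg.Agent.* helpers here

set_option autoImplicit false
open Cfsg

namespace Cfsg.Agent.S4113

/-- Let G be a finite group, M ≤ N non-trivial proper normal subgroups, and H a subgroup with HM = G and H ∩ M = 1. Then every element of G outside N acts fixed-point-freely on M (C_G(x) ≤ N for every x ∈ M, x ≠ 1) if and only if H ∩ gHg⁻¹ ≤ H ∩ N for every g outside H, with H proper and non-trivial and H ∩ N proper in H. -/
theorem result {G : Type*} [Group G] [Finite G] (N M : Subgroup G) [N.Normal] [M.Normal] (hMN : M ≤ N) (hM1 : M ≠ ⊥) (hN2 : N ≠ ⊤)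
    (H : Subgroup G) (hHM : H ⊔ M = ⊤) (hHM' : H ⊓ M = ⊥) :
    (∀ x ∈ M, x ≠ 1 → Subgroup.centralizer ({x} : Set G) ≤ N) ↔
      (H ≠ ⊥ ∧ H ≠ ⊤ ∧ H ⊓ N < H ∧ ∀ g : G, g ∉ H → H ⊓ H.map (MulAut.conj g).toMonoidHom ≤ N) := by
  have hdecomp : ∀ g : G, ∃ m ∈ M, ∃ h ∈ H, m * h = g := by
    intro g
    have hg : g ∈ M ⊔ H := by rw [sup_comm, hHM]; exact Subgroup.mem_top g
    exact Subgroup.mem_sup_of_normal_left.1 hg
  have htriv : ∀ z, z ∈ H → z ∈ M → z = 1 := by
    intro z hzH hzM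
    have : z ∈ H ⊓ M := ⟨hzH, hzM⟩
    rw [hHM'] at this
    exact Subgroup.mem_bot.1 this
  constructor
  · intro hF
    refine ⟨?_, ?_, ?_, ?_⟩
    · rintro rfl
      rw [bot_sup_eq] at hHM
      exact hN2 (top_le_iff.1 (hHM ▸ hMN))
    · rintro rfl
      rw [top_inf_eq] at hHM'
      exact hM1 hHM'
    · refine lt_of_le_of_ne inf_le_left ?_
      intro h
      have hHN : H ≤ N := inf_eq_left.1 h
      exact hN2 (top_le_iff.1 (hHM ▸ sup_le hHN hMN))
    · intro g hg y hy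
      obtain ⟨hyH, hy2⟩ := hy
      obtain ⟨h', hh', hy'⟩ := Subgroup.mem_map.1 hy2
      obtain ⟨m, hm, h, hh, rfl⟩ := hdecomp g
      have hm1 : m ≠ 1 := by
        rintro rfl
        exact hg (by simpa using hh)
      have hy'' : y = m * (h * h' * h⁻¹) * m⁻¹ := by
        rw [← hy']
        simp [MulAut.conj_apply, mul_assoc]
      set k := h * h' * h⁻¹ with hk
      have hkH : k ∈ H := H.mul_mem (H.mul_mem hh hh') (H.inv_mem hh)
      have h1 : y * k⁻¹ = 1 := by
        apply htriv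
        · exact H.mul_mem hyH (H.inv_mem hkH)
        · have : y * k⁻¹ = m * (k * m⁻¹ * k⁻¹) := by rw [hy'']; group
          rw [this]
          exact M.mul_mem hm (‹M.Normal›.conj_mem _ (M.inv_mem hm) k)
      have hyk : y = k := mul_inv_eq_one.1 h1
      apply hF m hm hm1
      rw [Subgroup.mem_centralizer_iff]
      intro z hz
      rw [Set.mem_singleton_iff.1 hz]
      have h2 : y = m * y * m⁻¹ := by
        nth_rewrite 1 [hy'']
        rw [← hyk]
      exact (eq_mul_inv_iff_mul_eq.1 h2).symm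
  · rintro ⟨-, -, -, hW⟩ x hxM hx1 c hc
    by_contra hcN
    obtain ⟨m', hm', h, hh, rfl⟩ := hdecomp c
    have hhN : h ∉ N := by
      intro hhN
      exact hcN (N.mul_mem (hMN hm') hhN)
    have hCM : ∀ m ∈ M, m * h = h * m → m = 1 := by
      intro m hm hcomm
      by_contra hm1
      have hmH : m ∉ H := fun hmH => hm1 (htriv m hmH hm)
      apply hhN
      apply hW m hmH
      refine ⟨hh, Subgroup.mem_map.2 ⟨h, hh, ?_⟩⟩
      simp [MulAut.conj_apply, hcomm]
    let φ : M → M := fun m => ⟨(m : G) * (h * (m : G)⁻¹ * h⁻¹),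
      M.mul_mem m.2 (‹M.Normal›.conj_mem _ (M.inv_mem m.2) h)⟩
    have hφinj : Function.Injective φ := by
      intro a b hab
      have h1 : (a : G) * (h * (a : G)⁻¹ * h⁻¹) = (b : G) * (h * (b : G)⁻¹ * h⁻¹) :=
        congrArg Subtype.val hab
      have h2 : ((b : G)⁻¹ * a) * h = h * ((b : G)⁻¹ * a) := by
        have h3 : (a : G) * h * (a : G)⁻¹ = (b : G) * h * (b : G)⁻¹ := by
          have := congrArg (fun z => z * h) h1
          simpa [mul_assoc] using this
        calc ((b : G)⁻¹ * a) * h = (b : G)⁻¹ * ((a : G) * h * (a : G)⁻¹) * a := by group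
          _ = (b : G)⁻¹ * ((b : G) * h * (b : G)⁻¹) * a := by rw [h3]
          _ = h * ((b : G)⁻¹ * a) := by group
      have h4 := hCM _ (M.mul_mem (M.inv_mem b.2) a.2) h2
      apply Subtype.ext
      exact (inv_mul_eq_one.1 h4).symm
    have hφsurj : Function.Surjective φ := Finite.surjective_of_injective hφinj
    obtain ⟨m₀, hm₀⟩ := hφsurj ⟨m', hm'⟩
    have hm₀' : (m₀ : G) * (h * (m₀ : G)⁻¹ * h⁻¹) = m' := congrArg Subtype.val hm₀
    have hc' : m' * h = (m₀ : G) * h * (m₀ : G)⁻¹ := by rw [← hm₀']; group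
    have hxc : x * (m' * h) = m' * h * x := (Subgroup.mem_centralizer_iff.1 hc) x rfl
    rw [hc'] at hxc
    have h5 : ((m₀ : G)⁻¹ * x * m₀) * h = h * ((m₀ : G)⁻¹ * x * m₀) := by
      calc ((m₀ : G)⁻¹ * x * m₀) * h = (m₀ : G)⁻¹ * (x * ((m₀ : G) * h * (m₀ : G)⁻¹)) * m₀ := by group
        _ = (m₀ : G)⁻¹ * ((m₀ : G) * h * (m₀ : G)⁻¹ * x) * m₀ := by rw [hxc]
        _ = h * ((m₀ : G)⁻¹ * x * m₀) := by group
    have h6 := hCM _ (M.mul_mem (M.mul_mem (M.inv_mem m₀.2) hxM) m₀.2) h5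
    apply hx1
    have h7 : x = (m₀ : G) * ((m₀ : G)⁻¹ * x * m₀) * (m₀ : G)⁻¹ := by group
    rw [h7, h6]; group

end Cfsg.Agent.S4113
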