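import Cfsg.Statements.S4194
import Cfsg.Agent.Lib.Helper13.StrongClosed

set_option autoImplicit false
open Cfsg

namespace Cfsg.Agent.S4194

open Cfsg.Agent.Lib.Helper13
open scoped Pointwise

theorem mem_of_normalizes {G : Type*} [Group G] [Finite G] (T : Sylow 2 G) (u : G)
    (hu : u ∈ Subgroup.normalizer ((T : Subgroup G) : Set G)) (k : ℕ) (huk : u ^ (2 ^ k) = 1) :
    u ∈ (T : Subgroup G) := by
  have h1 : IsPGroup 2 (Subgroup.zpowers u) := by
    rintro ⟨y, hy⟩
    obtain ⟨i, rfl⟩ := Subgroup.mem_zpowers_iff.1 hy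
    refine ⟨k, ?_⟩
    apply Subtype.ext
    show (u ^ i) ^ (2 ^ k) = 1
    rw [← zpow_natCast, ← zpow_mul, mul_comm, zpow_mul, zpow_natCast, huk, one_zpow]
  have h2 : IsPGroup 2 (Subgroup.zpowers u ⊔ (T : Subgroup G) : Subgroup G) :=
    IsPGroup.to_sup_of_normal_right' h1 T.2 (Subgroup.zpowers_le.2 hu)
  have h3 := T.3 h2 le_sup_right
  rw [← h3]
  exact (le_sup_left : Subgroup.zpowers u ≤ _) (Subgroup.mem_zpowers u)

/-- the two-step chain `E ≥ 1` -/
def chainR {G : Type*} [Group G] (E : Subgroup G) : ℕ → Subgroup G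
  | 0 => E
  | _ + 1 => ⊥

theorem key {G : Type*} [Group G] [Finite G]
    (hyp : ∀ x : G, (∃ k : ℕ, orderOf x = 2 ^ k) →
      ∃ Q : Sylow 2 G, (Q : Subgroup G) ≤ Subgroup.centralizer ({x} : Set G)) (T : Sylow 2 G) :
    ∀ k : ℕ, ∀ s ∈ (T : Subgroup G), ∀ t ∈ (T : Subgroup G), s ^ (2 ^ k) = 1 → t ^ (2 ^ k) = 1 →
      s * t = t * s := by
  intro k
  induction k with
  | zero =>
    intro s _ t _ hs ht
    simp at hs ht
    rw [hs, ht]
  | succ k ih =>
    let E : Subgroup G :=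
      { carrier := {t | t ∈ (T : Subgroup G) ∧ t ^ (2 ^ k) = 1}
        mul_mem' := by
          rintro a b ⟨ha, ha'⟩ ⟨hb, hb'⟩
          refine ⟨mul_mem ha hb, ?_⟩
          rw [(show Commute a b from ih a ha b hb ha' hb').mul_pow, ha', hb', one_mul]
        one_mem' := ⟨one_mem _, one_pow _⟩
        inv_mem' := by
          rintro a ⟨ha, ha'⟩
          exact ⟨inv_mem ha, by rw [inv_pow, ha', inv_one]⟩ }
    have hEmem : ∀ x, x ∈ E ↔ x ∈ (T : Subgroup G) ∧ x ^ (2 ^ k) = 1 := fun x => Iff.rfl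
    have hET : E ≤ T := fun x hx => hx.1
    have hEcomm : ∀ a ∈ E, ∀ b ∈ E, a * b = b * a := fun a ha b hb => ih a ha.1 b hb.1 ha.2 hb.2
    have hctl : ∀ A : Subgroup G, A ≤ T → ∀ g, cj A g ≤ T →
        NGood (Subgroup.normalizer (E : Set G)) A g := by
      apply controls_of_chain T (chainR E) 1 hET rfl
      · intro i a ha g hg
        cases i with
        | zero =>
          refine (hEmem _).2 ⟨hg, ?_⟩
          have h1 : a ^ (2 ^ k) = 1 := ha.2
          have h2 : (g⁻¹ * a * g) ^ (2 ^ k) = g⁻¹ * a ^ (2 ^ k) * g := by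
            have := conj_pow (a := g⁻¹) (b := a) (i := 2 ^ k)
            rwa [inv_inv] at this
          rw [h2, h1]; group
        | succ j =>
          have h1 : a = 1 := Subgroup.mem_bot.1 ha
          rw [h1]
          apply Subgroup.mem_bot.2
          group
      · intro i
        cases i with
        | zero =>
          rw [Subgroup.commutator_le]
          intro a ha b hb
          apply Subgroup.mem_bot.2
          rw [commutatorElement_eq_one_iff_mul_comm]
          exact hEcomm a ha b hb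
        | succ j =>
          show ⁅(⊥ : Subgroup G), E⁆ ≤ _
          rw [Subgroup.commutator_bot_left]
          exact bot_le
    -- every element of `T` is conjugate under `N(E)` into the centre of `T`
    have hA : ∀ x ∈ (T : Subgroup G), ∃ m ∈ Subgroup.normalizer (E : Set G),
        m⁻¹ * x * m ∈ (T : Subgroup G) ∧
        ∀ y ∈ (T : Subgroup G), (m⁻¹ * x * m) * y = y * (m⁻¹ * x * m) := by
      intro x hx
      obtain ⟨j, hj⟩ := T.2 ⟨x, hx⟩
      have hj' : x ^ (2 ^ j) = 1 := congrArg Subtype.val hj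
      have hord : ∃ k, orderOf x = 2 ^ k := by
        obtain ⟨i, _, hi⟩ := (Nat.dvd_prime_pow Nat.prime_two).1 (orderOf_dvd_of_pow_eq_one hj')
        exact ⟨i, hi⟩
      obtain ⟨Q, hQ⟩ := hyp x hord
      have hQc : ∀ q ∈ (Q : Subgroup G), q * x = x * q := fun q hq =>
        Subgroup.mem_centralizer_singleton_iff.1 (hQ hq)
      have hxQ : x ∈ (Q : Subgroup G) := by
        apply mem_of_normalizes Q x _ j hj'
        apply mem_normalizer_iff_cj.mpr
        apply cj_eq_of_le_of_finite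
        intro y hy
        rw [mem_cj] at hy
        have h1 := hQc _ hy
        have h2 : x * y * x⁻¹ = y := by
          have h3 : x * y = x * (x * y * x⁻¹) := by
            rw [← h1]; group
          exact (mul_left_cancel h3).symm
        rwa [h2] at hy
      obtain ⟨g, hg⟩ := MulAction.exists_smul_eq G Q T
      have hQT : ∀ q ∈ (Q : Subgroup G), g * q * g⁻¹ ∈ (T : Subgroup G) := by
        intro q hq
        have h1 : MulAut.conj g • q ∈ MulAut.conj g • (Q : Subgroup G) :=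
          Subgroup.smul_mem_pointwise_smul _ _ _ hq
        rw [← Sylow.coe_subgroup_smul, hg] at h1
        exact h1
      have hg' : g⁻¹ • T = Q := by rw [← hg, inv_smul_smul]
      have hTQ : ∀ y ∈ (T : Subgroup G), g⁻¹ * y * g ∈ (Q : Subgroup G) := by
        intro y hy
        have h1 : MulAut.conj g⁻¹ • y ∈ MulAut.conj g⁻¹ • (T : Subgroup G) :=
          Subgroup.smul_mem_pointwise_smul _ _ _ hy
        rw [← Sylow.coe_subgroup_smul, hg'] at h1
        have h2 : MulAut.conj g⁻¹ • y = g⁻¹ * y * g := by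
          simp [MulAut.smul_def, MulAut.conj_apply]
        rwa [h2] at h1
      have hcj : cj (Subgroup.zpowers x) g⁻¹ ≤ T := by
        intro y hy
        rw [mem_cj, inv_inv] at hy
        obtain ⟨i, hi⟩ := Subgroup.mem_zpowers_iff.1 hy
        have h1 : y = g * x ^ i * g⁻¹ := by rw [hi]; group
        rw [h1]
        exact hQT _ (zpow_mem hxQ i)
      obtain ⟨m, hm, hme⟩ := hctl (Subgroup.zpowers x) (Subgroup.zpowers_le.2 hx) g⁻¹ hcj
      have hmx : m⁻¹ * x * m = g * x * g⁻¹ := by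
        rw [hme x (Subgroup.mem_zpowers x), inv_inv]
      refine ⟨m, hm, ?_, ?_⟩
      · rw [hmx]; exact hQT x hxQ
      · intro y hy
        rw [hmx]
        have h1 := hQc _ (hTQ y hy)
        calc g * x * g⁻¹ * y = g * (x * (g⁻¹ * y * g)) * g⁻¹ := by group
          _ = g * ((g⁻¹ * y * g) * x) * g⁻¹ := by rw [h1]
          _ = y * (g * x * g⁻¹) := by group
    have hnorm : ∀ m ∈ Subgroup.normalizer (E : Set G), ∀ e ∈ E, m⁻¹ * e * m ∈ E := by
      intro m hm e he
      have h1 := (Subgroup.mem_normalizer_iff.1 (inv_mem hm) e).1 he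
      rwa [inv_inv] at h1
    have hnorm' : ∀ m ∈ Subgroup.normalizer (E : Set G), ∀ e ∈ E, m * e * m⁻¹ ∈ E := by
      intro m hm e he
      exact (Subgroup.mem_normalizer_iff.1 hm e).1 he
    -- `E` is central in `T`
    have hEZ : ∀ x ∈ (T : Subgroup G), ∀ e ∈ E, x * e = e * x := by
      intro x hx e he
      obtain ⟨m, hm, _, hzc⟩ := hA x hx
      have h1 := hzc _ (hET (hnorm m hm e he))
      have h2 : m⁻¹ * (x * e) * m = m⁻¹ * (e * x) * m := by
        calc m⁻¹ * (x * e) * m = (m⁻¹ * x * m) * (m⁻¹ * e * m) := by group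
          _ = (m⁻¹ * e * m) * (m⁻¹ * x * m) := h1
          _ = m⁻¹ * (e * x) * m := by group
      exact mul_left_cancel (mul_right_cancel h2)
    intro s hs t ht hs' ht'
    have hsq : ∀ r ∈ (T : Subgroup G), r ^ (2 ^ (k + 1)) = 1 → r ^ 2 ∈ E := by
      intro r hr hr'
      refine (hEmem _).2 ⟨pow_mem hr 2, ?_⟩
      rw [← pow_mul, ← pow_succ' 2 k]; exact hr'
    have hs2 := hsq s hs hs'
    have ht2 := hsq t ht ht'
    obtain ⟨d, hd⟩ : ∃ d, d = s * t := ⟨_, rfl⟩
    obtain ⟨c, hc⟩ : ∃ c, c = s ^ 2 * t ^ 2 := ⟨_, rfl⟩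
    have hdT : d ∈ (T : Subgroup G) := hd ▸ mul_mem hs ht
    have hcE : c ∈ E := hc ▸ mul_mem hs2 ht2
    have hconj : s⁻¹ * d * s = d⁻¹ * c := by
      have h1 := hEZ s hs _ ht2
      rw [hd, hc]
      calc s⁻¹ * (s * t) * s = t * s := by group
        _ = t⁻¹ * (t ^ 2 * s) := by rw [pow_two]; group
        _ = t⁻¹ * (s * t ^ 2) := by rw [h1]
        _ = (s * t)⁻¹ * (s ^ 2 * t ^ 2) := by rw [pow_two s]; group
    obtain ⟨m, hm, hzT, hzc⟩ := hA d hdT
    obtain ⟨z, hz⟩ : ∃ z, z = m⁻¹ * d * m := ⟨_, rfl⟩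
    obtain ⟨c', hc'⟩ : ∃ c', c' = m⁻¹ * c * m := ⟨_, rfl⟩
    obtain ⟨s', hs1⟩ : ∃ s', s' = m⁻¹ * s * m := ⟨_, rfl⟩
    rw [← hz] at hzT hzc
    have hc'E : c' ∈ E := hc' ▸ hnorm m hm c hcE
    have hrel : s'⁻¹ * z * s' = z⁻¹ * c' := by
      rw [hs1, hz, hc']
      calc (m⁻¹ * s * m)⁻¹ * (m⁻¹ * d * m) * (m⁻¹ * s * m) = m⁻¹ * (s⁻¹ * d * s) * m := by group
        _ = m⁻¹ * (d⁻¹ * c) * m := by rw [hconj]
        _ = (m⁻¹ * d * m)⁻¹ * (m⁻¹ * c * m) := by group
    have hs'D : s' ∈ Subgroup.centralizer (E : Set G) := by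
      rw [Subgroup.mem_centralizer_iff]
      intro e he
      have h1 := hEZ s hs _ (hnorm' m hm e he)
      rw [hs1]
      calc e * (m⁻¹ * s * m) = m⁻¹ * ((m * e * m⁻¹) * s) * m := by group
        _ = m⁻¹ * (s * (m * e * m⁻¹)) * m := by rw [h1]
        _ = m⁻¹ * s * m * e := by group
    have hTD : (T : Subgroup G) ≤ Subgroup.centralizer (E : Set G) := by
      intro y hy
      rw [Subgroup.mem_centralizer_iff]
      intro e he
      exact (hEZ y hy e he).symm
    have hzc' : ∀ y ∈ (T : Subgroup G), y * (z⁻¹ * c') = (z⁻¹ * c') * y := by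
      intro y hy
      have h1 := hzc y hy
      have h2 := hEZ y hy c' hc'E
      calc y * (z⁻¹ * c') = z⁻¹ * (z * y) * z⁻¹ * c' := by group
        _ = z⁻¹ * (y * z) * z⁻¹ * c' := by rw [h1]
        _ = z⁻¹ * (y * c') := by group
        _ = z⁻¹ * (c' * y) := by rw [h2]
        _ = z⁻¹ * c' * y := by group
    obtain ⟨K, hK⟩ : ∃ K : Subgroup G, K = Subgroup.centralizer (E : Set G) ⊓
      Subgroup.centralizer ({z⁻¹ * c'} : Set G) := ⟨_, rfl⟩
    have hTK : (T : Subgroup G) ≤ K := by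
      rw [hK]
      refine le_inf hTD ?_
      intro y hy
      exact Subgroup.mem_centralizer_singleton_iff.2 (hzc' y hy)
    have hcjK : cj (T : Subgroup G) s' ≤ K := by
      intro y hy
      rw [mem_cj] at hy
      have hy' : y = s'⁻¹ * (s' * y * s'⁻¹) * s' := by group
      rw [hK]
      refine Subgroup.mem_inf.2 ⟨?_, ?_⟩
      · rw [hy']
        exact mul_mem (mul_mem (inv_mem hs'D) (hTD hy)) hs'D
      · rw [Subgroup.mem_centralizer_singleton_iff, ← hrel]
        have h1 := hzc _ hy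
        calc y * (s'⁻¹ * z * s') = s'⁻¹ * ((s' * y * s'⁻¹) * z) * s' := by group
          _ = s'⁻¹ * (z * (s' * y * s'⁻¹)) * s' := by rw [h1]
          _ = s'⁻¹ * z * s' * y := by group
    have hTi : ¬ 2 ∣ (T : Subgroup G).relIndex K := fun h =>
      T.not_dvd_index (h.trans (Subgroup.relIndex_dvd_index_of_le hTK))
    obtain ⟨w, hwK, hw⟩ := exists_cj_le_of_sylow T.2 hTi hcjK (isPGroup_cj T.2 s')
    rw [cj_cj] at hw
    obtain ⟨n, hn⟩ : ∃ n, n = s' * w := ⟨_, rfl⟩
    rw [← hn] at hw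
    have hnN : n ∈ Subgroup.normalizer ((T : Subgroup G) : Set G) :=
      mem_normalizer_iff_cj.mpr (cj_eq_of_le_of_finite hw)
    rw [hK] at hwK
    have hwD := (Subgroup.mem_inf.1 hwK).1
    have hwC := Subgroup.mem_centralizer_singleton_iff.1 (Subgroup.mem_inf.1 hwK).2
    have hnD : n ∈ Subgroup.centralizer (E : Set G) := hn ▸ mul_mem hs'D hwD
    have hnz : n⁻¹ * z * n = z⁻¹ * c' := by
      rw [hn]
      calc (s' * w)⁻¹ * z * (s' * w) = w⁻¹ * (s'⁻¹ * z * s') * w := by group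
        _ = w⁻¹ * ((z⁻¹ * c') * w) := by rw [hrel]; group
        _ = w⁻¹ * (w * (z⁻¹ * c')) := by rw [hwC]
        _ = z⁻¹ * c' := by group
    have hnc : n⁻¹ * c' * n = c' := by
      have h1 := (Subgroup.mem_centralizer_iff.1 hnD) c' hc'E
      calc n⁻¹ * c' * n = n⁻¹ * (c' * n) := by group
        _ = n⁻¹ * (n * c') := by rw [h1]
        _ = c' := by group
    have hzcc : z * c' = c' * z := hzc c' (hET hc'E)
    have hn2 : n ^ 2 ∈ Subgroup.centralizer ({z} : Set G) := by
      rw [Subgroup.mem_centralizer_singleton_iff]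
      have h1 : n⁻¹ * (n⁻¹ * z * n) * n = z := by
        rw [hnz]
        calc n⁻¹ * (z⁻¹ * c') * n = (n⁻¹ * z * n)⁻¹ * (n⁻¹ * c' * n) := by group
          _ = (z⁻¹ * c')⁻¹ * c' := by rw [hnz, hnc]
          _ = c'⁻¹ * (z * c') := by group
          _ = c'⁻¹ * (c' * z) := by rw [hzcc]
          _ = z := by group
      calc n ^ 2 * z = n * n * (n⁻¹ * (n⁻¹ * z * n) * n) := by rw [h1, pow_two]
        _ = z * n ^ 2 := by rw [pow_two]; group
    obtain ⟨a, m', hodd, ho⟩ := Nat.exists_eq_two_pow_mul_odd (orderOf_pos n).ne'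
    have hu : n ^ m' ∈ (T : Subgroup G) := by
      apply mem_of_normalizes T _ (pow_mem hnN m') a
      rw [← pow_mul, mul_comm, ← ho, pow_orderOf_eq_one]
    have hu' : n ^ m' ∈ Subgroup.centralizer ({z} : Set G) := by
      rw [Subgroup.mem_centralizer_singleton_iff]
      exact (hzc _ hu).symm
    obtain ⟨j, hj⟩ := hodd
    have hnC : n ∈ Subgroup.centralizer ({z} : Set G) := by
      have h1 : n = ((n ^ 2) ^ j)⁻¹ * n ^ m' := by
        rw [hj, pow_succ n (2 * j), pow_mul, inv_mul_cancel_left]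
      rw [h1]
      exact mul_mem (inv_mem (pow_mem hn2 j)) hu'
    have hnC' := Subgroup.mem_centralizer_singleton_iff.1 hnC
    have hzz : z * z = c' := by
      have h1 : n⁻¹ * z * n = z := by
        calc n⁻¹ * z * n = n⁻¹ * (z * n) := by group
          _ = n⁻¹ * (n * z) := by rw [hnC']
          _ = z := by group
      rw [h1] at hnz
      calc z * z = z * (z⁻¹ * c') := by rw [← hnz]
        _ = c' := by group
    have hdd : d * d = c := by
      rw [hz, hc'] at hzz
      have h2 : m⁻¹ * (d * d) * m = m⁻¹ * c * m := by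
        rw [← hzz]; group
      exact mul_left_cancel (mul_right_cancel h2)
    rw [hd, hc, pow_two, pow_two] at hdd
    have h3 : s * (t * s * t) = s * (s * t * t) := by
      calc s * (t * s * t) = s * t * (s * t) := by group
        _ = s * s * (t * t) := hdd
        _ = s * (s * t * t) := by group
    exact (mul_right_cancel (mul_left_cancel h3)).symm

/-- A finite group G has commutative Sylow 2-subgroups if and only if every 2-element of G (element of order a power of 2) is 2-central, that is, its centralizer contains a Sylow 2-subgroup of G. -/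
theorem result {G : Type*} [Group G] [Finite G] (P : Sylow 2 G) :
    IsMulCommutative (P : Subgroup G) ↔ ∀ x : G, (∃ k : ℕ, orderOf x = 2 ^ k) → (∃ Q : Sylow 2 G, (Q : Subgroup G) ≤ Subgroup.centralizer ({x} : Set G)) := by
  constructor
  · intro hcomm x hx
    obtain ⟨k, hk⟩ := hx
    have h1 : IsPGroup 2 (Subgroup.zpowers x) := by
      rintro ⟨y, hy⟩
      obtain ⟨i, rfl⟩ := Subgroup.mem_zpowers_iff.1 hy
      refine ⟨k, ?_⟩
      apply Subtype.ext
      show (x ^ i) ^ (2 ^ k) = 1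
      rw [← zpow_natCast, ← zpow_mul, mul_comm, zpow_mul, zpow_natCast, ← hk, pow_orderOf_eq_one,
        one_zpow]
    obtain ⟨Q, hQ⟩ := h1.exists_le_sylow
    refine ⟨Q, ?_⟩
    have hxQ : x ∈ (Q : Subgroup G) := hQ (Subgroup.mem_zpowers x)
    obtain ⟨g, hg⟩ := MulAction.exists_smul_eq G Q P
    have hQP : ∀ q ∈ (Q : Subgroup G), g * q * g⁻¹ ∈ (P : Subgroup G) := by
      intro q hq
      have h1 : MulAut.conj g • q ∈ MulAut.conj g • (Q : Subgroup G) :=
        Subgroup.smul_mem_pointwise_smul _ _ _ hq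
      rw [← Sylow.coe_subgroup_smul, hg] at h1
      exact h1
    intro q hq
    rw [Subgroup.mem_centralizer_singleton_iff]
    have h2 : (⟨_, hQP q hq⟩ : (P : Subgroup G)) * ⟨_, hQP x hxQ⟩ = ⟨_, hQP x hxQ⟩ * ⟨_, hQP q hq⟩ :=
      hcomm.is_comm.comm _ _
    have h3 : (g * q * g⁻¹) * (g * x * g⁻¹) = (g * x * g⁻¹) * (g * q * g⁻¹) := congrArg Subtype.val h2
    have h4 : g * (q * x) * g⁻¹ = g * (x * q) * g⁻¹ := by
      calc g * (q * x) * g⁻¹ = (g * q * g⁻¹) * (g * x * g⁻¹) := by group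
        _ = (g * x * g⁻¹) * (g * q * g⁻¹) := h3
        _ = g * (x * q) * g⁻¹ := by group
    exact mul_left_cancel (mul_right_cancel h4)
  · intro hyp
    refine ⟨⟨?_⟩⟩
    rintro ⟨s, hs⟩ ⟨t, ht⟩
    apply Subtype.ext
    obtain ⟨i, hi⟩ := P.2 ⟨s, hs⟩
    obtain ⟨j, hj⟩ := P.2 ⟨t, ht⟩
    have hi' : s ^ (2 ^ i) = 1 := congrArg Subtype.val hi
    have hj' : t ^ (2 ^ j) = 1 := congrArg Subtype.val hj
    have h1 : s ^ (2 ^ (i + j)) = 1 := by rw [pow_add, pow_mul, hi', one_pow]
    have h2 : t ^ (2 ^ (i + j)) = 1 := by rw [pow_add, mul_comm, pow_mul, hj', one_pow]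
    exact key hyp P (i + j) s hs t ht h1 h2

end Cfsg.Agent.S4194
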