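import Cfsg.Statements.S4208
import Cfsg.Agent.Lib.Helper23.Free
import Cfsg.Agent.Lib.Helper23.FrattiniP
import Cfsg.Agent.S4207

set_option autoImplicit false
open Cfsg

namespace Cfsg.Agent.S4208

theorem card_dvd_of_linear {A V : Type*} [Group A] [Finite A] [AddCommGroup V] {p r : ℕ}
    [hp : Fact p.Prime] [Module (ZMod p) V] [Finite V] (hV : Nat.card V = p ^ r)
    (L : A →* Module.End (ZMod p) V) (hinj : Function.Injective L) :
    Nat.card A ∣ ∏ i ∈ Finset.range r, (p ^ r - p ^ i) := by
  classical
  have : Fintype V := Fintype.ofFinite V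
  have hfr : Module.finrank (ZMod p) V = r := by
    have h1 := Module.card_eq_pow_finrank (K := ZMod p) (V := V)
    rw [ZMod.card, ← Nat.card_eq_fintype_card, hV] at h1
    exact (Nat.pow_right_injective hp.out.two_le h1).symm
  have hcard := card_linearIndependent (K := ZMod p) (V := V) (k := r) (le_of_eq hfr.symm)
  rw [hfr, ZMod.card, Finset.prod_fin_eq_prod_range] at hcard
  have hcard' : Nat.card { s : Fin r → V // LinearIndependent (ZMod p) s } =
      ∏ i ∈ Finset.range r, (p ^ r - p ^ i) := by
    rw [hcard]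
    apply Finset.prod_congr rfl
    intro i hi
    rw [dif_pos (Finset.mem_range.1 hi)]
  rw [← hcard']
  have hker : ∀ α : A, LinearMap.ker (L α) = ⊥ := by
    intro α
    rw [LinearMap.ker_eq_bot]
    intro v w h
    have h1 : ∀ u : V, L α⁻¹ (L α u) = u := by
      intro u
      have : L α⁻¹ * L α = 1 := by rw [← map_mul, inv_mul_cancel, map_one]
      exact DFunLike.congr_fun this u
    rw [← h1 v, ← h1 w, h]
  let inst : MulAction A { s : Fin r → V // LinearIndependent (ZMod p) s } :=
    { smul := fun α s => ⟨L α ∘ s.1, s.2.map' (L α) (hker α)⟩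
      one_smul := fun s => by
        apply Subtype.ext
        funext i
        show L 1 (s.1 i) = s.1 i
        rw [map_one]; rfl
      mul_smul := fun α β s => by
        apply Subtype.ext
        funext i
        show L (α * β) (s.1 i) = L α (L β (s.1 i))
        rw [map_mul]; rfl }
  apply Cfsg.Agent.Lib.Helper23.card_dvd_of_free
  intro α s h
  have hspan := s.2.span_eq_top_of_card_eq_finrank' (by rw [Fintype.card_fin, hfr])
  apply hinj
  rw [map_one]
  apply LinearMap.ext_on_range hspan
  intro i
  exact congrArg (fun t : { s : Fin r → V // LinearIndependent (ZMod p) s } => t.1 i) h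

theorem card_mulAut_dvd_aux {Q : Type*} [CommGroup Q] [Finite Q] {p r : ℕ} [hp : Fact p.Prime]
    [Module (ZMod p) (Additive Q)] (hQ : Nat.card Q = p ^ r) :
    Nat.card (MulAut Q) ∣ ∏ i ∈ Finset.range r, (p ^ r - p ^ i) := by
  classical
  let L : MulAut Q →* Module.End (ZMod p) (Additive Q) :=
    { toFun := fun α => AddMonoidHom.toZModLinearMap p (MonoidHom.toAdditive (α : Q →* Q))
      map_one' := rfl
      map_mul' := fun _ _ => rfl }
  apply card_dvd_of_linear (V := Additive Q) (p := p) hQ L
  intro α β h
  apply MulEquiv.ext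
  intro y
  have := DFunLike.congr_fun h (Additive.ofMul y)
  exact Additive.ofMul.injective this

theorem card_mulAut_dvd {Q : Type*} [CommGroup Q] [Finite Q] {p r : ℕ} [hp : Fact p.Prime]
    (hQ : Nat.card Q = p ^ r) (hpow : ∀ a : Q, a ^ p = 1) :
    Nat.card (MulAut Q) ∣ ∏ i ∈ Finset.range r, (p ^ r - p ^ i) := by
  let instM : Module (ZMod p) (Additive Q) := AddCommGroup.zmodModule (n := p) (fun x => by
    show Additive.ofMul (x.toMul ^ p) = 0
    rw [hpow]; rfl)
  exact card_mulAut_dvd_aux hQ

/-- Let `P` be a group of order `p^n` whose Frattini subgroup has index `p^r`. Then the order of the automorphism group of `P` divides `p^(r(n-r)) · (p^r - 1)(p^r - p) ⋯ (p^r - p^(r-1))`. -/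
theorem result {P : Type*} [Group P] [Finite P] {p n r : ℕ} [Fact p.Prime] (hP : Nat.card P = p ^ n) (hr : (frattini P).index = p ^ r) : Nat.card (MulAut P) ∣ p ^ (r * (n - r)) * ∏ i ∈ Finset.range r, (p ^ r - p ^ i) := by
  classical
  have hPp : IsPGroup p P := IsPGroup.of_card hP
  let Q := P ⧸ frattini P
  let instQ : CommGroup Q :=
    { (inferInstance : Group Q) with
      mul_comm := by
        intro a b
        obtain ⟨x, rfl⟩ := QuotientGroup.mk'_surjective _ a
        obtain ⟨y, rfl⟩ := QuotientGroup.mk'_surjective _ b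
        exact QuotientGroup.eq.2 (Cfsg.Agent.Lib.Helper23.comm_mem_frattini hPp x y) }
  have hpow : ∀ a : Q, a ^ p = 1 := by
    intro a
    obtain ⟨x, rfl⟩ := QuotientGroup.mk'_surjective _ a
    exact (QuotientGroup.eq_one_iff _).2 (Cfsg.Agent.Lib.Helper23.pow_mem_frattini hPp x)
  have hQ : Nat.card Q = p ^ r := hr
  have h1 := card_mulAut_dvd hQ hpow
  have hmap : ∀ α : MulAut P, (frattini P).map (α : P ≃* P).toMonoidHom = frattini P :=
    fun α => Subgroup.characteristic_iff_map_eq.1 inferInstance α
  let φ : MulAut P →* MulAut Q :=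
    { toFun := fun α => QuotientGroup.congr (frattini P) (frattini P) α (hmap α)
      map_one' := by
        apply MulEquiv.ext
        intro a
        obtain ⟨x, rfl⟩ := QuotientGroup.mk'_surjective _ a
        rfl
      map_mul' := by
        intro α β
        apply MulEquiv.ext
        intro a
        obtain ⟨x, rfl⟩ := QuotientGroup.mk'_surjective _ a
        rfl }
  have hφ : ∀ (α : MulAut P) (x : P), φ α (x : Q) = ((α x : P) : Q) := fun _ _ => rfl
  have h2 : Nat.card φ.ker ∣ p ^ (r * (n - r)) := by
    apply Cfsg.Agent.S4207.result hP hr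
    intro α hα x
    have h3 : φ α (x : Q) = (x : Q) := by
      rw [MonoidHom.mem_ker] at hα
      rw [hα]; rfl
    rw [hφ] at h3
    have h4 := QuotientGroup.eq.1 h3.symm
    have h5 := (inferInstance : (frattini P).Normal).conj_mem _ h4 x
    simpa [mul_assoc] using h5
  have h3 : Nat.card (MulAut P) = Nat.card φ.ker * Nat.card φ.range := by
    rw [← Subgroup.index_ker, Subgroup.card_mul_index]
  rw [h3]
  exact mul_dvd_mul h2 ((Subgroup.card_subgroup_dvd_card _).trans h1)

end Cfsg.Agent.S4208
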