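import Cfsg.Statements.S4250
import Cfsg.Agent.Lib.Helper13.Tame

set_option autoImplicit false
open Cfsg

namespace Cfsg.Agent.S4250

open Cfsg.Agent.Lib.Helper13 in
theorem chain_mem {G : Type*} [Group G] {ι : Type*} {D : ι → Subgroup G} {R : ι → G → Prop}
    (W : Subgroup G) (hstep : ∀ t x, R t x → ∀ a ∈ D t, a⁻¹ * (x⁻¹ * a * x) ∈ W)
    {A : Subgroup G} {g : G} (h : Chain D R A g) : ∀ a ∈ A, a⁻¹ * (g⁻¹ * a * g) ∈ W := by
  induction h with
  | nil A => intro a _; simp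
  | cons A t x g h1 h2 _ ih =>
    intro a ha
    have e1 := ih _ (conj_mem_cj (g := x) ha)
    have e2 := hstep t x h1 a (h2 ha)
    have : a⁻¹ * ((x * g)⁻¹ * a * (x * g)) =
        (a⁻¹ * (x⁻¹ * a * x)) * ((x⁻¹ * a * x)⁻¹ * (g⁻¹ * (x⁻¹ * a * x) * g)) := by group
    rw [this]
    exact mul_mem e2 e1

open scoped commutatorElement in
theorem comm_le_of_normalizes {G : Type*} [G1 : Group G] (A B : Subgroup G)
    (h : B ≤ Subgroup.normalizer (A : Set G)) : ⁅A, B⁆ ≤ A := by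
  rw [Subgroup.commutator_le]
  intro a ha b hb
  have h1 := (Subgroup.mem_normalizer_iff.1 (h hb) a⁻¹).1 (inv_mem ha)
  have : ⁅a, b⁆ = a * (b * a⁻¹ * b⁻¹) := by rw [commutatorElement_def]; group
  rw [this]
  exact mul_mem ha h1

/-- Let P be a Sylow p-subgroup of a finite group G. Call an intersection H = P ∩ Q with a Sylow p-subgroup Q tame when N_P(H) and N_Q(H) are Sylow p-subgroups of N_G(H). Then P ∩ G′ is generated by [P, N_G(P)] together with the commutator subgroups [P ∩ Q, ⟨x⟩] for all tame intersections P ∩ Q and all p-elements x of N_G(P ∩ Q). -/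
theorem result {G : Type*} [Group G] [Finite G] (p : ℕ) [Fact p.Prime] (P : Sylow p G) :
    (P : Subgroup G) ⊓ commutator G =
      ⁅(P : Subgroup G), Subgroup.normalizer ((P : Subgroup G) : Set G)⁆ ⊔
        ⨆ (Q : Sylow p G) (_ : (¬ p ∣ ((P : Subgroup G) ⊓ Subgroup.normalizer (((P : Subgroup G) ⊓ (Q : Subgroup G) : Subgroup G) : Set G)).relIndex (Subgroup.normalizer (((P : Subgroup G) ⊓ (Q : Subgroup G) : Subgroup G) : Set G)) ∧ ¬ p ∣ ((Q : Subgroup G) ⊓ Subgroup.normalizer (((P : Subgroup G) ⊓ (Q : Subgroup G) : Subgroup G) : Set G)).relIndex (Subgroup.normalizer (((P : Subgroup G) ⊓ (Q : Subgroup G) : Subgroup G) : Set G))))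
          (x : G) (_ : x ∈ Subgroup.normalizer (((P : Subgroup G) ⊓ (Q : Subgroup G) : Subgroup G) : Set G) ∧ ∃ k : ℕ, orderOf x = p ^ k),
          ⁅(P : Subgroup G) ⊓ (Q : Subgroup G), Subgroup.zpowers x⁆ := by
  open scoped commutatorElement in
  open Cfsg.Agent.Lib.Helper13 in
  set W := ⁅(P : Subgroup G), Subgroup.normalizer ((P : Subgroup G) : Set G)⁆ ⊔
        ⨆ (Q : Sylow p G) (_ : (¬ p ∣ ((P : Subgroup G) ⊓ Subgroup.normalizer (((P : Subgroup G) ⊓ (Q : Subgroup G) : Subgroup G) : Set G)).relIndex (Subgroup.normalizer (((P : Subgroup G) ⊓ (Q : Subgroup G) : Subgroup G) : Set G)) ∧ ¬ p ∣ ((Q : Subgroup G) ⊓ Subgroup.normalizer (((P : Subgroup G) ⊓ (Q : Subgroup G) : Subgroup G) : Set G)).relIndex (Subgroup.normalizer (((P : Subgroup G) ⊓ (Q : Subgroup G) : Subgroup G) : Set G))))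
          (x : G) (_ : x ∈ Subgroup.normalizer (((P : Subgroup G) ⊓ (Q : Subgroup G) : Subgroup G) : Set G) ∧ ∃ k : ℕ, orderOf x = p ^ k),
          ⁅(P : Subgroup G) ⊓ (Q : Subgroup G), Subgroup.zpowers x⁆ with hW
  rw [inf_comm, Subgroup.commutator_inf_eq_focalSubgroup]
  apply le_antisymm
  · rw [Subgroup.focalSubgroup_def, Subgroup.closure_le]
    rintro g ⟨hgP, x, hx, u, rfl⟩
    have hx' : x⁻¹ ∈ (P : Subgroup G) := inv_mem hx
    have hy : (u⁻¹)⁻¹ * x⁻¹ * u⁻¹ ∈ (P : Subgroup G) := by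
      have : (u⁻¹)⁻¹ * x⁻¹ * u⁻¹ = x⁻¹ * ⁅x, u⁆ := by
        simp [commutatorElement_def, mul_assoc]
      rw [this]; exact mul_mem hx' hgP
    have hch := alperin_tame P (Subgroup.zpowers x⁻¹) (by rwa [Subgroup.zpowers_le]) u⁻¹ (by
        rw [cj_le_iff, Subgroup.zpowers_le, mem_cj, inv_inv (u⁻¹)]; exact hy)
    have := chain_mem W ?_ hch x⁻¹ (Subgroup.mem_zpowers _)
    · have e : ⁅x, u⁆ = (x⁻¹)⁻¹ * ((u⁻¹)⁻¹ * x⁻¹ * u⁻¹) := by
        rw [commutatorElement_def]; group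
      rw [SetLike.mem_coe, e]
      exact this
    · intro Q y hy a ha
      have e : a⁻¹ * (y⁻¹ * a * y) = ⁅a⁻¹, y⁻¹⁆ := by
        rw [commutatorElement_def]; group
      rw [e]
      obtain ⟨h1, h2, h3, h4⟩ := hy
      rcases h4 with h4 | h4
      · apply (le_sup_left : _ ≤ W)
        rw [h4, inf_idem] at h1 ha
        exact Subgroup.commutator_mem_commutator (inv_mem ha) (inv_mem h1)
      · apply (le_sup_right : _ ≤ W)
        have hmem : ⁅a⁻¹, y⁻¹⁆ ∈ ⁅(P : Subgroup G) ⊓ (Q : Subgroup G), Subgroup.zpowers y⁆ :=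
          Subgroup.commutator_mem_commutator (inv_mem ha) (inv_mem (Subgroup.mem_zpowers y))
        exact Subgroup.mem_iSup_of_mem Q (Subgroup.mem_iSup_of_mem ⟨h2, h3⟩
          (Subgroup.mem_iSup_of_mem y (Subgroup.mem_iSup_of_mem ⟨h1, h4⟩ hmem)))
  · rw [← Subgroup.commutator_inf_eq_focalSubgroup]
    apply le_inf
    · apply sup_le
      · exact Subgroup.commutator_mono le_top le_top
      · refine iSup_le fun Q => iSup_le fun _ => iSup_le fun x => iSup_le fun _ => ?_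
        exact Subgroup.commutator_mono le_top le_top
    · apply sup_le
      · exact comm_le_of_normalizes _ _ le_rfl
      · refine iSup_le fun Q => iSup_le fun _ => iSup_le fun x => iSup_le fun hx => ?_
        refine (comm_le_of_normalizes _ _ ?_).trans inf_le_left
        rw [Subgroup.zpowers_le]
        exact hx.1

end Cfsg.Agent.S4250
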