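import Cfsg.Statements.S4216
import Cfsg.Agent.S4250

set_option autoImplicit false
open Cfsg

namespace Cfsg.Agent.S4216

open scoped commutatorElement

theorem comm_le_of_le_normalizer {G : Type*} [Group G] (D H : Subgroup G)
    (h : H ≤ Subgroup.normalizer (D : Set G)) : ⁅D, H⁆ ≤ D := by
  rw [Subgroup.commutator_le]
  intro g₁ h₁ g₂ h₂
  have h3 : g₂ * g₁⁻¹ * g₂⁻¹ ∈ D := (Subgroup.mem_normalizer_iff.1 (h h₂) g₁⁻¹).1 (inv_mem h₁)
  have e : ⁅g₁, g₂⁆ = g₁ * (g₂ * g₁⁻¹ * g₂⁻¹) := by
    rw [commutatorElement_def]; group
  rw [e]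
  exact mul_mem h₁ h3

/-- Grün's first Theorem: if `P` is a Sylow `p`-subgroup of the finite group `G`, then `P ∩ G'` is the subgroup generated by `P ∩ N_G(P)'` together with the subgroups `P ∩ z P' z⁻¹` for all `z ∈ G`, where `'` denotes the derived subgroup and `N_G(P)` the normalizer of `P`. -/
theorem result {G : Type*} [Group G] [Finite G] {p : ℕ} [Fact p.Prime] (P : Sylow p G) : (P : Subgroup G) ⊓ commutator G = ((P : Subgroup G) ⊓ ⁅Subgroup.normalizer ((P : Subgroup G) : Set G), Subgroup.normalizer ((P : Subgroup G) : Set G)⁆) ⊔ ⨆ z : G, (P : Subgroup G) ⊓ (⁅(P : Subgroup G), (P : Subgroup G)⁆).map (MulAut.conj z).toMonoidHom := by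
  apply le_antisymm
  · rw [Cfsg.Agent.S4250.result p P]
    apply sup_le
    · apply le_sup_of_le_left
      apply le_inf
      · exact comm_le_of_le_normalizer _ _ le_rfl
      · exact Subgroup.commutator_mono Subgroup.le_normalizer le_rfl
    · apply le_sup_of_le_right
      apply iSup_le
      intro Q
      apply iSup_le
      intro _
      apply iSup_le
      intro x
      apply iSup_le
      rintro ⟨hx, k, hk⟩
      have hD : IsPGroup p ((P : Subgroup G) ⊓ (Q : Subgroup G) : Subgroup G) :=
        P.2.to_le inf_le_left
      have hxp : IsPGroup p (Subgroup.zpowers x) := by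
        apply IsPGroup.of_card (n := k)
        rw [Nat.card_zpowers, hk]
      have hxN : Subgroup.zpowers x ≤
          Subgroup.normalizer (((P : Subgroup G) ⊓ (Q : Subgroup G) : Subgroup G) : Set G) := by
        rwa [Subgroup.zpowers_le]
      have hsup := IsPGroup.to_sup_of_normal_right' hxp hD hxN
      obtain ⟨S, hS⟩ := hsup.exists_le_sylow
      obtain ⟨z, hz⟩ := MulAction.exists_smul_eq G P S
      apply le_iSup_of_le z
      apply le_inf
      · exact (comm_le_of_le_normalizer _ _ hxN).trans inf_le_left
      · rw [Subgroup.map_commutator]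
        have hS' : (S : Subgroup G) = (P : Subgroup G).map (MulAut.conj z).toMonoidHom := by
          rw [← hz]; rfl
        rw [← hS']
        exact Subgroup.commutator_mono (le_sup_right.trans hS) (le_sup_left.trans hS)
  · apply sup_le
    · apply inf_le_inf_left
      rw [commutator_def]
      exact Subgroup.commutator_mono le_top le_top
    · apply iSup_le
      intro z
      apply inf_le_inf_left
      rw [commutator_def, Subgroup.map_commutator]
      exact Subgroup.commutator_mono le_top le_top

end Cfsg.Agent.S4216
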