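import Cfsg.Statements.S4236
import Mathlib
import Cfsg.Agent.Lib.Helper21.SylowNum

set_option autoImplicit false
open Cfsg
open Cfsg.Agent.Lib.Helper21

namespace Cfsg.Agent.S4236

/-- No finite group has exactly 35 Sylow 17-subgroups. -/
theorem result {G : Type*} [Group G] [Finite G] : Nat.card (Sylow 17 G) ≠ 35 := by
  intro hn
  haveI : Fact (Nat.Prime 17) := ⟨by norm_num⟩
  obtain ⟨S, _, _, hS, hnS, hP⟩ := exists_simple_of_sylow_num (G := G) 17 35 hn
    (by
      intro m hm h7
      have hle : m ≤ 35 := Nat.le_of_dvd (by norm_num) hm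
      interval_cases m <;> omega)
    (by norm_num)
    (not_isPrimePow_of_two_primes (a := 5) (b := 7) (by norm_num) (by norm_num) (by norm_num)
      (by norm_num) (by norm_num))
    (by norm_num)
  obtain ⟨P⟩ : Nonempty (Sylow 17 S) := inferInstance
  obtain ⟨e, he, hc⟩ := sn_card (p := 17) (by rw [hnS]) (by norm_num) P (hP P)
  have h17 : 17 ∣ Nat.card S := ⟨(1 + 2 * 17) * e, by rw [hc]; ring⟩
  haveI : Fact (Nat.Prime 2) := ⟨by norm_num⟩
  haveI : Fact (Nat.Prime 5) := ⟨by norm_num⟩
  by_cases h2 : 2 ∣ Nat.card S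
  · obtain ⟨R, hR⟩ := sn_cyclic (p := 17) (by rw [hnS]) (by norm_num) P (hP P) 2 (by norm_num)
      (by norm_num)
    have hmin : (Nat.card S).minFac = 2 := (Nat.minFac_eq_two_iff _).mpr h2
    exact sn_kill (p := 17) R h2 (by norm_num) h17 (IsCyclic.normalizer_le_centralizer hmin hR)
  · have hele : e ≤ 16 := Nat.le_of_dvd (by norm_num) he
    have he1 : e = 1 := by
      interval_cases e <;> first | rfl | omega
    subst he1
    exact sn_kill' (G := S) (p := 17) 5 (by rw [hc]; norm_num) (by rw [hc]; norm_num)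
      (by rw [hc]; norm_num) (by norm_num) h17

end Cfsg.Agent.S4236
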