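import Cfsg.Statements.S4245
import Cfsg.Agent.Lib.Helper9.Kaz

set_option autoImplicit false
open Cfsg

namespace Cfsg.Agent.S4245

open Cfsg.Agent.Lib.Helper9.Kaz

universe u

/-- relative index of `⟨b⟩` in `⟨a⟩⟨b⟩`. -/
theorem relIndex_aux {G : Type u} [Group G] [Finite G] (a b : G) (r : ℕ)
    (hN : Subgroup.zpowers a ≤ Subgroup.normalizer (Subgroup.zpowers b : Set G))
    (hpow : a ^ 2 ^ r ∈ Subgroup.zpowers b) :
    ∃ j, (Subgroup.zpowers b).relIndex (Subgroup.zpowers a ⊔ Subgroup.zpowers b) = 2 ^ j ∧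
      2 ^ j ∣ orderOf a := by
  have h1 : (Subgroup.zpowers b).relIndex (Subgroup.zpowers a ⊔ Subgroup.zpowers b) =
      (Subgroup.zpowers b).relIndex (Subgroup.zpowers a) := by
    letI := Subgroup.normal_subgroupOf_of_le_normalizer hN
    letI := Subgroup.normal_subgroupOf_sup_of_le_normalizer hN
    exact Nat.card_congr
      (QuotientGroup.quotientInfEquivProdNormalizerQuotient _ _ hN).toEquiv.symm
  rw [h1]
  haveI hnorm : ((Subgroup.zpowers b).subgroupOf (Subgroup.zpowers a)).Normal :=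
    Subgroup.normal_subgroupOf_of_le_normalizer hN
  set K := Subgroup.zpowers a with hK
  set a' : K := ⟨a, Subgroup.mem_zpowers a⟩ with ha'
  have hgen : ∀ x : K ⧸ (Subgroup.zpowers b).subgroupOf K,
      x ∈ Subgroup.zpowers (QuotientGroup.mk a' : K ⧸ (Subgroup.zpowers b).subgroupOf K) := by
    intro x
    obtain ⟨y, rfl⟩ := QuotientGroup.mk_surjective x
    obtain ⟨k, hk⟩ := Subgroup.mem_zpowers_iff.1 y.2
    refine Subgroup.mem_zpowers_iff.2 ⟨k, ?_⟩
    rw [← QuotientGroup.mk_zpow]
    congr 1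
    exact Subtype.ext hk
  have hcard := orderOf_eq_card_of_forall_mem_zpowers hgen
  have hdvd : orderOf (QuotientGroup.mk a' : K ⧸ (Subgroup.zpowers b).subgroupOf K) ∣ 2 ^ r := by
    apply orderOf_dvd_of_pow_eq_one
    rw [← QuotientGroup.mk_pow, QuotientGroup.eq_one_iff, Subgroup.mem_subgroupOf]
    exact hpow
  obtain ⟨j, -, hj⟩ := (Nat.dvd_prime_pow Nat.prime_two).1 hdvd
  refine ⟨j, ?_, ?_⟩
  · rw [Subgroup.relIndex, Subgroup.index_eq_card, ← hcard, hj]
  · have h2 : (Subgroup.zpowers b).relIndex K ∣ Nat.card K := Subgroup.relIndex_dvd_card _ _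
    rw [Subgroup.relIndex, Subgroup.index_eq_card, ← hcard, hj, hK, Nat.card_zpowers] at h2
    exact h2

theorem zpowers_comm {G : Type u} [Group G] (b : G) :
    ∀ x ∈ Subgroup.zpowers b, ∀ y ∈ Subgroup.zpowers b, x * y = y * x := by
  intro x hx y hy
  obtain ⟨i, rfl⟩ := Subgroup.mem_zpowers_iff.1 hx
  obtain ⟨k, rfl⟩ := Subgroup.mem_zpowers_iff.1 hy
  rw [← zpow_add, ← zpow_add, add_comm]

/-- odd order of `b`, odd `p`. -/
theorem odd_case {G : Type u} [Group G] [Finite G] {p : ℕ} (hp : p.Prime) (hp2 : p ≠ 2)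
    (a b : G) (s r : ℕ)
    (hN : Subgroup.zpowers a ≤ Subgroup.normalizer (Subgroup.zpowers b : Set G))
    (hidx : (Subgroup.zpowers a ⊔ Subgroup.zpowers b).index ∣ p ^ s)
    (hpow : a ^ 2 ^ r ∈ Subgroup.zpowers b) (hodd : Odd (orderOf b)) : Group.IsSolvable G := by
  haveI : Fact (Nat.Prime 2) := ⟨Nat.prime_two⟩
  obtain ⟨j, hj, hja⟩ := relIndex_aux a b r hN hpow
  obtain ⟨s', -, hs'⟩ := (Nat.dvd_prime_pow hp).1 hidx
  have hHidx : (Subgroup.zpowers b).index = 2 ^ j * p ^ s' := by
    rw [← Subgroup.relIndex_mul_index (le_sup_right : Subgroup.zpowers b ≤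
      Subgroup.zpowers a ⊔ Subgroup.zpowers b), hj, hs']
  have hcardG : Nat.card G = orderOf b * (2 ^ j * p ^ s') := by
    rw [← Subgroup.card_mul_index (Subgroup.zpowers b), hHidx, Nat.card_zpowers]
  have hpodd : Odd p := hp.odd_of_ne_two hp2
  have hmodd : Odd (orderOf b * p ^ s') := hodd.mul hpodd.pow
  -- the cyclic Sylow 2-subgroup
  set t := a ^ (orderOf a / 2 ^ j) with ht
  have hot : orderOf t = 2 ^ j := orderOf_pow_orderOf_div (orderOf_pos a).ne' hja
  have hTp : IsPGroup 2 (Subgroup.zpowers t) := IsPGroup.of_card (n := j) (by rw [Nat.card_zpowers, hot])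
  obtain ⟨S, hTS⟩ := hTp.exists_le_sylow
  have hScard : Nat.card S ∣ 2 ^ j := by
    obtain ⟨e, he⟩ := IsPGroup.iff_card.mp S.isPGroup'
    have h1 : Nat.card S ∣ Nat.card G := Subgroup.card_subgroup_dvd_card _
    rw [hcardG, show orderOf b * (2 ^ j * p ^ s') = 2 ^ j * (orderOf b * p ^ s') by ring] at h1
    refine Nat.Coprime.dvd_of_dvd_mul_right ?_ h1
    rw [he]
    exact Nat.Coprime.pow_left _ (Nat.coprime_two_left.2 hmodd)
  have hTS' : Subgroup.zpowers t = (S : Subgroup G) := by
    apply Subgroup.eq_of_le_of_card_ge hTS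
    rw [Nat.card_zpowers, hot]
    exact Nat.le_of_dvd (by positivity) hScard
  have hScyc : IsCyclic (S : Subgroup G) := by rw [← hTS']; infer_instance
  have hSc : Nat.card (S : Subgroup G) = 2 ^ j := by rw [← hTS', Nat.card_zpowers, hot]
  -- normal complement
  obtain ⟨K, hKn, hKidx⟩ : ∃ K : Subgroup G, K.Normal ∧ K.index = 2 ^ j := by
    by_cases h2 : 2 ∣ Nat.card G
    · have hmin : (Nat.card G).minFac = 2 := (Nat.minFac_eq_two_iff _).2 h2
      have hc := IsCyclic.isComplement' hmin hScyc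
      exact ⟨(MonoidHom.transferSylow S (hScyc.normalizer_le_centralizer hmin)).ker, inferInstance,
        by rw [hc.symm.index_eq_card, hSc]⟩
    · refine ⟨⊤, inferInstance, ?_⟩
      rw [Subgroup.index_top]
      rcases Nat.eq_zero_or_pos j with h0 | h0
      · rw [h0, pow_zero]
      · exfalso; apply h2
        rw [hcardG]
        exact Dvd.dvd.mul_left (Dvd.dvd.mul_right (dvd_pow_self 2 h0.ne') _) _
  haveI := hKn
  have hbK : b ∈ K := by
    obtain ⟨m, hm⟩ := exists_pow_eq_self_of_coprime (x := b) (n := 2 ^ j)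
      (Nat.Coprime.pow_left _ (Nat.coprime_two_left.2 hodd))
    rw [← hm]
    apply K.pow_mem
    rw [← hKidx]
    exact Subgroup.pow_index_mem K b
  have hHK : Subgroup.zpowers b ≤ K := by rwa [Subgroup.zpowers_le]
  have hrel : (Subgroup.zpowers b).relIndex K = p ^ s' := by
    have h1 := Subgroup.relIndex_mul_index hHK
    rw [hKidx, hHidx, mul_comm] at h1
    exact Nat.eq_of_mul_eq_mul_left (by positivity) h1
  have hKs : Group.IsSolvable K := by
    apply solvable_of_abelian_index hp s' ((Subgroup.zpowers b).subgroupOf K)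
    · intro x hx y hy
      apply Subtype.ext
      exact zpowers_comm b x hx y hy
    · rw [← Subgroup.relIndex, hrel]
  have hQs : Group.IsSolvable (G ⧸ K) := by
    apply solvable_of_card_prime_pow Nat.prime_two (s := j)
    rw [← Subgroup.index_eq_card, hKidx]
  exact (Group.isSolvable_iff_subgroup_quotient K).2 ⟨hKs, hQs⟩

theorem key {p : ℕ} (hp : p.Prime) (hp2 : p ≠ 2) (s r : ℕ) :
    ∀ (n : ℕ) (G : Type u) [Group G] [Finite G], Nat.card G = n → ∀ (a b : G),
    Subgroup.zpowers a ≤ Subgroup.normalizer (Subgroup.zpowers b : Set G) →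
    (Subgroup.zpowers a ⊔ Subgroup.zpowers b).index ∣ p ^ s →
    a ^ 2 ^ r ∈ Subgroup.zpowers b → Group.IsSolvable G := by
  intro n
  induction n using Nat.strong_induction_on with
  | _ n ih =>
  intro G _ _ hn a b hN hidx hpow
  rcases Nat.even_or_odd (orderOf b) with heven | hodd
  · -- the involution of ⟨b⟩ is central in A
    have h2 : 2 ∣ orderOf b := even_iff_two_dvd.1 heven
    set z := b ^ (orderOf b / 2) with hz
    have hoz : orderOf z = 2 := orderOf_pow_orderOf_div (orderOf_pos b).ne' h2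
    have hz1 : z ≠ 1 := by
      intro h; rw [h, orderOf_one] at hoz; omega
    have hz2 : z ^ 2 = 1 := by rw [← hoz]; exact pow_orderOf_eq_one z
    have haN : a ∈ Subgroup.normalizer (Subgroup.zpowers b : Set G) := hN (Subgroup.mem_zpowers a)
    have hab : a * b * a⁻¹ ∈ Subgroup.zpowers b :=
      (Subgroup.mem_normalizer_iff.1 haN b).1 (Subgroup.mem_zpowers b)
    obtain ⟨k, hk⟩ := Subgroup.mem_zpowers_iff.1 hab
    have hconj : a * z * a⁻¹ = z ^ k := by
      rw [hz, ← conj_pow, ← hk, ← zpow_natCast, ← zpow_natCast, ← zpow_mul, ← zpow_mul, mul_comm]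
    have haz : a * z * a⁻¹ = z := by
      rcases Int.even_or_odd k with ⟨m, hm⟩ | ⟨m, hm⟩
      · exfalso
        apply hz1
        have : z ^ k = 1 := by
          rw [hm, ← two_mul, zpow_mul, zpow_ofNat, hz2, one_zpow]
        rw [this] at hconj
        have h3 : a * z = a := by
          have := congrArg (· * a) hconj
          simpa using this
        simpa using h3
      · rw [hconj, hm, zpow_add, zpow_mul, zpow_ofNat, hz2, one_zpow, one_mul, zpow_one]
    have hle : Subgroup.zpowers a ⊔ Subgroup.zpowers b ≤ Subgroup.centralizer ({z} : Set G) := by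
      apply sup_le
      · rw [Subgroup.zpowers_le, Subgroup.mem_centralizer_singleton_iff]
        have := congrArg (· * a) haz
        simpa using this
      · rw [Subgroup.zpowers_le, Subgroup.mem_centralizer_singleton_iff, hz, ← pow_succ',
          ← pow_succ]
    apply solvable_step hp z ((Subgroup.index_dvd_of_le hle).trans hidx)
    have hlt := card_quotient_lt _ (normalClosure_ne_bot z hz1)
    rw [hn] at hlt
    set π := QuotientGroup.mk' (Subgroup.normalClosure ({z} : Set G)) with hπ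
    refine ih _ hlt _ rfl (π a) (π b) ?_ ?_ ?_
    · rw [← MonoidHom.map_zpowers, ← MonoidHom.map_zpowers]
      exact (Subgroup.map_mono hN).trans (Subgroup.le_normalizer_map π)
    · rw [← MonoidHom.map_zpowers, ← MonoidHom.map_zpowers, ← Subgroup.map_sup]
      exact (Subgroup.index_map_dvd _ (QuotientGroup.mk'_surjective _)).trans hidx
    · rw [← map_pow, ← MonoidHom.map_zpowers]
      exact Subgroup.mem_map_of_mem π hpow
  · exact odd_case hp hp2 a b s r hN hidx hpow hodd


/-- Let G be a finite group with a subgroup A of prime-power index. Suppose A has a normal cyclic subgroup B such that A/B is cyclic of order a power of 2. Then G is solvable. -/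
theorem result {G : Type*} [Group G] [Finite G] (A : Subgroup G) (p s : ℕ) (hp : p.Prime) (hA : A.index = p ^ s)
    (B : Subgroup A) [B.Normal] (hB : IsCyclic B) (hAB : IsCyclic (A ⧸ B)) (r : ℕ) (hr : Nat.card (A ⧸ B) = 2 ^ r) :
    Group.IsSolvable G := by
  classical
  obtain ⟨β, hβ⟩ := hB.exists_generator
  obtain ⟨αb, hαb⟩ := hAB.exists_generator
  obtain ⟨α, rfl⟩ := QuotientGroup.mk_surjective αb
  set a : G := (α : G) with ha
  set b : G := ((β : A) : G) with hb
  have hBmap : B.map A.subtype = Subgroup.zpowers b := by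
    apply le_antisymm
    · rintro _ ⟨y, hy, rfl⟩
      obtain ⟨k, hk⟩ := Subgroup.mem_zpowers_iff.1 (hβ ⟨y, hy⟩)
      refine Subgroup.mem_zpowers_iff.2 ⟨k, ?_⟩
      have := congrArg (fun w : B => ((w : A) : G)) hk
      simpa using this
    · rw [Subgroup.zpowers_le]
      exact ⟨(β : A), β.2, rfl⟩
  have hN : Subgroup.zpowers a ≤ Subgroup.normalizer (Subgroup.zpowers b : Set G) := by
    rw [Subgroup.zpowers_le, ← hBmap, Subgroup.mem_normalizer_iff]
    intro h
    constructor
    · rintro ⟨y, hy, rfl⟩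
      exact ⟨α * y * α⁻¹, ‹B.Normal›.conj_mem y hy α, by simp [ha]⟩
    · rintro ⟨y, hy, hyh⟩
      refine ⟨α⁻¹ * y * α, by simpa using ‹B.Normal›.conj_mem y hy α⁻¹, ?_⟩
      simp only [Subgroup.coe_subtype, Subgroup.coe_mul, Subgroup.coe_inv] at hyh ⊢
      rw [hyh, ha]; group
  have hAeq : Subgroup.zpowers a ⊔ Subgroup.zpowers b = A := by
    apply le_antisymm
    · apply sup_le
      · rw [Subgroup.zpowers_le]; exact α.2
      · rw [Subgroup.zpowers_le]; exact (β : A).2
    · intro g hg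
      obtain ⟨i, hi⟩ := Subgroup.mem_zpowers_iff.1 (hαb (QuotientGroup.mk ⟨g, hg⟩))
      rw [← QuotientGroup.mk_zpow, QuotientGroup.eq] at hi
      have h1 : ((α ^ i)⁻¹ * ⟨g, hg⟩ : A).1 ∈ Subgroup.zpowers b := by
        rw [← hBmap]; exact ⟨_, hi, rfl⟩
      have h2 : g = a ^ i * ((α ^ i)⁻¹ * ⟨g, hg⟩ : A).1 := by
        simp [ha]
      rw [h2]
      exact Subgroup.mul_mem _ (Subgroup.mem_sup_left (Subgroup.zpow_mem _ (Subgroup.mem_zpowers a) i))
        (Subgroup.mem_sup_right h1)
  have hpow : a ^ 2 ^ r ∈ Subgroup.zpowers b := by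
    have h1 : (QuotientGroup.mk α : A ⧸ B) ^ 2 ^ r = 1 := by
      rw [← hr]; exact pow_card_eq_one'
    rw [← QuotientGroup.mk_pow, QuotientGroup.eq_one_iff] at h1
    rw [← hBmap]
    exact ⟨_, h1, by simp [ha]⟩
  by_cases hp2 : p = 2
  · subst hp2
    obtain ⟨j, hj, -⟩ := relIndex_aux a b r hN hpow
    apply solvable_of_abelian_index Nat.prime_two (j + s) (Subgroup.zpowers b) (zpowers_comm b)
    rw [← Subgroup.relIndex_mul_index (le_sup_right : Subgroup.zpowers b ≤
      Subgroup.zpowers a ⊔ Subgroup.zpowers b), hj, hAeq, hA, pow_add]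
  · exact key hp hp2 s r _ G rfl a b hN (by rw [hAeq, hA]) hpow

end Cfsg.Agent.S4245
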