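import Cfsg.Statements.S4249
import Mathlib
import Cfsg.Agent.Lib.Helper15.Kegel2
import Cfsg.Agent.Lib.Helper10.Fitting

set_option autoImplicit false
open Cfsg

namespace Cfsg.Agent.S4249

open Cfsg.Agent.Lib.Helper15
open scoped IsMulCommutative

/-- Let G be a finite group and p a prime such that G is not a p-group, and suppose the Hughes subgroup H_p(G), generated by all elements g with g^p ≠ 1, is a proper subgroup. Then H_p(G) is nilpotent and has index p in G. -/
theorem result {G : Type*} [Group G] [Finite G] (p : ℕ) (hp : p.Prime) (hG : ¬ IsPGroup p G)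
    (hH : Subgroup.closure {g : G | g ^ p ≠ 1} ≠ ⊤) :
    Group.IsNilpotent (Subgroup.closure {g : G | g ^ p ≠ 1}) ∧ (Subgroup.closure {g : G | g ^ p ≠ 1}).index = p := by
  obtain ⟨H, hHdef⟩ : ∃ H : Subgroup G, H = Subgroup.closure {g : G | g ^ p ≠ 1} := ⟨_, rfl⟩
  rw [← hHdef] at hH ⊢
  have := Fact.mk hp
  have hout : ∀ g : G, g ∉ H → g ^ p = 1 := by
    intro g hg
    by_contra h
    exact hg (hHdef ▸ Subgroup.subset_closure h)
  have hHn : H.Normal := by
    constructor
    intro n hn g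
    rw [hHdef] at hn ⊢
    refine Subgroup.closure_induction
      (p := fun x _ => g * x * g⁻¹ ∈ Subgroup.closure {g : G | g ^ p ≠ 1}) ?_ ?_ ?_ ?_ hn
    · intro x hx
      apply Subgroup.subset_closure
      intro h
      apply hx
      rw [conj_pow] at h
      have : x ^ p = g⁻¹ * (g * x ^ p * g⁻¹) * g := by group
      rw [this, h]; group
    · simp
    · intro x y _ _ h1 h2
      have : g * (x * y) * g⁻¹ = (g * x * g⁻¹) * (g * y * g⁻¹) := by group
      rw [this]; exact Subgroup.mul_mem _ h1 h2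
    · intro x _ h1
      have : g * x⁻¹ * g⁻¹ = (g * x * g⁻¹)⁻¹ := by group
      rw [this]; exact Subgroup.inv_mem _ h1
  obtain ⟨x, hx⟩ : ∃ x : G, x ∉ H := by
    by_contra h
    push Not at h
    exact hH (eq_top_iff.mpr fun g _ => h g)
  have hnil : Group.IsNilpotent H := by
    apply kegel_splitting p hp H x (by rw [Subgroup.normalizer_eq_top]; trivial)
    intro k hk
    apply hout
    intro h
    exact hx (by simpa using H.mul_mem (H.inv_mem hk) h)
  refine ⟨hnil, ?_⟩
  have hQp : ∀ y : G ⧸ H, y ^ p = 1 := by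
    intro y
    obtain ⟨g, rfl⟩ := QuotientGroup.mk_surjective y
    by_cases hg : g ∈ H
    · rw [(QuotientGroup.eq_one_iff g).mpr hg, one_pow]
    · rw [← QuotientGroup.mk_pow, hout g hg, QuotientGroup.mk_one]
  have hQ : IsPGroup p (G ⧸ H) := fun y => ⟨1, by rw [pow_one]; exact hQp y⟩
  obtain ⟨k, hk⟩ := IsPGroup.iff_card.mp hQ
  obtain ⟨r, hr, hrp, hrG⟩ : ∃ r : ℕ, r.Prime ∧ r ≠ p ∧ r ∣ Nat.card G := by
    by_contra h
    push Not at h
    apply hG
    apply IsPGroup.of_card (n := (Nat.card G).primeFactorsList.length)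
    apply Nat.eq_prime_pow_of_unique_prime_dvd Nat.card_pos.ne'
    intro d hd hdG
    by_contra hdp
    exact h d hd hdp hdG
  have := Fact.mk hr
  have hrH : r ∣ Nat.card H := by
    have h1 : Nat.card G = Nat.card (G ⧸ H) * Nat.card H :=
      Subgroup.card_eq_card_quotient_mul_card_subgroup H
    rw [h1, hk] at hrG
    rcases (Nat.Prime.dvd_mul hr).mp hrG with h | h
    · exact absurd ((Nat.prime_dvd_prime_iff_eq hr hp).mp (hr.dvd_of_dvd_pow h)) hrp
    · exact h
  obtain ⟨R⟩ : Nonempty (Sylow r H) := inferInstance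
  have hRn : (R : Subgroup H).Normal :=
    ((Group.isNilpotent_of_finite_tfae (G := H)).out 0 3 rfl rfl).mp hnil r inferInstance R
  have hRne : (R : Subgroup H) ≠ ⊥ := R.ne_bot_of_dvd_card hrH
  have hRc := Sylow.characteristic_of_normal R hRn
  have hV₀ : (R : Subgroup H) ⊓ Subgroup.center H ≠ ⊥ :=
    Cfsg.Agent.Lib.Helper10.normal_inf_center_ne_bot _ hRn hRne
  obtain ⟨V, hVdef⟩ : ∃ V : Subgroup G,
      V = (R : Subgroup H).map H.subtype ⊓ (Subgroup.center H).map H.subtype := ⟨_, rfl⟩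
  have hVn : V.Normal := by
    have h1 : ((R : Subgroup H).map H.subtype).Normal := ConjAct.normal_of_characteristic_of_normal
    have h2 : ((Subgroup.center H).map H.subtype).Normal :=
      ConjAct.normal_of_characteristic_of_normal
    rw [hVdef]; infer_instance
  have hVcent : ∀ v ∈ V, ∀ h ∈ H, h * v = v * h := by
    intro v hv h hh
    rw [hVdef] at hv
    obtain ⟨c, hc, rfl⟩ := (Subgroup.mem_inf.mp hv).2
    have := Subgroup.mem_center_iff.mp hc ⟨h, hh⟩
    exact congrArg Subtype.val this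
  have hVH : V ≤ H := by
    rw [hVdef]; exact inf_le_left.trans (Subgroup.map_subtype_le _)
  have hVr : ∀ v ∈ V, v ^ p = 1 → v = 1 := by
    intro v hv hvp
    rw [hVdef] at hv
    obtain ⟨c, hc, rfl⟩ := (Subgroup.mem_inf.mp hv).1
    obtain ⟨j, hj⟩ := (IsPGroup.iff_orderOf.mp R.2) ⟨c, hc⟩
    rw [Subgroup.orderOf_mk] at hj
    have h1 : orderOf (c : G) = r ^ j := by rw [Subgroup.orderOf_coe]; exact hj
    have h2 : orderOf (c : G) ∣ p := orderOf_dvd_of_pow_eq_one hvp
    have h3 : (r ^ j).Coprime p := Nat.Coprime.pow_left j ((Nat.coprime_primes hr hp).mpr hrp)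
    rw [h1] at h2
    have h4 : r ^ j = 1 := Nat.eq_one_of_dvd_coprimes h3 dvd_rfl h2
    rw [h4] at h1
    exact orderOf_eq_one_iff.mp h1
  have hVne : V ≠ ⊥ := by
    intro e
    apply hV₀
    rw [Subgroup.eq_bot_iff_forall]
    intro c hc
    have h1 : (c : G) ∈ V := by
      rw [hVdef]
      exact Subgroup.mem_inf.mpr ⟨⟨c, (Subgroup.mem_inf.mp hc).1, rfl⟩,
        ⟨c, (Subgroup.mem_inf.mp hc).2, rfl⟩⟩
    rw [e, Subgroup.mem_bot] at h1
    exact Subtype.ext h1
  have hVc : IsMulCommutative V := by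
    refine ⟨⟨?_⟩⟩
    rintro ⟨v, hv⟩ ⟨w, hw⟩
    exact Subtype.ext (hVcent w hw v (hVH hv))
  have hker : ∀ h ∈ H, (MulAut.conjNormal h : MulAut V) = 1 := by
    intro h hh
    ext v
    rw [MulAut.conjNormal_apply, hVcent v v.2 h hh]
    simp
  obtain ⟨φ, hφ⟩ : ∃ φ : G ⧸ H →* MulAut V, ∀ g : G, φ (QuotientGroup.mk g) = MulAut.conjNormal g :=
    ⟨QuotientGroup.lift H (MulAut.conjNormal : G →* MulAut V) hker, fun g => rfl⟩
  have hf : IsFpf φ := by
    intro y hy v hv
    obtain ⟨g, rfl⟩ := QuotientGroup.mk_surjective y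
    have hg : g ∉ H := fun h => hy ((QuotientGroup.eq_one_iff g).mpr h)
    rw [hφ] at hv
    have h1 : g * v * g⁻¹ = v := by
      rw [← MulAut.conjNormal_apply, hv]
    have hc : Commute (v : G) g := by
      calc (v : G) * g = (g * v * g⁻¹) * g := by rw [h1]
        _ = g * v := by group
    have h2 : (v : G) * g ∉ H := by
      intro h
      exact hg (by simpa using H.mul_mem (H.inv_mem (hVH v.2)) h)
    have h3 := hout _ h2
    rw [hc.mul_pow, hout g hg, mul_one] at h3
    exact Subtype.ext (hVr v v.2 h3)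
  have : Nontrivial V := (Subgroup.nontrivial_iff_ne_bot V).mpr hVne
  have : Nontrivial (G ⧸ H) := by
    refine ⟨⟨QuotientGroup.mk x, 1, ?_⟩⟩
    intro e
    exact hx ((QuotientGroup.eq_one_iff x).mp e)
  have hcn : Nontrivial (Subgroup.center (G ⧸ H)) := hQ.center_nontrivial
  obtain ⟨⟨z, hzc⟩, hz1⟩ := exists_ne (1 : Subgroup.center (G ⧸ H))
  have hz1' : z ≠ 1 := fun e => hz1 (Subtype.ext e)
  have hzo : orderOf z = p := orderOf_eq_prime (hQp z) hz1'
  have htop : Subgroup.zpowers z = ⊤ := by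
    rw [eq_top_iff]
    intro y _
    by_cases hy : y = 1
    · rw [hy]; exact Subgroup.one_mem _
    · exact hf.mem_zpowers_of_commute hp ((Subgroup.mem_center_iff.mp hzc y).symm) hzo
        (orderOf_eq_prime (hQp y) hy)
  rw [Subgroup.index_eq_card, ← Subgroup.card_top, ← htop, Nat.card_zpowers, hzo]

end Cfsg.Agent.S4249
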