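import Cfsg.Statements.S4298
import Cfsg.Agent.Lib.Helper23.Frob

set_option autoImplicit false
open Cfsg

namespace Cfsg.Agent.S4298

def tbl : List (ZMod 5 × ZMod 5 × ZMod 5 × ZMod 5) :=
  [(0, 0, 0, 0), (0, 0, 0, 0), (0, 0, 0, 0), (0, 0, 0, 0), (0, 0, 0, 0), (0, 0, 0, 0), (0, 0, 0, 0), (0, 0, 0, 0), (0, 0, 0, 0),
   (0, 0, 0, 0), (0, 0, 0, 0), (0, 0, 0, 0), (0, 0, 0, 0), (0, 0, 0, 0), (0, 0, 0, 0), (0, 4, 1, 0), (2, 4, 3, 4), (3, 2, 1, 1),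
   (0, 0, 0, 0), (0, 0, 0, 0), (0, 0, 0, 0), (0, 1, 4, 0), (2, 3, 4, 4), (3, 1, 2, 1), (0, 0, 0, 0), (0, 0, 0, 0), (0, 0, 0, 0),
   (0, 0, 0, 0), (1, 0, 0, 1), (0, 0, 0, 0), (0, 0, 0, 0), (1, 2, 1, 3), (0, 0, 0, 0), (0, 0, 0, 0), (3, 3, 4, 1), (0, 0, 0, 0),
   (0, 0, 0, 0), (1, 1, 2, 3), (0, 0, 0, 0), (0, 0, 0, 0), (0, 0, 0, 0), (0, 2, 2, 0), (4, 2, 1, 2), (0, 0, 0, 0), (0, 0, 0, 0),
   (0, 0, 0, 0), (3, 4, 3, 1), (0, 0, 0, 0), (4, 1, 2, 2), (0, 0, 0, 0), (0, 0, 0, 0), (0, 0, 0, 0), (0, 0, 0, 0), (3, 0, 0, 2),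
   (0, 0, 0, 0), (0, 0, 0, 0), (4, 0, 0, 4), (0, 0, 0, 0), (0, 0, 0, 0), (2, 2, 1, 4), (0, 0, 0, 0), (0, 0, 0, 0), (4, 3, 4, 2),
   (0, 0, 0, 0), (0, 0, 0, 0), (2, 1, 2, 4), (0, 0, 0, 0), (2, 0, 0, 3), (0, 0, 0, 0), (1, 4, 3, 3), (0, 0, 0, 0), (0, 0, 0, 0),
   (0, 0, 0, 0), (0, 0, 0, 0), (4, 4, 3, 2), (1, 3, 4, 3), (0, 0, 0, 0), (0, 0, 0, 0), (0, 0, 0, 0), (0, 3, 3, 0), (0, 0, 0, 0)]

def g4 (a b c d : ZMod 3) : ZMod 5 × ZMod 5 × ZMod 5 × ZMod 5 :=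
  tbl.getD (27 * a.val + 9 * b.val + 3 * c.val + d.val) (0, 0, 0, 0)

def mul4 (x y : ZMod 5 × ZMod 5 × ZMod 5 × ZMod 5) : ZMod 5 × ZMod 5 × ZMod 5 × ZMod 5 :=
  (x.1 * y.1 + x.2.1 * y.2.2.1, x.1 * y.2.1 + x.2.1 * y.2.2.2,
    x.2.2.1 * y.1 + x.2.2.2 * y.2.2.1, x.2.2.1 * y.2.1 + x.2.2.2 * y.2.2.2)

set_option maxRecDepth 100000 in
theorem key1 : ∀ a b c d a' b' c' d' : ZMod 3, a * d - b * c = 1 → a' * d' - b' * c' = 1 →
    g4 (a * a' + b * c') (a * b' + b * d') (c * a' + d * c') (c * b' + d * d') =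
      mul4 (g4 a b c d) (g4 a' b' c' d') := by
  decide

set_option maxRecDepth 100000 in
theorem key2 : ∀ a b c d : ZMod 3, a * d - b * c = 1 → ¬ (a = 1 ∧ b = 0 ∧ c = 0 ∧ d = 1) →
    ((g4 a b c d).1 - 1) * ((g4 a b c d).2.2.2 - 1) - (g4 a b c d).2.1 * (g4 a b c d).2.2.1 ≠ 0 := by
  decide

theorem key3 : g4 1 0 0 1 = (1, 0, 0, 1) := by decide

def gm (a b c d : ZMod 3) : Matrix (Fin 2) (Fin 2) (ZMod 5) :=
  !![(g4 a b c d).1, (g4 a b c d).2.1; (g4 a b c d).2.2.1, (g4 a b c d).2.2.2]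

theorem det_eq (A : Matrix.SpecialLinearGroup (Fin 2) (ZMod 3)) :
    A 0 0 * A 1 1 - A 0 1 * A 1 0 = 1 := by
  have := A.det_coe
  rwa [Matrix.det_fin_two] at this

def iota : Matrix.SpecialLinearGroup (Fin 2) (ZMod 3) →* Matrix (Fin 2) (Fin 2) (ZMod 5) where
  toFun A := gm (A 0 0) (A 0 1) (A 1 0) (A 1 1)
  map_one' := by
    simp only [Matrix.SpecialLinearGroup.coe_one, Matrix.one_apply_eq, ne_eq, zero_ne_one,
      not_false_eq_true, Matrix.one_apply_ne, one_ne_zero, gm, key3]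
    exact Matrix.one_fin_two.symm
  map_mul' A B := by
    have h := key1 _ _ _ _ _ _ _ _ (det_eq A) (det_eq B)
    simp only [Matrix.SpecialLinearGroup.coe_mul, Matrix.mul_apply, Fin.sum_univ_two, gm, h,
      Matrix.mul_fin_two, mul4]

/-- The group SL(2,3) of order 24 (the binary tetrahedral group) occurs as a Frobenius complement of some finite Frobenius group. -/
theorem result :
    ∃ (L : Type) (_ : Group L) (_ : Finite L) (H : Subgroup L), Cfsg.IsFrobeniusComplement H ∧ Nonempty (H ≃* Matrix.SpecialLinearGroup (Fin 2) (ZMod 3)) := by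
  have hp5 : Fact (Nat.Prime 5) := ⟨by norm_num⟩
  have hnt : Nontrivial (Matrix.SpecialLinearGroup (Fin 2) (ZMod 3)) := by
    refine ⟨⟨⟨!![0, 2; 1, 0], by rw [Matrix.det_fin_two_of]; decide⟩, 1, ?_⟩⟩
    intro h
    have h1 := congrArg (fun A : Matrix.SpecialLinearGroup (Fin 2) (ZMod 3) => A 0 0) h
    simp at h1
  obtain ⟨L, i1, i2, K, hK, ⟨e⟩⟩ := Cfsg.Agent.Lib.Helper23.exists_frobenius_of_module
    (V := Matrix (Fin 2) (Fin 2) (ZMod 5)) iota (by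
      intro A hA M hM
      have hne : ¬ (A 0 0 = 1 ∧ A 0 1 = 0 ∧ A 1 0 = 0 ∧ A 1 1 = 1) := by
        rintro ⟨h1, h2, h3, h4⟩
        apply hA
        ext i j
        fin_cases i <;> fin_cases j <;> simp [h1, h2, h3, h4]
      have hdet := key2 _ _ _ _ (det_eq A) hne
      have hdet' : (iota A - 1).det ≠ 0 := by
        rw [Matrix.det_fin_two]
        simpa [iota, gm] using hdet
      have hu : IsUnit (iota A - 1) := by
        rw [Matrix.isUnit_iff_isUnit_det]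
        exact isUnit_iff_ne_zero.2 hdet'
      have h0 : (iota A - 1) * M = 0 := by
        rw [sub_mul, one_mul]
        exact sub_eq_zero.2 hM
      exact (hu.mul_right_eq_zero).1 h0)
  exact ⟨L, i1, i2, K, hK, ⟨e.symm⟩⟩

end Cfsg.Agent.S4298
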