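import Cfsg.Statements.S4348
import Cfsg.Agent.Lib.Helper23.Fitting

set_option autoImplicit false
open Cfsg

namespace Cfsg.Agent.S4348

/-- Let G be a finite group, p a prime and P a Sylow p-subgroup of G, and let O_p(G) be the largest normal p-subgroup of G. If P/O_p(G) is cyclic, then some element of p-power order of G lies in exactly one Sylow p-subgroup. -/
theorem result {G : Type*} [Group G] [Finite G]
    (p : ℕ) [Fact p.Prime] (P : Sylow p G)
    [hn : ((Cfsg.pCore p G).subgroupOf (P : Subgroup G)).Normal]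
    (hc : IsCyclic ((P : Subgroup G) ⧸ (Cfsg.pCore p G).subgroupOf (P : Subgroup G))) :
    ∃ x : G, (∃ k : ℕ, orderOf x = p ^ k) ∧ ∃! Q : Sylow p G, x ∈ Q := by
  obtain ⟨gbar, hgen⟩ := hc.exists_generator
  obtain ⟨x, rfl⟩ := QuotientGroup.mk_surjective gbar
  refine ⟨(x : G), ?_, P, x.2, ?_⟩
  · obtain ⟨k, hk⟩ := (IsPGroup.iff_orderOf.mp P.2) x
    exact ⟨k, by rw [← hk, Subgroup.orderOf_coe]⟩
  · intro Q hxQ
    have hcore : Cfsg.pCore p G ≤ Q := by
      have := Cfsg.Agent.Lib.Helper23.pCore_normal' p G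
      exact (Cfsg.Agent.Lib.Helper23.isPGroup_pCore p G).le_sylow_of_normal Q
    have hle : (P : Subgroup G) ≤ Q := by
      intro y hy
      obtain ⟨k, hk⟩ := Subgroup.mem_zpowers_iff.mp (hgen (QuotientGroup.mk (⟨y, hy⟩ : (P : Subgroup G))))
      rw [← QuotientGroup.mk_zpow, QuotientGroup.eq, Subgroup.mem_subgroupOf] at hk
      have h1 : ((x : G) ^ k)⁻¹ * y ∈ (Q : Subgroup G) := hcore (by simpa using hk)
      have h2 : (x : G) ^ k ∈ (Q : Subgroup G) := Subgroup.zpow_mem _ hxQ k
      have := (Q : Subgroup G).mul_mem h2 h1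
      simpa using this
    exact Sylow.ext (P.3 Q.2 hle)

end Cfsg.Agent.S4348
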