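import Cfsg.Statements.S4357
import Cfsg.Agent.Lib.Helper12.SL2SylowCover

set_option autoImplicit false
open Cfsg

namespace Cfsg.Agent.S4357

open Matrix Cfsg.Agent.Lib.Helper12
open scoped MatrixGroups

/-- Let F be a finite field with q elements, p a prime and G = SL(2, F). Say a Sylow p-subgroup Q of G is redundant when every element of p-power order lies in some Sylow p-subgroup other than Q. Then G has a redundant Sylow p-subgroup if and only if p = 2 and q is not of any of the forms 2ᵏ - 1, 2ᵏ, 2ᵏ + 1. -/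
theorem result {F : Type*} [Field F] [Fintype F] (p : ℕ) [Fact p.Prime] :
    (∃ Q : Sylow p (Matrix.SpecialLinearGroup (Fin 2) F), ∀ x : Matrix.SpecialLinearGroup (Fin 2) F,
        (∃ k : ℕ, orderOf x = p ^ k) → ∃ P : Sylow p (Matrix.SpecialLinearGroup (Fin 2) F), P ≠ Q ∧ x ∈ P) ↔
      (p = 2 ∧ (¬ ∃ k : ℕ, Fintype.card F + 1 = 2 ^ k) ∧ (¬ ∃ k : ℕ, Fintype.card F = 2 ^ k) ∧
        ¬ ∃ k : ℕ, Fintype.card F = 2 ^ k + 1) := by
  classical
  have hq1 : 1 < Fintype.card F := Fintype.one_lt_card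
  constructor
  · rintro ⟨Q, hQ⟩
    have hord : ∀ x ∈ Q, ∃ k : ℕ, orderOf x = p ^ k := by
      intro x hxQ
      obtain ⟨k, hk⟩ := IsPGroup.iff_orderOf.mp Q.2 ⟨x, hxQ⟩
      exact ⟨k, by rw [← hk, Subgroup.orderOf_mk]⟩
    have hAB : ¬ (p ≠ 2 ∨ (2 : F) = 0) := by
      intro h
      have hsc := no_scalar (F := F) p h
      by_cases hQb : ∃ x ∈ Q, x ≠ 1
      · obtain ⟨x, hxQ, hx1⟩ := hQb
        obtain ⟨P, hPQ, hxP⟩ := hQ x (hord x hxQ)
        exact hPQ (unique_of_no_scalar p hsc P Q x hxP hxQ hx1)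
      · push Not at hQb
        obtain ⟨P, hPQ, -⟩ := hQ 1 ⟨0, by simp⟩
        apply hPQ
        have hle : (Q : Subgroup SL(2, F)) ≤ P := fun x hx => by
          rw [hQb x hx]; exact Subgroup.one_mem _
        exact Sylow.ext (Q.3 P.2 hle)
    push Not at hAB
    obtain ⟨hp2, h2⟩ := hAB
    subst hp2
    have hodd : Odd (Fintype.card F) := by
      apply Nat.odd_iff.mpr
      apply FiniteField.odd_card_of_char_ne_two
      intro h
      apply h2
      have := ringChar.Nat.cast_ringChar (R := F)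
      rw [h] at this
      exact_mod_cast this
    refine ⟨rfl, ?_, ?_, ?_⟩
    · intro hk
      obtain ⟨x, hxQ, hx⟩ := unique_of_pow hodd (Or.inl hk) Q
      obtain ⟨P, hPQ, hxP⟩ := hQ x (hord x hxQ)
      exact hPQ (hx P hxP)
    · rintro ⟨k, hk⟩
      rcases k with _ | k
      · simp at hk; omega
      · rw [hk] at hodd
        have := Nat.odd_iff.mp hodd
        rw [pow_succ] at this
        omega
    · intro hk
      obtain ⟨x, hxQ, hx⟩ := unique_of_pow hodd (Or.inr hk) Q
      obtain ⟨P, hPQ, hxP⟩ := hQ x (hord x hxQ)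
      exact hPQ (hx P hxP)
  · rintro ⟨rfl, h1, h3, h4⟩
    have hodd : Odd (Fintype.card F) := by
      by_contra hne
      apply h3
      have hev : Fintype.card F % 2 = 0 := by
        rcases Nat.even_or_odd (Fintype.card F) with h | h
        · exact Nat.even_iff.mp h
        · exact absurd h hne
      have hch := FiniteField.even_card_iff_char_two.mpr hev
      haveI : CharP F 2 := ringChar.of_eq hch
      obtain ⟨n, -, hn⟩ := FiniteField.card F 2
      exact ⟨n, hn⟩
    obtain ⟨Q⟩ := (inferInstance : Nonempty (Sylow 2 SL(2, F)))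
    exact ⟨Q, fun x hx => cover_of_not_pow hodd h1 h4 Q x hx⟩


end Cfsg.Agent.S4357
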