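import Cfsg.Statements.S4356
import Cfsg.Agent.Lib.Helper12.SL2SylowCover
import Cfsg.Agent.S4357

set_option autoImplicit false
open Cfsg

namespace Cfsg.Agent.S4356

open Matrix Cfsg.Agent.Lib.Helper12
open scoped MatrixGroups
open Cfsg.Agent.Lib.Helper27.PSL2 (mk_eq_iff)

/-- Let F be a finite field with q elements, p a prime and G = PSL(2, F). Say a Sylow p-subgroup Q of G is redundant when every element of p-power order lies in some Sylow p-subgroup other than Q. Then G has a redundant Sylow p-subgroup if and only if p = 2 and q is not of any of the forms 2ᵏ - 1, 2ᵏ, 2ᵏ + 1. -/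
theorem result {F : Type*} [Field F] [Fintype F] (p : ℕ) [Fact p.Prime] :
    (∃ Q : Sylow p (Matrix.ProjectiveSpecialLinearGroup (Fin 2) F), ∀ x : Matrix.ProjectiveSpecialLinearGroup (Fin 2) F,
        (∃ k : ℕ, orderOf x = p ^ k) → ∃ P : Sylow p (Matrix.ProjectiveSpecialLinearGroup (Fin 2) F), P ≠ Q ∧ x ∈ P) ↔
      (p = 2 ∧ (¬ ∃ k : ℕ, Fintype.card F + 1 = 2 ^ k) ∧ (¬ ∃ k : ℕ, Fintype.card F = 2 ^ k) ∧
        ¬ ∃ k : ℕ, Fintype.card F = 2 ^ k + 1) := by
  classical
  have hq1 : 1 < Fintype.card F := Fintype.one_lt_card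
  have hsurj : Function.Surjective (QuotientGroup.mk' (Subgroup.center SL(2, F))) :=
    QuotientGroup.mk'_surjective _
  rw [← Cfsg.Agent.S4357.result (F := F) p]
  constructor
  · rintro ⟨Qb, hQb⟩
    obtain ⟨Q, rfl⟩ := Sylow.mapSurjective_surjective hsurj p Qb
    refine ⟨Q, ?_⟩
    rintro x ⟨k, hk⟩
    have hxb : ∃ j : ℕ, orderOf (QuotientGroup.mk' (Subgroup.center SL(2, F)) x) = p ^ j := by
      have h1 : orderOf (QuotientGroup.mk' (Subgroup.center SL(2, F)) x) ∣ p ^ k := by
        rw [← hk]; exact orderOf_map_dvd _ x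
      obtain ⟨j, -, hj⟩ := (Nat.dvd_prime_pow Fact.out).mp h1
      exact ⟨j, hj⟩
    obtain ⟨Pb, hPQ, hxP⟩ := hQb _ hxb
    obtain ⟨P, rfl⟩ := Sylow.mapSurjective_surjective hsurj p Pb
    refine ⟨P, fun h => hPQ (by rw [h]), ?_⟩
    obtain ⟨y, hyP, hyx⟩ := hxP
    rcases (mk_eq_iff y x).mp hyx with e | e
    · rw [← e]; exact hyP
    · have e' : x = (-1) * y := by rw [e]; simp
      obtain ⟨n, hn⟩ := P.2 ⟨y, hyP⟩
      have hn' : y ^ (p ^ n) = 1 := congrArg Subtype.val hn
      have hneg : (-1 : SL(2, F)) ∈ P := by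
        apply mem_sylow_of_comm P (-1) (by intro w _; simp) (n + k)
        have e2 : (-1 : SL(2, F)) = x * y⁻¹ := by rw [e']; group
        have hc : Commute x y⁻¹ := by
          rw [e']
          show -1 * y * y⁻¹ = y⁻¹ * (-1 * y)
          simp
        rw [e2, hc.mul_pow, inv_pow]
        have a1 : x ^ (p ^ (n + k)) = 1 := by
          rw [pow_add, mul_comm, pow_mul, ← hk, pow_orderOf_eq_one, one_pow]
        have a2 : y ^ (p ^ (n + k)) = 1 := by
          rw [pow_add, pow_mul, hn', one_pow]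
        rw [a1, a2]; simp
      rw [e']
      exact Subgroup.mul_mem _ hneg hyP
  · intro hL
    obtain ⟨rfl, h1, h3, h4⟩ := (Cfsg.Agent.S4357.result (F := F) p).mp hL
    obtain ⟨Q, hQ⟩ := hL
    have hodd : Odd (Fintype.card F) := by
      by_contra hne
      apply h3
      have hev : Fintype.card F % 2 = 0 := by
        rcases Nat.even_or_odd (Fintype.card F) with h | h
        · exact Nat.even_iff.mp h
        · exact absurd h hne
      have hch := FiniteField.even_card_iff_char_two.mpr hev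
      haveI : CharP F 2 := ringChar.of_eq hch
      obtain ⟨n, -, hn⟩ := FiniteField.card F 2
      exact ⟨n, hn⟩
    refine ⟨Q.mapSurjective hsurj, ?_⟩
    rintro xb ⟨k, hk⟩
    obtain ⟨x, rfl⟩ := hsurj xb
    have hx1 : x ^ (2 ^ (k + 1)) = 1 := by
      have h5 : QuotientGroup.mk' (Subgroup.center SL(2, F)) (x ^ (2 ^ k)) = 1 := by
        rw [map_pow, ← hk]; exact pow_orderOf_eq_one _
      rw [QuotientGroup.mk'_apply, QuotientGroup.eq_one_iff,
        Cfsg.Agent.Lib.Helper27.PSL2.mem_center_iff] at h5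
      rw [pow_succ, pow_mul, pow_two]
      rcases h5 with h5 | h5 <;> rw [h5] <;> simp
    obtain ⟨j, -, hj⟩ := (Nat.dvd_prime_pow Nat.prime_two).mp (orderOf_dvd_of_pow_eq_one hx1)
    obtain ⟨P, hPQ, hxP⟩ := hQ x ⟨j, hj⟩
    refine ⟨P.mapSurjective hsurj, ?_, Subgroup.mem_map_of_mem _ hxP⟩
    intro heq
    apply hPQ
    have h6 : (P : Subgroup SL(2, F)).map (QuotientGroup.mk' (Subgroup.center SL(2, F))) =
        (Q : Subgroup SL(2, F)).map (QuotientGroup.mk' (Subgroup.center SL(2, F))) :=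
      congrArg (fun S : Sylow 2 (SL(2, F) ⧸ Subgroup.center SL(2, F)) =>
        (S : Subgroup (SL(2, F) ⧸ Subgroup.center SL(2, F)))) heq
    have h7 := congrArg (Subgroup.comap (QuotientGroup.mk' (Subgroup.center SL(2, F)))) h6
    rw [Subgroup.comap_map_eq, Subgroup.comap_map_eq, QuotientGroup.ker_mk',
      sup_eq_left.mpr (Cfsg.Agent.S2431.center_le_sylow hodd P),
      sup_eq_left.mpr (Cfsg.Agent.S2431.center_le_sylow hodd Q)] at h7
    exact Sylow.ext h7


end Cfsg.Agent.S4356
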