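import Cfsg.Statements.S4381
import Cfsg.Agent.Lib.Helper18.Maschke
import Cfsg.Agent.Lib.Helper18.ElemCompl
import Cfsg.Agent.Lib.Helper1.Glauberman
import Cfsg.Agent.Lib.Helper1.Frattini
import Cfsg.Agent.S3986
import Mathlib

set_option autoImplicit false
open Pointwise
open Cfsg

namespace Cfsg.Agent.S4381

open scoped Pointwise commutatorElement

section aux
variable {A G : Type*} [Group A] [Group G] [MulDistribMulAction A G]

theorem inv_sup (L1 L2 : Subgroup G) (h1 : ∀ a : A, ∀ x ∈ L1, a • x ∈ L1)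
    (h2 : ∀ a : A, ∀ x ∈ L2, a • x ∈ L2) : ∀ a : A, ∀ x ∈ L1 ⊔ L2, a • x ∈ L1 ⊔ L2 := by
  intro a x hx
  have : (L1 ⊔ L2).map (MulDistribMulAction.toMonoidHom G a) ≤ L1 ⊔ L2 := by
    rw [Subgroup.map_sup]
    refine sup_le_sup ?_ ?_
    · rintro _ ⟨y, hy, rfl⟩; exact h1 a y hy
    · rintro _ ⟨y, hy, rfl⟩; exact h2 a y hy
  exact this ⟨x, hx, rfl⟩

theorem inv_frattini : ∀ a : A, ∀ x ∈ frattini G, a • x ∈ frattini G := by
  intro a x hx
  have := (Subgroup.characteristic_iff_comap_eq.1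
    (inferInstance : (frattini G).Characteristic)) (MulDistribMulAction.toMulEquiv G a)
  rw [← this] at hx
  exact hx

theorem inv_iff (L : Subgroup G) (h : ∀ a : A, ∀ x ∈ L, a • x ∈ L) (a : A) (x : G) :
    a • x ∈ L ↔ x ∈ L := by
  constructor
  · intro hx
    have := h a⁻¹ _ hx
    rwa [inv_smul_smul] at this
  · exact h a x

theorem inv_normalizer (M : Subgroup G) (h : ∀ a : A, ∀ x ∈ M, a • x ∈ M) :
    ∀ a : A, ∀ x ∈ Subgroup.normalizer (M : Set G), a • x ∈ Subgroup.normalizer (M : Set G) := by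
  intro a n hn
  rw [Subgroup.mem_normalizer_iff] at hn ⊢
  intro x
  have h1 : a • n * x * (a • n)⁻¹ = a • (n * (a⁻¹ • x) * n⁻¹) := by
    rw [smul_mul', smul_mul', smul_inv', smul_inv_smul]
  rw [h1, inv_iff M h, ← hn, inv_iff M h]

theorem exists_maxinv [Finite G] (H : Subgroup G) (hH : H ≠ ⊤) (hinv : ∀ a : A, ∀ x ∈ H, a • x ∈ H) :
    ∃ M : Subgroup G, H ≤ M ∧ (M ≠ ⊤ ∧ (∀ a : A, ∀ x ∈ M, a • x ∈ M) ∧
      ∀ L : Subgroup G, M < L → (∀ a : A, ∀ x ∈ L, a • x ∈ L) → L = ⊤) := by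
  obtain ⟨M, hM⟩ := (Set.toFinite {M : Subgroup G | H ≤ M ∧ M ≠ ⊤ ∧ ∀ a : A, ∀ x ∈ M, a • x ∈ M}).exists_maximal
    ⟨H, le_rfl, hH, hinv⟩
  obtain ⟨⟨h1, h2, h3⟩, h4⟩ := hM
  refine ⟨M, h1, h2, h3, ?_⟩
  intro L hL hLinv
  by_contra hne
  exact absurd (h4 ⟨h1.trans hL.le, hne, hLinv⟩ hL.le) (not_le_of_gt hL)

theorem exists_inv_sylow [Finite A] [Finite G] (hcop : (Nat.card A).Coprime (Nat.card G))
    (hsol : Group.IsSolvable A ∨ Group.IsSolvable G) (p : ℕ) [Fact p.Prime] :
    ∃ P : Sylow p G, ∀ a : A, ∀ x ∈ (P : Subgroup G), a • x ∈ (P : Subgroup G) := by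
  obtain ⟨⟨P, hP⟩, -⟩ := Cfsg.Agent.Lib.Helper1.glauberman_act (X := Sylow p G)
    (MulDistribMulAction.toMulAut A G) (by
      intro a n P
      apply Sylow.ext
      rw [Sylow.smul_def, Sylow.smul_def]
      simp only [Sylow.pointwise_smul_def]
      ext x
      simp only [Subgroup.mem_pointwise_smul_iff_inv_smul_mem, MulAut.smul_def, ← map_inv,
        MulAut.conj_apply, MulDistribMulAction.toMulAut_apply]
      have h1 : a⁻¹ • ((MulDistribMulAction.toMulEquiv G a) n⁻¹ * x *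
          (MulDistribMulAction.toMulEquiv G a) n⁻¹⁻¹) = n⁻¹ * a⁻¹ • x * n⁻¹⁻¹ := by
        show a⁻¹ • (a • n⁻¹ * x * a • n⁻¹⁻¹) = _
        rw [smul_mul', smul_mul', inv_smul_smul, inv_smul_smul]
      rw [h1]) hcop hsol (fun P Q => MulAction.exists_smul_eq G P Q)
  refine ⟨P, fun a x hx => ?_⟩
  have h1 : a • x ∈ ((a • P : Sylow p G) : Subgroup G) := by
    rw [Sylow.pointwise_smul_def]
    exact Subgroup.smul_mem_pointwise_smul _ _ _ hx
  rwa [hP a] at h1

end aux

/-- Let the finite group A act by automorphisms on the finite group G with the orders of A and G coprime, and assume that A or G is solvable. Call a proper A-invariant subgroup of G maximal A-invariant when no A-invariant subgroup lies strictly between it and G. Then all maximal A-invariant subgroups of G are conjugate under elements of the fixed-point subgroup C_G(A) if and only if G is a p-group for some prime p and A leaves invariant no subgroup strictly between the Frattini subgroup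 of G and G. In that case, if G is nontrivial, the Frattini subgroup is the only maximal A-invariant subgroup (a trivial G has none). -/
theorem result {A G : Type*} [Group A] [Finite A]
    [Group G] [Finite G] [MulDistribMulAction A G] (hcop : (Nat.card A).Coprime (Nat.card G)) (hsol : Group.IsSolvable A ∨ Group.IsSolvable G) :
    ((∀ M N : Subgroup G, (M ≠ ⊤ ∧ (∀ a : A, ∀ x ∈ M, a • x ∈ M) ∧ ∀ L : Subgroup G, M < L → (∀ a : A, ∀ x ∈ L, a • x ∈ L) → L = ⊤) → (N ≠ ⊤ ∧ (∀ a : A, ∀ x ∈ N, a • x ∈ N) ∧ ∀ L : Subgroup G, N < L → (∀ a : A, ∀ x ∈ L, a • x ∈ L) → L = ⊤) →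
        ∃ c : G, (∀ a : A, a • c = c) ∧ N = MulAut.conj c • M) ↔
      ((∃ p : ℕ, p.Prime ∧ IsPGroup p G) ∧ ∀ L : Subgroup G, frattini G < L → (∀ a : A, ∀ x ∈ L, a • x ∈ L) → L = ⊤)) ∧
    (((∃ p : ℕ, p.Prime ∧ IsPGroup p G) ∧ ∀ L : Subgroup G, frattini G < L → (∀ a : A, ∀ x ∈ L, a • x ∈ L) → L = ⊤) →
      ∀ M : Subgroup G, (M ≠ ⊤ ∧ (∀ a : A, ∀ x ∈ M, a • x ∈ M) ∧ ∀ L : Subgroup G, M < L → (∀ a : A, ∀ x ∈ L, a • x ∈ L) → L = ⊤) ↔ (M = frattini G ∧ M ≠ ⊤)) := by
  classical
  -- Part 2 (does not need the p-group hypothesis)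
  have part2 : (∀ L : Subgroup G, frattini G < L → (∀ a : A, ∀ x ∈ L, a • x ∈ L) → L = ⊤) →
      ∀ M : Subgroup G, (M ≠ ⊤ ∧ (∀ a : A, ∀ x ∈ M, a • x ∈ M) ∧ ∀ L : Subgroup G, M < L →
        (∀ a : A, ∀ x ∈ L, a • x ∈ L) → L = ⊤) ↔ (M = frattini G ∧ M ≠ ⊤) := by
    intro hirr M
    constructor
    · rintro ⟨h1, h2, h3⟩
      refine ⟨?_, h1⟩
      have h4 : M ⊔ frattini G ≠ ⊤ := fun h => h1 (frattini_nongenerating h)
      have h5 : frattini G ≤ M := by
        by_contra hle
        have hlt : M < M ⊔ frattini G := by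
          refine lt_of_le_of_ne le_sup_left ?_
          intro heq
          exact hle (heq ▸ le_sup_right)
        exact h4 (h3 _ hlt (inv_sup M _ h2 inv_frattini))
      by_contra hne
      exact h1 (hirr M (lt_of_le_of_ne h5 (Ne.symm hne)) h2)
    · rintro ⟨rfl, h1⟩
      exact ⟨h1, inv_frattini, hirr⟩
  refine ⟨⟨?_, ?_⟩, fun h => part2 h.2⟩
  swap
  · -- (⇐)
    rintro ⟨-, hirr⟩ M N hM hN
    refine ⟨1, fun a => smul_one a, ?_⟩
    rw [((part2 hirr M).1 hM).1, ((part2 hirr N).1 hN).1]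
    simp
  -- (⇒)
  intro hconj
  rcases subsingleton_or_nontrivial G with hsub | hnt
  · refine ⟨⟨2, Nat.prime_two, ?_⟩, fun L _ _ => Subsingleton.elim _ _⟩
    intro g
    exact ⟨0, Subsingleton.elim _ _⟩
  obtain ⟨M0, -, hM0⟩ := exists_maxinv (A := A) (⊥ : Subgroup G) bot_ne_top
    (by intro a x hx; rw [Subgroup.mem_bot] at hx ⊢; rw [hx, smul_one])
  -- every proper invariant subgroup lies in a conjugate of `M0`
  have hin : ∀ H : Subgroup G, H ≠ ⊤ → (∀ a : A, ∀ x ∈ H, a • x ∈ H) →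
      ∃ c : G, H ≤ MulAut.conj c • M0 := by
    intro H hH hinv
    obtain ⟨M, hHM, hM⟩ := exists_maxinv H hH hinv
    obtain ⟨c, -, hc⟩ := hconj M0 M hM0 hM
    exact ⟨c, hc ▸ hHM⟩
  -- G is a p-group
  have hpg : ∃ p : ℕ, p.Prime ∧ IsPGroup p G := by
    by_contra hno
    push Not at hno
    apply hM0.1
    apply Cfsg.Agent.S3986.eq_top_of_sylow
    intro q hq
    obtain ⟨P, hP⟩ := exists_inv_sylow hcop hsol q
    have hPtop : (P : Subgroup G) ≠ ⊤ := by
      intro h
      apply hno q hq.out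
      have := P.isPGroup'
      rw [h] at this
      exact this.of_equiv Subgroup.topEquiv
    obtain ⟨c, hc⟩ := hin _ hPtop hP
    refine ⟨c⁻¹ • P, ?_⟩
    rw [Sylow.coe_subgroup_smul, map_inv]
    exact Subgroup.subset_pointwise_smul_iff.1 hc
  refine ⟨hpg, ?_⟩
  obtain ⟨p, hp, hG⟩ := hpg
  have := Fact.mk hp
  -- `M0` is normal
  have hnil : Group.IsNilpotent G := hG.isNilpotent
  have hM0n : M0.Normal := by
    have h1 : M0 < Subgroup.normalizer (M0 : Set G) :=
      Group.normalizerCondition_of_isNilpotent M0 (lt_top_iff_ne_top.2 hM0.1)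
    have h2 := hM0.2.2 _ h1 (inv_normalizer M0 hM0.2.1)
    exact Subgroup.normalizer_eq_top_iff.1 h2
  have hin' : ∀ H : Subgroup G, H ≠ ⊤ → (∀ a : A, ∀ x ∈ H, a • x ∈ H) → H ≤ M0 := by
    intro H hH hinv
    obtain ⟨c, hc⟩ := hin H hH hinv
    rwa [Subgroup.Normal.conj_smul_eq_self] at hc
  intro L hL hLinv
  by_contra hLtop
  -- the quotient by the Frattini subgroup
  have hc : ∀ x y : G ⧸ frattini G, x * y = y * x := by
    intro x y
    induction x using QuotientGroup.induction_on with | _ x => ?_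
    induction y using QuotientGroup.induction_on with | _ y => ?_
    rw [← QuotientGroup.mk_mul, ← QuotientGroup.mk_mul, QuotientGroup.eq]
    apply Cfsg.Agent.Lib.Helper1.pgroup_commutator_le_frattini hG
    have : (x * y)⁻¹ * (y * x) = ⁅y⁻¹, x⁻¹⁆ := by
      rw [commutatorElement_def]; group
    rw [this]
    exact Subgroup.commutator_mem_commutator (Subgroup.mem_top _) (Subgroup.mem_top _)
  have hexp : ∀ x : G ⧸ frattini G, x ^ p = 1 := by
    intro x
    induction x using QuotientGroup.induction_on with | _ x => ?_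
    rw [← QuotientGroup.mk_pow, QuotientGroup.eq_one_iff]
    exact Cfsg.Agent.Lib.Helper1.pgroup_pow_mem_frattini hG x
  have hmap : ∀ a : A, (frattini G).map (MulDistribMulAction.toMulEquiv G a).toMonoidHom = frattini G :=
    fun a => (Subgroup.characteristic_iff_map_eq.1 inferInstance) _
  let ρ : A →* MulAut (G ⧸ frattini G) :=
    { toFun := fun a => QuotientGroup.congr _ _ (MulDistribMulAction.toMulEquiv G a) (hmap a)
      map_one' := by
        ext x
        induction x using QuotientGroup.induction_on with | _ x => ?_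
        show (((1 : A) • x : G) : G ⧸ frattini G) = x
        rw [one_smul]
      map_mul' := by
        intro a b
        ext x
        induction x using QuotientGroup.induction_on with | _ x => ?_
        show (((a * b) • x : G) : G ⧸ frattini G) = ((a • b • x : G) : G ⧸ frattini G)
        rw [mul_smul] }
  have hρ : ∀ (a : A) (x : G), ρ a (x : G ⧸ frattini G) = ((a • x : G) : G ⧸ frattini G) :=
    fun a x => rfl
  obtain ⟨W, hW1, hW2⟩ := Cfsg.Agent.Lib.Helper18.exists_compl_of_exponent hc p hexp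
    (L.map (QuotientGroup.mk' (frattini G)))
  have hcop' : (Nat.card A).Coprime (Nat.card (G ⧸ frattini G)) :=
    Nat.Coprime.coprime_dvd_right (Subgroup.card_quotient_dvd_card _) hcop
  obtain ⟨K, hK1, hK2, hK3⟩ := Cfsg.Agent.Lib.Helper18.maschke_grp hc ρ hcop'
    (L.map (QuotientGroup.mk' (frattini G))) W (by
      rintro a _ ⟨x, hx, rfl⟩
      exact ⟨a • x, hLinv a x hx, rfl⟩) hW1 hW2
  have hKinv : ∀ a : A, ∀ x ∈ K.comap (QuotientGroup.mk' (frattini G)),
      a • x ∈ K.comap (QuotientGroup.mk' (frattini G)) := by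
    intro a x hx
    exact hK1 a _ hx
  have hKtop : K.comap (QuotientGroup.mk' (frattini G)) ≠ ⊤ := by
    intro h
    have hK : K = ⊤ := by
      rw [eq_top_iff]
      intro y _
      obtain ⟨x, rfl⟩ := QuotientGroup.mk_surjective y
      have : x ∈ K.comap (QuotientGroup.mk' (frattini G)) := by rw [h]; trivial
      exact this
    rw [hK, inf_top_eq] at hK2
    have : L ≤ frattini G := by
      intro x hx
      have h1 : (QuotientGroup.mk' (frattini G)) x ∈ L.map (QuotientGroup.mk' (frattini G)) :=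
        ⟨x, hx, rfl⟩
      rw [hK2, Subgroup.mem_bot] at h1
      exact (QuotientGroup.eq_one_iff x).1 h1
    exact absurd hL (not_lt_of_ge this)
  have h1 := hin' _ hLtop hLinv
  have h2 := hin' _ hKtop hKinv
  apply hM0.1
  rw [eq_top_iff]
  intro g _
  have hg : (QuotientGroup.mk' (frattini G)) g ∈ L.map (QuotientGroup.mk' (frattini G)) ⊔ K := by
    rw [hK3]; trivial
  let _ : CommGroup (G ⧸ frattini G) := { (inferInstance : Group (G ⧸ frattini G)) with mul_comm := hc }
  obtain ⟨_, ⟨l, hl, rfl⟩, k, hk, hlk⟩ := Subgroup.mem_sup.1 hg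
  have h3 : l⁻¹ * g ∈ K.comap (QuotientGroup.mk' (frattini G)) := by
    show (QuotientGroup.mk' (frattini G)) (l⁻¹ * g) ∈ K
    rw [map_mul, map_inv, ← hlk, inv_mul_cancel_left]
    exact hk
  have : g = l * (l⁻¹ * g) := by group
  rw [this]
  exact M0.mul_mem (h1 hl) (h2 h3)

end Cfsg.Agent.S4381
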