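import Cfsg.Statements.S4399
import Mathlib
import Cfsg.Agent.Lib.Helper14.MaxClass2
import Cfsg.Agent.S0115
-- import your own Cfsg.Agent.* helpers here

set_option autoImplicit false
open Cfsg

namespace Cfsg.Agent.S4399

open Cfsg.Agent.Lib.Helper14

/-- Let S be a finite 2-group whose commutator quotient S/[S,S] is a Klein four-group (order 4 and exponent 2). Then S itself has order 4, or S is dihedral of order at least 8, semidihedral of order at least 16 (order 2^(k+4) with an element a of order 2^(k+3) and an involution b with b a b⁻¹ = a^(2^(k+2)−1)), or generalized quaternion of order at least 8. -/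
theorem result {S : Type*} [Group S] [Finite S] (h2 : IsPGroup 2 S) (hab : Nat.card (Abelianization S) = 4)
    (hexp : ∀ x : Abelianization S, x ^ 2 = 1) :
    Nat.card S = 4 ∨
    ((∃ k : ℕ, Nonempty (S ≃* DihedralGroup (2 ^ (k + 2)))) ∨
      (∃ k : ℕ, Nat.card S = 2 ^ (k + 4) ∧ ∃ a b : S, orderOf a = 2 ^ (k + 3) ∧ orderOf b = 2 ∧ b * a * b⁻¹ = a ^ (2 ^ (k + 2) - 1)) ∨
      (∃ k : ℕ, Nonempty (S ≃* QuaternionGroup (2 ^ (k + 1))))) := by
  obtain ⟨n, hn⟩ := h2.exists_card_eq
  have hdvd : Nat.card (Abelianization S) ∣ Nat.card S :=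
    Subgroup.card_dvd_of_surjective (Abelianization.of (G := S)) (QuotientGroup.mk_surjective)
  by_cases hn3 : 3 ≤ n
  · right
    have hK : IsKleinFour (S ⧸ commutator S) := by
      refine ⟨hab, ?_⟩
      have h1 : Monoid.exponent (S ⧸ commutator S) ∣ 2 := Monoid.exponent_dvd_of_forall_pow_eq_one hexp
      rcases (Nat.dvd_prime Nat.prime_two).mp h1 with h | h
      · exfalso
        have h3 : Subsingleton (S ⧸ commutator S) := Monoid.exp_eq_one_iff.mp h
        have h4 : Nat.card (S ⧸ commutator S) = 1 := Nat.card_eq_one_iff_unique.mpr ⟨h3, ⟨1⟩⟩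
        have h5 : Nat.card (S ⧸ commutator S) = 4 := hab
        omega
      · exact h
    have hc := (Cfsg.Agent.S0115.result n hn3 hn).mpr hK
    rcases maxclass2_classify n hn3 hn hc with ⟨e⟩ | ⟨m, hm, hcard, x, y, hx, hy, hxy⟩ | ⟨e⟩
    · left
      refine ⟨n - 3, ?_⟩
      have : n - 3 + 2 = n - 1 := by omega
      rw [this]; exact e
    · right; left
      obtain ⟨k, rfl⟩ : ∃ k, m = k + 3 := ⟨m - 3, by omega⟩
      exact ⟨k, hcard, x, y, hx, hy, hxy⟩
    · right; right
      refine ⟨n - 3, ?_⟩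
      have : n - 3 + 1 = n - 2 := by omega
      rw [this]; exact e
  · left
    rw [hab, hn] at hdvd
    have h1 : (2 : ℕ) ^ 2 ∣ 2 ^ n := by simpa using hdvd
    have h3 : 2 ≤ n := (Nat.pow_dvd_pow_iff_le_right (by norm_num)).mp h1
    have h4 : n = 2 := by omega
    rw [hn, h4]; norm_num

end Cfsg.Agent.S4399
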