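import Cfsg.Statements.S4419
import Mathlib
import Cfsg.Agent.S0071
import Cfsg.Agent.S0012
import Cfsg.Agent.S4208
import Cfsg.Agent.Lib.Helper13.PPrimeP
import Cfsg.Agent.Lib.Helper5.PPrimeQuot

set_option autoImplicit false
open Cfsg

namespace Cfsg.Agent.S4419

/-- A `p`-group with a cyclic normal subgroup with cyclic quotient has Frattini index at most `p^2`. -/
lemma frattini_index_le {Q : Type*} [Group Q] [Finite Q] (p : ℕ) [Fact p.Prime] (hQ : IsPGroup p Q)
    (M : Subgroup Q) [M.Normal] (hM : IsCyclic M) (hQM : IsCyclic (Q ⧸ M)) :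
    (frattini Q).index ≤ p ^ 2 := by
  obtain ⟨a, ha⟩ := hM.exists_generator
  obtain ⟨b', hb'⟩ := hQM.exists_generator
  obtain ⟨b, rfl⟩ := QuotientGroup.mk_surjective b'
  have hpow := (Cfsg.Agent.S0012.result p hQ).2
  have hp0 : 0 < p := (Fact.out : p.Prime).pos
  have hpw : ∀ (x : Q) (i : ℕ), (QuotientGroup.mk (x ^ i) : Q ⧸ frattini Q)
      = QuotientGroup.mk (x ^ (i % p)) := by
    intro x i
    have h1 : (QuotientGroup.mk x : Q ⧸ frattini Q) ^ p = 1 := by
      rw [← QuotientGroup.mk_pow]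
      exact (QuotientGroup.eq_one_iff _).2 (hpow x)
    rw [QuotientGroup.mk_pow, QuotientGroup.mk_pow]
    conv_lhs => rw [← Nat.div_add_mod i p, pow_add, pow_mul, h1, one_pow, one_mul]
  let f : Fin p × Fin p → Q ⧸ frattini Q := fun ij =>
    QuotientGroup.mk (b ^ (ij.1 : ℕ) * (a : Q) ^ (ij.2 : ℕ))
  have hf : Function.Surjective f := by
    intro y
    obtain ⟨x, rfl⟩ := QuotientGroup.mk_surjective y
    have h1 : (QuotientGroup.mk x : Q ⧸ M) ∈ Subgroup.zpowers (QuotientGroup.mk b : Q ⧸ M) := hb' _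
    rw [← mem_powers_iff_mem_zpowers] at h1
    obtain ⟨j, hj⟩ := h1
    have h2 : (b ^ j)⁻¹ * x ∈ M := by
      rw [← QuotientGroup.eq, QuotientGroup.mk_pow]
      exact hj
    have h3 : (⟨(b ^ j)⁻¹ * x, h2⟩ : M) ∈ Subgroup.zpowers a := ha _
    rw [← mem_powers_iff_mem_zpowers] at h3
    obtain ⟨i, hi⟩ := h3
    have hi' : (a : Q) ^ i = (b ^ j)⁻¹ * x := by
      have := congrArg Subtype.val hi
      simpa using this
    refine ⟨(⟨j % p, Nat.mod_lt _ hp0⟩, ⟨i % p, Nat.mod_lt _ hp0⟩), ?_⟩
    show (QuotientGroup.mk (b ^ (j % p) * (a : Q) ^ (i % p)) : Q ⧸ frattini Q) = QuotientGroup.mk x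
    rw [QuotientGroup.mk_mul, ← hpw, ← hpw, ← QuotientGroup.mk_mul, hi']
    congr 1
    group
  have h4 := Nat.card_le_card_of_surjective f hf
  rw [Nat.card_prod, Nat.card_fin] at h4
  rw [Subgroup.index, pow_two]
  exact h4

lemma coprime_aut (p k r e : ℕ) (hp : p.Prime) (hkp : k.Coprime p) (hk : k.Coprime (p ^ 2 - 1))
    (hr : r ≤ 2) : k.Coprime (p ^ e * ∏ i ∈ Finset.range r, (p ^ r - p ^ i)) := by
  apply Nat.Coprime.mul_right (Nat.Coprime.pow_right _ hkp)
  have h1 : k.Coprime (p - 1) := by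
    apply Nat.Coprime.coprime_dvd_right _ hk
    refine ⟨p + 1, ?_⟩
    have := hp.one_lt
    obtain ⟨c, rfl⟩ : ∃ c, p = c + 1 := ⟨p - 1, by omega⟩
    simp only [Nat.add_sub_cancel]
    have : (c + 1) ^ 2 = c * (c + 1 + 1) + 1 := by ring
    rw [this, Nat.add_sub_cancel]
  interval_cases r
  · simp
  · simpa using h1
  · rw [Finset.prod_range_succ, Finset.prod_range_succ, Finset.prod_range_zero, one_mul, pow_zero,
      pow_one]
    apply Nat.Coprime.mul_right hk
    have h2 : p ^ 2 - p = p * (p - 1) := by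
      rw [Nat.mul_sub, mul_one, pow_two]
    rw [h2]
    exact Nat.Coprime.mul_right hkp h1


/-- Let p be a prime and G a finite group whose Sylow p-subgroups are metacyclic (a cyclic normal subgroup with cyclic quotient). Then G has a normal p-complement if and only if the order of G/O_{p′,p}(G) is coprime to p² − 1. -/
theorem result {G : Type*} [Group G] [Finite G] (p : ℕ) [Fact p.Prime] (S : Sylow p G) (hS : Cfsg.IsMetacyclic ↥(S : Subgroup G)) : Cfsg.HasNormalPComplement p G ↔ Nat.Coprime (Nat.card (G ⧸ Cfsg.pPrimePCore p G)) (p ^ 2 - 1) := by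
  constructor
  · rintro ⟨P, N, hN, hc⟩
    have hcard := hc.card_mul_card
    have hNi : Nat.card N = (P : Subgroup G).index := by
      have h2 := (P : Subgroup G).card_mul_index
      have hpos : 0 < Nat.card (P : Subgroup G) := Nat.card_pos
      have h3 : Nat.card (P : Subgroup G) * Nat.card N
          = Nat.card (P : Subgroup G) * (P : Subgroup G).index := by
        rw [h2, mul_comm, hcard]
      exact Nat.eq_of_mul_eq_mul_left hpos h3
    have hNcop : (Nat.card N).Coprime p := by
      rw [hNi]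
      exact ((Nat.Prime.coprime_iff_not_dvd Fact.out).2 P.not_dvd_index).symm
    have hNle : N ≤ Cfsg.pPrimeCore p G := Cfsg.Agent.Lib.Helper5.le_pPrimeCore hN hNcop
    have hidx : (Cfsg.pPrimeCore p G).index ∣ Nat.card (P : Subgroup G) := by
      have h4 := Subgroup.index_dvd_of_le hNle
      have h5 : N.index = Nat.card (P : Subgroup G) := by
        have h6 := N.card_mul_index
        have hpos : 0 < Nat.card N := Nat.card_pos
        exact Nat.eq_of_mul_eq_mul_left hpos (h6.trans hcard.symm)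
      rwa [h5] at h4
    obtain ⟨a, ha⟩ := IsPGroup.iff_card.1 P.2
    rw [ha] at hidx
    obtain ⟨b, -, hb⟩ := (Nat.dvd_prime_pow Fact.out).1 hidx
    have hQp : IsPGroup p (G ⧸ Cfsg.pPrimeCore p G) := IsPGroup.of_card hb
    have htop : Cfsg.pCore p (G ⧸ Cfsg.pPrimeCore p G) = ⊤ := by
      apply top_le_iff.1
      apply Cfsg.Agent.Lib.Helper5.le_pCore inferInstance
      exact hQp.to_subgroup ⊤
    have hW : Cfsg.pPrimePCore p G = ⊤ := by
      unfold Cfsg.pPrimePCore
      rw [htop, Subgroup.comap_top]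
    have h7 : Nat.card (G ⧸ Cfsg.pPrimePCore p G) = 1 := by
      have := Subgroup.index_top (G := G)
      rw [← hW] at this
      exact this
    rw [h7]
    exact Nat.coprime_one_left _
  · intro hcop
    refine ⟨S, (Cfsg.Agent.S0071.result S).2 ?_⟩
    intro Q hQS g hg hgp
    haveI hWn : (Cfsg.pPrimePCore p G).Normal := Cfsg.Agent.Lib.Helper10.pPrimePCore_normal p
    have hQp : IsPGroup p Q := S.2.to_le hQS
    -- `Q` is metacyclic
    obtain ⟨N, hNn, hNc, hSN⟩ := hS
    let ι : Q →* (S : Subgroup G) := Subgroup.inclusion hQS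
    have hι : Function.Injective ι := Subgroup.inclusion_injective hQS
    let M : Subgroup Q := N.comap ι
    haveI : M.Normal := hNn.comap ι
    have hMc : IsCyclic M := by
      let φ : M →* N := (ι.comp M.subtype).codRestrict N (fun x => x.2)
      have hφ : Function.Injective φ := by
        intro x y hxy
        have h1 : ι x.1 = ι y.1 := congrArg Subtype.val hxy
        exact Subtype.ext (hι h1)
      exact isCyclic_of_injective φ hφ
    have hQMc : IsCyclic (Q ⧸ M) := by
      let ψ : Q ⧸ M →* (S : Subgroup G) ⧸ N := QuotientGroup.map M N ι (le_refl _)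
      have hψ : Function.Injective ψ := by
        rw [injective_iff_map_eq_one]
        intro x hx
        obtain ⟨y, rfl⟩ := QuotientGroup.mk_surjective x
        have h1 : (QuotientGroup.mk (ι y) : (S : Subgroup G) ⧸ N) = 1 := hx
        rw [QuotientGroup.eq_one_iff] at h1
        exact (QuotientGroup.eq_one_iff y).2 h1
      exact isCyclic_of_injective ψ hψ
    have hle := frattini_index_le p hQp M hMc hQMc
    obtain ⟨n, hn⟩ := IsPGroup.iff_card.1 hQp
    obtain ⟨r, hr⟩ : ∃ r, (frattini Q).index = p ^ r := by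
      have h1 : (frattini Q).index ∣ p ^ n := by
        rw [← hn]
        exact Subgroup.index_dvd_card _
      obtain ⟨r, -, hr⟩ := (Nat.dvd_prime_pow Fact.out).1 h1
      exact ⟨r, hr⟩
    have hr2 : r ≤ 2 := by
      rw [hr] at hle
      exact (Nat.pow_le_pow_iff_right (Fact.out : p.Prime).one_lt).1 hle
    have haut := Cfsg.Agent.S4208.result hn hr
    -- the automorphism induced by `g`
    set W := Cfsg.pPrimePCore p G with hW
    set k := Nat.gcd W.index (orderOf g) with hk
    have hkp : k.Coprime p := Nat.Coprime.coprime_dvd_left (Nat.gcd_dvd_right _ _) hgp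
    have hk2 : k.Coprime (p ^ 2 - 1) := Nat.Coprime.coprime_dvd_left (Nat.gcd_dvd_left _ _) hcop
    have hcent : g ^ W.index ∈ Subgroup.centralizer (Q : Set G) := by
      have h1 : g ^ W.index ∈ W := Subgroup.pow_index_mem W g
      obtain ⟨j, hj⟩ := Cfsg.Agent.Lib.Helper13.pp_pow_mem (p := p) _ h1
      have h2 : (p ^ j).Coprime (orderOf (g ^ W.index)) := by
        apply Nat.Coprime.pow_left
        exact (Nat.Coprime.coprime_dvd_left (orderOf_pow_dvd _) hgp).symm
      obtain ⟨m, hm⟩ := exists_pow_eq_self_of_coprime h2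
      have h3 : g ^ W.index ∈ Cfsg.pPrimeCore p G := by
        rw [← hm]
        exact Subgroup.pow_mem _ hj m
      have h4 : g ^ W.index ∈ Subgroup.normalizer (Q : Set G) := Subgroup.pow_mem _ hg _
      generalize g ^ W.index = y at h3 h4
      rw [Subgroup.mem_centralizer_iff]
      intro x hx
      have h5 : y * x * y⁻¹ * x⁻¹ ∈ Q ⊓ Cfsg.pPrimeCore p G := by
        constructor
        · exact Q.mul_mem ((Subgroup.mem_normalizer_iff.1 h4 x).1 hx) (Q.inv_mem hx)
        · have hD : (Cfsg.pPrimeCore p G).Normal := inferInstance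
          have h6 : x * y⁻¹ * x⁻¹ ∈ Cfsg.pPrimeCore p G :=
            hD.conj_mem _ (Subgroup.inv_mem _ h3) x
          have h7 := Subgroup.mul_mem _ h3 h6
          have h8 : y * (x * y⁻¹ * x⁻¹) = y * x * y⁻¹ * x⁻¹ := by group
          rwa [h8] at h7
      rw [Cfsg.Agent.Lib.Helper5.pgroup_inf_coprime_eq_bot hQp
        Cfsg.Agent.Lib.Helper5.pPrimeCore_coprime, Subgroup.mem_bot] at h5
      have h9 : y * x = x * y := by
        have : y * x = (y * x * y⁻¹ * x⁻¹) * (x * y) := by group
        rw [this, h5, one_mul]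
      exact h9.symm
    set α := Q.normalizerMonoidHom ⟨g, hg⟩ with hα
    have hα1 : α ^ W.index = 1 := by
      rw [hα, ← map_pow]
      have : (⟨g, hg⟩ : Subgroup.normalizer (Q : Set G)) ^ W.index ∈ Q.normalizerMonoidHom.ker := by
        rw [Subgroup.normalizerMonoidHom_ker, Subgroup.mem_subgroupOf]
        exact hcent
      exact this
    have hα2 : α ^ orderOf g = 1 := by
      rw [hα, ← map_pow]
      have : (⟨g, hg⟩ : Subgroup.normalizer (Q : Set G)) ^ orderOf g = 1 := by
        apply Subtype.ext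
        simp [pow_orderOf_eq_one]
      rw [this, map_one]
    have ho1 : orderOf α ∣ k :=
      Nat.dvd_gcd (orderOf_dvd_of_pow_eq_one hα1) (orderOf_dvd_of_pow_eq_one hα2)
    have ho2 : orderOf α ∣ p ^ (r * (n - r)) * ∏ i ∈ Finset.range r, (p ^ r - p ^ i) :=
      (orderOf_dvd_natCard α).trans haut
    have ho3 : orderOf α = 1 :=
      Nat.eq_one_of_dvd_coprimes (coprime_aut p k r _ Fact.out hkp hk2 hr2) ho1 ho2
    have hα3 : α = 1 := orderOf_eq_one_iff.1 ho3
    have h10 : (⟨g, hg⟩ : Subgroup.normalizer (Q : Set G)) ∈ Q.normalizerMonoidHom.ker := hα3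
    rw [Subgroup.normalizerMonoidHom_ker, Subgroup.mem_subgroupOf] at h10
    exact h10

end Cfsg.Agent.S4419
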