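import Cfsg.Statements.S4931
import Cfsg.Agent.S4216
import Cfsg.Agent.S0081
import Cfsg.Agent.S0086
import Cfsg.Agent.S0169
import Cfsg.Agent.Lib.Helper1.Frattini
import Cfsg.Agent.Lib.Helper25.Extra2
import Cfsg.Agent.Lib.Helper7.BlockNormal
import Cfsg.Agent.Lib.Helper7.BlockQuot2
import Cfsg.Agent.Lib.Helper7.CharColumn
import Cfsg.Agent.Lib.Helper25.Kernel2

set_option autoImplicit false
open Cfsg
open scoped commutatorElement

namespace Cfsg.Agent.S4931

theorem frattini_arg {G : Type*} [Group G] [Finite G] {p : ℕ} [Fact p.Prime] (P : Sylow p G)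
    (E : Subgroup G) [E.Normal] (h : (P : Subgroup G) ≤ E) :
    Subgroup.normalizer ((P : Subgroup G) : Set G) ⊔ E = ⊤ :=
  Sylow.normalizer_sup_eq_top' P h

theorem grun_step {G : Type*} [Group G] [Finite G] {p : ℕ} [Fact p.Prime] (P : Sylow p G)
    (L M : Subgroup G) [L.Normal] [hMn : M.Normal]
    (hLN : L ⊓ Subgroup.normalizer ((P : Subgroup G) : Set G) = (P : Subgroup G))
    (hPM : ⁅(P : Subgroup G), (P : Subgroup G)⁆ ≤ M)
    (hMP : M ⊓ (P : Subgroup G) ≤ ⁅(P : Subgroup G), (P : Subgroup G)⁆) :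
    ⁅L, L⁆ ⊓ (P : Subgroup G) ≤ ⁅(P : Subgroup G), (P : Subgroup G)⁆ := by
  have hPL : (P : Subgroup G) ≤ L := by rw [← hLN]; exact inf_le_left
  let PL : Sylow p L := P.subtype hPL
  have hPLmem : ∀ y : L, y ∈ (PL : Subgroup L) ↔ (y : G) ∈ (P : Subgroup G) := by
    intro y
    show y ∈ ((P.subtype hPL : Sylow p L) : Subgroup L) ↔ _
    rw [Sylow.coe_subtype]; exact Subgroup.mem_subgroupOf
  have hG := Cfsg.Agent.S4216.result PL
  let T : Subgroup L := (⁅(P : Subgroup G), (P : Subgroup G)⁆).subgroupOf L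
  have hcomm : ⁅(PL : Subgroup L), (PL : Subgroup L)⁆ ≤ T := by
    rw [Subgroup.commutator_le]
    intro a ha b hb
    show ((a * b * a⁻¹ * b⁻¹ : L) : G) ∈ ⁅(P : Subgroup G), (P : Subgroup G)⁆
    have : ((a * b * a⁻¹ * b⁻¹ : L) : G) = ⁅(a : G), (b : G)⁆ := by simp [commutatorElement_def]
    rw [this]
    exact Subgroup.commutator_mem_commutator ((hPLmem a).1 ha) ((hPLmem b).1 hb)
  have hnorm : Subgroup.normalizer ((PL : Subgroup L) : Set L) ≤ (PL : Subgroup L) := by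
    intro y hy
    rw [hPLmem, ← hLN]
    refine ⟨y.2, ?_⟩
    show (y : G) ∈ Subgroup.normalizer ((P : Subgroup G) : Set G)
    rw [Subgroup.mem_normalizer_iff] at hy ⊢
    intro h
    constructor
    · intro hh
      have := (hy ⟨h, hPL hh⟩).1 ((hPLmem _).2 hh)
      exact (hPLmem _).1 this
    · intro hh
      have hhL : h ∈ L := by
        have h1 : (y:G) * h * (y:G)⁻¹ ∈ L := hPL hh
        have : h = (y:G)⁻¹ * ((y:G) * h * (y:G)⁻¹) * (y:G) := by group
        rw [this]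
        exact L.mul_mem (L.mul_mem (L.inv_mem y.2) h1) y.2
      have := (hy ⟨h, hhL⟩).2 ((hPLmem _).2 hh)
      exact (hPLmem _).1 this
  have hRHS : (PL : Subgroup L) ⊓ commutator L ≤ T := by
    rw [hG]
    apply sup_le
    · refine le_trans inf_le_right ?_
      exact le_trans (Subgroup.commutator_mono hnorm hnorm) hcomm
    · apply iSup_le
      intro z y hy
      obtain ⟨hy1, hy2⟩ := hy
      obtain ⟨w, hw, rfl⟩ := hy2
      have hw' : (w : G) ∈ ⁅(P : Subgroup G), (P : Subgroup G)⁆ := hcomm hw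
      have h1 : ((z : G) * (w : G) * (z : G)⁻¹) ∈ M := hMn.conj_mem _ (hPM hw') _
      have h2 : ((z : G) * (w : G) * (z : G)⁻¹) ∈ (P : Subgroup G) := (hPLmem _).1 hy1
      exact hMP ⟨h1, h2⟩
  intro x hx
  have hxL : x ∈ L := hPL hx.2
  have hxc : (⟨x, hxL⟩ : L) ∈ commutator L := by
    have h1 : x ∈ (commutator L).map L.subtype := by
      rw [Subgroup.map_subtype_commutator]; exact hx.1
    obtain ⟨y, hy, hyx⟩ := h1
    have : y = ⟨x, hxL⟩ := Subtype.ext hyx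
    rwa [← this]
  exact hRHS ⟨(hPLmem _).2 hx.2, hxc⟩

theorem mem_normalizer_of_conj {G : Type*} [Group G] (E : Subgroup G) (g : G)
    (h : ∀ e ∈ E, g * e * g⁻¹ ∈ E) (h' : ∀ e ∈ E, g⁻¹ * e * g ∈ E) :
    g ∈ Subgroup.normalizer (E : Set G) := by
  rw [Subgroup.mem_normalizer_iff]
  intro x
  constructor
  · exact h x
  · intro hx
    have := h' _ hx
    have e : g⁻¹ * (g * x * g⁻¹) * g = x := by group
    rwa [e] at this

theorem core {G : Type*} [Group G] [Finite G] {p : ℕ} [Fact p.Prime] (P : Sylow p G)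
    (L M : Subgroup G) [hLn : L.Normal] [hMn : M.Normal]
    (hLN : L ⊓ Subgroup.normalizer ((P : Subgroup G) : Set G) = (P : Subgroup G))
    (hPM : ⁅(P : Subgroup G), (P : Subgroup G)⁆ ≤ M)
    (hMP : M ⊓ (P : Subgroup G) ≤ ⁅(P : Subgroup G), (P : Subgroup G)⁆) :
    ∃ K : Subgroup G, K.Normal ∧ K ⊔ Subgroup.normalizer ((P : Subgroup G) : Set G) = ⊤ ∧
      K ⊓ Subgroup.normalizer ((P : Subgroup G) : Set G) = ⊥ := by
  have hpp : p.Prime := Fact.out
  have hPL : (P : Subgroup G) ≤ L := by rw [← hLN]; exact inf_le_left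
  have hstep := grun_step P L M hLN hPM hMP
  obtain ⟨D, hD⟩ : ∃ D : Subgroup G, D = ⁅L, L⁆ := ⟨_, rfl⟩
  rw [← hD] at hstep
  have hDn : D.Normal := by rw [hD]; exact Subgroup.commutator_normal L L
  have hDL : D ≤ L := by rw [hD]; exact Subgroup.commutator_le_left L L
  have hfr : D ⊓ (P : Subgroup G) ≤ (frattini P).map (P : Subgroup G).subtype := by
    refine le_trans hstep ?_
    rw [← Subgroup.map_subtype_commutator]
    exact Subgroup.map_mono (Cfsg.Agent.Lib.Helper1.pgroup_commutator_le_frattini P.isPGroup')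
  obtain ⟨Q, K₀, hK₀n, hcompl⟩ := Cfsg.Agent.S0081.result P D hfr
  have hchar : ∀ y : D, y ∈ K₀ ↔ Nat.Coprime (orderOf y) p :=
    fun y => Cfsg.Agent.S0086.result Q K₀ hcompl y
  let K : Subgroup G := K₀.map D.subtype
  have hKmem : ∀ x : G, x ∈ K ↔ x ∈ D ∧ Nat.Coprime (orderOf x) p := by
    intro x
    constructor
    · rintro ⟨y, hy, rfl⟩
      refine ⟨y.2, ?_⟩
      have := (hchar y).1 hy
      rwa [← Subgroup.orderOf_coe] at this
    · rintro ⟨hxD, hx⟩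
      refine ⟨⟨x, hxD⟩, (hchar _).2 ?_, rfl⟩
      rwa [← Subgroup.orderOf_coe]
  have hKn : K.Normal := by
    refine ⟨fun x hx g => ?_⟩
    rw [hKmem] at hx ⊢
    refine ⟨hDn.conj_mem x hx.1 g, ?_⟩
    have : orderOf (g * x * g⁻¹) = orderOf x := (MulAut.conj g).orderOf_eq x
    rw [this]; exact hx.2
  refine ⟨K, hKn, ?_, ?_⟩
  · -- K ⊔ N = ⊤
    have hLNtop := frattini_arg P L hPL
    obtain ⟨E, hE⟩ : ∃ E : Subgroup G, E = (P : Subgroup G) ⊔ D := ⟨_, rfl⟩
    have hEL : E ≤ L := by rw [hE]; exact sup_le hPL hDL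
    have hDE : D ≤ E := by rw [hE]; exact le_sup_right
    have hPE : (P : Subgroup G) ≤ E := by rw [hE]; exact le_sup_left
    have h1 : ∀ g ∈ L, ∀ e ∈ E, g * e * g⁻¹ ∈ E := by
      intro g hg e he
      have : g * e * g⁻¹ = ⁅g, e⁆ * e := by simp [commutatorElement_def]
      rw [this]
      refine E.mul_mem (hDE ?_) he
      rw [hD]
      exact Subgroup.commutator_mem_commutator hg (hEL he)
    have h2 : ∀ g ∈ Subgroup.normalizer ((P : Subgroup G) : Set G), ∀ e ∈ E, g * e * g⁻¹ ∈ E := by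
      intro g hg e he
      rw [hE] at he
      obtain ⟨a, ha, d, hd, rfl⟩ := Subgroup.mem_sup_of_normal_right.1 he
      have : g * (a * d) * g⁻¹ = (g * a * g⁻¹) * (g * d * g⁻¹) := by group
      rw [this]
      exact E.mul_mem (hPE ((Subgroup.mem_normalizer_iff.1 hg a).1 ha)) (hDE (hDn.conj_mem d hd g))
    have hEn : E.Normal := by
      rw [← Subgroup.normalizer_eq_top_iff, eq_top_iff, ← hLNtop]
      apply sup_le
      · intro g hg
        apply mem_normalizer_of_conj E g (h2 g hg)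
        intro e he
        have := h2 g⁻¹ (Subgroup.inv_mem _ hg) e he
        rwa [inv_inv] at this
      · intro g hg
        apply mem_normalizer_of_conj E g (h1 g hg)
        intro e he
        have := h1 g⁻¹ (Subgroup.inv_mem _ hg) e he
        rwa [inv_inv] at this
    have hEtop := frattini_arg P E hPE
    have hPN : (P : Subgroup G) ≤ Subgroup.normalizer ((P : Subgroup G) : Set G) :=
      Subgroup.le_normalizer
    have hDK : D ≤ K ⊔ Subgroup.normalizer ((P : Subgroup G) : Set G) := by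
      obtain ⟨P₂, hP₂⟩ := (Q.isPGroup'.map D.subtype).exists_le_sylow
      obtain ⟨g, hg⟩ := MulAction.exists_smul_eq G P P₂
      have hconj : ∀ x ∈ (P₂ : Subgroup G), g⁻¹ * x * g ∈ (P : Subgroup G) := by
        intro x hx
        rw [← hg, Sylow.smul_def, Sylow.pointwise_smul_def,
          Subgroup.mem_pointwise_smul_iff_inv_smul_mem, MulAut.smul_def,
          MulAut.conj_inv_apply] at hx
        exact hx
      intro d hd
      have hd' : g * d * g⁻¹ ∈ D := hDn.conj_mem d hd g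
      obtain ⟨⟨k, q⟩, hkq⟩ := hcompl.2 ⟨g * d * g⁻¹, hd'⟩
      have hkq' : ((k : D) : G) * ((q : D) : G) = g * d * g⁻¹ := congrArg Subtype.val hkq
      have hkK : ((k : D) : G) ∈ K := ⟨k, k.2, rfl⟩
      have hqP : ((q : D) : G) ∈ (P₂ : Subgroup G) := hP₂ ⟨q, q.2, rfl⟩
      have e : d = (g⁻¹ * ((k : D) : G) * g⁻¹⁻¹) * (g⁻¹ * ((q : D) : G) * g) := by
        have : d = g⁻¹ * (g * d * g⁻¹) * g := by group
        rw [this, ← hkq']; group
      rw [e]
      exact Subgroup.mul_mem _ ((le_sup_left : K ≤ _) (hKn.conj_mem _ hkK _))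
        ((le_sup_right : _ ≤ K ⊔ _) (hPN (hconj _ hqP)))
    rw [eq_top_iff, ← hEtop, hE]
    exact sup_le le_sup_right (sup_le (le_trans hPN le_sup_right) hDK)
  · rw [eq_bot_iff]
    intro x hx
    obtain ⟨hxK, hxN⟩ := hx
    have hxK := (hKmem x).1 hxK
    have hxP : x ∈ (P : Subgroup G) := by rw [← hLN]; exact ⟨hDL hxK.1, hxN⟩
    obtain ⟨k, hk⟩ := P.isPGroup' ⟨x, hxP⟩
    have hk' : x ^ p ^ k = 1 := congrArg Subtype.val hk
    have h1 : orderOf x ∣ p ^ k := orderOf_dvd_of_pow_eq_one hk'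
    have h2 : Nat.Coprime (orderOf x) (p ^ k) := Nat.Coprime.pow_right k hxK.2
    have h3 : orderOf x = 1 := Nat.Coprime.eq_one_of_dvd h2 h1
    exact orderOf_eq_one_iff.1 h3

theorem sep {H : Type*} [Group H] [Finite H] (y : H) (hy : y ≠ 1) :
    ∃ ψ : IrrCharacter H, (ψ : H → ℂ) y ≠ (ψ : H → ℂ) 1 := by
  classical
  haveI := Fintype.ofFinite H
  haveI : Fintype (IrrCharacter H) := Fintype.ofFinite _
  by_contra hcon
  push Not at hcon
  have h1 := Cfsg.Agent.Lib.Helper7.column_orthogonality_ne (g := y) (h := 1)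
    (by intro h; exact hy (isConj_one_left.1 h))
  have h2 := Cfsg.Agent.Lib.Helper7.column_orthogonality_self (G := H) 1
  simp_rw [hcon] at h1
  rw [h1] at h2
  have h3 : (Nat.card (Subgroup.centralizer ({1} : Set H)) : ℂ) ≠ 0 := by
    exact_mod_cast Nat.card_pos.ne'
  exact h3 h2.symm

theorem c1 {H : Type*} [Group H] [Finite H] {p : ℕ} (Q : Subgroup H) [Q.Normal]
    (hQ : ¬ p ∣ Q.index) (x : H) (hx : x ∉ Q) :
    ∃ θ : IrrCharacter H, (∀ u ∈ Q, (θ : H → ℂ) u = (θ : H → ℂ) 1) ∧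
      (θ : H → ℂ) x ≠ (θ : H → ℂ) 1 ∧ ¬ p ∣ charDegree (θ : H → ℂ) := by
  have hx' : (x : H ⧸ Q) ≠ 1 := by rwa [Ne, QuotientGroup.eq_one_iff]
  obtain ⟨ψ, hψ⟩ := sep (x : H ⧸ Q) hx'
  refine ⟨Cfsg.Agent.Lib.Helper7.inflI Q ψ, ?_, hψ, ?_⟩
  · intro u hu
    show (ψ : _ → ℂ) (u : H ⧸ Q) = (ψ : _ → ℂ) ((1 : H) : H ⧸ Q)
    rw [(QuotientGroup.eq_one_iff u).2 hu]; rfl
  · intro hdvd
    have h1 : charDegree (Cfsg.Agent.Lib.Helper7.inflI Q ψ : H → ℂ)
        = charDegree (ψ : H ⧸ Q → ℂ) := rfl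
    have h2 := Cfsg.Agent.Lib.Helper7.charDegree_dvd_card ψ
    rw [← Subgroup.index_eq_card] at h2
    exact hQ (dvd_trans (h1 ▸ hdvd) h2)

theorem c2 {H : Type*} [Group H] [Finite H] {p : ℕ} (Q : Subgroup H) [hQn : Q.Normal]
    (hQ : ¬ p ∣ Q.index) (x : H) (hx : x ∉ ⁅Q, Q⁆) :
    ∃ θ : IrrCharacter H, (θ : H → ℂ) x ≠ (θ : H → ℂ) 1 ∧ ¬ p ∣ charDegree (θ : H → ℂ) := by
  obtain ⟨R, hR⟩ : ∃ R : Subgroup H, R = ⁅Q, Q⁆ := ⟨_, rfl⟩
  have hRn : R.Normal := by rw [hR]; exact Subgroup.commutator_normal Q Q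
  have hRQ : R ≤ Q := by rw [hR]; exact Subgroup.commutator_le_left Q Q
  rw [← hR] at hx
  have hx' : (x : H ⧸ R) ≠ 1 := by rwa [Ne, QuotientGroup.eq_one_iff]
  obtain ⟨ψ, hψ⟩ := sep (x : H ⧸ R) hx'
  refine ⟨Cfsg.Agent.Lib.Helper7.inflI R ψ, hψ, ?_⟩
  intro hdvd
  have h1 : charDegree (Cfsg.Agent.Lib.Helper7.inflI R ψ : H → ℂ)
      = charDegree (ψ : H ⧸ R → ℂ) := rfl
  rw [h1] at hdvd
  obtain ⟨ψf, n, ρ, hirr, rfl⟩ := ψ
  have hAn : (Q.map (QuotientGroup.mk' R)).Normal :=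
    hQn.map _ (QuotientGroup.mk'_surjective R)
  have hcomm : ∀ a ∈ Q.map (QuotientGroup.mk' R), ∀ b ∈ Q.map (QuotientGroup.mk' R),
      a * b = b * a := by
    rintro _ ⟨a, ha, rfl⟩ _ ⟨b, hb, rfl⟩
    rw [← map_mul, ← map_mul]
    apply QuotientGroup.eq.2
    have : (a * b)⁻¹ * (b * a) = ⁅b⁻¹, a⁻¹⁆ := by simp [commutatorElement_def, mul_assoc]
    rw [this, hR]
    exact Subgroup.commutator_mem_commutator (Q.inv_mem hb) (Q.inv_mem ha)
  have h2 := Cfsg.Agent.S0169.result ρ (Q.map (QuotientGroup.mk' R)) hcomm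
  have h3 : (Q.map (QuotientGroup.mk' R)).index = Q.index :=
    Subgroup.index_map_eq _ (QuotientGroup.mk'_surjective R) (by rwa [QuotientGroup.ker_mk'])
  rw [h3] at h2
  have h4 : charDegree (ρ.character) = Module.finrank ℂ (Fin n → ℂ) := by
    simp [charDegree]
  apply hQ
  refine dvd_trans ?_ h2
  rw [← h4]
  exact hdvd

/-- the common kernel of a family of irreducible characters -/
def kerInf {G : Type*} [Group G] [Finite G] (S : IrrCharacter G → Prop) : Subgroup G where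
  carrier := {g | ∀ χ : IrrCharacter G, S χ → (χ : G → ℂ) g = (χ : G → ℂ) 1}
  one_mem' := fun _ _ => rfl
  mul_mem' := by
    intro a b ha hb χ hχ
    show (χ : G → ℂ) (a * b) = (χ : G → ℂ) 1
    rw [Cfsg.Agent.Lib.Helper25.char_mul_of_mem_ker
      (Cfsg.Agent.Lib.Helper7.isCharacter_of_irr χ.2) (ha χ hχ) b]
    exact hb χ hχ
  inv_mem' := by
    intro a ha χ hχ
    show (χ : G → ℂ) a⁻¹ = (χ : G → ℂ) 1
    have := Cfsg.Agent.Lib.Helper25.char_mul_of_mem_ker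
      (Cfsg.Agent.Lib.Helper7.isCharacter_of_irr χ.2) (ha χ hχ) a⁻¹
    rw [mul_inv_cancel] at this
    exact this.symm

theorem mem_kerInf {G : Type*} [Group G] [Finite G] (S : IrrCharacter G → Prop) (g : G) :
    g ∈ kerInf S ↔ ∀ χ : IrrCharacter G, S χ → (χ : G → ℂ) g = (χ : G → ℂ) 1 := Iff.rfl

theorem kerInf_normal {G : Type*} [Group G] [Finite G] (S : IrrCharacter G → Prop) :
    (kerInf S).Normal := by
  refine ⟨fun n hn g χ hχ => ?_⟩
  show (χ : G → ℂ) (g * n * g⁻¹) = (χ : G → ℂ) 1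
  rw [Cfsg.Agent.Lib.Helper7.isClassFunction_of_isCharacter
    (Cfsg.Agent.Lib.Helper7.isCharacter_of_irr χ.2)]
  exact hn χ hχ

theorem forward {G : Type*} [Group G] [Finite G] (p : ℕ) [Fact p.Prime] (P : Sylow p G)
    (hyp : ∀ θ : Cfsg.IrrCharacter ↥(Subgroup.normalizer ((P : Subgroup G) : Set G)), ¬ p ∣ Cfsg.charDegree (θ : ↥(Subgroup.normalizer ((P : Subgroup G) : Set G)) → ℂ) →
        ∃ χ : Cfsg.IrrCharacter G, ∀ x : ↥(Subgroup.normalizer ((P : Subgroup G) : Set G)), (χ : G → ℂ) x = (θ : ↥(Subgroup.normalizer ((P : Subgroup G) : Set G)) → ℂ) x) :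
    ∃ K : Subgroup G, K.Normal ∧ K ⊔ Subgroup.normalizer ((P : Subgroup G) : Set G) = ⊤ ∧ K ⊓ Subgroup.normalizer ((P : Subgroup G) : Set G) = ⊥ := by
  obtain ⟨N, hN⟩ : ∃ N : Subgroup G, N = Subgroup.normalizer ((P : Subgroup G) : Set G) := ⟨_, rfl⟩
  rw [← hN] at hyp ⊢
  have hPN : (P : Subgroup G) ≤ N := by rw [hN]; exact Subgroup.le_normalizer
  obtain ⟨Q, hQ⟩ : ∃ Q : Subgroup N, Q = (P : Subgroup G).subgroupOf N := ⟨_, rfl⟩
  have hQmem : ∀ y : N, y ∈ Q ↔ (y : G) ∈ (P : Subgroup G) := by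
    intro y; rw [hQ]; exact Subgroup.mem_subgroupOf
  have hQn : Q.Normal := by
    rw [hQ, hN]; exact Subgroup.normal_in_normalizer
  have hQi : ¬ p ∣ Q.index := by
    intro h
    apply P.not_dvd_index
    have h1 : Q.index = (P : Subgroup G).relIndex N := by rw [hQ]; rfl
    rw [← Subgroup.relIndex_mul_index hPN, ← h1]
    exact Dvd.dvd.mul_right h _
  have hQp : IsPGroup p Q := by
    rw [hQ]
    exact P.isPGroup'.comap_of_injective N.subtype N.subtype_injective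
  have hQmap : Q.map N.subtype = (P : Subgroup G) := by
    rw [hQ]; exact Subgroup.map_subgroupOf_eq_of_le hPN
  have hcmap : (⁅Q, Q⁆).map N.subtype = ⁅(P : Subgroup G), (P : Subgroup G)⁆ := by
    rw [Subgroup.map_commutator, hQmap]
  let SM : IrrCharacter G → Prop := fun χ => ∃ θ : IrrCharacter N,
    ¬ p ∣ charDegree (θ : N → ℂ) ∧ ∀ x : N, (χ : G → ℂ) x = (θ : N → ℂ) x
  let SL : IrrCharacter G → Prop := fun χ => ∃ θ : IrrCharacter N,
    ¬ p ∣ charDegree (θ : N → ℂ) ∧ (∀ u ∈ Q, (θ : N → ℂ) u = (θ : N → ℂ) 1) ∧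
      ∀ x : N, (χ : G → ℂ) x = (θ : N → ℂ) x
  have hLn := kerInf_normal SL
  have hMn := kerInf_normal SM
  have hLN : kerInf SL ⊓ N = (P : Subgroup G) := by
    apply le_antisymm
    · intro x hx
      obtain ⟨hxL, hxN⟩ := hx
      by_contra hxP
      have hxQ : (⟨x, hxN⟩ : N) ∉ Q := by rw [hQmem]; exact hxP
      obtain ⟨θ, h1, h2, h3⟩ := c1 Q hQi ⟨x, hxN⟩ hxQ
      obtain ⟨χ, hχ⟩ := hyp θ h3
      have h4 := hxL χ ⟨θ, h3, h1, hχ⟩
      apply h2
      rw [← hχ ⟨x, hxN⟩, ← hχ 1]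
      exact h4
    · intro x hx
      refine ⟨?_, hPN hx⟩
      rintro χ ⟨θ, h3, h1, hχ⟩
      have h5 := h1 ⟨x, hPN hx⟩ ((hQmem _).2 hx)
      rw [← hχ ⟨x, hPN hx⟩, ← hχ 1] at h5
      exact h5
  have hPM : ⁅(P : Subgroup G), (P : Subgroup G)⁆ ≤ kerInf SM := by
    intro x hx
    rw [← hcmap] at hx
    obtain ⟨y, hy, rfl⟩ := hx
    rintro χ ⟨θ, h3, hχ⟩
    have h5 := Cfsg.Agent.Lib.Helper25.eq_degree_on_commutator_of_not_dvd Q hQp θ.2 h3 y hy
    rw [← hχ y, ← hχ 1] at h5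
    exact h5
  have hMP : kerInf SM ⊓ (P : Subgroup G) ≤ ⁅(P : Subgroup G), (P : Subgroup G)⁆ := by
    intro x hx
    obtain ⟨hxM, hxP⟩ := hx
    by_contra hxc
    have hxQ : (⟨x, hPN hxP⟩ : N) ∉ ⁅Q, Q⁆ := by
      intro h
      apply hxc
      rw [← hcmap]
      exact ⟨_, h, rfl⟩
    obtain ⟨θ, h2, h3⟩ := c2 Q hQi ⟨x, hPN hxP⟩ hxQ
    obtain ⟨χ, hχ⟩ := hyp θ h3
    have h4 := hxM χ ⟨θ, h3, hχ⟩
    apply h2
    rw [← hχ ⟨x, hPN hxP⟩, ← hχ 1]
    exact h4
  rw [hN] at hLN ⊢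
  exact core P (kerInf SL) (kerInf SM) hLN hPM hMP

theorem backward {G : Type*} [Group G] [Finite G] (N K : Subgroup G) [hKn : K.Normal]
    (htop : K ⊔ N = ⊤) (hbot : K ⊓ N = ⊥) (θ : IrrCharacter N) :
    ∃ χ : IrrCharacter G, ∀ x : N, (χ : G → ℂ) x = (θ : N → ℂ) x := by
  let f : N →* G ⧸ K := (QuotientGroup.mk' K).comp N.subtype
  have hinj : Function.Injective f := by
    rw [injective_iff_map_eq_one]
    intro n hn
    have h1 : (n : G) ∈ K := (QuotientGroup.eq_one_iff (n : G)).1 hn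
    have h2 : (n : G) ∈ K ⊓ N := ⟨h1, n.2⟩
    rw [hbot, Subgroup.mem_bot] at h2
    exact Subtype.ext h2
  have hsurj : Function.Surjective f := by
    intro q
    obtain ⟨g, rfl⟩ := QuotientGroup.mk'_surjective K q
    have hg : g ∈ N ⊔ K := by rw [sup_comm, htop]; trivial
    obtain ⟨n, hn, k, hk, rfl⟩ := Subgroup.mem_sup_of_normal_right.1 hg
    refine ⟨⟨n, hn⟩, ?_⟩
    show QuotientGroup.mk' K n = QuotientGroup.mk' K (n * k)
    rw [map_mul]
    have : QuotientGroup.mk' K k = 1 := (QuotientGroup.eq_one_iff k).2 hk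
    rw [this, mul_one]
  let e : N ≃* G ⧸ K := MulEquiv.ofBijective f ⟨hinj, hsurj⟩
  let π : G →* N := e.symm.toMonoidHom.comp (QuotientGroup.mk' K)
  have hπ : ∀ n : N, π (n : G) = n := by
    intro n
    show e.symm (f n) = n
    exact e.symm_apply_apply n
  have hπs : Function.Surjective π := fun n => ⟨n, hπ n⟩
  refine ⟨⟨fun g => (θ : N → ℂ) (π g),
    Cfsg.Agent.Lib.Helper25.isIrrCharacter_comp_surjective π hπs θ.2⟩, ?_⟩
  intro x
  show (θ : N → ℂ) (π (x : G)) = (θ : N → ℂ) x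
  rw [hπ]

/-- Let G be a finite group, p a prime and P a Sylow p-subgroup of G with normalizer N. Then every irreducible complex character of N of degree not divisible by p is the restriction of an irreducible character of G if and only if there is a normal subgroup K of G with KN = G and K ∩ N = 1. -/
theorem result {G : Type*} [Group G] [Finite G] (p : ℕ) [Fact p.Prime] (P : Sylow p G) :
    (∀ θ : Cfsg.IrrCharacter ↥(Subgroup.normalizer ((P : Subgroup G) : Set G)), ¬ p ∣ Cfsg.charDegree (θ : ↥(Subgroup.normalizer ((P : Subgroup G) : Set G)) → ℂ) →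
        ∃ χ : Cfsg.IrrCharacter G, ∀ x : ↥(Subgroup.normalizer ((P : Subgroup G) : Set G)), (χ : G → ℂ) x = (θ : ↥(Subgroup.normalizer ((P : Subgroup G) : Set G)) → ℂ) x) ↔
      ∃ K : Subgroup G, K.Normal ∧ K ⊔ Subgroup.normalizer ((P : Subgroup G) : Set G) = ⊤ ∧ K ⊓ Subgroup.normalizer ((P : Subgroup G) : Set G) = ⊥ := by
  constructor
  · exact forward p P
  · rintro ⟨K, hKn, htop, hbot⟩ θ _
    exact backward _ K htop hbot θ

end Cfsg.Agent.S4931
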