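import Cfsg.Statements.S4591
import Cfsg.Agent.S4931
import Cfsg.Agent.Lib.Helper25.Glaub15
import Cfsg.Agent.Lib.Helper25.FS5
import Cfsg.Agent.Lib.Helper7.CharComplete
import Cfsg.Agent.Lib.Helper2.CharInt

set_option autoImplicit false
open Cfsg
open scoped commutatorElement

namespace Cfsg.Agent.S4591

theorem dvd_sum_not_fixed_ring {X : Type*} [Fintype X] {R : Type*} [CommRing R] {p : ℕ}
    (hp : p.Prime) (A : Subgroup (Equiv.Perm X)) (hA : IsPGroup p A) (f : X → R)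
    (hf : ∀ a ∈ A, ∀ x, f (a x) = f x) (s : Finset X)
    (hs : ∀ x, x ∈ s ↔ ¬ ∀ a ∈ A, a x = x) : (p : R) ∣ ∑ x ∈ s, f x := by
  classical
  have : Fact p.Prime := ⟨hp⟩
  rw [Finset.sum_partition (MulAction.orbitRel A X)]
  refine Finset.dvd_sum fun q hq => ?_
  obtain ⟨x, hx, rfl⟩ := Finset.mem_image.1 hq
  have hmem : ∀ y, (Quotient.mk (MulAction.orbitRel A X) y = Quotient.mk _ x) ↔
      y ∈ MulAction.orbit A x := by
    intro y
    rw [Quotient.eq]
    exact MulAction.orbitRel_apply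
  have hfilter : s.filter (fun y => Quotient.mk (MulAction.orbitRel A X) y = Quotient.mk _ x) =
      (MulAction.orbit A x).toFinset := by
    ext y
    rw [Finset.mem_filter, Set.mem_toFinset, hmem]
    refine ⟨fun h => h.2, fun h => ⟨?_, h⟩⟩
    obtain ⟨a, rfl⟩ := h
    rw [hs]
    intro hfix
    apply (hs x).1 hx
    intro b hb
    have h1 := hfix (a * ⟨b, hb⟩ * a⁻¹ : A) (a * ⟨b, hb⟩ * a⁻¹ : A).2
    have h2 : ((a * ⟨b, hb⟩ * a⁻¹ : A) : Equiv.Perm X) (a • x) = (a : Equiv.Perm X) (b x) := by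
      show (a : Equiv.Perm X) (b ((a : Equiv.Perm X)⁻¹ ((a : Equiv.Perm X) x))) = _
      simp
    rw [h2] at h1
    exact (a : Equiv.Perm X).injective h1
  rw [hfilter, Finset.sum_congr rfl (g := fun _ => f x)]
  · rw [Finset.sum_const, nsmul_eq_mul]
    apply Dvd.dvd.mul_right
    obtain ⟨n, hn⟩ := hA.card_orbit x
    rw [Set.toFinset_card, ← Nat.card_eq_fintype_card, hn]
    have hn0 : n ≠ 0 := by
      rintro rfl
      rw [pow_zero, Nat.card_eq_fintype_card, ← MulAction.mem_fixedPoints_iff_card_orbit_eq_one] at hn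
      apply (hs x).1 hx
      intro a ha
      exact hn ⟨a, ha⟩
    exact Nat.cast_dvd_cast (dvd_pow_self p hn0)
  · intro y hy
    rw [Set.mem_toFinset] at hy
    obtain ⟨a, rfl⟩ := hy
    exact hf a a.2 x

theorem nat_dvd_of_integral {p d : ℕ} (hp : p ≠ 0) {α : ℂ} (hα : IsIntegral ℤ α)
    (h : (d : ℂ) = (p : ℂ) * α) : p ∣ d := by
  have hp' : (p : ℂ) ≠ 0 := by exact_mod_cast hp
  have hq : α = (((d : ℚ) / (p : ℚ) : ℚ) : ℂ) := by
    push_cast
    field_simp
    rw [h]; ring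
  obtain ⟨k, hk⟩ := Cfsg.Agent.Lib.Helper2.exists_int_of_isIntegral_of_rat hα _ hq
  rw [hk] at h
  have h2 : (d : ℤ) = (p : ℤ) * k := by exact_mod_cast h
  have h3 : (p : ℤ) ∣ (d : ℤ) := ⟨k, h2⟩
  exact_mod_cast h3

theorem stepA {G : Type*} [Group G] [Finite G] {p : ℕ} [hpf : Fact p.Prime] (P : Subgroup G)
    (hP : IsPGroup p P) (N : Subgroup G) [hNn : N.Normal]
    (hN : N ⊓ Subgroup.centralizer (P : Set G) = ⊥)
    {χ : G → ℂ} (hχ : IsIrrCharacter G χ) (hpd : ¬ p ∣ charDegree χ) : ∀ n ∈ N, χ n = χ 1 := by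
  classical
  have := Fintype.ofFinite G
  have : Fintype N := Fintype.ofFinite N
  by_contra hcon
  have hc := Cfsg.Agent.Lib.Helper7.isCharacter_of_irr hχ
  have havg := Cfsg.Agent.Lib.Helper25.avg_normal N hχ 1
  rw [if_neg hcon] at havg
  have hsum : ∑ n : N, χ (n : G) = 0 := by
    simp only [mul_one] at havg
    rcases mul_eq_zero.1 havg with h | h
    · exfalso
      have h0 : (Nat.card N : ℂ) ≠ 0 := by exact_mod_cast Nat.card_pos.ne'
      exact (inv_ne_zero h0) h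
    · exact h
  let φ : P →* Equiv.Perm N :=
    (MulAut.toPerm N).comp ((MulAut.conjNormal (H := N)).comp P.subtype)
  have hφ : ∀ (y : P) (x : N), ((φ y x : N) : G) = (y : G) * x * (y : G)⁻¹ := fun y x => rfl
  have hA : IsPGroup p φ.range := hP.of_surjective φ.rangeRestrict φ.rangeRestrict_surjective
  let f : N → AlgInt := fun n => ⟨χ n, Cfsg.Agent.Lib.Helper7.char_isIntegral hc n⟩
  have hf : ∀ a ∈ φ.range, ∀ x, f (a x) = f x := by
    rintro _ ⟨y, rfl⟩ x
    apply Subtype.ext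
    show χ ((φ y x : N) : G) = χ x
    rw [hφ, Cfsg.Agent.Lib.Helper7.isClassFunction_of_isCharacter hc]
  have hs : ∀ x : N, x ∈ (Finset.univ.filter (fun x : N => x ≠ 1)) ↔
      ¬ ∀ a ∈ φ.range, a x = x := by
    intro x
    rw [Finset.mem_filter, not_iff_not.symm]
    simp only [Finset.mem_univ, true_and, not_not]
    constructor
    · rintro rfl _ ⟨y, rfl⟩
      apply Subtype.ext
      rw [hφ]; simp
    · intro h
      have hx : (x : G) ∈ N ⊓ Subgroup.centralizer (P : Set G) := by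
        refine ⟨x.2, ?_⟩
        show (x : G) ∈ Subgroup.centralizer (P : Set G)
        rw [Subgroup.mem_centralizer_iff]
        intro y hy
        have h1 := h (φ ⟨y, hy⟩) ⟨_, rfl⟩
        have h2 : y * (x : G) * y⁻¹ = x := by
          have := congrArg Subtype.val h1
          rwa [hφ] at this
        calc y * (x : G) = y * x * y⁻¹ * y := by group
          _ = x * y := by rw [h2]
      rw [hN, Subgroup.mem_bot] at hx
      exact Subtype.ext hx
  obtain ⟨α, hα⟩ := dvd_sum_not_fixed_ring hpf.out φ.range hA f hf _ hs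
  have hα' : ∑ x ∈ Finset.univ.filter (fun x : N => x ≠ 1), χ (x : G) = (p : ℂ) * (α : ℂ) := by
    have := congrArg (Subtype.val) hα
    simpa [f] using this
  have hsplit : ∑ n : N, χ (n : G) = χ 1 +
      ∑ x ∈ Finset.univ.filter (fun x : N => x ≠ 1), χ (x : G) := by
    rw [← Finset.sum_filter_add_sum_filter_not Finset.univ (fun x : N => x = 1)]
    congr 1
    rw [Finset.filter_eq' Finset.univ (1 : N)]
    simp
  rw [hsum, hα', Cfsg.Agent.Lib.Helper25.apply_one_eq_charDegree hχ] at hsplit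
  apply hpd
  apply nat_dvd_of_integral hpf.out.ne_zero (α := -(α : ℂ)) (IsIntegral.neg α.2)
  linear_combination -hsplit

theorem ker_constituent {A : Type*} [Group A] [Finite A] [Fintype (IrrCharacter A)]
    (m : IrrCharacter A → ℕ) (x : A)
    (h : ∑ ψ : IrrCharacter A, (m ψ : ℂ) * (ψ : A → ℂ) x = ∑ ψ : IrrCharacter A, (m ψ : ℂ) * (ψ : A → ℂ) 1)
    (θ : IrrCharacter A) (hθ : m θ ≠ 0) : (θ : A → ℂ) x = (θ : A → ℂ) 1 := by
  have hle : ∀ ψ : IrrCharacter A, ((ψ : A → ℂ) x).re ≤ ((ψ : A → ℂ) 1).re := fun ψ =>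
    le_trans (Complex.re_le_norm _)
      (Cfsg.Agent.Lib.Helper7.char_norm_le (Cfsg.Agent.Lib.Helper7.isCharacter_of_irr ψ.2) x)
  have h0 : ∑ ψ : IrrCharacter A, (m ψ : ℝ) * (((ψ : A → ℂ) 1).re - ((ψ : A → ℂ) x).re) = 0 := by
    have h1 := congrArg Complex.re h
    simp only [Complex.re_sum, Complex.mul_re, Complex.natCast_re, Complex.natCast_im, zero_mul,
      sub_zero] at h1
    simp only [mul_sub, Finset.sum_sub_distrib]
    rw [h1]; ring
  have h2 := (Finset.sum_eq_zero_iff_of_nonneg (fun ψ _ =>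
    mul_nonneg (Nat.cast_nonneg (m ψ)) (sub_nonneg.2 (hle ψ)))).1 h0 θ (Finset.mem_univ θ)
  have hm : (m θ : ℝ) ≠ 0 := by exact_mod_cast hθ
  have h3 : ((θ : A → ℂ) x).re = ((θ : A → ℂ) 1).re := by
    rcases mul_eq_zero.1 h2 with h | h
    · exact absurd h hm
    · linarith
  obtain ⟨d, -, hd⟩ := Cfsg.Agent.Lib.Helper7.irr_apply_one θ.2
  have h4 := Cfsg.Agent.Lib.Helper7.char_norm_le
    (Cfsg.Agent.Lib.Helper7.isCharacter_of_irr θ.2) x
  have h5 : ((θ : A → ℂ) x).im = 0 := by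
    have h6 : ‖(θ : A → ℂ) x‖ ^ 2 = ((θ : A → ℂ) x).re ^ 2 + ((θ : A → ℂ) x).im ^ 2 := by
      rw [Complex.sq_norm, Complex.normSq_apply]; ring
    have h7 : ‖(θ : A → ℂ) x‖ ^ 2 ≤ (((θ : A → ℂ) 1).re) ^ 2 :=
      pow_le_pow_left₀ (norm_nonneg _) h4 2
    rw [h6, h3] at h7
    have h8 : ((θ : A → ℂ) x).im ^ 2 ≤ 0 := by linarith
    have h9 : ((θ : A → ℂ) x).im ^ 2 = 0 := le_antisymm h8 (sq_nonneg _)
    exact pow_eq_zero_iff (two_ne_zero) |>.1 h9
  apply Complex.ext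
  · exact h3
  · rw [h5, hd]; simp

theorem lemmaL {G : Type*} [Group G] [Finite G] {p : ℕ} [hpf : Fact p.Prime] (A : Subgroup G)
    (hA : ¬ p ∣ A.index) (θ : IrrCharacter A) (hθ : ¬ p ∣ charDegree (θ : A → ℂ)) (x : A)
    (hx : (θ : A → ℂ) x ≠ (θ : A → ℂ) 1) :
    ∃ χ : IrrCharacter G, ¬ p ∣ charDegree (χ : G → ℂ) ∧ (χ : G → ℂ) x ≠ (χ : G → ℂ) 1 := by
  classical
  have := Fintype.ofFinite G
  have : Fintype A := Fintype.ofFinite A
  have : Fintype (IrrCharacter G) := Fintype.ofFinite _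
  have : Fintype (IrrCharacter A) := Fintype.ofFinite _
  have hres : ∀ χ : IrrCharacter G, IsCharacter A (fun a : A => (χ : G → ℂ) a) := fun χ =>
    Cfsg.Agent.Lib.Helper7.isCharacter_restrict (Cfsg.Agent.Lib.Helper7.isCharacter_of_irr χ.2) A
  choose n hn using fun χ : IrrCharacter G =>
    Cfsg.Agent.Lib.Helper7.classInner_char_nat (hres χ) (Cfsg.Agent.Lib.Helper7.isCharacter_of_irr θ.2)
  have hcardA : (Nat.card A : ℂ) ≠ 0 := by exact_mod_cast Nat.card_pos.ne'
  have hsum : ∑ χ : IrrCharacter G, charDegree (χ : G → ℂ) * n χ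
      = A.index * charDegree (θ : A → ℂ) := by
    have h1 : ∑ χ : IrrCharacter G, ((charDegree (χ : G → ℂ) : ℂ) * (n χ : ℂ))
        = (A.index : ℂ) * (charDegree (θ : A → ℂ) : ℂ) := by
      simp_rw [← hn, ← Cfsg.Agent.Lib.Helper25.apply_one_eq_charDegree (Subtype.prop _)]
      unfold classInner
      simp_rw [Finset.mul_sum]
      rw [Finset.sum_comm]
      have h3 : ∀ a : A, ∑ χ : IrrCharacter G, (χ : G → ℂ) 1 * ((Nat.card A : ℂ)⁻¹ *
          ((χ : G → ℂ) a * (starRingEnd ℂ) ((θ : A → ℂ) a)))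
          = if a = 1 then (A.index : ℂ) * (θ : A → ℂ) 1 else 0 := by
        intro a
        have h4 := Cfsg.Agent.Lib.Helper7.column_orthogonality (a : G) 1
        simp only [Cfsg.Agent.Lib.Helper7.conj_irr_one] at h4
        have h5 : ∑ χ : IrrCharacter G, (χ : G → ℂ) 1 * ((Nat.card A : ℂ)⁻¹ *
            ((χ : G → ℂ) a * (starRingEnd ℂ) ((θ : A → ℂ) a)))
            = (Nat.card A : ℂ)⁻¹ * (starRingEnd ℂ) ((θ : A → ℂ) a) *
              ∑ χ : IrrCharacter G, (χ : G → ℂ) a * (χ : G → ℂ) 1 := by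
          rw [Finset.mul_sum]
          exact Finset.sum_congr rfl fun χ _ => by ring
        rw [h5, h4]
        by_cases ha : a = 1
        · subst ha
          rw [if_pos rfl, if_pos (by simp)]
          have hcen : Subgroup.centralizer ({((1 : A) : G)} : Set G) = ⊤ := by
            rw [eq_top_iff]; intro x _; simp [Subgroup.mem_centralizer_iff]
          rw [hcen, Subgroup.card_top, ← A.card_mul_index,
            Cfsg.Agent.Lib.Helper7.conj_irr_one θ]
          push_cast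
          field_simp
        · rw [if_neg ha, if_neg, mul_zero]
          intro hc
          apply ha
          have := isConj_one_right.mp hc.symm
          exact Subtype.ext this
      simp_rw [h3]
      simp
    exact_mod_cast h1
  have hex : ∃ χ : IrrCharacter G, ¬ p ∣ charDegree (χ : G → ℂ) * n χ := by
    by_contra hcon
    push Not at hcon
    have : p ∣ A.index * charDegree (θ : A → ℂ) := by
      rw [← hsum]; exact Finset.dvd_sum fun χ _ => hcon χ
    rcases (Nat.Prime.dvd_mul hpf.out).1 this with h | h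
    · exact hA h
    · exact hθ h
  obtain ⟨χ, hχ⟩ := hex
  refine ⟨χ, fun h => hχ (Dvd.dvd.mul_right h _), ?_⟩
  intro hker
  apply hx
  have hn0 : n χ ≠ 0 := by
    intro h0; apply hχ; rw [h0, mul_zero]; exact dvd_zero p
  obtain ⟨m, hm, hdec⟩ := Cfsg.Agent.Lib.Helper7.character_eq_sum_nat (hres χ)
  have hmθ : m θ ≠ 0 := by
    have : (m θ : ℂ) = n χ := by rw [← hm θ, hn χ]
    have h2 : m θ = n χ := by exact_mod_cast this
    rw [h2]; exact hn0
  apply ker_constituent m x _ θ hmθ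
  have e1 := congrFun hdec x
  have e2 := congrFun hdec 1
  simp only [Finset.sum_apply, Pi.smul_apply] at e1 e2
  simp only [nsmul_eq_mul] at e1 e2
  rw [← e1, ← e2]
  exact hker

theorem lemmaB2 {G : Type*} [Group G] [Finite G] {p : ℕ} [hpf : Fact p.Prime] (P₀ : Subgroup G)
    (hP : IsPGroup p P₀) (M : Subgroup G) [hMn : M.Normal] (hM : M ≤ ⁅P₀, P₀⁆)
    {χ : G → ℂ} (hχ : IsIrrCharacter G χ) (hpd : ¬ p ∣ charDegree χ) : ∀ m ∈ M, χ m = χ 1 := by
  classical
  have := Fintype.ofFinite G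
  have : Fintype M := Fintype.ofFinite M
  have : Fintype P₀ := Fintype.ofFinite P₀
  have : Fintype (IrrCharacter P₀) := Fintype.ofFinite _
  by_contra hcon
  have hc := Cfsg.Agent.Lib.Helper7.isCharacter_of_irr hχ
  have havg := Cfsg.Agent.Lib.Helper25.avg_normal M hχ 1
  rw [if_neg hcon] at havg
  have hcardM : (Nat.card M : ℂ) ≠ 0 := by exact_mod_cast Nat.card_pos.ne'
  have hsum : ∑ n : M, χ (n : G) = 0 := by
    simp only [mul_one] at havg
    rcases mul_eq_zero.1 havg with h | h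
    · exact absurd h (inv_ne_zero hcardM)
    · exact h
  have hMP : M ≤ P₀ := le_trans hM (Subgroup.commutator_le_self P₀)
  obtain ⟨m, hm, hdec⟩ := Cfsg.Agent.Lib.Helper7.character_eq_sum_nat
    (Cfsg.Agent.Lib.Helper7.isCharacter_restrict hc P₀)
  have hval : ∀ y : P₀, χ (y : G) = ∑ ψ : IrrCharacter P₀, (m ψ : ℂ) * (ψ : P₀ → ℂ) y := by
    intro y
    have e1 := congrFun hdec y
    simp only [Finset.sum_apply, Pi.smul_apply] at e1
    simp only [nsmul_eq_mul] at e1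
    exact e1
  -- degrees
  have hdeg : charDegree χ = ∑ ψ : IrrCharacter P₀, m ψ * charDegree (ψ : P₀ → ℂ) := by
    have e2 := hval 1
    have e3 : (charDegree χ : ℂ) = ∑ ψ : IrrCharacter P₀, (m ψ : ℂ) * (charDegree (ψ : P₀ → ℂ) : ℂ) := by
      rw [← Cfsg.Agent.Lib.Helper25.apply_one_eq_charDegree hχ]
      simp_rw [← Cfsg.Agent.Lib.Helper25.apply_one_eq_charDegree (Subtype.prop _)]
      exact e2
    exact_mod_cast e3
  obtain ⟨ψ₀, hψm, hψd⟩ : ∃ ψ₀ : IrrCharacter P₀, m ψ₀ ≠ 0 ∧ ¬ p ∣ charDegree (ψ₀ : P₀ → ℂ) := by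
    by_contra hno
    push Not at hno
    apply hpd
    rw [hdeg]
    apply Finset.dvd_sum
    intro ψ _
    by_cases h0 : m ψ = 0
    · rw [h0, zero_mul]; exact dvd_zero p
    · exact Dvd.dvd.mul_left (hno ψ h0) _
  have hψ1 : (ψ₀ : P₀ → ℂ) 1 = 1 := by
    obtain ⟨k, hk⟩ := IsPGroup.iff_card.mp hP
    have h4 := Cfsg.Agent.Lib.Helper7.charDegree_dvd_card ψ₀
    rw [hk] at h4
    obtain ⟨j, -, hj⟩ := (Nat.dvd_prime_pow hpf.out).mp h4
    have hj0 : j = 0 := by
      by_contra hj0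
      apply hψd
      rw [hj]
      exact dvd_pow_self p hj0
    rw [Cfsg.Agent.Lib.Helper25.apply_one_eq_charDegree ψ₀.2, hj, hj0]; simp
  obtain ⟨l, hl⟩ := Cfsg.Agent.Lib.Helper7.exists_hom_of_linear
    (Cfsg.Agent.Lib.Helper7.isCharacter_of_irr ψ₀.2) hψ1
  let incl : M →* P₀ := Subgroup.inclusion hMP
  have hψM : ∀ x : M, (ψ₀ : P₀ → ℂ) (incl x) = 1 := by
    intro x
    have hx : (x : G) ∈ (commutator P₀).map P₀.subtype := by
      rw [Subgroup.map_subtype_commutator]; exact hM x.2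
    obtain ⟨y, hy, hyx⟩ := hx
    have hy' : incl x = y := Subtype.ext hyx.symm
    rw [hy', hl]
    have := Abelianization.commutator_subset_ker l hy
    rw [MonoidHom.mem_ker] at this
    rw [this]; rfl
  choose k hk using fun ψ : IrrCharacter P₀ => Cfsg.Agent.Lib.Helper7.classInner_char_nat
    (Cfsg.Agent.Lib.Helper7.isCharacter_comp_hom (Cfsg.Agent.Lib.Helper7.isCharacter_of_irr ψ.2) incl)
    (Cfsg.Agent.Lib.Helper7.isCharacter_one (G := M))
  have hS : ∀ ψ : IrrCharacter P₀, ∑ x : M, (ψ : P₀ → ℂ) (incl x) = (Nat.card M : ℂ) * (k ψ : ℂ) := by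
    intro ψ
    rw [← hk ψ]
    unfold classInner
    simp only [map_one, mul_one, Function.comp_apply]
    field_simp
  have hk0 : k ψ₀ = 1 := by
    have h1 := hS ψ₀
    simp_rw [hψM] at h1
    rw [Finset.sum_const, Finset.card_univ, nsmul_eq_mul, mul_one,
      ← Nat.card_eq_fintype_card] at h1
    have h2 : (k ψ₀ : ℂ) = 1 := by
      have := mul_left_cancel₀ hcardM (by rw [mul_one]; exact h1 : (Nat.card M : ℂ) * 1 = (Nat.card M : ℂ) * (k ψ₀ : ℂ))
      exact this.symm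
    exact_mod_cast h2
  have htot : ∑ x : M, χ (x : G) = (Nat.card M : ℂ) * ∑ ψ : IrrCharacter P₀, (m ψ : ℂ) * (k ψ : ℂ) := by
    have h1 : ∀ x : M, χ (x : G) = ∑ ψ : IrrCharacter P₀, (m ψ : ℂ) * (ψ : P₀ → ℂ) (incl x) :=
      fun x => hval (incl x)
    simp_rw [h1]
    rw [Finset.sum_comm]
    simp_rw [← Finset.mul_sum, hS]
    rw [Finset.mul_sum]
    exact Finset.sum_congr rfl fun ψ _ => by ring
  rw [hsum] at htot
  have hz : ∑ ψ : IrrCharacter P₀, (m ψ : ℂ) * (k ψ : ℂ) = 0 := by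
    rcases mul_eq_zero.1 htot.symm with h | h
    · exact absurd h hcardM
    · exact h
  have hz' : ∑ ψ : IrrCharacter P₀, m ψ * k ψ = 0 := by exact_mod_cast hz
  have h3 := (Finset.sum_eq_zero_iff.1 hz') ψ₀ (Finset.mem_univ _)
  rw [hk0, mul_one] at h3
  exact hψm h3

theorem stepB {G : Type*} [Group G] [Finite G] {p : ℕ} [hpf : Fact p.Prime] (P : Subgroup G)
    (hP : IsPGroup p P) (N : Subgroup G) [hNn : N.Normal] (M : Subgroup G) [hMn : M.Normal]
    (hM : M ≤ N ⊔ ⁅P, P⁆) (χ : IrrCharacter G) (hpd : ¬ p ∣ charDegree (χ : G → ℂ))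
    (hker : ∀ n ∈ N, (χ : G → ℂ) n = (χ : G → ℂ) 1) : ∀ m ∈ M, (χ : G → ℂ) m = (χ : G → ℂ) 1 := by
  obtain ⟨ψ, hψ⟩ := Cfsg.Agent.Lib.Helper7.exists_quotient_char χ N hker
  have hMn' : (M.map (QuotientGroup.mk' N)).Normal := hMn.map _ (QuotientGroup.mk'_surjective N)
  have hle : M.map (QuotientGroup.mk' N) ≤
      ⁅P.map (QuotientGroup.mk' N), P.map (QuotientGroup.mk' N)⁆ := by
    rintro _ ⟨x, hx, rfl⟩
    obtain ⟨n, hn, y, hy, rfl⟩ := Subgroup.mem_sup_of_normal_left.1 (hM hx)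
    rw [map_mul, ← Subgroup.map_commutator]
    have : QuotientGroup.mk' N n = 1 := (QuotientGroup.eq_one_iff n).2 hn
    rw [this, one_mul]
    exact ⟨y, hy, rfl⟩
  have hdeg : charDegree (ψ : G ⧸ N → ℂ) = charDegree (χ : G → ℂ) := by
    unfold charDegree
    rw [hψ 1]; rfl
  have h := lemmaB2 (P.map (QuotientGroup.mk' N)) (hP.map _) (M.map (QuotientGroup.mk' N)) hle ψ.2
    (by rw [hdeg]; exact hpd)
  intro x hx
  rw [hψ x, hψ 1]
  exact h _ ⟨x, hx, rfl⟩

theorem npc {G : Type*} [Group G] [Finite G] {p : ℕ} [Fact p.Prime] (P : Sylow p G)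
    (D : Subgroup G) [hDn : D.Normal]
    (hstep : D ⊓ (P : Subgroup G) ≤ ⁅(P : Subgroup G), (P : Subgroup G)⁆) :
    ∃ K : Subgroup G, K.Normal ∧ K ≤ D ∧ (∀ x ∈ K, Nat.Coprime (orderOf x) p) ∧
      D ≤ K ⊔ (D ⊓ (P : Subgroup G)) := by
  have hfr : D ⊓ (P : Subgroup G) ≤ (frattini P).map (P : Subgroup G).subtype := by
    refine le_trans hstep ?_
    rw [← Subgroup.map_subtype_commutator]
    exact Subgroup.map_mono (Cfsg.Agent.Lib.Helper1.pgroup_commutator_le_frattini P.isPGroup')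
  obtain ⟨Q, K₀, hK₀n, hcompl⟩ := Cfsg.Agent.S0081.result P D hfr
  have hchar : ∀ y : D, y ∈ K₀ ↔ Nat.Coprime (orderOf y) p :=
    fun y => Cfsg.Agent.S0086.result Q K₀ hcompl y
  let K : Subgroup G := K₀.map D.subtype
  have hKmem : ∀ x : G, x ∈ K ↔ x ∈ D ∧ Nat.Coprime (orderOf x) p := by
    intro x
    constructor
    · rintro ⟨y, hy, rfl⟩
      refine ⟨y.2, ?_⟩
      have := (hchar y).1 hy
      rwa [← Subgroup.orderOf_coe] at this
    · rintro ⟨hxD, hx⟩
      refine ⟨⟨x, hxD⟩, (hchar _).2 ?_, rfl⟩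
      rwa [← Subgroup.orderOf_coe]
  have hKn : K.Normal := by
    refine ⟨fun x hx g => ?_⟩
    rw [hKmem] at hx ⊢
    refine ⟨hDn.conj_mem x hx.1 g, ?_⟩
    have : orderOf (g * x * g⁻¹) = orderOf x := (MulAut.conj g).orderOf_eq x
    rw [this]; exact hx.2
  refine ⟨K, hKn, fun x hx => ((hKmem x).1 hx).1, fun x hx => ((hKmem x).1 hx).2, ?_⟩
  obtain ⟨P₂, hP₂⟩ := (Q.isPGroup'.map D.subtype).exists_le_sylow
  obtain ⟨g, hg⟩ := MulAction.exists_smul_eq G P P₂
  have hconj : ∀ x ∈ (P₂ : Subgroup G), g⁻¹ * x * g ∈ (P : Subgroup G) := by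
    intro x hx
    rw [← hg, Sylow.smul_def, Sylow.pointwise_smul_def,
      Subgroup.mem_pointwise_smul_iff_inv_smul_mem, MulAut.smul_def,
      MulAut.conj_inv_apply] at hx
    exact hx
  intro d hd
  have hd' : g * d * g⁻¹ ∈ D := hDn.conj_mem d hd g
  obtain ⟨⟨k, q⟩, hkq⟩ := hcompl.2 ⟨g * d * g⁻¹, hd'⟩
  have hkq' : ((k : D) : G) * ((q : D) : G) = g * d * g⁻¹ := congrArg Subtype.val hkq
  have hkK : ((k : D) : G) ∈ K := ⟨k, k.2, rfl⟩
  have hqP : ((q : D) : G) ∈ (P₂ : Subgroup G) := hP₂ ⟨q, q.2, rfl⟩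
  have hqD : g⁻¹ * ((q : D) : G) * g ∈ D := by
    have := hDn.conj_mem _ (q : D).2 g⁻¹
    rwa [inv_inv] at this
  have e : d = (g⁻¹ * ((k : D) : G) * g⁻¹⁻¹) * (g⁻¹ * ((q : D) : G) * g) := by
    have : d = g⁻¹ * (g * d * g⁻¹) * g := by group
    rw [this, ← hkq']; group
  rw [e]
  exact Subgroup.mul_mem _ ((le_sup_left : K ≤ _) (hKn.conj_mem _ hkK _))
    ((le_sup_right : _ ≤ K ⊔ _) ⟨hqD, hconj _ hqP⟩)

theorem lemmaKN {G : Type*} [Group G] [Finite G] (p : ℕ) [Fact p.Prime] (P : Sylow p G) (x : G)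
    (hxK : ∀ χ : IrrCharacter G, ¬ p ∣ charDegree (χ : G → ℂ) → (χ : G → ℂ) x = (χ : G → ℂ) 1)
    (hxN : x ∈ Subgroup.normalizer ((P : Subgroup G) : Set G)) :
    x ∈ ⁅(P : Subgroup G), (P : Subgroup G)⁆ := by
  obtain ⟨N, hN⟩ : ∃ N : Subgroup G, N = Subgroup.normalizer ((P : Subgroup G) : Set G) := ⟨_, rfl⟩
  rw [← hN] at hxN
  have hPN : (P : Subgroup G) ≤ N := by rw [hN]; exact Subgroup.le_normalizer
  obtain ⟨Q, hQ⟩ : ∃ Q : Subgroup N, Q = (P : Subgroup G).subgroupOf N := ⟨_, rfl⟩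
  have hQn : Q.Normal := by
    rw [hQ, hN]; exact Subgroup.normal_in_normalizer
  have hQi : ¬ p ∣ Q.index := by
    intro h
    apply P.not_dvd_index
    have h1 : Q.index = (P : Subgroup G).relIndex N := by rw [hQ]; rfl
    rw [← Subgroup.relIndex_mul_index hPN, ← h1]
    exact Dvd.dvd.mul_right h _
  have hNi : ¬ p ∣ N.index := by
    intro h
    apply P.not_dvd_index
    exact dvd_trans h (Subgroup.index_dvd_of_le hPN)
  have hQmap : Q.map N.subtype = (P : Subgroup G) := by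
    rw [hQ]; exact Subgroup.map_subgroupOf_eq_of_le hPN
  have hcmap : (⁅Q, Q⁆).map N.subtype = ⁅(P : Subgroup G), (P : Subgroup G)⁆ := by
    rw [Subgroup.map_commutator, hQmap]
  by_contra hxc
  have hxQ : (⟨x, hxN⟩ : N) ∉ ⁅Q, Q⁆ := by
    intro h
    apply hxc
    rw [← hcmap]
    exact ⟨_, h, rfl⟩
  obtain ⟨θ, h2, h3⟩ := Cfsg.Agent.S4931.c2 Q hQi ⟨x, hxN⟩ hxQ
  obtain ⟨χ, h4, h5⟩ := lemmaL N hNi θ h3 ⟨x, hxN⟩ h2
  exact h5 (hxK χ h4)

/-- Let G be a finite group, p a prime and P a Sylow p-subgroup, and let N be the largest normal subgroup of G in which P has trivial centralizer (N is normal with C_N(P) = 1 and contains every normal subgroup with that property). Then the intersection of the kernels of the irreducible characters of G of degree prime to p is the normal core in G of the subgroup N·P' (P' the derived subgroup of P). In particular, when G has no nontrivial normal subgroup of order prime to p, that intersection is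 the normal core of P'. -/
theorem result {G : Type*} [Group G] [Finite G] (p : ℕ) [Fact p.Prime] (P : Sylow p G) (N : Subgroup G) [N.Normal]
    (hN : N ⊓ Subgroup.centralizer ((P : Subgroup G) : Set G) = ⊥)
    (hmax : ∀ L : Subgroup G, L.Normal → L ⊓ Subgroup.centralizer ((P : Subgroup G) : Set G) = ⊥ → L ≤ N) :
    {g : G | ∀ χ : Cfsg.IrrCharacter G, ¬ p ∣ Cfsg.charDegree (χ : G → ℂ) → (χ : G → ℂ) g = (χ : G → ℂ) 1} =
      ((N ⊔ ⁅(P : Subgroup G), (P : Subgroup G)⁆).normalCore : Set G) := by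
  let K : Subgroup G := Cfsg.Agent.S4931.kerInf (fun χ : IrrCharacter G => ¬ p ∣ charDegree (χ : G → ℂ))
  have hKn : K.Normal := Cfsg.Agent.S4931.kerInf_normal _
  have hKle : K ≤ (N ⊔ ⁅(P : Subgroup G), (P : Subgroup G)⁆).normalCore := by
    rw [Subgroup.normal_le_normalCore]
    have hKN : K ⊓ Subgroup.normalizer ((P : Subgroup G) : Set G)
        ≤ ⁅(P : Subgroup G), (P : Subgroup G)⁆ := fun x hx => lemmaKN p P x hx.1 hx.2
    have hKP : K ⊓ (P : Subgroup G) ≤ ⁅(P : Subgroup G), (P : Subgroup G)⁆ :=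
      fun x hx => hKN ⟨hx.1, Subgroup.le_normalizer hx.2⟩
    obtain ⟨N₁, hN₁n, hN₁K, hN₁c, hK⟩ := npc P K hKP
    have hN₁ : N₁ ⊓ Subgroup.centralizer ((P : Subgroup G) : Set G) = ⊥ := by
      rw [eq_bot_iff]
      intro x hx
      have hxn : x ∈ Subgroup.normalizer ((P : Subgroup G) : Set G) :=
        Subgroup.centralizer_le_normalizer _ hx.2
      have hxc := hKN ⟨hN₁K hx.1, hxn⟩
      have hxP : x ∈ (P : Subgroup G) := Subgroup.commutator_le_self _ hxc
      obtain ⟨k, hk⟩ := P.isPGroup' ⟨x, hxP⟩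
      have hk' : x ^ p ^ k = 1 := congrArg Subtype.val hk
      have h1 : orderOf x ∣ p ^ k := orderOf_dvd_of_pow_eq_one hk'
      have h2 : Nat.Coprime (orderOf x) (p ^ k) := Nat.Coprime.pow_right k (hN₁c x hx.1)
      have h3 : orderOf x = 1 := Nat.Coprime.eq_one_of_dvd h2 h1
      exact orderOf_eq_one_iff.1 h3
    have hle := hmax N₁ hN₁n hN₁
    exact le_trans hK (sup_le_sup hle hKP)
  have hge : (N ⊔ ⁅(P : Subgroup G), (P : Subgroup G)⁆).normalCore ≤ K := by
    intro x hx χ hχ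
    have hA := stepA (P : Subgroup G) P.isPGroup' N hN χ.2 hχ
    exact stepB (P : Subgroup G) P.isPGroup' N _ (Subgroup.normalCore_le _) χ hχ hA x hx
  ext g
  constructor
  · intro hg
    exact hKle hg
  · intro hg
    exact hge hg

end Cfsg.Agent.S4591
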