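import Cfsg.Statements.S4765
import Cfsg.Agent.Lib.Helper2.SL2y
import Cfsg.Agent.S2299
import Cfsg.Agent.S2300
import Cfsg.Agent.Lib.Helper7.BlockNormal

set_option autoImplicit false
open Cfsg

namespace Cfsg.Agent.S4765

open Cfsg.Agent.Lib.Helper2

/-- Let F be a finite field of characteristic p with at least 4 elements. Then PSL(2,F) has exactly one irreducible complex character of degree divisible by p, and its degree is the order of F. -/
theorem result (p : ℕ) [Fact p.Prime] (F : Type*) [Field F] [Fintype F] [CharP F p] (hF : 4 ≤ Fintype.card F) : Nat.card {χ : Cfsg.IrrCharacter (Matrix.ProjectiveSpecialLinearGroup (Fin 2) F) // p ∣ Cfsg.charDegree (χ : Matrix.ProjectiveSpecialLinearGroup (Fin 2) F → ℂ)} = 1 ∧ ∀ χ : Cfsg.IrrCharacter (Matrix.ProjectiveSpecialLinearGroup (Fin 2) F), p ∣ Cfsg.charDegree (χ : Matrix.ProjectiveSpecialLinearGroup (Fin 2) F → ℂ) → Cfsg.charDegree (χ : Matrix.ProjectiveSpecialLinearGroup (Fin 2) F → ℂ) = Fintype.card F := by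
  classical
  have hpq : p ∣ Fintype.card F := (CharP.cast_eq_zero_iff F p _).1 (Nat.cast_card_eq_zero F)
  have hp : p.Prime := Fact.out
  have key : ∀ a b : ℕ, (a : ℂ) = b → a = b := fun a b h => by exact_mod_cast h
  have hno : ∀ a b : ℕ, p ∣ a → p ∣ b → (a + 1 = b ∨ b + 1 = a) → False := by
    intro a b ha hb h
    have h1 : p ∣ 1 := by
      rcases h with h | h
      · exact (Nat.dvd_add_right ha).1 (h ▸ hb)
      · exact (Nat.dvd_add_right hb).1 (h ▸ ha)
    exact hp.one_lt.ne' (Nat.dvd_one.1 h1)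
  have hp1 : ¬ p ∣ 1 := fun h => hp.one_lt.ne' (Nat.dvd_one.1 h)
  have hπ : Function.Surjective (QuotientGroup.mk'
      (Subgroup.center (Matrix.SpecialLinearGroup (Fin 2) F))) := QuotientGroup.mk'_surjective _
  have hinf : ∀ χ : Cfsg.IrrCharacter (Matrix.ProjectiveSpecialLinearGroup (Fin 2) F),
      Cfsg.IsIrrCharacter (Matrix.SpecialLinearGroup (Fin 2) F)
        ((χ : Matrix.ProjectiveSpecialLinearGroup (Fin 2) F → ℂ) ∘ (QuotientGroup.mk'
      (Subgroup.center (Matrix.SpecialLinearGroup (Fin 2) F)))) :=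
    fun χ => IsIrrCharacter.comp_surjective _ hπ χ.2
  have hS : (∀ θ : Matrix.SpecialLinearGroup (Fin 2) F → ℂ, Cfsg.IsIrrCharacter _ θ →
      ∀ m : ℕ, θ 1 = m → p ∣ m → m = Fintype.card F) ∧
      Nat.card {θ : Cfsg.IrrCharacter (Matrix.SpecialLinearGroup (Fin 2) F) //
        (θ : Matrix.SpecialLinearGroup (Fin 2) F → ℂ) 1 = (Fintype.card F : ℂ)} = 1 ∧
      Cfsg.IsIrrCharacter (Matrix.SpecialLinearGroup (Fin 2) F)
        (SL2r.res (GL2.St (1 : MulChar F ℂ))) := by
    rcases Nat.even_or_odd (Fintype.card F) with he | ho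
    · haveI : CharP F 2 :=
        ringChar.of_eq (FiniteField.even_card_iff_char_two.2 (Nat.even_iff.1 he))
      have h := Cfsg.Agent.S2300.result (F := F)
      refine ⟨?_, (h.2 hF).2.1, isIrrCharacter_of_norm_one
        (SL2r.res_isCharacter (GL2.St_isCharacter 1)) (SL2r.norm_res_even (GL2.St_irr 1))⟩
      intro θ hθ m hm hpm
      rcases h.1 θ hθ with h1 | h1 | h1 | h1
      · exfalso
        have := key m 1 (by rw [← hm, h1]; simp)
        exact hp1 (this ▸ hpm)
      · exfalso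
        have := key (m + 1) (Fintype.card F) (by push_cast; rw [← hm, h1]; ring)
        exact hno m _ hpm hpq (Or.inl this)
      · exact key m _ (by rw [← hm, h1])
      · exfalso
        have := key m (Fintype.card F + 1) (by push_cast; rw [← hm, h1])
        exact hno m _ hpm hpq (Or.inr this.symm)
    · have h := Cfsg.Agent.S2299.result (F := F) ho
      have hq5 : 5 ≤ Fintype.card F := by
        obtain ⟨k, hk⟩ := ho
        omega
      refine ⟨?_, (h.2 hq5).2.1, isIrrCharacter_of_norm_one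
        (SL2r.res_isCharacter (GL2.St_isCharacter 1))
        (SL2r.nn_eq_one_of_odd (GL2.St_irr 1) _ (GL2.St_one 1) ho)⟩
      intro θ hθ m hm hpm
      obtain ⟨k, hk⟩ := ho
      rcases h.1 θ hθ with h1 | h1 | h1 | h1 | h1 | h1
      · exfalso
        have := key m 1 (by rw [← hm, h1]; simp)
        exact hp1 (this ▸ hpm)
      · exact key m _ (by rw [← hm, h1])
      · exfalso
        have := key m (Fintype.card F + 1) (by push_cast; rw [← hm, h1])
        exact hno m _ hpm hpq (Or.inr this.symm)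
      · exfalso
        have := key (m + 1) (Fintype.card F) (by push_cast; rw [← hm, h1]; ring)
        exact hno m _ hpm hpq (Or.inl this)
      · exfalso
        have h5 : m = (Fintype.card F + 1) / 2 := key m _ (by rw [← hm, h1])
        have h6 : Fintype.card F + 1 = 2 * m := by omega
        exact hno (2 * m) _ (Dvd.dvd.mul_left hpm 2) hpq (Or.inr h6)
      · exfalso
        have h5 : m = (Fintype.card F - 1) / 2 := key m _ (by rw [← hm, h1])
        have h6 : 2 * m + 1 = Fintype.card F := by omega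
        exact hno (2 * m) _ (Dvd.dvd.mul_left hpm 2) hpq (Or.inl h6)
  obtain ⟨hS1, hS2, hS3⟩ := hS
  have hdeg : ∀ χ : Cfsg.IrrCharacter (Matrix.ProjectiveSpecialLinearGroup (Fin 2) F),
      p ∣ Cfsg.charDegree (χ : Matrix.ProjectiveSpecialLinearGroup (Fin 2) F → ℂ) →
      (χ : Matrix.ProjectiveSpecialLinearGroup (Fin 2) F → ℂ) 1 = (Fintype.card F : ℂ) ∧
      Cfsg.charDegree (χ : Matrix.ProjectiveSpecialLinearGroup (Fin 2) F → ℂ) = Fintype.card F := by
    intro χ hχ
    obtain ⟨m, _, hm⟩ := IsIrrCharacter.apply_one_pos χ.2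
    have hcd : Cfsg.charDegree (χ : Matrix.ProjectiveSpecialLinearGroup (Fin 2) F → ℂ) = m := by
      simp [Cfsg.charDegree, hm]
    rw [hcd] at hχ ⊢
    have h1 := hS1 _ (hinf χ) m (by simp [hm]) hχ
    exact ⟨by rw [hm, h1], h1⟩
  refine ⟨?_, fun χ hχ => (hdeg χ hχ).2⟩
  rw [Nat.card_eq_one_iff_unique]
  constructor
  · constructor
    rintro ⟨χ₁, h₁⟩ ⟨χ₂, h₂⟩
    apply Subtype.ext
    apply Subtype.ext
    have hsub := (Nat.card_eq_one_iff_unique.1 hS2).1
    have h3 := hsub.elim
      (⟨⟨_, hinf χ₁⟩, by simp [(hdeg χ₁ h₁).1]⟩ :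
        {θ : Cfsg.IrrCharacter (Matrix.SpecialLinearGroup (Fin 2) F) //
        (θ : Matrix.SpecialLinearGroup (Fin 2) F → ℂ) 1 = (Fintype.card F : ℂ)})
      ⟨⟨_, hinf χ₂⟩, by simp [(hdeg χ₂ h₂).1]⟩
    have h4 : (χ₁ : Matrix.ProjectiveSpecialLinearGroup (Fin 2) F → ℂ) ∘ (QuotientGroup.mk'
      (Subgroup.center (Matrix.SpecialLinearGroup (Fin 2) F))) =
      (χ₂ : Matrix.ProjectiveSpecialLinearGroup (Fin 2) F → ℂ) ∘ (QuotientGroup.mk'
      (Subgroup.center (Matrix.SpecialLinearGroup (Fin 2) F))) :=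
      congrArg (fun t => (t.1.1 : Matrix.SpecialLinearGroup (Fin 2) F → ℂ)) h3
    funext y
    obtain ⟨s, rfl⟩ := hπ y
    exact congrFun h4 s
  · have hker : ∀ u ∈ Subgroup.center (Matrix.SpecialLinearGroup (Fin 2) F),
        SL2r.res (GL2.St (1 : MulChar F ℂ)) u = SL2r.res (GL2.St (1 : MulChar F ℂ)) 1 := by
      intro u hu
      obtain ⟨r, hr, hru⟩ := Matrix.SpecialLinearGroup.mem_center_iff.1 hu
      have hr0 : r ≠ 0 := by
        intro h0
        rw [h0] at hr
        simp at hr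
      have hgl : Matrix.SpecialLinearGroup.toGL u = GL2.bmk (Units.mk0 r hr0) (Units.mk0 r hr0) 0 := by
        apply Units.ext
        rw [GL2.bmk_coe]
        show (u : Matrix (Fin 2) (Fin 2) F) = _
        rw [← hru]
        ext i j
        fin_cases i <;> fin_cases j <;> simp
      rw [SL2r.res_one, GL2.St_one, SL2r.res, hgl, GL2.St, Pi.sub_apply, SL2r.II_scalar,
        GL2.dl_apply, MulChar.one_apply_coe, MulChar.one_apply (isUnit_iff_ne_zero.2
          (GL2.det_ne _))]
      ring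
    obtain ⟨ψ, hψ⟩ := Cfsg.Agent.Lib.Helper7.exists_quotient_char
      (⟨_, hS3⟩ : Cfsg.IrrCharacter (Matrix.SpecialLinearGroup (Fin 2) F))
      (Subgroup.center (Matrix.SpecialLinearGroup (Fin 2) F)) hker
    refine ⟨⟨ψ, ?_⟩⟩
    have h1 : (ψ : Matrix.ProjectiveSpecialLinearGroup (Fin 2) F → ℂ) 1 = (Fintype.card F : ℂ) := by
      have := hψ 1
      simp only [SL2r.res_one, GL2.St_one] at this
      rw [this]; rfl
    have hcd : Cfsg.charDegree (ψ : Matrix.ProjectiveSpecialLinearGroup (Fin 2) F → ℂ) =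
        Fintype.card F := by
      simp [Cfsg.charDegree, h1]
    rw [hcd]; exact hpq

end Cfsg.Agent.S4765
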