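import Cfsg.Statements.S4774
import Cfsg.Agent.Lib.Helper2.SL2y
import Cfsg.Agent.S2299
import Cfsg.Agent.S4765
import Cfsg.Agent.S4812
import Cfsg.Agent.Lib.Helper7.BlockNormal
import Cfsg.Agent.Lib.Helper25.Extra2
import Cfsg.Agent.Lib.Helper12.GLCard

set_option autoImplicit false
open Cfsg

namespace Cfsg.Agent.S4774

open Cfsg.Agent.Lib.Helper2
theorem arith_b (k e1 eq a c d : ℕ) (hk : 3 ≤ k) (h1 : e1 ≤ 1) (hq : eq ≤ 1) (hd : d ≤ 2)
    (h : e1 + (2*k+1)^2*eq + (2*k+2)^2*a + (k+1)^2*c + k^2*d = 2*k*(k+1)*(2*k+1)) : False := by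
  have h' : ((e1 + (2*k+1)^2*eq + (2*k+2)^2*a + (k+1)^2*c + k^2*d : ℕ) : ℤ) =
      ((2*k*(k+1)*(2*k+1) : ℕ) : ℤ) := by rw [h]
  have hz : ((e1 + eq + d : ℕ) : ℤ) = ((k + 1 : ℕ) : ℤ) *
      (2*k*(2*k+1) - 4*k*eq - (k+1)*(4*a+c) - (k-1)*d) := by
    push_cast at h' ⊢
    linear_combination h'
  have hdvd : (k+1) ∣ e1 + eq + d := Int.natCast_dvd_natCast.1 ⟨_, hz⟩
  rcases Nat.eq_zero_or_pos (e1 + eq + d) with h0 | hpos
  · have h3 : e1 = 0 ∧ eq = 0 ∧ d = 0 := by omega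
    obtain ⟨rfl, rfl, rfl⟩ := h3
    have hz2 : ((2 : ℕ) : ℤ) = ((k+1 : ℕ) : ℤ) * (4*a + c - 4*k + 2) := by
      have hk1 : ((k:ℤ)+1) ≠ 0 := by positivity
      apply mul_left_cancel₀ hk1
      push_cast at h' ⊢
      linear_combination (-1 : ℤ) * h'
    have := Nat.le_of_dvd (by norm_num) (Int.natCast_dvd_natCast.1 ⟨_, hz2⟩)
    omega
  · have := Nat.le_of_dvd hpos hdvd
    have hk3 : k = 3 := by omega
    subst hk3
    omega

theorem arith_a (k e1 b c d : ℕ) (hk : 3 ≤ k) (h1 : e1 ≤ 1) (hc : c ≤ 2)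
    (h : e1 + (2*k+1)^2*1 + (2*k)^2*b + (k+1)^2*c + k^2*d = 2*k*(k+1)*(2*k+1)) : False := by
  have h' : ((e1 + (2*k+1)^2*1 + (2*k)^2*b + (k+1)^2*c + k^2*d : ℕ) : ℤ) =
      ((2*k*(k+1)*(2*k+1) : ℕ) : ℤ) := by rw [h]
  have hz : ((e1 + 1 + c : ℕ) : ℤ) = ((k : ℕ) : ℤ) *
      (2*(k+1)*(2*k+1) - (4*k+4) - 4*k*b - (k+2)*c - k*d) := by
    push_cast at h' ⊢
    linear_combination h'
  have hdvd : k ∣ e1 + 1 + c := Int.natCast_dvd_natCast.1 ⟨_, hz⟩
  have := Nat.le_of_dvd (by omega) hdvd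
  have hk3 : k = 3 ∨ k = 4 := by omega
  rcases hk3 with rfl | rfl <;> interval_cases c <;> interval_cases e1 <;> omega

theorem graph_arith (D : Set ℕ) (q t n k : ℕ) (ht : t.Prime) (hqt : q = t ^ n) (hk : q = 2 * k + 1)
    (hsub : ∀ d ∈ D, d = 1 ∨ d = q ∨ d = q + 1 ∨ d = q - 1 ∨ d = (q + 1) / 2 ∨ d = (q - 1) / 2)
    (h1 : q ∈ D) (h2 : q + 1 ∈ D) (h3 : q - 1 ∈ D) :
    {p : ℕ | p.Prime ∧ ∃ d ∈ D, p ∣ d} = {r : ℕ | r.Prime ∧ r ∣ q * (q ^ 2 - 1)} ∧
    ∀ r s : ℕ, (r ≠ s ∧ r.Prime ∧ s.Prime ∧ ∃ d ∈ D, r * s ∣ d) ↔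
      (r ≠ s ∧ r.Prime ∧ s.Prime ∧ r ∣ q ^ 2 - 1 ∧ s ∣ q ^ 2 - 1 ∧
        (r = 2 ∨ s = 2 ∨ (r ∣ q + 1 ∧ s ∣ q + 1) ∨ (r ∣ q - 1 ∧ s ∣ q - 1))) := by
  have hfac : q ^ 2 - 1 = (q - 1) * (q + 1) := by
    rw [hk]
    simp only [Nat.add_sub_cancel]
    have : (2 * k + 1) ^ 2 = 2 * k * (2 * k + 1 + 1) + 1 := by ring
    rw [this, Nat.add_sub_cancel]
  have hp2 : (q + 1) / 2 ∣ q + 1 := ⟨2, by omega⟩
  have hm2 : (q - 1) / 2 ∣ q - 1 := ⟨2, by omega⟩
  have e2p : 2 ∣ q + 1 := ⟨k + 1, by omega⟩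
  have e2m : 2 ∣ q - 1 := ⟨k, by omega⟩
  -- every degree other than 1, q divides q+1 or q-1
  have hcase : ∀ d ∈ D, d = 1 ∨ d = q ∨ d ∣ q + 1 ∨ d ∣ q - 1 := by
    intro d hd
    rcases hsub d hd with h | h | h | h | h | h
    · exact Or.inl h
    · exact Or.inr (Or.inl h)
    · exact Or.inr (Or.inr (Or.inl (h ▸ dvd_rfl)))
    · exact Or.inr (Or.inr (Or.inr (h ▸ dvd_rfl)))
    · exact Or.inr (Or.inr (Or.inl (h ▸ hp2)))
    · exact Or.inr (Or.inr (Or.inr (h ▸ hm2)))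
  constructor
  · ext r
    simp only [Set.mem_ofPred_eq]
    constructor
    · rintro ⟨hr, d, hd, hrd⟩
      refine ⟨hr, ?_⟩
      rw [hfac]
      rcases hcase d hd with h | h | h | h
      · exact absurd (Nat.dvd_one.1 (h ▸ hrd)) hr.one_lt.ne'
      · exact Dvd.dvd.mul_right (h ▸ hrd) _
      · exact Dvd.dvd.mul_left (Dvd.dvd.mul_left (hrd.trans h) _) _
      · exact Dvd.dvd.mul_left (Dvd.dvd.mul_right (hrd.trans h) _) _
    · rintro ⟨hr, hd⟩
      refine ⟨hr, ?_⟩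
      rw [hfac] at hd
      rcases (Nat.Prime.dvd_mul hr).1 hd with h | h
      · exact ⟨q, h1, h⟩
      · rcases (Nat.Prime.dvd_mul hr).1 h with h | h
        · exact ⟨q - 1, h3, h⟩
        · exact ⟨q + 1, h2, h⟩
  · intro r s
    constructor
    · rintro ⟨hrs, hr, hs, d, hd, hrd⟩
      have hrd1 : r ∣ d := Dvd.dvd.trans (Dvd.intro _ rfl) hrd
      have hsd1 : s ∣ d := Dvd.dvd.trans (Dvd.intro_left _ rfl) hrd
      refine ⟨hrs, hr, hs, ?_⟩
      rw [hfac]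
      rcases hcase d hd with h | h | h | h
      · exact absurd (Nat.dvd_one.1 (h ▸ hrd1)) hr.one_lt.ne'
      · exfalso
        rw [h, hqt] at hrd1 hsd1
        have e1 : r = t := (Nat.prime_dvd_prime_iff_eq hr ht).1 (hr.dvd_of_dvd_pow hrd1)
        have e2 : s = t := (Nat.prime_dvd_prime_iff_eq hs ht).1 (hs.dvd_of_dvd_pow hsd1)
        exact hrs (e1.trans e2.symm)
      · exact ⟨Dvd.dvd.mul_left (hrd1.trans h) _, Dvd.dvd.mul_left (hsd1.trans h) _,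
          Or.inr (Or.inr (Or.inl ⟨hrd1.trans h, hsd1.trans h⟩))⟩
      · exact ⟨Dvd.dvd.mul_right (hrd1.trans h) _, Dvd.dvd.mul_right (hsd1.trans h) _,
          Or.inr (Or.inr (Or.inr ⟨hrd1.trans h, hsd1.trans h⟩))⟩
    · rintro ⟨hrs, hr, hs, hr1, hs1, h⟩
      have hco : Nat.Coprime r s := (Nat.coprime_primes hr hs).2 hrs
      refine ⟨hrs, hr, hs, ?_⟩
      rw [hfac] at hr1 hs1
      rcases h with h | h | ⟨h, h'⟩ | ⟨h, h'⟩
      · rcases (Nat.Prime.dvd_mul hs).1 hs1 with h' | h'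
        · exact ⟨q - 1, h3, hco.mul_dvd_of_dvd_of_dvd (h ▸ e2m) h'⟩
        · exact ⟨q + 1, h2, hco.mul_dvd_of_dvd_of_dvd (h ▸ e2p) h'⟩
      · rcases (Nat.Prime.dvd_mul hr).1 hr1 with h' | h'
        · exact ⟨q - 1, h3, hco.mul_dvd_of_dvd_of_dvd h' (h ▸ e2m)⟩
        · exact ⟨q + 1, h2, hco.mul_dvd_of_dvd_of_dvd h' (h ▸ e2p)⟩
      · exact ⟨q + 1, h2, hco.mul_dvd_of_dvd_of_dvd h h'⟩
      · exact ⟨q - 1, h3, hco.mul_dvd_of_dvd_of_dvd h h'⟩

theorem hcd {G : Type*} [Group G] (χ : G → ℂ) (m : ℕ) (h : χ 1 = m) : Cfsg.charDegree χ = m := by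
  simp [Cfsg.charDegree, h]

theorem cd_sl_sub (F : Type*) [Field F] [Fintype F] (hodd : Odd (Fintype.card F)) :
    ∀ d ∈ Cfsg.charDegrees (Matrix.SpecialLinearGroup (Fin 2) F),
      d = 1 ∨ d = Fintype.card F ∨ d = Fintype.card F + 1 ∨ d = Fintype.card F - 1 ∨
        d = (Fintype.card F + 1) / 2 ∨ d = (Fintype.card F - 1) / 2 := by
  rintro d ⟨χ, rfl⟩
  have hpos : 1 ≤ Fintype.card F := Fintype.card_pos
  rcases (Cfsg.Agent.S2299.result (F := F) hodd).1 _ χ.2 with h1 | h1 | h1 | h1 | h1 | h1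
  · left; exact hcd _ 1 (by rw [h1]; simp)
  · right; left; exact hcd _ _ h1
  · right; right; left; exact hcd _ _ (by rw [h1]; simp)
  · right; right; right; left; exact hcd _ _ (by rw [h1, Nat.cast_sub hpos]; simp)
  · right; right; right; right; left; exact hcd _ _ h1
  · right; right; right; right; right; exact hcd _ _ h1

theorem psl_deg (F : Type*) [Field F] [Fintype F] (k : ℕ) (hk : Fintype.card F = 2 * k + 1)
    (hk3 : 3 ≤ k)
    (hq : (2 * k + 1) ∈ Cfsg.charDegrees (Matrix.ProjectiveSpecialLinearGroup (Fin 2) F)) :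
    (2 * k + 2) ∈ Cfsg.charDegrees (Matrix.ProjectiveSpecialLinearGroup (Fin 2) F) ∧
    (2 * k) ∈ Cfsg.charDegrees (Matrix.ProjectiveSpecialLinearGroup (Fin 2) F) := by
  classical
  have := finite_irrCharacter (G := Matrix.SpecialLinearGroup (Fin 2) F)
  have : Fintype (Cfsg.IrrCharacter (Matrix.SpecialLinearGroup (Fin 2) F)) := Fintype.ofFinite _
  have hodd : Odd (Fintype.card F) := ⟨k, hk⟩
  have hsum := Cfsg.Agent.Lib.Helper25.sum_sq_of_le_ker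
    (Subgroup.center (Matrix.SpecialLinearGroup (Fin 2) F))
  have hidx : (Subgroup.center (Matrix.SpecialLinearGroup (Fin 2) F)).index =
      2 * k * (k + 1) * (2 * k + 1) := by
    have h1 := Subgroup.index_mul_card (Subgroup.center (Matrix.SpecialLinearGroup (Fin 2) F))
    rw [Cfsg.Agent.Lib.Helper12.card_center_SL 2 (by norm_num), Cfsg.Agent.Lib.Helper14.card_SL2,
      Nat.card_eq_fintype_card, Fintype.card_units, hk, Nat.add_sub_cancel,
      Nat.gcd_eq_left (Dvd.intro k rfl)] at h1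
    have h2 : (2 * k + 1) ^ 2 - 1 = 4 * k * (k + 1) := by
      rw [show (2 * k + 1) ^ 2 = 4 * k * (k + 1) + 1 by ring, Nat.add_sub_cancel]
    rw [h2] at h1
    apply Nat.eq_of_mul_eq_mul_right (show 0 < 2 by norm_num)
    rw [h1]; ring
  rw [hidx] at hsum
  set E := Finset.univ.filter (fun χ : Cfsg.IrrCharacter (Matrix.SpecialLinearGroup (Fin 2) F) =>
    ∀ n ∈ Subgroup.center (Matrix.SpecialLinearGroup (Fin 2) F),
      (χ : Matrix.SpecialLinearGroup (Fin 2) F → ℂ) n =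
        (χ : Matrix.SpecialLinearGroup (Fin 2) F → ℂ) 1) with hE
  set N : ℕ → ℕ := fun y => (E.filter
    (fun χ : Cfsg.IrrCharacter (Matrix.SpecialLinearGroup (Fin 2) F) =>
    Cfsg.charDegree (χ : Matrix.SpecialLinearGroup (Fin 2) F → ℂ) = y)).card with hNdef
  have hmaps : ∀ χ ∈ E, Cfsg.charDegree (χ : Matrix.SpecialLinearGroup (Fin 2) F → ℂ) ∈
      ({1, 2 * k + 1, 2 * k + 2, 2 * k, k + 1, k} : Finset ℕ) := by
    intro χ _
    have := cd_sl_sub F hodd _ ⟨χ, rfl⟩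
    rw [hk] at this
    simp only [Finset.mem_insert, Finset.mem_singleton]
    omega
  have hfib := Finset.sum_fiberwise_of_maps_to hmaps
    (fun χ => (Cfsg.charDegree (χ : Matrix.SpecialLinearGroup (Fin 2) F → ℂ)) ^ 2)
  have hin : ∀ y : ℕ, ∑ χ ∈ E.filter
      (fun χ : Cfsg.IrrCharacter (Matrix.SpecialLinearGroup (Fin 2) F) =>
      Cfsg.charDegree (χ : Matrix.SpecialLinearGroup (Fin 2) F → ℂ) = y),
      (Cfsg.charDegree (χ : Matrix.SpecialLinearGroup (Fin 2) F → ℂ)) ^ 2 = N y * y ^ 2 := by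
    intro y
    rw [Finset.sum_congr rfl (fun χ hχ => by rw [(Finset.mem_filter.1 hχ).2]), Finset.sum_const,
      smul_eq_mul]
  rw [Finset.sum_congr rfl (fun y _ => hin y), hsum,
    Finset.sum_insert (by simp only [Finset.mem_insert, Finset.mem_singleton]; omega),
    Finset.sum_insert (by simp only [Finset.mem_insert, Finset.mem_singleton]; omega),
    Finset.sum_insert (by simp only [Finset.mem_insert, Finset.mem_singleton]; omega),
    Finset.sum_insert (by simp only [Finset.mem_insert, Finset.mem_singleton]; omega),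
    Finset.sum_insert (by simp only [Finset.mem_singleton]; omega),
    Finset.sum_singleton] at hfib
  have hb : ∀ (y : ℕ) (z : ℂ) (m : ℕ), (y : ℂ) = z →
      Nat.card {χ : Cfsg.IrrCharacter (Matrix.SpecialLinearGroup (Fin 2) F) //
        (χ : Matrix.SpecialLinearGroup (Fin 2) F → ℂ) 1 = z} = m → N y ≤ m := by
    intro y z m hyz hm
    rw [← hm, Nat.card_eq_fintype_card, Fintype.card_subtype]
    apply Finset.card_le_card
    intro χ hχ
    rw [Finset.mem_filter] at hχ ⊢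
    refine ⟨Finset.mem_univ _, ?_⟩
    rw [Cfsg.Agent.Lib.Helper25.apply_one_eq_charDegree χ.2, hχ.2, hyz]
  have hN : ∀ y : ℕ, 0 < N y →
      y ∈ Cfsg.charDegrees (Matrix.ProjectiveSpecialLinearGroup (Fin 2) F) := by
    intro y hy
    obtain ⟨χ, hχ⟩ := Finset.card_pos.1 hy
    rw [Finset.mem_filter, hE, Finset.mem_filter] at hχ
    obtain ⟨ψ, hψ⟩ := Cfsg.Agent.Lib.Helper7.exists_quotient_char χ
      (Subgroup.center (Matrix.SpecialLinearGroup (Fin 2) F)) hχ.1.2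
    refine ⟨ψ, ?_⟩
    rw [← hχ.2]
    have := hψ 1
    simp only [Cfsg.charDegree]
    rw [this]
    rfl
  have hNq : 0 < N (2 * k + 1) := by
    obtain ⟨ψ, hψ⟩ := hq
    apply Finset.card_pos.2
    refine ⟨⟨_, IsIrrCharacter.comp_surjective (QuotientGroup.mk'
      (Subgroup.center (Matrix.SpecialLinearGroup (Fin 2) F)))
      (QuotientGroup.mk'_surjective _) ψ.2⟩, ?_⟩
    rw [Finset.mem_filter, hE, Finset.mem_filter]
    refine ⟨⟨Finset.mem_univ _, ?_⟩, ?_⟩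
    · intro n hn
      simp only [Function.comp_apply, QuotientGroup.mk'_apply, (QuotientGroup.eq_one_iff n).2 hn,
        QuotientGroup.mk_one]
    · rw [← hψ]
      simp [Cfsg.charDegree]
  obtain ⟨c1, c2, -, -, c5, c6⟩ := (Cfsg.Agent.S2299.result (F := F) hodd).2 (by omega)
  have b1 : N 1 ≤ 1 := hb 1 1 1 (by simp) c1
  have b2 : N (2 * k + 1) ≤ 1 := hb _ _ 1 (by rw [hk]) c2
  have b5 : N (k + 1) ≤ 2 := hb _ _ 2 (by rw [hk]; congr 1; omega) c5
  have b6 : N k ≤ 2 := hb _ _ 2 (by rw [hk]; congr 1; omega) c6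
  constructor
  · apply hN
    by_contra h0
    have h0' : N (2 * k + 2) = 0 := by omega
    have h1' : N (2 * k + 1) = 1 := by omega
    rw [h0', h1'] at hfib
    exact arith_a k (N 1) (N (2 * k)) (N (k + 1)) (N k) hk3 b1 b5 (by rw [← hfib]; ring)
  · apply hN
    by_contra h0
    have h0' : N (2 * k) = 0 := by omega
    rw [h0'] at hfib
    exact arith_b k (N 1) (N (2 * k + 1)) (N (2 * k + 2)) (N (k + 1)) (N k) hk3 b1 b2 b6
      (by rw [← hfib]; ring)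

/-- Let F be a finite field of odd characteristic t with q > 5 elements and let S be isomorphic to PSL(2,F) or to SL(2,F). Then the vertices of the character degree graph of S are the primes dividing q(q²−1); the prime t is adjacent to no vertex; two distinct primes dividing q² − 1 are adjacent exactly when one of them is 2, or both divide q + 1, or both divide q − 1. -/
theorem result (F : Type*) [Field F] [Fintype F] (t : ℕ) [Fact t.Prime] [CharP F t] (ht : t ≠ 2) (q : ℕ) (hq : Fintype.card F = q) (h5 : 5 < q) {S : Type*} [Group S] [Finite S] (hS : Nonempty (S ≃* Matrix.ProjectiveSpecialLinearGroup (Fin 2) F) ∨ Nonempty (S ≃* Matrix.SpecialLinearGroup (Fin 2) F)) : Cfsg.degreePrimes S = {r : ℕ | r.Prime ∧ r ∣ q * (q ^ 2 - 1)} ∧ ∀ r s : ℕ, (Cfsg.degreeGraph S).Adj r s ↔ (r ≠ s ∧ r.Prime ∧ s.Prime ∧ r ∣ q ^ 2 - 1 ∧ s ∣ q ^ 2 - 1 ∧ (r = 2 ∨ s = 2 ∨ (r ∣ q + 1 ∧ s ∣ q + 1) ∨ (r ∣ q - 1 ∧ s ∣ q -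 1))) := by
  classical
  subst hq
  have htp : t.Prime := Fact.out
  obtain ⟨n, -, hn⟩ := FiniteField.card F t
  have hodd : Odd (Fintype.card F) := by
    rw [hn]
    exact Odd.pow (htp.odd_of_ne_two ht)
  obtain ⟨k, hk⟩ := hodd
  have hodd : Odd (Fintype.card F) := ⟨k, hk⟩
  have hk3 : 3 ≤ k := by omega
  have hne : ∀ (P : Cfsg.IrrCharacter (Matrix.SpecialLinearGroup (Fin 2) F) → Prop) (n : ℕ),
      Nat.card {χ // P χ} = n → 0 < n → ∃ χ, P χ := by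
    intro P n hn hpos
    have : 0 < Nat.card {χ // P χ} := hn ▸ hpos
    obtain ⟨⟨χ, hχ⟩⟩ := (Nat.card_pos_iff.1 this).1
    exact ⟨χ, hχ⟩
  have main : (∀ d ∈ Cfsg.charDegrees S, d = 1 ∨ d = Fintype.card F ∨ d = Fintype.card F + 1 ∨
      d = Fintype.card F - 1 ∨ d = (Fintype.card F + 1) / 2 ∨ d = (Fintype.card F - 1) / 2) ∧
      Fintype.card F ∈ Cfsg.charDegrees S ∧ Fintype.card F + 1 ∈ Cfsg.charDegrees S ∧
      Fintype.card F - 1 ∈ Cfsg.charDegrees S := by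
    rcases hS with ⟨⟨e⟩⟩ | ⟨⟨e⟩⟩
    · rw [Cfsg.Agent.S4812.cd_congr e]
      have hqd : Fintype.card F ∈
          Cfsg.charDegrees (Matrix.ProjectiveSpecialLinearGroup (Fin 2) F) := by
        have h := Cfsg.Agent.S4765.result t F (by omega)
        have : 0 < Nat.card {χ : Cfsg.IrrCharacter (Matrix.ProjectiveSpecialLinearGroup (Fin 2) F) //
          t ∣ Cfsg.charDegree (χ : Matrix.ProjectiveSpecialLinearGroup (Fin 2) F → ℂ)} := by
          rw [h.1]; exact one_pos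
        obtain ⟨⟨χ, hχ⟩⟩ := (Nat.card_pos_iff.1 this).1
        exact ⟨χ, h.2 χ hχ⟩
      have h2 := psl_deg F k hk hk3 (hk ▸ hqd)
      refine ⟨fun d hd => cd_sl_sub F hodd d (Cfsg.Agent.S4812.cd_sub (QuotientGroup.mk'
        (Subgroup.center (Matrix.SpecialLinearGroup (Fin 2) F)))
        (QuotientGroup.mk'_surjective _) hd), hqd, ?_, ?_⟩
      · rw [hk]; exact h2.1
      · rw [hk]; exact h2.2
    · rw [Cfsg.Agent.S4812.cd_congr e]
      obtain ⟨-, c2, c3, c4, -, -⟩ := (Cfsg.Agent.S2299.result (F := F) hodd).2 (by omega)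
      refine ⟨cd_sl_sub F hodd, ?_, ?_, ?_⟩
      · obtain ⟨χ, hχ⟩ := hne _ _ c2 one_pos
        exact ⟨χ, hcd _ _ hχ⟩
      · obtain ⟨χ, hχ⟩ := hne _ _ c3 (by omega)
        exact ⟨χ, hcd _ _ (by rw [hχ]; simp)⟩
      · obtain ⟨χ, hχ⟩ := hne _ _ c4 (by omega)
        exact ⟨χ, hcd _ _ (by rw [hχ, Nat.cast_sub (by omega)]; simp)⟩
  obtain ⟨m1, m2, m3, m4⟩ := main
  exact graph_arith (Cfsg.charDegrees S) (Fintype.card F) t n k htp hn hk m1 m2 m3 m4

end Cfsg.Agent.S4774
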