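import Cfsg.Statements.S4888
import Cfsg.Agent.Lib.Helper7.PNilpHt
import Cfsg.Agent.Lib.Helper24.BlockPNilp
import Cfsg.Agent.Lib.Helper25.Codegree
import Cfsg.Agent.Lib.Helper7.BlockKer

set_option autoImplicit false
open Cfsg

namespace Cfsg.Agent.S4888

/-- Let G be a finite group, p a prime and M a maximal ideal of the algebraic integers containing p. Then all height-zero irreducible characters of the principal p-block of G (equivalently, all its characters of degree prime to p) have the same degree if and only if G has a normal p-complement. -/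
theorem result {G : Type*} [Group G] [Finite G] (p : ℕ) [Fact p.Prime] (M : Ideal Cfsg.AlgInt) (hM : Cfsg.IsPModular p M) : (∃ d : ℕ, ∀ χ : Cfsg.IrrCharacter G, χ ∈ (Cfsg.principalBlock M G) → Cfsg.blockHeight p (Cfsg.principalBlock M G) (χ : G → ℂ) = 0 → Cfsg.charDegree (χ : G → ℂ) = d) ↔ Cfsg.HasNormalPComplement p G := by
  classical
  haveI := Fintype.ofFinite G
  haveI := hM.2.1.isPrime
  have hp : p.Prime := Fact.out
  have hone : Cfsg.charDegree (Cfsg.Agent.Lib.Helper24.oneIrr G : G → ℂ) = 1 :=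
    Cfsg.Agent.Lib.Helper25.charDegree_eq (d := 1) (by simp [Cfsg.Agent.Lib.Helper24.oneIrr])
  have honeB : Cfsg.Agent.Lib.Helper24.oneIrr G ∈ Cfsg.principalBlock M G :=
    Cfsg.Agent.Lib.Helper24.oneIrr_mem_principalBlock
  constructor
  · rintro ⟨d, hd⟩
    have hd1 : 1 = d := by
      rw [← hone]
      apply hd _ honeB
      unfold Cfsg.blockHeight
      rw [hone]
      simp
    have hyp : ∀ χ ∈ Cfsg.principalBlock M G, ¬ p ∣ Cfsg.charDegree (χ : G → ℂ) →
        Cfsg.charDegree (χ : G → ℂ) = 1 := by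
      intro χ hχ hnd
      rw [hd1]
      apply hd χ hχ
      unfold Cfsg.blockHeight
      rw [Nat.factorization_eq_zero_of_not_dvd hnd]
      simp
    have hnd := Cfsg.Agent.Lib.Helper7.not_dvd_card_pResidual_h7 hM hyp
    obtain ⟨P⟩ : Nonempty (Sylow p G) := inferInstance
    haveI hN : (Cfsg.pResidual p G).Normal := inferInstance
    refine ⟨P, Cfsg.pResidual p G, hN, ?_⟩
    obtain ⟨a, ha⟩ := IsPGroup.iff_card.mp P.2
    have hcop : Nat.Coprime (Nat.card (Cfsg.pResidual p G)) (Nat.card (P : Subgroup G)) := by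
      rw [ha]
      exact Nat.Coprime.pow_right a ((Nat.Prime.coprime_iff_not_dvd hp).2 hnd).symm
    have hdisj : Disjoint (Cfsg.pResidual p G) (P : Subgroup G) :=
      Subgroup.disjoint_of_coprime_natCard hcop
    apply Subgroup.isComplement'_of_disjoint_and_mul_eq_univ hdisj
    have hsup := Cfsg.Agent.Lib.Helper17.pResidual_sup_sylow P
    rw [← Subgroup.normal_mul, hsup]
    rfl
  · rintro ⟨P, K, hKn, hc⟩
    refine ⟨1, fun χ hχ hht => ?_⟩
    haveI := hKn
    have hidx : K.index = Nat.card (P : Subgroup G) := hc.symm.index_eq_card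
    obtain ⟨a, ha⟩ := IsPGroup.iff_card.mp P.2
    have hKodd : (Nat.card K).Coprime p := by
      have h1 : (P : Subgroup G).index = Nat.card K := hc.index_eq_card
      rw [← h1]
      exact ((Nat.Prime.coprime_iff_not_dvd hp).2 P.not_dvd_index).symm
    have hker := (Cfsg.Agent.Lib.Helper24.mem_principalBlock_iff_of_index hM K hKodd
      (hidx.trans ha) χ).1 hχ
    obtain ⟨L, -, hL⟩ := Cfsg.Agent.Lib.Helper7.exists_ker_subgroup
      (Cfsg.Agent.Lib.Helper7.isCharacter_of_irr χ.2)
    have hKL : K ≤ L := fun h hh => (hL h).2 (hker h hh)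
    have hspec := Cfsg.Agent.Lib.Helper25.cod_spec χ.2
    have hcardL : Nat.card {g : G // (χ : G → ℂ) g = (χ : G → ℂ) 1} = Nat.card L :=
      Nat.card_congr (Equiv.subtypeEquivRight (fun g => (hL g).symm))
    obtain ⟨t, ht⟩ := Subgroup.card_dvd_of_le hKL
    rw [hcardL, ht, ← K.card_mul_index, hidx, ha] at hspec
    have h2 : Cfsg.charDegree (χ : G → ℂ) ∣ p ^ a := by
      have h3 : Nat.card K * (Cfsg.Agent.Lib.Helper25.cod (χ : G → ℂ) * t *
          Cfsg.charDegree (χ : G → ℂ)) = Nat.card K * p ^ a := by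
        rw [← hspec]; ring
      have h4 := Nat.eq_of_mul_eq_mul_left Nat.card_pos h3
      exact ⟨Cfsg.Agent.Lib.Helper25.cod (χ : G → ℂ) * t, by rw [← h4]; ring⟩
    obtain ⟨i, -, hi⟩ := (Nat.dvd_prime_pow hp).1 h2
    have hInf : sInf ((fun ψ : Cfsg.IrrCharacter G =>
        (Cfsg.charDegree (ψ : G → ℂ)).factorization p) '' Cfsg.principalBlock M G) = 0 := by
      have := Nat.sInf_le (s := (fun ψ : Cfsg.IrrCharacter G =>
        (Cfsg.charDegree (ψ : G → ℂ)).factorization p) '' Cfsg.principalBlock M G)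
        (m := 0) ⟨_, honeB, by simp [hone]⟩
      omega
    unfold Cfsg.blockHeight at hht
    rw [hInf, hi, hp.factorization_pow] at hht
    simp at hht
    rw [hi, hht, pow_zero]

end Cfsg.Agent.S4888
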