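import Cfsg.Statements.S4930
import Cfsg.Agent.S4591
import Cfsg.Agent.Lib.Helper7.BlockDefect

set_option autoImplicit false
open Cfsg
open scoped commutatorElement

namespace Cfsg.Agent.S4930

/-- the squares of the degrees of the irreducible characters with `M` in the kernel sum to
the index of `M`. -/
theorem sum_sq_ker {H : Type*} [Group H] [Finite H] [Fintype (IrrCharacter H)]
    (M : Subgroup H) [M.Normal] (S : Finset (IrrCharacter H))
    (hS : ∀ χ : IrrCharacter H, χ ∈ S ↔ ∀ u ∈ M, (χ : H → ℂ) u = (χ : H → ℂ) 1) :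
    ∑ χ ∈ S, charDegree (χ : H → ℂ) ^ 2 = M.index := by
  classical
  have := Fintype.ofFinite H
  have : Fintype M := Fintype.ofFinite M
  have hMc : (Nat.card M : ℂ) ≠ 0 := by exact_mod_cast Nat.card_pos.ne'
  have h1 : ∀ χ : IrrCharacter H, (χ : H → ℂ) 1 * ((Nat.card M : ℂ)⁻¹ * ∑ n : M, (χ : H → ℂ) ((n : H) * 1))
      = if χ ∈ S then ((charDegree (χ : H → ℂ) ^ 2 : ℕ) : ℂ) else 0 := by
    intro χ
    rw [Cfsg.Agent.Lib.Helper25.avg_normal M χ.2 1]
    by_cases h : χ ∈ S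
    · rw [if_pos h, if_pos ((hS χ).1 h), Cfsg.Agent.Lib.Helper25.apply_one_eq_charDegree χ.2]
      push_cast; ring
    · rw [if_neg h, if_neg (fun h' => h ((hS χ).2 h')), mul_zero]
  have h2 : ∑ χ : IrrCharacter H, (χ : H → ℂ) 1 * ((Nat.card M : ℂ)⁻¹ * ∑ n : M, (χ : H → ℂ) ((n : H) * 1))
      = (M.index : ℂ) := by
    simp_rw [Finset.mul_sum]
    rw [Finset.sum_comm]
    have h3 : ∀ a : M, ∑ χ : IrrCharacter H, (χ : H → ℂ) 1 * ((Nat.card M : ℂ)⁻¹ *
        (χ : H → ℂ) ((a : H) * 1)) = if a = 1 then (M.index : ℂ) else 0 := by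
      intro a
      have h4 := Cfsg.Agent.Lib.Helper7.column_orthogonality (a : H) 1
      simp only [Cfsg.Agent.Lib.Helper7.conj_irr_one] at h4
      have h5 : ∑ χ : IrrCharacter H, (χ : H → ℂ) 1 * ((Nat.card M : ℂ)⁻¹ *
          (χ : H → ℂ) ((a : H) * 1))
          = (Nat.card M : ℂ)⁻¹ * ∑ χ : IrrCharacter H, (χ : H → ℂ) a * (χ : H → ℂ) 1 := by
        rw [Finset.mul_sum]
        exact Finset.sum_congr rfl fun χ _ => by rw [mul_one]; ring
      rw [h5, h4]
      by_cases ha : a = 1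
      · subst ha
        rw [if_pos rfl, if_pos (by simp)]
        have hcen : Subgroup.centralizer ({((1 : M) : H)} : Set H) = ⊤ := by
          rw [eq_top_iff]; intro x _; simp [Subgroup.mem_centralizer_iff]
        rw [hcen, Subgroup.card_top, ← M.card_mul_index]
        push_cast
        field_simp
      · rw [if_neg ha, if_neg, mul_zero]
        intro hc
        apply ha
        have := isConj_one_right.mp hc.symm
        exact Subtype.ext this
    simp_rw [h3]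
    simp
  simp_rw [h1] at h2
  rw [Finset.sum_ite_mem, Finset.univ_inter] at h2
  exact_mod_cast h2

theorem ker_iff {H : Type*} [Group H] [Finite H] {p : ℕ} [Fact p.Prime] (Q : Subgroup H)
    [hQn : Q.Normal] (hQp : IsPGroup p Q) (hQ : ¬ p ∣ Q.index) (θ : IrrCharacter H) :
    (∀ u ∈ ⁅Q, Q⁆, (θ : H → ℂ) u = (θ : H → ℂ) 1) ↔ ¬ p ∣ charDegree (θ : H → ℂ) := by
  have hRn0 : (⁅Q, Q⁆ : Subgroup H).Normal := Subgroup.commutator_normal Q Q
  constructor
  · intro hker hdvd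
    obtain ⟨R, hR⟩ : ∃ R : Subgroup H, R = ⁅Q, Q⁆ := ⟨_, rfl⟩
    have hRn : R.Normal := by rw [hR]; exact Subgroup.commutator_normal Q Q
    have hRQ : R ≤ Q := by rw [hR]; exact Subgroup.commutator_le_left Q Q
    rw [← hR] at hker
    obtain ⟨ψ, hψ⟩ := Cfsg.Agent.Lib.Helper7.exists_quotient_char θ R hker
    have h1 : charDegree (θ : H → ℂ) = charDegree (ψ : H ⧸ R → ℂ) := by
      unfold charDegree
      rw [hψ 1]; rfl
    rw [h1] at hdvd
    obtain ⟨ψf, n, ρ, hirr, rfl⟩ := ψ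
    have hAn : (Q.map (QuotientGroup.mk' R)).Normal :=
      hQn.map _ (QuotientGroup.mk'_surjective R)
    have hcomm : ∀ a ∈ Q.map (QuotientGroup.mk' R), ∀ b ∈ Q.map (QuotientGroup.mk' R),
        a * b = b * a := by
      rintro _ ⟨a, ha, rfl⟩ _ ⟨b, hb, rfl⟩
      rw [← map_mul, ← map_mul]
      apply QuotientGroup.eq.2
      have : (a * b)⁻¹ * (b * a) = ⁅b⁻¹, a⁻¹⁆ := by simp [commutatorElement_def, mul_assoc]
      rw [this, hR]
      exact Subgroup.commutator_mem_commutator (Q.inv_mem hb) (Q.inv_mem ha)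
    have h2 := Cfsg.Agent.S0169.result ρ (Q.map (QuotientGroup.mk' R)) hcomm
    have h3 : (Q.map (QuotientGroup.mk' R)).index = Q.index :=
      Subgroup.index_map_eq _ (QuotientGroup.mk'_surjective R) (by rwa [QuotientGroup.ker_mk'])
    rw [h3] at h2
    have h4 : charDegree (ρ.character) = Module.finrank ℂ (Fin n → ℂ) := by
      simp [charDegree]
    apply hQ
    refine dvd_trans ?_ h2
    rw [← h4]
    exact hdvd
  · intro hpd
    exact Cfsg.Agent.S4591.lemmaB2 Q hQp ⁅Q, Q⁆ le_rfl θ.2 hpd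

/-- Frobenius reciprocity in degree form. -/
theorem frob_deg {G : Type*} [Group G] [Finite G] (A : Subgroup G) [Fintype A]
    [Fintype (IrrCharacter G)] (θ : IrrCharacter A) (n : IrrCharacter G → ℕ)
    (hn : ∀ χ : IrrCharacter G, classInner (fun a : A => (χ : G → ℂ) a) (θ : A → ℂ) = n χ) :
    ∑ χ : IrrCharacter G, charDegree (χ : G → ℂ) * n χ = A.index * charDegree (θ : A → ℂ) := by
  classical
  have := Fintype.ofFinite G
  have hcardA : (Nat.card A : ℂ) ≠ 0 := by exact_mod_cast Nat.card_pos.ne'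
  have h1 : ∑ χ : IrrCharacter G, ((charDegree (χ : G → ℂ) : ℂ) * (n χ : ℂ))
      = (A.index : ℂ) * (charDegree (θ : A → ℂ) : ℂ) := by
    simp_rw [← hn, ← Cfsg.Agent.Lib.Helper25.apply_one_eq_charDegree (Subtype.prop _)]
    unfold classInner
    simp_rw [Finset.mul_sum]
    rw [Finset.sum_comm]
    have h3 : ∀ a : A, ∑ χ : IrrCharacter G, (χ : G → ℂ) 1 * ((Nat.card A : ℂ)⁻¹ *
        ((χ : G → ℂ) a * (starRingEnd ℂ) ((θ : A → ℂ) a)))
        = if a = 1 then (A.index : ℂ) * (θ : A → ℂ) 1 else 0 := by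
      intro a
      have h4 := Cfsg.Agent.Lib.Helper7.column_orthogonality (a : G) 1
      simp only [Cfsg.Agent.Lib.Helper7.conj_irr_one] at h4
      have h5 : ∑ χ : IrrCharacter G, (χ : G → ℂ) 1 * ((Nat.card A : ℂ)⁻¹ *
          ((χ : G → ℂ) a * (starRingEnd ℂ) ((θ : A → ℂ) a)))
          = (Nat.card A : ℂ)⁻¹ * (starRingEnd ℂ) ((θ : A → ℂ) a) *
            ∑ χ : IrrCharacter G, (χ : G → ℂ) a * (χ : G → ℂ) 1 := by
        rw [Finset.mul_sum]
        exact Finset.sum_congr rfl fun χ _ => by ring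
      rw [h5, h4]
      by_cases ha : a = 1
      · subst ha
        rw [if_pos rfl, if_pos (by simp)]
        have hcen : Subgroup.centralizer ({((1 : A) : G)} : Set G) = ⊤ := by
          rw [eq_top_iff]; intro x _; simp [Subgroup.mem_centralizer_iff]
        rw [hcen, Subgroup.card_top, ← A.card_mul_index,
          Cfsg.Agent.Lib.Helper7.conj_irr_one θ]
        push_cast
        field_simp
      · rw [if_neg ha, if_neg, mul_zero]
        intro hc
        apply ha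
        have := isConj_one_right.mp hc.symm
        exact Subtype.ext this
    simp_rw [h3]
    simp
  exact_mod_cast h1

theorem main_ineq {G : Type*} [Group G] [Finite G] {p : ℕ} [hpf : Fact p.Prime] (A : Subgroup G)
    (hA : ¬ p ∣ A.index) [Fintype (IrrCharacter G)] [Fintype (IrrCharacter A)]
    (X : Finset (IrrCharacter G)) (hX : ∀ χ, χ ∈ X ↔ ¬ p ∣ charDegree (χ : G → ℂ))
    (Y : Finset (IrrCharacter A)) (hY : ∀ θ, θ ∈ Y ↔ ¬ p ∣ charDegree (θ : A → ℂ)) :
    ∑ θ ∈ Y, charDegree (θ : A → ℂ) ^ 2 ≤ ∑ χ ∈ X, charDegree (χ : G → ℂ) ^ 2 ∧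
    (∑ θ ∈ Y, charDegree (θ : A → ℂ) ^ 2 = ∑ χ ∈ X, charDegree (χ : G → ℂ) ^ 2 →
      ∀ θ : IrrCharacter A, ¬ p ∣ charDegree (θ : A → ℂ) →
        ∃ χ : IrrCharacter G, ∀ x : A, (χ : G → ℂ) x = (θ : A → ℂ) x) := by
  classical
  have : Fintype A := Fintype.ofFinite A
  have hres : ∀ χ : IrrCharacter G, IsCharacter A (fun a : A => (χ : G → ℂ) a) := fun χ =>
    Cfsg.Agent.Lib.Helper7.isCharacter_restrict (Cfsg.Agent.Lib.Helper7.isCharacter_of_irr χ.2) A
  choose m hm hdec using fun χ : IrrCharacter G =>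
    Cfsg.Agent.Lib.Helper7.character_eq_sum_nat (hres χ)
  have hdeg : ∀ χ : IrrCharacter G, charDegree (χ : G → ℂ)
      = ∑ θ : IrrCharacter A, m χ θ * charDegree (θ : A → ℂ) := by
    intro χ
    have e2 := congrFun (hdec χ) 1
    simp only [Finset.sum_apply, Pi.smul_apply, nsmul_eq_mul] at e2
    have e3 : ((charDegree (χ : G → ℂ) : ℕ) : ℂ)
        = ((∑ θ : IrrCharacter A, m χ θ * charDegree (θ : A → ℂ) : ℕ) : ℂ) := by
      push_cast
      rw [← Cfsg.Agent.Lib.Helper25.apply_one_eq_charDegree χ.2]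
      simp_rw [← Cfsg.Agent.Lib.Helper25.apply_one_eq_charDegree (Subtype.prop _)]
      exact e2
    exact_mod_cast e3
  have hex : ∀ θ : IrrCharacter A, θ ∈ Y → ∃ χ : IrrCharacter G, χ ∈ X ∧ m χ θ ≠ 0 := by
    intro θ hθ
    have hsum := frob_deg A θ (fun χ => m χ θ) (fun χ => hm χ θ)
    by_contra hcon
    push Not at hcon
    have : p ∣ A.index * charDegree (θ : A → ℂ) := by
      rw [← hsum]
      refine Finset.dvd_sum fun χ _ => ?_
      by_cases hχ : χ ∈ X
      · rw [hcon χ hχ, mul_zero]; exact dvd_zero p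
      · have : p ∣ charDegree (χ : G → ℂ) := by
          by_contra h; exact hχ ((hX χ).2 h)
        exact Dvd.dvd.mul_right this _
    rcases (Nat.Prime.dvd_mul hpf.out).1 this with h | h
    · exact hA h
    · exact (hY θ).1 hθ h
  have hex' : ∀ θ : IrrCharacter A, ∃ χ : IrrCharacter G, θ ∈ Y → (χ ∈ X ∧ m χ θ ≠ 0) := by
    intro θ
    by_cases hθ : θ ∈ Y
    · obtain ⟨χ, h⟩ := hex θ hθ
      exact ⟨χ, fun _ => h⟩
    · obtain ⟨χ⟩ : Nonempty (IrrCharacter G) := ⟨⟨fun _ => 1, Cfsg.Agent.Lib.Helper7.isIrrCharacter_one⟩⟩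
      exact ⟨χ, fun h => absurd h hθ⟩
  choose F hF using hex'
  have hle : ∀ θ ∈ Y, charDegree (θ : A → ℂ) ≤ charDegree (F θ : G → ℂ) := by
    intro θ hθ
    rw [hdeg (F θ)]
    have h1 : m (F θ) θ * charDegree (θ : A → ℂ)
        ≤ ∑ ψ : IrrCharacter A, m (F θ) ψ * charDegree (ψ : A → ℂ) :=
      Finset.single_le_sum (f := fun ψ : IrrCharacter A => m (F θ) ψ * charDegree (ψ : A → ℂ))
        (fun _ _ => Nat.zero_le _) (Finset.mem_univ θ)
    have h2 : 1 ≤ m (F θ) θ := Nat.one_le_iff_ne_zero.2 (hF θ hθ).2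
    calc charDegree (θ : A → ℂ) = 1 * charDegree (θ : A → ℂ) := (one_mul _).symm
      _ ≤ m (F θ) θ * charDegree (θ : A → ℂ) := Nat.mul_le_mul_right _ h2
      _ ≤ _ := h1
  -- the chain
  have hc1 : ∑ χ ∈ X, charDegree (χ : G → ℂ) ^ 2
      = ∑ θ : IrrCharacter A, charDegree (θ : A → ℂ) *
          ∑ χ ∈ X, charDegree (χ : G → ℂ) * m χ θ := by
    simp_rw [Finset.mul_sum]
    rw [Finset.sum_comm]
    refine Finset.sum_congr rfl fun χ _ => ?_
    rw [sq]
    conv_lhs => rw [hdeg χ]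
    rw [Finset.sum_mul]
    conv_lhs => rw [← hdeg χ]
    exact Finset.sum_congr rfl fun θ _ => by ring
  have hc2 : ∑ θ ∈ Y, charDegree (θ : A → ℂ) * ∑ χ ∈ X, charDegree (χ : G → ℂ) * m χ θ
      ≤ ∑ θ : IrrCharacter A, charDegree (θ : A → ℂ) *
          ∑ χ ∈ X, charDegree (χ : G → ℂ) * m χ θ :=
    Finset.sum_le_sum_of_subset (Finset.subset_univ Y)
  have hc3 : ∑ θ ∈ Y, charDegree (θ : A → ℂ) * charDegree (F θ : G → ℂ)
      ≤ ∑ θ ∈ Y, charDegree (θ : A → ℂ) * ∑ χ ∈ X, charDegree (χ : G → ℂ) * m χ θ := by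
    refine Finset.sum_le_sum fun θ hθ => Nat.mul_le_mul_left _ ?_
    have h1 : charDegree (F θ : G → ℂ) * m (F θ) θ
        ≤ ∑ χ ∈ X, charDegree (χ : G → ℂ) * m χ θ :=
      Finset.single_le_sum (f := fun χ : IrrCharacter G => charDegree (χ : G → ℂ) * m χ θ)
        (fun _ _ => Nat.zero_le _) (hF θ hθ).1
    have h2 : 1 ≤ m (F θ) θ := Nat.one_le_iff_ne_zero.2 (hF θ hθ).2
    calc charDegree (F θ : G → ℂ) = charDegree (F θ : G → ℂ) * 1 := (mul_one _).symm
      _ ≤ charDegree (F θ : G → ℂ) * m (F θ) θ := Nat.mul_le_mul_left _ h2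
      _ ≤ _ := h1
  have hc4 : ∀ θ ∈ Y, charDegree (θ : A → ℂ) ^ 2
      ≤ charDegree (θ : A → ℂ) * charDegree (F θ : G → ℂ) := by
    intro θ hθ
    rw [sq]; exact Nat.mul_le_mul_left _ (hle θ hθ)
  have hc5 := Finset.sum_le_sum hc4
  refine ⟨by rw [hc1]; exact hc5.trans (hc3.trans hc2), ?_⟩
  intro heq θ hθ
  have hθY : θ ∈ Y := (hY θ).2 hθ
  have heq2 : ∑ θ ∈ Y, charDegree (θ : A → ℂ) ^ 2
      = ∑ θ ∈ Y, charDegree (θ : A → ℂ) * charDegree (F θ : G → ℂ) := by
    apply le_antisymm hc5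
    rw [heq, hc1]; exact hc3.trans hc2
  have h6 := (Finset.sum_eq_sum_iff_of_le hc4).1 heq2 θ hθY
  have hpos : 0 < charDegree (θ : A → ℂ) := Cfsg.Agent.Lib.Helper7.charDegree_pos θ
  have h7 : charDegree (θ : A → ℂ) = charDegree (F θ : G → ℂ) := by
    rw [sq] at h6
    exact Nat.eq_of_mul_eq_mul_left hpos h6
  refine ⟨F θ, ?_⟩
  have h8 := hdeg (F θ)
  rw [← h7, ← Finset.add_sum_erase _ _ (Finset.mem_univ θ)] at h8
  have h2 : 1 ≤ m (F θ) θ := Nat.one_le_iff_ne_zero.2 (hF θ hθY).2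
  have h9 : charDegree (θ : A → ℂ) ≤ m (F θ) θ * charDegree (θ : A → ℂ) :=
    Nat.le_mul_of_pos_left _ h2
  have h10 : ∑ ψ ∈ Finset.univ.erase θ, m (F θ) ψ * charDegree (ψ : A → ℂ) = 0 := by omega
  have h11 : m (F θ) θ * charDegree (θ : A → ℂ) = charDegree (θ : A → ℂ) := by omega
  have h12 : m (F θ) θ = 1 := by
    have : m (F θ) θ * charDegree (θ : A → ℂ) = 1 * charDegree (θ : A → ℂ) := by
      rw [h11, one_mul]
    exact Nat.eq_of_mul_eq_mul_right hpos this
  have h13 : ∀ ψ : IrrCharacter A, ψ ≠ θ → m (F θ) ψ = 0 := by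
    intro ψ hψ
    have := (Finset.sum_eq_zero_iff.1 h10) ψ (Finset.mem_erase.2 ⟨hψ, Finset.mem_univ ψ⟩)
    rcases Nat.mul_eq_zero.1 this with h | h
    · exact h
    · exact absurd h (Cfsg.Agent.Lib.Helper7.charDegree_pos ψ).ne'
  intro x
  have e1 := congrFun (hdec (F θ)) x
  simp only [Finset.sum_apply, Pi.smul_apply, nsmul_eq_mul] at e1
  rw [e1, Finset.sum_eq_single θ]
  · rw [h12]; simp
  · intro ψ _ hψ
    rw [h13 ψ hψ]; simp
  · intro h; exact absurd (Finset.mem_univ θ) h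

theorem upper {G : Type*} [Group G] [Finite G] {p : ℕ} [hpf : Fact p.Prime] (P : Sylow p G)
    (N K : Subgroup G) [hKn : K.Normal] (hN : N = Subgroup.normalizer ((P : Subgroup G) : Set G))
    (htop : K ⊔ N = ⊤) (hbot : K ⊓ N = ⊥) (Q : Subgroup N) [hQn : Q.Normal]
    (hQmap : Q.map N.subtype = (P : Subgroup G))
    [Fintype (IrrCharacter G)]
    (X : Finset (IrrCharacter G)) (hX : ∀ χ, χ ∈ X ↔ ¬ p ∣ charDegree (χ : G → ℂ)) :
    ∑ χ ∈ X, charDegree (χ : G → ℂ) ^ 2 ≤ (⁅Q, Q⁆ : Subgroup N).index := by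
  classical
  let f : N →* G ⧸ K := (QuotientGroup.mk' K).comp N.subtype
  have hinj : Function.Injective f := by
    rw [injective_iff_map_eq_one]
    intro n hn
    have h1 : (n : G) ∈ K := (QuotientGroup.eq_one_iff (n : G)).1 hn
    have h2 : (n : G) ∈ K ⊓ N := ⟨h1, n.2⟩
    rw [hbot, Subgroup.mem_bot] at h2
    exact Subtype.ext h2
  have hsurj : Function.Surjective f := by
    intro q
    obtain ⟨g, rfl⟩ := QuotientGroup.mk'_surjective K q
    have hg : g ∈ N ⊔ K := by rw [sup_comm, htop]; trivial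
    obtain ⟨n, hn, k, hk, rfl⟩ := Subgroup.mem_sup_of_normal_right.1 hg
    refine ⟨⟨n, hn⟩, ?_⟩
    show QuotientGroup.mk' K n = QuotientGroup.mk' K (n * k)
    rw [map_mul]
    have : QuotientGroup.mk' K k = 1 := (QuotientGroup.eq_one_iff k).2 hk
    rw [this, mul_one]
  let e : N ≃* G ⧸ K := MulEquiv.ofBijective f ⟨hinj, hsurj⟩
  let π : G →* N := e.symm.toMonoidHom.comp (QuotientGroup.mk' K)
  have hπ : ∀ n : N, π (n : G) = n := by
    intro n
    show e.symm (f n) = n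
    exact e.symm_apply_apply n
  have hπs : Function.Surjective π := fun n => ⟨n, hπ n⟩
  have hπk : ∀ g : G, π g = 1 → g ∈ K := by
    intro g hg
    have h1 : e.symm (QuotientGroup.mk' K g) = 1 := hg
    have h2 : QuotientGroup.mk' K g = 1 := by
      have := congrArg e h1
      rwa [e.apply_symm_apply, map_one] at this
    exact (QuotientGroup.eq_one_iff g).1 h2
  have hRn : (⁅Q, Q⁆ : Subgroup N).Normal := Subgroup.commutator_normal Q Q
  have hcmap : (⁅Q, Q⁆).map N.subtype = ⁅(P : Subgroup G), (P : Subgroup G)⁆ := by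
    rw [Subgroup.map_commutator, hQmap]
  obtain ⟨M, hM⟩ : ∃ M : Subgroup G, M = (⁅Q, Q⁆ : Subgroup N).comap π := ⟨_, rfl⟩
  have hMn : M.Normal := by rw [hM]; exact hRn.comap π
  have hMi : M.index = (⁅Q, Q⁆ : Subgroup N).index := by
    rw [hM]; exact Subgroup.index_comap_of_surjective _ hπs
  have hMle : M ≤ K ⊔ ⁅(P : Subgroup G), (P : Subgroup G)⁆ := by
    intro g hg
    rw [hM, Subgroup.mem_comap] at hg
    have h1 : ((π g : N) : G) ∈ ⁅(P : Subgroup G), (P : Subgroup G)⁆ := by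
      rw [← hcmap]; exact ⟨π g, hg, rfl⟩
    have h2 : g * ((π g : N) : G)⁻¹ ∈ K := by
      apply hπk
      rw [map_mul, map_inv, hπ, mul_inv_cancel]
    have h3 : g = (g * ((π g : N) : G)⁻¹) * ((π g : N) : G) := by group
    rw [h3]
    exact Subgroup.mul_mem_sup h2 h1
  have hKC : K ⊓ Subgroup.centralizer ((P : Subgroup G) : Set G) = ⊥ := by
    rw [eq_bot_iff, ← hbot]
    refine le_inf inf_le_left (inf_le_right.trans ?_)
    rw [hN]
    exact Subgroup.centralizer_le_normalizer _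
  have hsub : X ⊆ Finset.univ.filter
      (fun χ : IrrCharacter G => ∀ u ∈ M, (χ : G → ℂ) u = (χ : G → ℂ) 1) := by
    intro χ hχ
    rw [Finset.mem_filter]
    refine ⟨Finset.mem_univ χ, ?_⟩
    have hpd := (hX χ).1 hχ
    have hker := Cfsg.Agent.S4591.stepA (P : Subgroup G) P.isPGroup' K hKC χ.2 hpd
    exact Cfsg.Agent.S4591.stepB (P : Subgroup G) P.isPGroup' K M hMle χ hpd hker
  rw [← hMi, ← sum_sq_ker M (Finset.univ.filter
      (fun χ : IrrCharacter G => ∀ u ∈ M, (χ : G → ℂ) u = (χ : G → ℂ) 1)) (by simp)]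
  exact Finset.sum_le_sum_of_subset hsub

/-- Let G be a finite group, P a Sylow 2-subgroup of G with normalizer N, and P′ the commutator subgroup of P. Then the sum of the squares of the degrees of the irreducible complex characters of G of odd degree is at least the index of P′ in N (the order of N divided by the order of P′), and equality holds if and only if N has a normal complement in G: a normal subgroup K of G with K ∩ N = 1 and KN = G. -/
theorem result {G : Type*} [Group G] [Finite G] (P : Sylow 2 G) :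
    Nat.card (Subgroup.normalizer ((P : Subgroup G) : Set G)) ≤ Nat.card (commutator ↥P) * (∑ᶠ χ : {χ : Cfsg.IrrCharacter G // ¬ 2 ∣ Cfsg.charDegree (χ : G → ℂ)}, Cfsg.charDegree (χ.1 : G → ℂ) ^ 2) ∧
    (Nat.card (Subgroup.normalizer ((P : Subgroup G) : Set G)) = Nat.card (commutator ↥P) * (∑ᶠ χ : {χ : Cfsg.IrrCharacter G // ¬ 2 ∣ Cfsg.charDegree (χ : G → ℂ)}, Cfsg.charDegree (χ.1 : G → ℂ) ^ 2) ↔
      ∃ K : Subgroup G, K.Normal ∧ K ⊓ Subgroup.normalizer ((P : Subgroup G) : Set G) = ⊥ ∧ K ⊔ Subgroup.normalizer ((P : Subgroup G) : Set G) = ⊤) := by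
  classical
  have hS := Cfsg.Agent.S4931.result 2 P
  obtain ⟨N, hN⟩ : ∃ N : Subgroup G, N = Subgroup.normalizer ((P : Subgroup G) : Set G) := ⟨_, rfl⟩
  rw [← hN] at hS ⊢
  have : Fintype (IrrCharacter G) := Fintype.ofFinite _
  have : Fintype (IrrCharacter N) := Fintype.ofFinite _
  have hPN : (P : Subgroup G) ≤ N := by rw [hN]; exact Subgroup.le_normalizer
  obtain ⟨Q, hQ⟩ : ∃ Q : Subgroup N, Q = (P : Subgroup G).subgroupOf N := ⟨_, rfl⟩
  have hQn : Q.Normal := by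
    rw [hQ, hN]; exact Subgroup.normal_in_normalizer
  have hQi : ¬ 2 ∣ Q.index := by
    intro h
    apply P.not_dvd_index
    have h1 : Q.index = (P : Subgroup G).relIndex N := by rw [hQ]; rfl
    rw [← Subgroup.relIndex_mul_index hPN, ← h1]
    exact Dvd.dvd.mul_right h _
  have hNi : ¬ 2 ∣ N.index := by
    intro h
    apply P.not_dvd_index
    rw [← Subgroup.relIndex_mul_index hPN]
    exact Dvd.dvd.mul_left h _
  have hQp : IsPGroup 2 Q := by
    rw [hQ]
    exact P.isPGroup'.comap_of_injective N.subtype N.subtype_injective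
  have hQmap : Q.map N.subtype = (P : Subgroup G) := by
    rw [hQ]; exact Subgroup.map_subgroupOf_eq_of_le hPN
  have hcmap : (⁅Q, Q⁆).map N.subtype = ⁅(P : Subgroup G), (P : Subgroup G)⁆ := by
    rw [Subgroup.map_commutator, hQmap]
  have hRn : (⁅Q, Q⁆ : Subgroup N).Normal := Subgroup.commutator_normal Q Q
  have hcard1 : Nat.card (commutator ↥P) = Nat.card (⁅Q, Q⁆ : Subgroup N) := by
    have h1 : (commutator ↥P).map (P : Subgroup G).subtype
        = ⁅(P : Subgroup G), (P : Subgroup G)⁆ := by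
      rw [commutator_def, Subgroup.map_commutator, ← MonoidHom.range_eq_map,
        Subgroup.range_subtype]
    have h2 : Nat.card ((commutator ↥P).map (P : Subgroup G).subtype) = Nat.card (commutator ↥P) :=
      Subgroup.card_map_of_injective (P : Subgroup G).subtype_injective
    have h3 : Nat.card ((⁅Q, Q⁆ : Subgroup N).map N.subtype) = Nat.card (⁅Q, Q⁆ : Subgroup N) :=
      Subgroup.card_map_of_injective N.subtype_injective
    rw [← h2, h1, ← hcmap, h3]
  set X : Finset (IrrCharacter G) :=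
    Finset.univ.filter (fun χ => ¬ 2 ∣ charDegree (χ : G → ℂ)) with hXdef
  set Y : Finset (IrrCharacter N) :=
    Finset.univ.filter (fun θ => ¬ 2 ∣ charDegree (θ : N → ℂ)) with hYdef
  have hX : ∀ χ, χ ∈ X ↔ ¬ 2 ∣ charDegree (χ : G → ℂ) := by simp [hXdef]
  have hY : ∀ θ, θ ∈ Y ↔ ¬ 2 ∣ charDegree (θ : N → ℂ) := by simp [hYdef]
  have hfin : (∑ᶠ χ : {χ : Cfsg.IrrCharacter G // ¬ 2 ∣ Cfsg.charDegree (χ : G → ℂ)},
      Cfsg.charDegree (χ.1 : G → ℂ) ^ 2) = ∑ χ ∈ X, charDegree (χ : G → ℂ) ^ 2 := by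
    rw [finsum_eq_sum_of_fintype]
    exact (Finset.sum_subtype X hX (fun χ => charDegree (χ : G → ℂ) ^ 2)).symm
  rw [hfin, hcard1]
  have hSY : ∑ θ ∈ Y, charDegree (θ : N → ℂ) ^ 2 = (⁅Q, Q⁆ : Subgroup N).index :=
    sum_sq_ker ⁅Q, Q⁆ Y (fun θ => by rw [hY, ker_iff Q hQp hQi θ])
  have hcardN : Nat.card N = Nat.card (⁅Q, Q⁆ : Subgroup N) * ∑ θ ∈ Y, charDegree (θ : N → ℂ) ^ 2 := by
    rw [hSY, Subgroup.card_mul_index]
  obtain ⟨hle, heq⟩ := main_ineq N hNi X hX Y hY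
  have hpos : 0 < Nat.card (⁅Q, Q⁆ : Subgroup N) := Nat.card_pos
  rw [hcardN]
  refine ⟨Nat.mul_le_mul_left _ hle, ?_⟩
  constructor
  · intro h
    have h1 := Nat.eq_of_mul_eq_mul_left hpos h
    obtain ⟨K, hK1, hK2, hK3⟩ := hS.1 (heq h1)
    exact ⟨K, hK1, hK3, hK2⟩
  · rintro ⟨K, hK1, hK3, hK2⟩
    have h2 := upper P N K hN hK2 hK3 Q hQmap X hX
    rw [← hSY] at h2
    rw [le_antisymm hle h2]

end Cfsg.Agent.S4930
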