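import Cfsg.Statements.S5185
import Cfsg.Agent.Lib.Helper27.PSquare

set_option autoImplicit false
universe u
open Cfsg

namespace Cfsg.Agent.S5185

/-- Let F be a saturated fusion system over a finite p-group S and H an essential subgroup of order p². Then H is elementary abelian (isomorphic to C_p × C_p) and its F-automorphism group contains a subgroup isomorphic to SL(2,p). -/
theorem result {Ω : Type u} [Group Ω] {S : Subgroup Ω} [Finite S] (p : ℕ) [Fact p.Prime] (hS : IsPGroup p S)
    (F : Cfsg.FusionSystem S) (hF : F.IsSaturated p) (H : Subgroup Ω) (hH : F.IsEssential p H) (hcard : Nat.card H = p ^ 2) :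
    Cfsg.IsElementaryAbelian p H ∧
      ∃ K : Subgroup ↥(F.autGroup H), Nonempty (↥K ≃* Matrix.SpecialLinearGroup (Fin 2) (ZMod p)) := by
  classical
  have hrad := Lib.Helper26.radical_of_essential hS hH
  obtain ⟨hc, hn, hnorm, M, hM⟩ := hH
  have hHS : H ≤ S := hc.1
  have hfinH : Finite H := Finite.of_injective (Subgroup.inclusion hHS) (Subgroup.inclusion_injective hHS)
  have hab : ∀ a b : H, a * b = b * a := IsPGroup.commutative_of_card_eq_prime_sq hcard
  have hInn : ∀ α ∈ Cfsg.Inn H, α = 1 := by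
    rintro _ ⟨e0, rfl⟩
    ext e
    rw [MulAut.conj_apply, hab e0 e, mul_inv_cancel_right, MulAut.one_apply]
  have hO : Cfsg.pCore p (F.autGroup H) = ⊥ := by
    rw [eq_bot_iff]
    intro α hα
    have h1 : (α : MulAut H) ∈ Cfsg.Inn H := by
      rw [← hrad.2]
      exact ⟨α, hα, rfl⟩
    exact Subgroup.mem_bot.2 (Subtype.ext (hInn _ h1))
  have hp : p ∣ Nat.card (F.autGroup H) := by
    rw [Subgroup.card_eq_card_quotient_mul_card_subgroup ((Cfsg.Inn H).subgroupOf (F.autGroup H))]
    exact Dvd.dvd.mul_right hM.1 _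
  obtain ⟨hexp, K, hK⟩ := Lib.Helper27.PSq.main hcard (F.autGroup H) hp hO
  refine ⟨⟨⟨⟨fun a b => hab a b⟩⟩, fun a ha => ?_⟩, K, hK⟩
  exact congrArg Subtype.val (hexp ⟨a, ha⟩)

end Cfsg.Agent.S5185
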