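import Cfsg.Statements.S5186
import Cfsg.Agent.Lib.Helper27.PCube3

set_option autoImplicit false
universe u
open Cfsg

namespace Cfsg.Agent.S5186

/-- Let F be a saturated fusion system over a finite p-group S and H an essential subgroup of order p³. Then H is elementary abelian, or p is odd and H is extraspecial of exponent p, or p = 2 and H is the quaternion group of order 8. -/
theorem result {Ω : Type u} [Group Ω] {S : Subgroup Ω} [Finite S] (p : ℕ) [Fact p.Prime] (hS : IsPGroup p S)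
    (F : Cfsg.FusionSystem S) (hF : F.IsSaturated p) (H : Subgroup Ω) (hH : F.IsEssential p H) (hcard : Nat.card H = p ^ 3) :
    Cfsg.IsElementaryAbelian p H ∨ (Odd p ∧ Cfsg.IsExtraspecial p ↥H ∧ ∀ x ∈ H, x ^ p = 1) ∨
      (p = 2 ∧ Nonempty (↥H ≃* QuaternionGroup 2)) := by
  classical
  have hrad := Lib.Helper26.radical_of_essential hS hH
  obtain ⟨hc, hn, hnorm, M, hM⟩ := hH
  have hHS : H ≤ S := hc.1
  have hfinH : Finite H := Finite.of_injective (Subgroup.inclusion hHS) (Subgroup.inclusion_injective hHS)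
  have hInn : Cfsg.Inn H ≤ F.autGroup H := by
    rw [← hrad.2]
    exact Subgroup.map_subtype_le _
  have hcore : ∀ N : Subgroup (F.autGroup H), N.Normal → IsPGroup p N →
      N.map (F.autGroup H).subtype ≤ Cfsg.Inn H := by
    intro N hN hNp
    rw [← hrad.2]
    exact Subgroup.map_mono (Lib.Helper17.le_pCore hN hNp)
  obtain ⟨q, hq⟩ := exists_prime_orderOf_dvd_card' p hM.1
  obtain ⟨a, rfl⟩ := QuotientGroup.mk_surjective q
  have haI : (a : MulAut H) ∉ Cfsg.Inn H := by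
    intro h
    have h1 : (QuotientGroup.mk a : F.autGroup H ⧸ (Cfsg.Inn H).subgroupOf (F.autGroup H)) = 1 :=
      (QuotientGroup.eq_one_iff a).2 (Subgroup.mem_subgroupOf.2 h)
    rw [h1, orderOf_one] at hq
    exact (Fact.out : p.Prime).one_lt.ne hq
  have hap : (a : MulAut H) ^ p ∈ Cfsg.Inn H := by
    have h1 : (QuotientGroup.mk (a ^ p) : F.autGroup H ⧸ (Cfsg.Inn H).subgroupOf (F.autGroup H)) = 1 := by
      rw [QuotientGroup.mk_pow, ← hq, pow_orderOf_eq_one]
    exact Subgroup.mem_subgroupOf.1 ((QuotientGroup.eq_one_iff _).1 h1)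
  have hap4 : (a : MulAut H) ^ (p ^ 4) = 1 := by
    obtain ⟨h, hh⟩ := hap
    rw [pow_succ' p 3, pow_mul, ← hh, ← map_pow, ← hcard, pow_card_eq_one', map_one]
  rcases Lib.Helper27.PCu.main hcard (F.autGroup H) hInn hcore a.2 haI hap4 with
    ⟨h1, h2⟩ | ⟨h1, h2, h3⟩ | ⟨h1, h2⟩
  · exact Or.inl ⟨⟨⟨fun a b => h1 a b⟩⟩, fun a ha => congrArg Subtype.val (h2 ⟨a, ha⟩)⟩
  · exact Or.inr (Or.inl ⟨h1, h2, fun a ha => congrArg Subtype.val (h3 ⟨a, ha⟩)⟩)
  · exact Or.inr (Or.inr ⟨h1, h2⟩)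

end Cfsg.Agent.S5186
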