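import Cfsg.Statements.S5187
import Cfsg.Agent.Lib.Helper27.RankTwo3

set_option autoImplicit false
universe u
open Cfsg

namespace Cfsg.Agent.S5187

/-- Let F be a saturated fusion system over a finite p-group S and H an abelian essential subgroup that can be generated by two elements (its Frattini quotient has order at most p²). Then H is elementary abelian of order p², or p ≤ 3 and H is homocyclic of rank two, that is isomorphic to C_{pᵏ} × C_{pᵏ} for some k. -/
theorem result {Ω : Type u} [Group Ω] {S : Subgroup Ω} [Finite S] (p : ℕ) [Fact p.Prime] (hS : IsPGroup p S)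
    (F : Cfsg.FusionSystem S) (hF : F.IsSaturated p) (H : Subgroup Ω) (hH : F.IsEssential p H) (hab : IsMulCommutative ↥H) (hrk : (frattini ↥H).index ≤ p ^ 2) :
    (Cfsg.IsElementaryAbelian p H ∧ Nat.card H = p ^ 2) ∨
      (p ≤ 3 ∧ ∃ k : ℕ, Nonempty (↥H ≃* Multiplicative (ZMod (p ^ k) × ZMod (p ^ k)))) := by
  classical
  have hrad := Lib.Helper26.radical_of_essential hS hH
  obtain ⟨hc, hn, hnorm, M, hM⟩ := hH
  have hHS : H ≤ S := hc.1
  have hfinH : Finite H := Finite.of_injective (Subgroup.inclusion hHS) (Subgroup.inclusion_injective hHS)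
  have hcomm : ∀ a b : H, a * b = b * a := hab.is_comm.comm
  have hP : IsPGroup p H := hS.to_le hHS
  have hInn : ∀ α ∈ Cfsg.Inn H, α = 1 := by
    rintro _ ⟨e0, rfl⟩
    ext e
    rw [MulAut.conj_apply, hcomm e0 e, mul_inv_cancel_right, MulAut.one_apply]
  have hO : Cfsg.pCore p (F.autGroup H) = ⊥ := by
    rw [eq_bot_iff]
    intro α hα
    have h1 : (α : MulAut H) ∈ Cfsg.Inn H := by
      rw [← hrad.2]
      exact ⟨α, hα, rfl⟩
    exact Subgroup.mem_bot.2 (Subtype.ext (hInn _ h1))
  have hp : p ∣ Nat.card (F.autGroup H) := by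
    rw [Subgroup.card_eq_card_quotient_mul_card_subgroup ((Cfsg.Inn H).subgroupOf (F.autGroup H))]
    exact Dvd.dvd.mul_right hM.1 _
  obtain ⟨α, hα⟩ := exists_prime_orderOf_dvd_card' p hp
  have hαp : (α : MulAut H) ^ p = 1 := by
    have : α ^ p = 1 := by rw [← hα, pow_orderOf_eq_one]
    exact congrArg Subtype.val this
  have hα1 : (α : MulAut H) ≠ 1 := by
    intro h
    have : α = 1 := Subtype.ext h
    rw [this, orderOf_one] at hα
    exact (Fact.out : p.Prime).one_lt.ne hα
  letI : CommGroup ↥H := { (inferInstance : Group ↥H) with mul_comm := hcomm }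
  rcases Lib.Helper27.RkT.main (H := ↥H) hP hrk (F.autGroup H) hO α.2 hα1 hαp with
    ⟨h1, h2⟩ | ⟨h1, h2⟩
  · exact Or.inl ⟨⟨hab, fun a ha => congrArg Subtype.val (h1 ⟨a, ha⟩)⟩, h2⟩
  · exact Or.inr ⟨h1, h2⟩

end Cfsg.Agent.S5187
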