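import Cfsg.Statements.S5188
import Cfsg.Agent.Lib.Helper27.P4f

set_option autoImplicit false
universe u
open Cfsg

namespace Cfsg.Agent.S5188

/-- Let F be a saturated fusion system over a finite p-group S and H an essential subgroup of order p⁴. Then H is isomorphic to one of: C_p⁴ or C_{p²} × C_p × C_p (any p); C_{p²} × C_{p²} with p ∈ {2, 3}; p^{1+2}_+ × C_p with p odd (the direct product of an extraspecial group of order p³ and exponent p with a group of order p); Q₈ × C₂ (p = 2); or the non-abelian group of order p⁴ of exponent p² whose centre is cyclic of order p² (the central product of an extraspecial group of order p³ with a cyclic group of order p²; for p = 2 this is D₈ ∘ C₄). -/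
theorem result {Ω : Type u} [Group Ω] {S : Subgroup Ω} [Finite S] (p : ℕ) [Fact p.Prime] (hS : IsPGroup p S)
    (F : Cfsg.FusionSystem S) (hF : F.IsSaturated p) (H : Subgroup Ω) (hH : F.IsEssential p H) (hcard : Nat.card H = p ^ 4) :
    Cfsg.IsElementaryAbelian p H ∨
      Nonempty (↥H ≃* Multiplicative (ZMod (p ^ 2) × ZMod p × ZMod p)) ∨
      ((p = 2 ∨ p = 3) ∧ Nonempty (↥H ≃* Multiplicative (ZMod (p ^ 2) × ZMod (p ^ 2)))) ∨
      (Odd p ∧ ∃ (E : Type) (_ : Group E) (_ : Finite E), Cfsg.IsExtraspecial p E ∧ Nat.card E = p ^ 3 ∧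
        (∀ x : E, x ^ p = 1) ∧ Nonempty (↥H ≃* E × Multiplicative (ZMod p))) ∨
      (p = 2 ∧ Nonempty (↥H ≃* QuaternionGroup 2 × Multiplicative (ZMod 2))) ∨
      (¬ IsMulCommutative ↥H ∧ (∀ x ∈ H, x ^ (p ^ 2) = 1) ∧ IsCyclic ↥(Subgroup.center ↥H) ∧
        Nat.card (Subgroup.center ↥H) = p ^ 2) := by
  classical
  have hrad := Lib.Helper26.radical_of_essential hS hH
  obtain ⟨hc, hn, hnorm, M, hM⟩ := hH
  have hHS : H ≤ S := hc.1
  have hfinH : Finite H := Finite.of_injective (Subgroup.inclusion hHS) (Subgroup.inclusion_injective hHS)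
  by_cases hcomm : ∀ a b : H, a * b = b * a
  · have hInn : ∀ α ∈ Cfsg.Inn H, α = 1 := by
      rintro _ ⟨e0, rfl⟩
      ext e
      rw [MulAut.conj_apply, hcomm e0 e, mul_inv_cancel_right, MulAut.one_apply]
    have hO : Cfsg.pCore p (F.autGroup H) = ⊥ := by
      rw [eq_bot_iff]
      intro α hα
      have h1 : (α : MulAut H) ∈ Cfsg.Inn H := by
        rw [← hrad.2]
        exact ⟨α, hα, rfl⟩
      exact Subgroup.mem_bot.2 (Subtype.ext (hInn _ h1))
    have hp : p ∣ Nat.card (F.autGroup H) := by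
      rw [Subgroup.card_eq_card_quotient_mul_card_subgroup ((Cfsg.Inn H).subgroupOf (F.autGroup H))]
      exact Dvd.dvd.mul_right hM.1 _
    obtain ⟨α, hα⟩ := exists_prime_orderOf_dvd_card' p hp
    have hαp : (α : MulAut H) ^ p = 1 := by
      have : α ^ p = 1 := by rw [← hα, pow_orderOf_eq_one]
      exact congrArg Subtype.val this
    have hα1 : (α : MulAut H) ≠ 1 := by
      intro h
      have : α = 1 := Subtype.ext h
      rw [this, orderOf_one] at hα
      exact (Fact.out : p.Prime).one_lt.ne hα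
    letI : CommGroup ↥H := { (inferInstance : Group ↥H) with mul_comm := hcomm }
    rcases Lib.Helper27.PFo.abelian4 (H := ↥H) hcard (F.autGroup H) hO α.2 hα1 hαp with
      h1 | h1 | h1
    · exact Or.inl ⟨⟨⟨fun a b => hcomm a b⟩⟩, fun a ha => congrArg Subtype.val (h1 ⟨a, ha⟩)⟩
    · exact Or.inr (Or.inl h1)
    · exact Or.inr (Or.inr (Or.inl h1))
  · have hInn : Cfsg.Inn H ≤ F.autGroup H := by
      rw [← hrad.2]
      exact Subgroup.map_subtype_le _
    have hcore : ∀ N : Subgroup (F.autGroup H), N.Normal → IsPGroup p N →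
        N.map (F.autGroup H).subtype ≤ Cfsg.Inn H := by
      intro N hN hNp
      rw [← hrad.2]
      exact Subgroup.map_mono (Lib.Helper17.le_pCore hN hNp)
    obtain ⟨q, hq⟩ := exists_prime_orderOf_dvd_card' p hM.1
    obtain ⟨a, rfl⟩ := QuotientGroup.mk_surjective q
    have haI : (a : MulAut H) ∉ Cfsg.Inn H := by
      intro h
      have h1 : (QuotientGroup.mk a : F.autGroup H ⧸ (Cfsg.Inn H).subgroupOf (F.autGroup H)) = 1 :=
        (QuotientGroup.eq_one_iff a).2 (Subgroup.mem_subgroupOf.2 h)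
      rw [h1, orderOf_one] at hq
      exact (Fact.out : p.Prime).one_lt.ne hq
    have hap : (a : MulAut H) ^ p ∈ Cfsg.Inn H := by
      have h1 : (QuotientGroup.mk (a ^ p) : F.autGroup H ⧸ (Cfsg.Inn H).subgroupOf (F.autGroup H)) = 1 := by
        rw [QuotientGroup.mk_pow, ← hq, pow_orderOf_eq_one]
      exact Subgroup.mem_subgroupOf.1 ((QuotientGroup.eq_one_iff _).1 h1)
    have hap5 : (a : MulAut H) ^ (p ^ 5) = 1 := by
      obtain ⟨h, hh⟩ := hap
      rw [pow_succ' p 4, pow_mul, ← hh, ← map_pow, ← hcard, pow_card_eq_one', map_one]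
    rcases Lib.Helper27.PFo.nonabelian_case hcard (F.autGroup H) hInn hcore a.2 haI hap5 hcomm with
      h1 | h1 | ⟨h1, h2, h3⟩
    · exact Or.inr (Or.inr (Or.inr (Or.inl h1)))
    · exact Or.inr (Or.inr (Or.inr (Or.inr (Or.inl h1))))
    · refine Or.inr (Or.inr (Or.inr (Or.inr (Or.inr ⟨?_, ?_, h2, h3⟩))))
      · intro h
        exact hcomm h.is_comm.comm
      · intro x hx
        exact congrArg Subtype.val (h1 ⟨x, hx⟩)

end Cfsg.Agent.S5188
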