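import Cfsg.Statements.S5191
import Cfsg.Agent.Lib.Helper26.SylIn

set_option autoImplicit false
open Cfsg

namespace Cfsg.Agent.S5191

/-- Fusion in a finite group G and in its quotient by O_{p'}(G) agree. Let S be a Sylow p-subgroup of G, N = O_{p'}(G) and P ≤ S. If an element of G/N conjugates the image of P into the image of S, then some element g of G conjugates P into S and induces the same map on P modulo N. (Together with the injectivity of S → G/N this says that g ↦ gN induces an isomorphism of the fusion system of G on S with that of G/N on SN/N.) -/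
theorem result {G : Type*} [Group G] [Finite G] {p : ℕ} [Fact p.Prime]
    [hN : (Cfsg.pPrimeCore p G).Normal] (S : Sylow p G) (P : Subgroup G) (hP : P ≤ (S : Subgroup G))
    (γ : G ⧸ Cfsg.pPrimeCore p G)
    (hγ : ∀ x ∈ P, γ * QuotientGroup.mk x * γ⁻¹ ∈ ((S : Subgroup G).map (QuotientGroup.mk' (Cfsg.pPrimeCore p G)))) :
    ∃ g : G, ∀ x ∈ P, g * x * g⁻¹ ∈ S ∧
      (QuotientGroup.mk (g * x * g⁻¹) : G ⧸ Cfsg.pPrimeCore p G) = γ * QuotientGroup.mk x * γ⁻¹ := by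
  obtain ⟨g₀, rfl⟩ := QuotientGroup.mk_surjective γ
  set K := Cfsg.pPrimeCore p G with hK
  have hsyl : Cfsg.Agent.Lib.Helper26.SylIn p (S : Subgroup G) ((S : Subgroup G) ⊔ K) :=
    (Cfsg.Agent.Lib.Helper26.sylIn_top_of_sylow S).of_le le_top le_sup_left le_top
  have hle : Cfsg.Agent.Lib.Helper26.cj g₀ P ≤ (S : Subgroup G) ⊔ K := by
    rintro _ ⟨x, hx, rfl⟩
    show g₀ * x * g₀⁻¹ ∈ (S : Subgroup G) ⊔ K
    obtain ⟨s, hs, hsx⟩ := hγ x hx
    have h1 : (QuotientGroup.mk s : G ⧸ K) = QuotientGroup.mk (g₀ * x * g₀⁻¹) := by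
      rw [QuotientGroup.mk_mul, QuotientGroup.mk_mul, QuotientGroup.mk_inv]
      exact hsx
    have h2 : s⁻¹ * (g₀ * x * g₀⁻¹) ∈ K := QuotientGroup.eq.1 h1
    have h3 : g₀ * x * g₀⁻¹ = s * (s⁻¹ * (g₀ * x * g₀⁻¹)) := by group
    rw [h3]
    exact mul_mem (Subgroup.mem_sup_left hs) (Subgroup.mem_sup_right h2)
  obtain ⟨y, hy, hyP⟩ := hsyl.exists_conj_le hle ((S.isPGroup'.to_le hP).map _)
  have hy' : y ∈ (((S : Subgroup G) ⊔ K : Subgroup G) : Set G) := hy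
  rw [Subgroup.mul_normal] at hy'
  obtain ⟨s, hs, k, hk, rfl⟩ := Set.mem_mul.1 hy'
  have hsS : s ∈ (S : Subgroup G) := hs
  have hkK : k ∈ K := hk
  refine ⟨k * g₀, fun x hx => ⟨?_, ?_⟩⟩
  · have h1 : s * k * (g₀ * x * g₀⁻¹) * (s * k)⁻¹ ∈ (S : Subgroup G) := hyP ⟨_, ⟨x, hx, rfl⟩, rfl⟩
    have h2 : k * g₀ * x * (k * g₀)⁻¹ = s⁻¹ * (s * k * (g₀ * x * g₀⁻¹) * (s * k)⁻¹) * s := by group
    rw [h2]
    exact mul_mem (mul_mem (inv_mem hsS) h1) hsS
  · have hk1 : (QuotientGroup.mk k : G ⧸ K) = 1 := (QuotientGroup.eq_one_iff k).2 hkK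
    rw [QuotientGroup.mk_mul, QuotientGroup.mk_mul, QuotientGroup.mk_inv, QuotientGroup.mk_mul]
    erw [hk1]
    rw [one_mul]

end Cfsg.Agent.S5191
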