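import Cfsg.Statements.S5226
import Cfsg.Agent.Lib.Helper27.FusionChain
open Cfsg.Agent.Lib.Helper27
open scoped commutatorElement

set_option autoImplicit false
open Cfsg

namespace Cfsg.Agent.S5226

/-- Let F be a saturated fusion system over a finite p-group S and Q a subgroup of S. Then Q is normal in F (F equals the normalizer system of Q) if and only if Q is strongly closed in F and admits a central series 1 = Q₀ ≤ Q₁ ≤ ⋯ ≤ Qₙ = Q ([Qᵢ₊₁, Q] ≤ Qᵢ) all of whose proper terms are weakly closed in F. -/
theorem result {Ω : Type*} [Group Ω] {S : Subgroup Ω} [Finite S] (p : ℕ) [Fact p.Prime] (hS : IsPGroup p S) (F : Cfsg.FusionSystem S) (hF : F.IsSaturated p) (Q : Subgroup Ω) : F.IsNormal Q ↔ F.StronglyClosed Q ∧ ∃ (n : ℕ) (C : Fin (n + 1) → Subgroup Ω), C 0 = ⊥ ∧ C (Fin.last n) = Q ∧ Monotone C ∧ (∀ i : Fin n, ⁅C i.succ, Q⁆ ≤ C i.castSucc) ∧ ∀ i : Fin n, F.WeaklyClosed (C i.castSucc) := by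
  constructor
  · intro hQ
    have hQS := hQ.1
    have finQ : Finite Q := finite_of_le hQS
    have hnil : Group.IsNilpotent Q := (hS.to_le hQS).isNilpotent
    obtain ⟨n, hn⟩ := hnil.nilpotent
    refine ⟨IsNormal.stronglyClosed hQ, n,
      fun i => (Subgroup.upperCentralSeries Q i).map Q.subtype, ?_, ?_, ?_, ?_, ?_⟩
    · simp [Subgroup.upperCentralSeries_zero]
    · show (Subgroup.upperCentralSeries Q (Fin.last n : ℕ)).map _ = Q
      rw [Fin.val_last, hn, ← MonoidHom.range_eq_map, Subgroup.range_subtype]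
    · intro i j hij
      exact Subgroup.map_mono (Subgroup.upperCentralSeries_mono Q hij)
    · intro i
      rw [Subgroup.commutator_le]
      rintro _ ⟨x, hx, rfl⟩ y hy
      refine ⟨⁅x, ⟨y, hy⟩⁆, ?_, rfl⟩
      exact (Subgroup.mem_upperCentralSeries_succ_iff).1 hx ⟨y, hy⟩
    · intro i
      have hle : (Subgroup.upperCentralSeries Q (i.castSucc : ℕ)).map Q.subtype ≤ Q := by
        rintro _ ⟨x, -, rfl⟩
        exact x.2
      refine ⟨hle.trans hQS, fun φ hφ => ?_⟩
      obtain ⟨α, -, hα⟩ := IsNormal.exists_aut hQ hle hφ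
      have hchar := (Subgroup.characteristic_iff_map_eq.1
        (inferInstance : (Subgroup.upperCentralSeries Q (i.castSucc : ℕ)).Characteristic)) α
      ext y
      constructor
      · rintro ⟨⟨_, x, hx, rfl⟩, rfl⟩
        rw [hα]
        refine ⟨α x, ?_, rfl⟩
        rw [← hchar]
        exact ⟨x, hx, rfl⟩
      · rintro ⟨x, hx, rfl⟩
        rw [SetLike.mem_coe, ← hchar] at hx
        obtain ⟨z, hz, rfl⟩ := hx
        refine ⟨⟨z, ⟨z, hz, rfl⟩⟩, ?_⟩
        rw [hα]
        rfl
  · rintro ⟨hsc, n, C, hC0, hCn, hmono, hcomm, hwc⟩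
    rw [Cfsg.Agent.Lib.Helper26.isNormal_iff_centric_radical hS hF]
    refine ⟨hsc, fun P hc hr => ?_⟩
    obtain ⟨C', h0, hn, hmono', hcomm', hwc'⟩ : ∃ C' : ℕ → Subgroup Ω, C' 0 = ⊥ ∧ C' n = Q ∧
        (∀ j k, j ≤ k → C' j ≤ C' k) ∧ (∀ k < n, ⁅C' (k + 1), Q⁆ ≤ C' k) ∧
        (∀ k < n, F.WeaklyClosed (C' k)) := by
      refine ⟨fun k => C ⟨min k n, by omega⟩, ?_, ?_, ?_, ?_, ?_⟩
      · have : (⟨min 0 n, by omega⟩ : Fin (n + 1)) = 0 := Fin.ext (by simp)
        show C ⟨min 0 n, _⟩ = ⊥
        rw [this, hC0]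
      · have : (⟨min n n, by omega⟩ : Fin (n + 1)) = Fin.last n := Fin.ext (by simp)
        show C ⟨min n n, _⟩ = Q
        rw [this, hCn]
      · intro j k hjk
        apply hmono
        show min j n ≤ min k n
        omega
      · intro k hk
        have e1 : (⟨min (k + 1) n, by omega⟩ : Fin (n + 1)) = Fin.succ ⟨k, hk⟩ :=
          Fin.ext (by simp; omega)
        have e2 : (⟨min k n, by omega⟩ : Fin (n + 1)) = Fin.castSucc ⟨k, hk⟩ :=
          Fin.ext (by simp; omega)
        show ⁅C ⟨min (k + 1) n, _⟩, Q⁆ ≤ C ⟨min k n, _⟩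
        rw [e1, e2]
        exact hcomm _
      · intro k hk
        have e2 : (⟨min k n, by omega⟩ : Fin (n + 1)) = Fin.castSucc ⟨k, hk⟩ :=
          Fin.ext (by simp; omega)
        show F.WeaklyClosed (C ⟨min k n, _⟩)
        rw [e2]
        exact hwc _
    have hQn := StronglyClosed.le_normalizer hsc
    have key : ∀ i : ℕ, i ≤ n → C' i ≤ P := by
      intro i
      induction i with
      | zero => intro _; rw [h0]; exact bot_le
      | succ i ih =>
        intro hi
        have hin : i < n := by omega
        have ihP := ih (by omega)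
        have hXQ : C' (i + 1) ≤ Q := hn ▸ hmono' _ _ hi
        have hXn : S ≤ Subgroup.normalizer (C' (i + 1) : Set Ω) := by
          rcases Nat.lt_or_ge (i + 1) n with h | h
          · exact WeaklyClosed.le_normalizer (hwc' _ h)
          · have : i + 1 = n := by omega
            rw [this, hn]
            exact hQn
        refine le_of_normalizerIn_le hS hc.1 (hXQ.trans hsc.1) (hc.1.trans hXn) (fun x hx hxN => ?_)
        have hxQ : x ∈ Q := hXQ hx
        let D : ℕ → Subgroup Ω := fun k => match k with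
          | 0 => ⊤
          | 1 => Q
          | (k + 2) => C' (i - k)
        refine mem_of_stab_chain hS F hc hr D (i + 2) le_top ?_ ?_ ⟨hsc.1 hxQ, hxN⟩ ?_
        · show C' (i - i) = ⊥
          rw [Nat.sub_self, h0]
        · intro k α hα y hy
          match k with
          | 0 => exact Subgroup.mem_top _
          | 1 => exact StronglyClosed.aut_mem hsc hc.1 hα y hy
          | (k + 2) =>
            exact WeaklyClosed.aut_mem (hwc' (i - k) (by omega))
              ((hmono' _ _ (Nat.sub_le i k)).trans ihP) hc.1 hα y hy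
        · intro k y hyP hy
          have hcomm_eq : y⁻¹ * (x * y * x⁻¹) = ⁅y⁻¹, x⁆ := by
            rw [commutatorElement_def]; group
          match k with
          | 0 =>
            show y⁻¹ * (x * y * x⁻¹) ∈ Q
            have h1 : y⁻¹ * x * y⁻¹⁻¹ ∈ Q :=
              (Subgroup.mem_normalizer_iff.1 (hQn (inv_mem (hc.1 hyP))) x).1 hxQ
            have := Q.mul_mem h1 (Q.inv_mem hxQ)
            simpa [mul_assoc] using this
          | 1 =>
            show y⁻¹ * (x * y * x⁻¹) ∈ C' (i - 0)
            rw [hcomm_eq, Nat.sub_zero]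
            apply hcomm' i hin
            rw [Subgroup.commutator_comm]
            exact Subgroup.commutator_mem_commutator (Q.inv_mem hy) hx
          | (k + 2) =>
            show y⁻¹ * (x * y * x⁻¹) ∈ C' (i - (k + 1))
            have hy' : y ∈ C' (i - k) := hy
            rcases Nat.eq_zero_or_pos (i - k) with h | h
            · rw [h, h0, Subgroup.mem_bot] at hy'
              rw [hy']
              simp
            · rw [hcomm_eq]
              have e : i - k = (i - (k + 1)) + 1 := by omega
              rw [e] at hy'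
              apply hcomm' (i - (k + 1)) (by omega)
              exact Subgroup.commutator_mem_commutator (inv_mem hy') hxQ
    rw [← hn]
    exact key n le_rfl

end Cfsg.Agent.S5226
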