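import Cfsg.Statements.S5251
import Cfsg.Agent.Lib.Helper27.FusionChain
open Cfsg Cfsg.FusionSystem Cfsg.Agent.Lib.Helper27

set_option autoImplicit false
open Cfsg

namespace Cfsg.Agent.S5251

/-- Let F be a saturated fusion system over a finite p-group S, E a normal subsystem of F over T, and P an F-centric subgroup of S such that P ∩ T is not E-centric. Then some F-conjugate P* of P satisfies Out_S(P*) ∩ O_p(Out_F(P*)) ≠ 1: there is an element of N_S(P*) outside P* whose conjugation action on P* lies in O_p(Aut_F(P*)). In particular P is not both centric and radical in F. -/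
theorem result {Ω : Type*} [Group Ω] {S : Subgroup Ω} [Finite S] (p : ℕ) [Fact p.Prime] (hS : IsPGroup p S) (F : Cfsg.FusionSystem S) (hF : F.IsSaturated p) {T : Subgroup Ω} (E : Cfsg.FusionSystem T) (hE : E.IsNormalIn F p) (P : Subgroup Ω) (hP : F.IsCentric P) (hPT : ¬ E.IsCentric (P ⊓ T)) : (∃ φ ∈ F.Hom P, ∃ x ∈ S ⊓ Subgroup.normalizer (φ.range : Set Ω), x ∉ φ.range ∧ ∃ α ∈ ((Cfsg.pCore p ↥(F.autGroup φ.range)).map (F.autGroup φ.range).subtype : Subgroup (MulAut ↥φ.range)), ∀ y : ↥φ.range, ((α y : ↥φ.range) : Ω) = x * (y : Ω) * x⁻¹) ∧ ¬ F.IsRadical p P := by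
  have hTsc : F.StronglyClosed T := hE.1.2.2.2.1
  have hsub : E.IsSubsystemOf F := hE.1.2.2.1
  have hTS := hTsc.1
  have hPS := hP.1
  have hTn := StronglyClosed.le_normalizer hTsc
  have hQT : P ⊓ T ≤ T := inf_le_right
  have hex : ∃ Q', E.IsConj (P ⊓ T) Q' ∧ ¬ centralizerIn T Q' ≤ Q' := by
    by_contra h
    push Not at h
    exact hPT ⟨hQT, h⟩
  obtain ⟨Q', ⟨ψ, hψ, hψr⟩, hQ'⟩ := hex
  have hconj : F.IsConj (P ⊓ T) Q' := ⟨ψ, hsub _ hψ, hψr⟩
  obtain ⟨Q'', hQQ'', hfn⟩ := IsSaturated.exists_fullyNormalized hS hF (hQT.trans hTS)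
  obtain ⟨χ, hχ, hχN, hχQ⟩ := IsSaturated.exists_normalizer_map hS hF hfn hQQ''
  obtain ⟨χ', hχ', hχ'N, hχ'Q⟩ :=
    IsSaturated.exists_normalizer_map hS hF hfn (isConj_trans F (isConj_symm F hconj) hQQ'')
  obtain ⟨c, hc, hcQ'⟩ := SetLike.not_le_iff_exists.1 hQ'
  have hQ'S : Q' ≤ S := isConj_le_right F hconj
  have hcN : c ∈ normalizerIn S Q' :=
    centralizerIn_le_normalizerIn S Q' ⟨hTS hc.1, hc.2⟩
  -- conj closure helper
  have hnorm : ∀ (A B : Subgroup Ω), (∀ g ∈ A, ∀ x ∈ B, g * x * g⁻¹ ∈ B) →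
      A ≤ Subgroup.normalizer (B : Set Ω) := by
    intro A B key g hg
    rw [Subgroup.mem_normalizer_iff]
    intro x
    refine ⟨key g hg x, fun h => ?_⟩
    have := key g⁻¹ (Subgroup.inv_mem _ hg) _ h
    simpa [mul_assoc] using this
  have hTconj : ∀ g ∈ S, ∀ x ∈ T, g * x * g⁻¹ ∈ T := fun g hg x hx =>
    (Subgroup.mem_normalizer_iff.1 (hTn hg) x).1 hx
  have hPN : P ≤ normalizerIn S (P ⊓ T) := by
    refine le_inf hPS (hnorm _ _ ?_)
    intro g hg x hx
    exact ⟨mul_mem (mul_mem hg hx.1) (Subgroup.inv_mem _ hg), hTconj g (hPS hg) x hx.2⟩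
  have hφ : χ.comp (Subgroup.inclusion hPN) ∈ F.Hom P := restrict_mem F hPN hχ
  set φ := χ.comp (Subgroup.inclusion hPN) with hφdef
  have hP'S : φ.range ≤ S := range_le F hφ
  have hQ''T : Q'' ≤ T := by
    rw [← hχQ]
    rintro _ ⟨x, hx, rfl⟩
    have hx' : (x : Ω) ∈ P ⊓ T := Subgroup.mem_subgroupOf.1 hx
    have h1 := restrict_mem F (le_normalizerIn (hQT.trans hTS)) hχ
    exact hTsc.2 (P ⊓ T) hQT _ h1 ⟨x, hx'⟩
  have hQ''P' : Q'' ≤ φ.range := by
    rw [← hχQ]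
    rintro _ ⟨x, hx, rfl⟩
    have hx' : (x : Ω) ∈ P ⊓ T := Subgroup.mem_subgroupOf.1 hx
    exact ⟨⟨x, hx'.1⟩, rfl⟩
  have hP'T : ∀ y ∈ φ.range, y ∈ T → y ∈ Q'' := by
    rintro _ ⟨u, rfl⟩ hy
    obtain ⟨φi, hφi, hφi'⟩ := F.inv_mem hφ
    have h1 := restrict_mem F (inf_le_left : φ.range ⊓ T ≤ φ.range) hφi
    have h2 := hTsc.2 _ inf_le_right _ h1 ⟨φ u, ⟨u, rfl⟩, hy⟩
    have h3 : (u : Ω) ∈ T := by
      rw [← hφi' u]
      exact h2
    rw [← hχQ]
    exact ⟨Subgroup.inclusion hPN u, Subgroup.mem_subgroupOf.2 ⟨u.2, h3⟩, rfl⟩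
  -- the image of c
  have hd0T : χ' ⟨c, hcN⟩ ∈ T := by
    have h1 := restrict_mem F (inf_le_left : normalizerIn S Q' ⊓ T ≤ normalizerIn S Q') hχ'
    exact hTsc.2 _ inf_le_right _ h1 ⟨c, hcN, hc.1⟩
  have hd0C : χ' ⟨c, hcN⟩ ∈ Subgroup.centralizer (Q'' : Set Ω) := by
    rw [Subgroup.mem_centralizer_iff]
    intro q hq
    rw [SetLike.mem_coe, ← hχ'Q] at hq
    obtain ⟨x, hx, rfl⟩ := hq
    have hx' : (x : Ω) ∈ Q' := Subgroup.mem_subgroupOf.1 hx
    rw [← map_mul, ← map_mul]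
    congr 1
    apply Subtype.ext
    exact (Subgroup.mem_centralizer_iff.1 hc.2) x hx'
  have hd0Q : χ' ⟨c, hcN⟩ ∉ Q'' := by
    intro hq
    rw [← hχ'Q] at hq
    obtain ⟨x, hx, hxe⟩ := hq
    have hx' : (x : Ω) ∈ Q' := Subgroup.mem_subgroupOf.1 hx
    have := F.injective_of_mem hχ' hxe
    apply hcQ'
    rw [this] at hx'
    exact hx'
  have hQ''conj : ∀ g ∈ φ.range, ∀ x ∈ Q'', g * x * g⁻¹ ∈ Q'' := fun g hg x hx =>
    hP'T _ (mul_mem (mul_mem hg (hQ''P' hx)) (Subgroup.inv_mem _ hg)) (hTconj g (hP'S hg) x (hQ''T hx))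
  have hDS : centralizerIn T Q'' ≤ S := inf_le_left.trans hTS
  have hP'D : φ.range ≤ Subgroup.normalizer (centralizerIn T Q'' : Set Ω) := by
    refine hnorm _ _ ?_
    intro g hg x hx
    refine ⟨hTconj g (hP'S hg) x hx.1, ?_⟩
    show _ ∈ Subgroup.centralizer (Q'' : Set Ω)
    rw [Subgroup.mem_centralizer_iff]
    intro q hq
    have h1 := hQ''conj g⁻¹ (Subgroup.inv_mem _ hg) q hq
    have h2 := (Subgroup.mem_centralizer_iff.1 hx.2) _ h1
    rw [inv_inv] at h2
    calc q * (g * x * g⁻¹) = g * ((g⁻¹ * q * g) * x) * g⁻¹ := by group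
      _ = g * (x * (g⁻¹ * q * g)) * g⁻¹ := by rw [h2]
      _ = g * x * g⁻¹ * q := by group
  have hexd : ∃ d ∈ centralizerIn T Q'', d ∈ Subgroup.normalizer (φ.range : Set Ω) ∧ d ∉ φ.range := by
    by_contra hcon
    push Not at hcon
    have h1 := le_of_normalizerIn_le hS hP'S hDS hP'D hcon
    exact hd0Q (hP'T _ (h1 ⟨hd0T, hd0C⟩) hd0T)
  obtain ⟨d, hdD, hdN, hdP'⟩ := hexd
  have hdS : d ∈ S := hDS hdD
  -- the chain
  let D : ℕ → Subgroup Ω := fun k => if k = 0 then ⊤ else if k = 1 then T else ⊥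
  have hκ' : conjAut φ.range d hdN ∈ F.autGroup φ.range :=
    autInducedBy_le_autGroup F hP'S (conjAut_mem_autInducedBy hdS hdN)
  have hstab' : ∀ x ∈ φ.range, x⁻¹ * (d * x * d⁻¹) ∈ T := by
    intro x hx
    have h1 := hTconj x⁻¹ (Subgroup.inv_mem _ (hP'S hx)) d hdD.1
    have h2 := mul_mem h1 (Subgroup.inv_mem _ hdD.1)
    simpa [mul_assoc] using h2
  have hfix' : ∀ x ∈ φ.range, x ∈ T → d * x * d⁻¹ = x := by
    intro x hx hxT
    have := (Subgroup.mem_centralizer_iff.1 hdD.2) x (hP'T x hx hxT)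
    rw [← this]
    group
  have hcore : ∀ (R : Subgroup Ω) (hR : R ≤ S) (κ : MulAut R), κ ∈ F.autGroup R →
      (∀ x : R, (x : Ω)⁻¹ * (κ x : R) ∈ T) → (∀ x : R, (x : Ω) ∈ T → κ x = x) →
      κ ∈ (pCore p (F.autGroup R)).map (F.autGroup R).subtype := by
    intro R hR κ hκ h1 h2
    refine mem_pCore_of_stab_chain hS F hR D 2 (by simp [D]) (by simp [D]) ?_ κ hκ ?_
    · intro k α hα x hx
      by_cases hk0 : k = 0
      · simp [D, hk0]
      · by_cases hk1 : k = 1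
        · simp only [D, hk1, one_ne_zero, if_false, if_true] at hx ⊢
          exact StronglyClosed.aut_mem hTsc hR hα x hx
        · simp only [D, hk0, hk1, if_false, Subgroup.mem_bot] at hx ⊢
          have : x = 1 := Subtype.ext hx
          rw [this, map_one]
          rfl
    · intro k x hx
      by_cases hk0 : k = 0
      · simp only [D, hk0, zero_add, one_ne_zero, if_false, if_true]
        exact h1 x
      · by_cases hk1 : k = 1
        · simp only [D, hk1, one_ne_zero, if_false, if_true] at hx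
          have : D (k + 1) = ⊥ := by simp [D, hk1]
          rw [this, Subgroup.mem_bot, h2 x hx]
          simp
        · simp only [D, hk0, hk1, if_false, Subgroup.mem_bot] at hx
          have : x = 1 := Subtype.ext hx
          rw [this, map_one]
          simp
  refine ⟨⟨φ, hφ, d, ⟨hdS, hdN⟩, hdP', conjAut φ.range d hdN, ?_, fun y => rfl⟩, ?_⟩
  · exact hcore _ hP'S _ hκ' (fun x => hstab' x x.2) (fun x hx => Subtype.ext (hfix' x x.2 hx))
  · intro hrad
    have he := isIso_isoOf F hφ rfl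
    set e := isoOf φ (F.injective_of_mem hφ) rfl with hedef
    have hκ : MulAut.congr e.symm (conjAut φ.range d hdN) ∈ F.autGroup P :=
      he.symm.congr_mem_autGroup hκ'
    have hTiff : ∀ x : P, ((e x : φ.range) : Ω) ∈ T → (x : Ω) ∈ T := by
      intro x hx
      have h1 := restrict_mem F (inf_le_left : φ.range ⊓ T ≤ φ.range) he.symm
      have h2 := hTsc.2 _ inf_le_right _ h1 ⟨e x, (e x).2, hx⟩
      have h3 : e.symm (e x) = x := e.symm_apply_apply x
      have h4 : ((e.symm (e x) : P) : Ω) ∈ T := h2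
      rwa [h3] at h4
    have hTiff' : ∀ x : P, (x : Ω) ∈ T → ((e x : φ.range) : Ω) ∈ T := by
      intro x hx
      have h1 := restrict_mem F (inf_le_left : P ⊓ T ≤ P) he
      exact hTsc.2 _ inf_le_right _ h1 ⟨x, x.2, hx⟩
    have hmem := hcore P hPS _ hκ ?_ ?_
    · rw [hrad.2] at hmem
      obtain ⟨u, hu⟩ := hmem
      apply hdP'
      refine mem_of_inner (s := conjAut φ.range d hdN) hP'S (hP.2 _ ⟨φ, hφ, rfl⟩) hdS (fun _ => rfl) ?_
      refine ⟨e u, ?_⟩
      ext y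
      have h1 := congrArg (fun a : MulAut P => ((e (a (e.symm y)) : φ.range) : Ω)) hu
      simpa [MulAut.congr] using h1
    · intro x
      refine hTiff (x⁻¹ * (MulAut.congr e.symm (conjAut φ.range d hdN)) x) ?_
      have : ((e (x⁻¹ * (MulAut.congr e.symm (conjAut φ.range d hdN)) x) : φ.range) : Ω)
          = ((e x : φ.range) : Ω)⁻¹ * (d * (e x : φ.range) * d⁻¹) := by
        simp [MulAut.congr]
      exact this ▸ hstab' _ (e x).2
    · intro x hx
      apply e.injective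
      apply Subtype.ext
      have : ((e ((MulAut.congr e.symm (conjAut φ.range d hdN)) x) : φ.range) : Ω)
          = d * (e x : φ.range) * d⁻¹ := by
        simp [MulAut.congr]
      rw [this]
      exact hfix' _ (e x).2 (hTiff' x hx)

end Cfsg.Agent.S5251
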