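import Cfsg.Statements.S5290
import Cfsg.Agent.Lib.Helper27.FusionChain
import Cfsg.Agent.Lib.Helper27.FusionAbelian
import Cfsg.Agent.S5226
open Cfsg.Agent.Lib.Helper27
open scoped commutatorElement

set_option autoImplicit false
open Cfsg

namespace Cfsg.Agent.S5290

/-- Let F be a saturated fusion system over a finite p-group S and Q a subgroup of S. Then Q is normal in F (F = N_F(Q)) if and only if the inner fusion system of Q, consisting of the conjugations by elements of Q on subgroups of Q, is a weakly normal subsystem of F (both saturated, Q strongly closed, invariant under F-conjugation, with the Frattini property). -/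
theorem result {Ω : Type*} [Group Ω] {S : Subgroup Ω} [Finite S] (p : ℕ) [Fact p.Prime] (hS : IsPGroup p S)
    (F : Cfsg.FusionSystem S) (hF : F.IsSaturated p)
    (Q : Subgroup Ω) (hQ : Q ≤ S) :
    F.IsNormal Q ↔ (Cfsg.innerFusionSystem Q).IsWeaklyNormalIn F p := by
  constructor
  · intro h
    exact (inner_isNormalIn_of_isNormal hS hF h).1
  · rintro ⟨-, -, -, hsc, -, hfr⟩
    rw [Cfsg.Agent.S5226.result p hS F hF Q]
    have finQ : Finite Q := finite_of_le hQ
    have hnil : Group.IsNilpotent Q := (hS.to_le hQ).isNilpotent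
    obtain ⟨n, hn⟩ := hnil.nilpotent
    refine ⟨hsc, n,
      fun i => (Subgroup.upperCentralSeries Q i).map Q.subtype, ?_, ?_, ?_, ?_, ?_⟩
    · simp [Subgroup.upperCentralSeries_zero]
    · show (Subgroup.upperCentralSeries Q (Fin.last n : ℕ)).map _ = Q
      rw [Fin.val_last, hn, ← MonoidHom.range_eq_map, Subgroup.range_subtype]
    · intro i j hij
      exact Subgroup.map_mono (Subgroup.upperCentralSeries_mono Q hij)
    · intro i
      rw [Subgroup.commutator_le]
      rintro _ ⟨x, hx, rfl⟩ y hy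
      refine ⟨⁅x, ⟨y, hy⟩⁆, ?_, rfl⟩
      exact (Subgroup.mem_upperCentralSeries_succ_iff).1 hx ⟨y, hy⟩
    · intro i
      have hle : (Subgroup.upperCentralSeries Q (i.castSucc : ℕ)).map Q.subtype ≤ Q := by
        rintro _ ⟨x, -, rfl⟩
        exact x.2
      refine ⟨hle.trans hQ, fun φ hφ => ?_⟩
      obtain ⟨α, -, φ₀, ⟨-, q, hq, hφ₀⟩, hα⟩ := hfr _ hle φ hφ
      have hchar := fun β : MulAut Q => (Subgroup.characteristic_iff_map_eq.1
        (inferInstance : (Subgroup.upperCentralSeries Q (i.castSucc : ℕ)).Characteristic)) β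
      have finC : Finite ((Subgroup.upperCentralSeries Q (i.castSucc : ℕ)).map Q.subtype) :=
        finite_of_le (hle.trans hQ)
      apply Subgroup.eq_of_le_of_card_ge
      · rintro _ ⟨⟨_, x, hx, rfl⟩, rfl⟩
        have h1 : φ₀ ⟨Q.subtype x, ⟨x, hx, rfl⟩⟩ = ((MulAut.conj (⟨q, hq⟩ : Q) x : Q) : Ω) := hφ₀ _
        have h2 : φ₀ ⟨Q.subtype x, ⟨x, hx, rfl⟩⟩ ∈ Q := by rw [h1]; exact (MulAut.conj (⟨q, hq⟩ : Q) x).2
        rw [hα _ h2]
        refine ⟨α (MulAut.conj (⟨q, hq⟩ : Q) x), ?_, ?_⟩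
        · rw [SetLike.mem_coe, ← hchar α]
          refine ⟨_, ?_, rfl⟩
          rw [SetLike.mem_coe, ← hchar (MulAut.conj (⟨q, hq⟩ : Q))]
          exact ⟨x, hx, rfl⟩
        · show ((α (MulAut.conj (⟨q, hq⟩ : Q) x) : Q) : Ω) = ((α ⟨φ₀ ⟨Q.subtype x, ⟨x, hx, rfl⟩⟩, h2⟩ : Q) : Ω)
          congr 2
          exact Subtype.ext h1.symm
      · rw [Nat.card_congr (MonoidHom.ofInjective (F.injective_of_mem hφ)).toEquiv]

end Cfsg.Agent.S5290
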