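import Cfsg.Statements.S5291
import Cfsg.Agent.Lib.Helper27.FusionWeaklyNormal
import Cfsg.Agent.S5290
open Cfsg.Agent.Lib.Helper27

set_option autoImplicit false
open Cfsg

namespace Cfsg.Agent.S5291

/-- Let F be a saturated fusion system over a finite p-group S and E a weakly normal subsystem of F over a subgroup T. Suppose a subgroup R of T is normal in E (E = N_E(R)), and let R* be the subgroup of T generated by the images of R under all maps of F with source R. Then R* is normal in F (F = N_F(R*)). -/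
theorem result {Ω : Type*} [Group Ω] {S : Subgroup Ω} [Finite S] (p : ℕ) [Fact p.Prime] (hS : IsPGroup p S)
    (F : Cfsg.FusionSystem S) (hF : F.IsSaturated p)
    {T : Subgroup Ω} (E : Cfsg.FusionSystem T) (hE : E.IsWeaklyNormalIn F p)
    (R : Subgroup Ω) (hR : E.IsNormal R) :
    F.IsNormal (Subgroup.closure {x : Ω | ∃ φ ∈ F.Hom R, ∃ r : R, x = φ r}) := by
  obtain ⟨hEsat, -, hinvE⟩ := hE
  have hinvE' := hinvE
  obtain ⟨hEF, hTsc, -, hfr⟩ := hinvE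
  have hTS : T ≤ S := hTsc.1
  have finT : Finite T := finite_of_le hTS
  have hRT : R ≤ T := hR.1
  have hRsc := IsNormal.stronglyClosed hR
  set X : Subgroup Ω := Subgroup.closure {x : Ω | ∃ φ ∈ F.Hom R, ∃ r : R, x = φ r} with hX
  have hXT : X ≤ T := by
    rw [hX, Subgroup.closure_le]
    rintro _ ⟨φ, hφ, r, rfl⟩
    exact hTsc.2 R hRT φ hφ r
  have hXS : X ≤ S := hXT.trans hTS
  -- images of R under Aut_F(T) lie in X
  have himg : ∀ α ∈ F.autGroup T, Cfsg.Agent.Lib.Helper26.img R (Cfsg.Agent.Lib.Helper26.autFun α) ≤ X := by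
    intro α hα
    apply (Subgroup.closure_le _).2
    rintro _ ⟨r, hr, rfl⟩
    refine Subgroup.subset_closure ⟨_, restrict_mem F hRT ((mem_autGroup_iff F hTS α).1 hα), ⟨r, hr⟩, ?_⟩
    rw [Cfsg.Agent.Lib.Helper26.autFun_of_mem α (hRT hr)]
    rfl
  -- X is normal in E
  have hXE : E.IsNormal X := by
    have h1 := Cfsg.Agent.Lib.Helper26.sSup_mem_of_sup_closed (S := T)
      (𝒩 := {Q : Subgroup Ω | E.IsNormal Q ∧ Q ≤ X})
      ⟨⊥, Cfsg.Agent.Lib.Helper26.isNormal_bot E, bot_le⟩ (fun Q hQ => hQ.1.1)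
      (fun Q hQ Q' hQ' => ⟨Cfsg.Agent.Lib.Helper26.isNormal_sup hQ.1 hQ'.1, sup_le hQ.2 hQ'.2⟩)
    have h2 : X ≤ sSup {Q : Subgroup Ω | E.IsNormal Q ∧ Q ≤ X} := by
      conv_lhs => rw [hX]
      rw [Subgroup.closure_le]
      rintro _ ⟨φ, hφ, r, rfl⟩
      obtain ⟨α, hα, φ₀, hφ₀, h⟩ := hfr R hRT φ hφ
      have hr₀ : φ₀ r ∈ R := hRsc.2 R le_rfl φ₀ hφ₀ r
      have hmem : Cfsg.Agent.Lib.Helper26.img R (Cfsg.Agent.Lib.Helper26.autFun α) ∈
          {Q : Subgroup Ω | E.IsNormal Q ∧ Q ≤ X} :=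
        ⟨isNormal_img_of_invariant hinvE' hR hα, himg α hα⟩
      apply (le_sSup hmem)
      rw [h r (hRT hr₀), ← Cfsg.Agent.Lib.Helper26.autFun_of_mem α (hRT hr₀)]
      exact Cfsg.Agent.Lib.Helper26.mem_img_of_mem hr₀
    have h3 : X = sSup {Q : Subgroup Ω | E.IsNormal Q ∧ Q ≤ X} := le_antisymm h2 h1.2
    rw [h3]
    exact h1.1
  -- X is invariant under Aut_F(T)
  have hXinv : ∀ α ∈ F.autGroup T, ∀ y : T, (y : Ω) ∈ X → ((α y : T) : Ω) ∈ X := by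
    intro α hα
    have hle : X ≤ ((X.subgroupOf T).comap α.toMonoidHom).map T.subtype := by
      conv_lhs => rw [hX]
      rw [Subgroup.closure_le]
      rintro _ ⟨φ, hφ, r, rfl⟩
      have hφT : ∀ x : R, φ x ∈ T := hTsc.2 R hRT φ hφ
      refine ⟨⟨φ r, hφT r⟩, ?_, rfl⟩
      show ((α ⟨φ r, hφT r⟩ : T) : Ω) ∈ X
      exact Subgroup.subset_closure
        ⟨_, F.comp_mem hφ ((mem_autGroup_iff F hTS α).1 hα) hφT, r, rfl⟩
    intro y hy
    obtain ⟨y', hy', hyy⟩ := hle hy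
    have : y' = y := Subtype.ext hyy
    rw [← this]
    exact hy'
  have hXsc : F.StronglyClosed X := by
    refine ⟨hXS, fun P hP φ hφ x => ?_⟩
    obtain ⟨α, hα, φ₀, hφ₀, h⟩ := hfr P (hP.trans hXT) φ hφ
    have h1 : φ₀ x ∈ X := (IsNormal.stronglyClosed hXE).2 P hP φ₀ hφ₀ x
    rw [h x (hXT h1)]
    exact hXinv α hα _ h1
  rw [Cfsg.Agent.S5290.result p hS F hF X hXS]
  refine ⟨inner_saturated (hS.to_le hXS), hF, inner_isSubsystemOf F hXS, hXsc,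
    fun P hPX φ hφ α _ => inner_invariant_clause P hPX φ hφ α, fun P hPX φ hφ => ?_⟩
  obtain ⟨α, hα, φ₀, hφ₀, h⟩ := hfr P (hPX.trans hXT) φ hφ
  obtain ⟨γ, hγ, hγ'⟩ := IsNormal.exists_aut hXE hPX hφ₀
  have hγF : X.subtype.comp γ.toMonoidHom ∈ F.Hom X := hEF _ ((mem_autGroup_iff E hXT γ).1 hγ)
  have hγT : ∀ x : X, (X.subtype.comp γ.toMonoidHom) x ∈ T := fun x => hXT (γ x).2
  have hμ := F.comp_mem hγF ((mem_autGroup_iff F hTS α).1 hα) hγT
  obtain ⟨β, hβ, hβ'⟩ := exists_aut_of_range_eq F hμ (StronglyClosed.range_eq hXsc hμ)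
  refine ⟨β, hβ, P.subtype, subtype_mem _ hPX, fun x hx => ?_⟩
  rw [hβ']
  have h1 : φ₀ x ∈ T := by rw [hγ']; exact hXT (γ _).2
  rw [h x h1]
  show ((α ⟨φ₀ x, h1⟩ : T) : Ω) = ((α ⟨((γ ⟨x, hx⟩ : X) : Ω), _⟩ : T) : Ω)
  congr 2
  exact Subtype.ext (hγ' x)

end Cfsg.Agent.S5291
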