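import Cfsg.Statements.S5299
import Mathlib
import Cfsg.Agent.Lib.Helper17.Inv

set_option autoImplicit false
universe u
open Cfsg

namespace Cfsg.Agent.S5299

open Cfsg.Agent.Lib.Helper17

theorem involves_of_le {H : Type*} [Group H] {G : Type*} [Group G] {A B : Subgroup G} (h : A ≤ B)
    (hA : Cfsg.Involves H ↥A) : Cfsg.Involves H ↥B :=
  involves_of_subgroup (A.subgroupOf B) (involves_of_equiv (Subgroup.subgroupOfEquivOfLe h) hA)

theorem involves_of_surj {H : Type*} [Group H] {G : Type*} [Group G] (f : G →* H)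
    (hf : Function.Surjective f) : Cfsg.Involves H G :=
  involves_of_surjective ⊤ (f.comp (⊤ : Subgroup G).subtype) (by
    intro y
    obtain ⟨x, rfl⟩ := hf y
    exact ⟨⟨x, Subgroup.mem_top x⟩, rfl⟩)

/-- a `p`-subgroup of a section of a finite group is involved in a Sylow `p`-subgroup -/
theorem involves_sylow {H : Type*} [Group H] {L : Type*} [Group L] [Finite L] {p : ℕ} [Fact p.Prime]
    (Q : Subgroup H) (hQ : IsPGroup p Q) (h : Cfsg.Involves H L) (T : Sylow p L) :
    Cfsg.Involves ↥Q ↥(T : Subgroup L) := by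
  obtain ⟨K, f, hf⟩ := exists_surjective_of_involves h
  have hf1 : Function.Surjective (f.subgroupComap Q) := MonoidHom.subgroupComap_surjective_of_surjective f Q hf
  obtain ⟨T1⟩ : Nonempty (Sylow p (Q.comap f)) := inferInstance
  have htop : ((T1.mapSurjective hf1 : Sylow p Q) : Subgroup Q) = ⊤ :=
    ((T1.mapSurjective hf1).is_maximal' (Q := ⊤) (hQ.to_subgroup ⊤) le_top).symm
  have hmap : (T1 : Subgroup (Q.comap f)).map (f.subgroupComap Q) = ⊤ := htop
  have h1 : Cfsg.Involves ↥Q ↥(T1 : Subgroup (Q.comap f)) := by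
    apply involves_of_surj ((f.subgroupComap Q).comp (T1 : Subgroup (Q.comap f)).subtype)
    intro y
    have : y ∈ (T1 : Subgroup (Q.comap f)).map (f.subgroupComap Q) := hmap ▸ Subgroup.mem_top y
    obtain ⟨x, hx, rfl⟩ := this
    exact ⟨⟨x, hx⟩, rfl⟩
  set T2 : Subgroup L := ((T1 : Subgroup (Q.comap f)).map (Q.comap f).subtype).map K.subtype with hT2
  have e : ↥(T1 : Subgroup (Q.comap f)) ≃* ↥T2 :=
    ((T1 : Subgroup (Q.comap f)).equivMapOfInjective _ (Q.comap f).subtype_injective).trans
      (Subgroup.equivMapOfInjective _ _ K.subtype_injective)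
  have h2 : Cfsg.Involves ↥Q ↥T2 := involves_of_equiv e.symm h1
  have hT2p : IsPGroup p T2 := (T1.isPGroup'.map _).map _
  obtain ⟨T', hT'⟩ := hT2p.exists_le_sylow
  have h3 : Cfsg.Involves ↥Q ↥(T' : Subgroup L) := involves_of_le hT' h2
  obtain ⟨g, hg⟩ := MulAction.exists_smul_eq L T T'
  subst hg
  exact involves_of_equiv (Sylow.equivSMul T g) h3


/-- Let F be a saturated fusion system over a finite p-group S, H a finite group and Q a p-subgroup of H. If Q is not involved in S (no section of S is isomorphic to Q), then F is H-free: H is involved in no model of the normalizer system of a fully normalized centric subgroup. -/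
theorem result {Ω : Type u} [Group Ω] {S : Subgroup Ω} [Finite S] (p : ℕ) [Fact p.Prime] (hS : IsPGroup p S)
    (F : Cfsg.FusionSystem S) (hF : F.IsSaturated p) (H : Type*) [Group H] [Finite H] (Q : Subgroup H) (hQ : IsPGroup p Q)
    (hfree : ¬ Cfsg.Involves (↥Q) (↥S)) : F.IsSectionFree p H := by
  intro Q0 _ _ N _ L _ ι hM hInv
  obtain ⟨hfin, _, ⟨T, hT⟩, _⟩ := hM
  apply hfree
  have h1 : Cfsg.Involves ↥Q ↥(T : Subgroup L) := involves_sylow Q hQ hInv T
  rw [hT] at h1
  have h2 : Cfsg.Involves ↥Q ↥(Cfsg.FusionSystem.normalizerIn S Q0) :=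
    involves_of_hom_surjective ι.rangeRestrict ι.rangeRestrict_surjective h1
  exact involves_of_le (by unfold Cfsg.FusionSystem.normalizerIn; exact inf_le_left) h2

end Cfsg.Agent.S5299
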