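import Cfsg.Statements.S5342
import Cfsg.Agent.Lib.Helper27.FusionCoreRadical
import Cfsg.Agent.Lib.Helper26.Chain
import Cfsg.Agent.S5251
import Cfsg.Agent.S5085
open Cfsg Cfsg.FusionSystem Cfsg.Agent.Lib Cfsg.Agent.Lib.Helper27

set_option autoImplicit false
open Cfsg

namespace Cfsg.Agent.S5342

/-- Let F be a constrained saturated fusion system over a finite p-group S. Then every subsystem of F that is subnormal in F (reached from F by a finite chain of successive normal subsystems) is constrained. -/
theorem result {Ω : Type*} [Group Ω] {S : Subgroup Ω} [Finite S] (p : ℕ) [Fact p.Prime] (hS : IsPGroup p S) (F : Cfsg.FusionSystem S) (hF : F.IsConstrained p) {T : Subgroup Ω} (E : Cfsg.FusionSystem T) (hE : E.IsSubnormalIn F p) : E.IsConstrained p := by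
  have core : ∀ {S T : Subgroup Ω} [Finite S], IsPGroup p S → ∀ (F : Cfsg.FusionSystem S),
      F.IsConstrained p → ∀ (E : Cfsg.FusionSystem T), E.IsNormalIn F p → E.IsConstrained p := by
    intro S T _ hS F hF E hE
    have hQc := IsConstrained.core_isCentric hF
    have hQr := core_isRadical hS hF.1 hQc
    have hQ : F.IsNormal F.core := Helper26.core_isNormal F
    have hTS : T ≤ S := hE.1.2.2.2.1.1
    have hsub : E.IsSubsystemOf F := hE.1.2.2.1
    have finT : Finite T := finite_of_le hTS
    have finQ : Finite F.core := finite_of_le hQ.1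
    refine ⟨hE.1.1, F.core ⊓ T, ?_, ?_⟩
    · obtain ⟨n, hn⟩ := Helper26.exists_ucs_eq (hS.to_le hQ.1)
      have key := Helper26.isNormal_of_chain_bot (hS.to_le hTS) hE.1.1 n
        (fun j => Helper26.ucs F.core j ⊓ T) (by simp [Helper26.ucs_zero]) ?_ ?_
      · simpa only [hn] using key
      · intro j _
        have h1 : F.StronglyClosed (Helper26.ucs F.core (j + 1)) :=
          IsNormal.stronglyClosed (Cfsg.Agent.S5085.result F F.core _ hQ (Helper26.ucs_le _ _)
            (Helper26.ucs_char _ _))
        exact ⟨inf_le_right, fun A hA φ hφ x =>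
          ⟨h1.2 A (hA.trans inf_le_left) φ (hsub _ hφ) x, (E.le_of_mem hφ).2 x⟩⟩
      · intro j _
        simp only [hn]
        refine le_inf ((Subgroup.commutator_mono inf_le_left inf_le_left).trans
          (Helper26.ucs_comm F.core j)) ?_
        refine (Subgroup.commutator_mono inf_le_right inf_le_right).trans ?_
        rw [Subgroup.commutator_le]
        intro a ha b hb
        exact T.mul_mem (T.mul_mem (T.mul_mem ha hb) (T.inv_mem ha)) (T.inv_mem hb)
    · by_contra hcon
      exact (Cfsg.Agent.S5251.result p hS F hF.1 E hE F.core hQc hcon).2 hQr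
  have gen : ∀ {T S : Subgroup Ω} (E : Cfsg.FusionSystem T) (F : Cfsg.FusionSystem S) (q : ℕ),
      E.IsSubnormalIn F q → q = p → Finite S → IsPGroup p S → F.IsConstrained p →
      E.IsConstrained p := by
    intro T S E F q h
    induction h with
    | refl F q => intro _ _ _ hF; exact hF
    | step h1 h2 ih =>
      intro hq hfin hS hF
      subst hq
      have hU := h2.1.2.2.2.1.1
      exact ih rfl (finite_of_le hU) (hS.to_le hU) (core hS _ hF _ h2)
  exact gen E F p hE rfl inferInstance hS hF

end Cfsg.Agent.S5342
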