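import Cfsg.Statements.S5522
import Cfsg.Agent.Lib.Helper3.ClassFix
import Cfsg.Agent.Lib.Helper3.M12Chain
import Cfsg.Agent.Lib.Helper3.SylGroups

set_option autoImplicit false
open Cfsg

namespace Cfsg.Agent.S5522

open scoped Pointwise in
theorem aux (g : Equiv.Perm Cfsg.GolayPt) (hg : g ∈ Cfsg.Spor.M11) (hord : (orderOf g).Prime) :
    ∃ x : Cfsg.GolayPt, x ∉ Cfsg.Spor.squareDodecad ∧ g x = x := by
  rw [Cfsg.Agent.Lib.Helper3.Syl.sq_eq_D0]
  obtain ⟨hM, hfix, hD⟩ := (Cfsg.Agent.Lib.Helper3.Syl.desc11 g).1 hg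
  have hfix0 : g (Cfsg.Agent.Lib.Helper3.pt 0) = Cfsg.Agent.Lib.Helper3.pt 0 := hfix 0 (by simp)
  have hDs : g • Cfsg.Agent.Lib.Helper3.D0 = Cfsg.Agent.Lib.Helper3.D0 :=
    (Cfsg.Agent.Lib.Helper3.Syl.smul_D0_iff g).2 hD
  have hmemD : ∀ x, g x ∈ Cfsg.Agent.Lib.Helper3.D0 ↔ x ∈ Cfsg.Agent.Lib.Helper3.D0 := by
    intro x
    rw [Cfsg.Agent.Lib.Helper3.D0, Cfsg.Agent.Lib.Helper3.mem_unmask,
      Cfsg.Agent.Lib.Helper3.mem_unmask]
    have := hD x
    rw [show (0x5335f : ℕ) = 340831 from rfl, this]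
  have hg1 : g ≠ 1 := by
    rintro rfl
    rw [orderOf_one] at hord
    exact Nat.not_prime_one hord
  -- at most four fixed points in the dodecad
  have hle4 : (Cfsg.Agent.Lib.Helper3.Fx g ∩ Cfsg.Agent.Lib.Helper3.D0).card ≤ 4 := by
    by_contra hgt
    have h5 : 5 ≤ (Cfsg.Agent.Lib.Helper3.Fx g ∩ Cfsg.Agent.Lib.Helper3.D0).card := by omega
    obtain ⟨t, ht, htc⟩ := Finset.exists_subset_card_eq h5
    let e : Fin 5 ↪ Cfsg.GolayPt :=
      ⟨fun i => ((t.equivFin.trans (finCongr htc)).symm i : Cfsg.GolayPt), by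
        intro i j hij
        exact (t.equivFin.trans (finCongr htc)).symm.injective (Subtype.ext hij)⟩
    have het : ∀ i, e i ∈ t := fun i => ((t.equivFin.trans (finCongr htc)).symm i).2
    have heD : ∀ i, e i ∈ Cfsg.Agent.Lib.Helper3.D0 := fun i =>
      (Finset.mem_inter.1 (ht (het i))).2
    have heF : ∀ i, g (e i) = e i := fun i =>
      Cfsg.Agent.Lib.Helper3.mem_Fx.1 (Finset.mem_inter.1 (ht (het i))).1
    obtain ⟨u, _, huniq⟩ := Cfsg.Agent.Lib.Helper3.sharp5 Cfsg.Agent.Lib.Helper3.D0_mem e e heD heD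
    have e1 := huniq g ⟨hM, hDs, heF⟩
    have e2 := huniq 1 ⟨one_mem _, one_smul _ _, fun _ => rfl⟩
    exact hg1 (e1.trans e2.symm)
  have h0F : Cfsg.Agent.Lib.Helper3.pt 0 ∈ Cfsg.Agent.Lib.Helper3.Fx g :=
    Cfsg.Agent.Lib.Helper3.mem_Fx.2 hfix0
  have key : 5 ≤ (Cfsg.Agent.Lib.Helper3.Fx g).card →
      ∃ x : Cfsg.GolayPt, x ∉ Cfsg.Agent.Lib.Helper3.D0 ∧ g x = x := by
    intro h5
    by_contra hcon
    push Not at hcon
    have hsub : Cfsg.Agent.Lib.Helper3.Fx g ⊆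
        Cfsg.Agent.Lib.Helper3.Fx g ∩ Cfsg.Agent.Lib.Helper3.D0 := by
      intro x hx
      refine Finset.mem_inter.2 ⟨hx, ?_⟩
      by_contra hxD
      exact hcon x hxD (Cfsg.Agent.Lib.Helper3.mem_Fx.1 hx)
    have := Finset.card_le_card hsub
    omega
  by_cases h2 : orderOf g = 2
  · rcases Cfsg.Agent.Lib.Helper3.invol_cases hM h2 with ⟨_, _, _, hc⟩ | ⟨_, _, _, hc⟩
    · exact key (by omega)
    · rw [Finset.card_eq_zero] at hc
      rw [hc] at h0F
      exact absurd h0F (Finset.notMem_empty _)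
  by_cases h3 : orderOf g = 3
  · rcases Cfsg.Agent.Lib.Helper3.order3_cases hM h3 with ⟨_, _, _, hc⟩ | ⟨_, _, _, hc⟩
    · exact key (by omega)
    · rw [Finset.card_eq_zero] at hc
      rw [hc] at h0F
      exact absurd h0F (Finset.notMem_empty _)
  -- other primes: count modulo p on the complement
  by_contra hcon
  push Not at hcon
  haveI : Fact (orderOf g).Prime := ⟨hord⟩
  have hsub : ∀ x, g x ∉ Cfsg.Agent.Lib.Helper3.D0 ↔ x ∉ Cfsg.Agent.Lib.Helper3.D0 :=
    fun x => not_congr (hmemD x)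
  let f : Function.End {x // x ∉ Cfsg.Agent.Lib.Helper3.D0} := fun x => ⟨g x.1, (hsub _).2 x.2⟩
  have hfpow : ∀ n : ℕ, ∀ x, ((f ^ n) x).1 = (g ^ n) x.1 := by
    intro n
    induction n with
    | zero => intro x; rfl
    | succ n ih =>
      intro x
      rw [pow_succ', pow_succ']
      show g ((f ^ n) x).1 = g ((g ^ n) x.1)
      rw [ih]
  have hf : f ^ (orderOf g) ^ 1 = 1 := by
    funext x
    apply Subtype.ext
    rw [pow_one, hfpow, pow_orderOf_eq_one]
    rfl
  have hmod := Equiv.Perm.card_fixedPoints_modEq hf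
  have hempty : Fintype.card (Function.fixedPoints f) = 0 := by
    rw [Fintype.card_eq_zero_iff]
    constructor
    rintro ⟨x, hx⟩
    exact hcon x.1 x.2 (congrArg Subtype.val hx)
  have hcard : Fintype.card {x // x ∉ Cfsg.Agent.Lib.Helper3.D0} = 12 := by
    rw [Fintype.card_subtype_compl, Fintype.card_coe]
    have h1 : Cfsg.Agent.Lib.Helper3.D0.card = 12 := by
      rw [Cfsg.Agent.Lib.Helper3.D0, Cfsg.Agent.Lib.Helper3.card_eq_pc,
        Cfsg.Agent.Lib.Helper3.mask_unmask (by norm_num)]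
      decide +kernel
    rw [h1]
    rfl
  rw [hempty, hcard] at hmod
  have hdvd : orderOf g ∣ 12 := (Nat.modEq_zero_iff_dvd).1 hmod
  have h12 : (12 : ℕ) = 2 ^ 2 * 3 := by norm_num
  rw [h12] at hdvd
  rcases (Nat.Prime.dvd_mul hord).1 hdvd with h | h
  · exact h2 ((Nat.prime_dvd_prime_iff_eq hord Nat.prime_two).1 (hord.dvd_of_dvd_pow h))
  · exact h3 ((Nat.prime_dvd_prime_iff_eq hord Nat.prime_three).1 h)


/-- The Mathieu group M₁₁, realised as the stabiliser of one point of the dodecad of squares inside the stabiliser M₁₂ of that dodecad in M₂₄, acts on the twelve coordinate positions outside the dodecad of squares (its 3-transitive action of degree 12); in this action every element of prime order fixes a point, i.e. the action is elusive. -/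
theorem result (g : Equiv.Perm Cfsg.GolayPt) (hg : g ∈ Cfsg.Spor.M11) (hord : (orderOf g).Prime) :
    ∃ x : Cfsg.GolayPt, x ∉ Cfsg.Spor.squareDodecad ∧ g x = x := by
  exact aux g hg hord

end Cfsg.Agent.S5522
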