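import Cfsg.Statements.S5546
import Mathlib
import Cfsg.Agent.Lib.Helper11.LeechBasis
import Cfsg.Agent.Lib.Helper11.LeechMono
-- import your own Cfsg.Agent.* helpers here

set_option autoImplicit false
open Cfsg

namespace Cfsg.Agent.S5546

open Cfsg.Agent.Lib.Helper11 Cfsg.Agent.Lib.Helper3

set_option maxRecDepth 100000

def ubL : List (List ℤ) := [[4, 0, 0, 0, 0, 0, 0, 0, 0, 0, 0, 0, 0, 0, 0, 0, 0, 0, 0, 0, 0, 0, 0, 4], [4, 0, 0, 0, 0, 0, 0, 0, 0, 0, 0, 0, 0, 0, 0, 0, 0, 0, 0, 0, 0, 0, 0, -4], [0, 4, 0, 0, 0, 0, 0, 0, 0, 0, 0, 0, 0, 0, 0, 0, 0, 0, 0, 0, 0, 0, 0, -4], [0, 0, 4, 0, 0, 0, 0, 0, 0, 0, 0, 0, 0, 0, 0, 0, 0, 0, 0, 0, 0, 0, 0, -4], [0, 0, 0, 4, 0, 0, 0, 0, 0, 0, 0, 0, 0, 0, 0, 0, 0, 0, 0, 0, 0, 0, 0, -4], [0, 0, 0, 0, 4, 0, 0, 0, 0, 0, 0, 0, 0, 0, 0, 0, 0, 0, 0, 0, 0, 0, 0, -4], [0, 0, 0, 0, 0, 4, 0, 0, 0, 0, 0, 0, 0, 0, 0, 0,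 0, 0, 0, 0, 0, 0, 0, -4], [0, 0, 0, 0, 0, 0, 4, 0, 0, 0, 0, 0, 0, 0, 0, 0, 0, 0, 0, 0, 0, 0, 0, -4], [0, 0, 0, 0, 0, 0, 0, 4, 0, 0, 0, 0, 0, 0, 0, 0, 0, 0, 0, 0, 0, 0, 0, -4], [0, 0, 0, 0, 0, 0, 0, 0, 4, 0, 0, 0, 0, 0, 0, 0, 0, 0, 0, 0, 0, 0, 0, -4], [0, 0, 0, 0, 0, 0, 0, 0, 0, 4, 0, 0, 0, 0, 0, 0, 0, 0, 0, 0, 0, 0, 0, -4], [0, 0, 0, 0, 0, 0, 0, 0, 0, 0, 4, 0, 0, 0, 0, 0, 0, 0, 0, 0, 0, 0, 0, -4], [-2, 0, -2, 0, -2, -2, -2, 0, 0, 0, -2, 2, 0, 0, 0, 0, 0, 0, 0, 0, 0, 0, 0, 2], [-2, -2, -2, -2, -2, 0, 0, -2, 0, 0, -2, 0, 2, 0, 0, 0, 0, 0, 0, 0, 0, 0, 0, -4], [-2, -2, 0, -2, 0, 0, -2, 0, -2, 0, -2, 0, 0, 2, 0, 0, 0, 0, 0, 0, 0, 0, 0, 2], [-2, -2, 0, 0, 0, -2, -2, -2, 0, -2, -2, 0, 0, 0, 2, 0, 0, 0, 0, 0, 0, 0, 0, -4], [-2, -2, 0, 0, -2, -2, 0, -2, -2, 0, 0, 0, 0, 0, 0, 2, 0, 0, 0, 0, 0, 0, 0, 2], [0, -2, -2, 0, 0, -2, -2, 0, -2, -2, 0, 0, 0,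 0, 0, 0, 2, 0, 0, 0, 0, 0, 0, 2], [0, 0, -2, -2, 0, 0, -2, -2, 0, -2, -2, 0, 0, 0, 0, 0, 0, 2, 0, 0, 0, 0, 0, 2], [-2, 0, -2, -2, 0, -2, -2, -2, -2, 0, 0, 0, 0, 0, 0, 0, 0, 0, 2, 0, 0, 0, 0, -4], [0, -2, 0, -2, -2, 0, -2, -2, -2, -2, 0, 0, 0, 0, 0, 0, 0, 0, 0, 2, 0, 0, 0, -4], [0, 0, -2, 0, -2, -2, 0, -2, -2, -2, -2, 0, 0, 0, 0, 0, 0, 0, 0, 0, 2, 0, 0, -4], [-2, 0, -2, -2, -2, 0, 0, 0, -2, -2, 0, 0, 0, 0, 0, 0, 0, 0, 0, 0, 0, 2, 0, 2], [-1, 1, -1, 1, 1, 1, -1, -1, -1, 1, 1, -1, -1, -1, -1, -1, -1, -1, -1, -1, -1, -1, 1, -3]]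
def udL : List (List ℤ) := [[1, 1, 1, 1, 1, 1, 1, 1, 1, 1, 1, 5, 9, 5, 9, 5, 5, 5, 9, 9, 9, 5, 77, 1], [1, -1, -1, -1, -1, -1, -1, -1, -1, -1, -1, -3, -7, -3, -7, -3, -5, -5, -7, -9, -9, -3, -61, -1], [0, 2, 0, 0, 0, 0, 0, 0, 0, 0, 0, 0, 2, 2, 2, 2, 2, 0, 0, 2, 0, 0, 10, 0], [0, 0, 2, 0, 0, 0, 0, 0, 0, 0, 0, 2, 2, 0, 0, 0, 2, 2, 2, 0, 2, 2, 16, 0], [0, 0, 0, 2, 0, 0, 0, 0, 0, 0, 0, 0, 2, 2, 0, 0, 0, 2, 2, 2, 0, 2, 10, 0], [0, 0, 0, 0, 2, 0, 0, 0, 0, 0, 0, 2, 2, 0, 0, 2, 0, 0, 0, 2, 2, 2, 10, 0], [0, 0, 0, 0, 0, 2, 0, 0, 0, 0, 0, 2, 0, 0, 2, 2, 2, 0, 2, 0, 2, 0, 10, 0], [0, 0, 0, 0, 0, 0, 2, 0, 0, 0, 0, 2, 0, 2, 2, 0, 2, 2, 2, 2, 0, 0, 16, 0], [0, 0, 0, 0, 0, 0, 0, 2, 0, 0, 0, 0, 2, 0, 2, 2, 0, 2, 2, 2, 2, 0, 16, 0], [0, 0, 0, 0, 0, 0, 0, 0, 2, 0, 0, 0, 0, 2, 0, 2, 2, 0, 2, 2, 2, 2, 16, 0], [0, 0, 0, 0, 0, 0, 0, 0, 0, 2, 0, 0, 0, 0, 2, 0,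 2, 2, 0, 2, 2, 2, 10, 0], [0, 0, 0, 0, 0, 0, 0, 0, 0, 0, 2, 2, 2, 2, 2, 0, 0, 2, 0, 0, 2, 0, 10, 0], [0, 0, 0, 0, 0, 0, 0, 0, 0, 0, 0, 4, 0, 0, 0, 0, 0, 0, 0, 0, 0, 0, 4, 0], [0, 0, 0, 0, 0, 0, 0, 0, 0, 0, 0, 0, 4, 0, 0, 0, 0, 0, 0, 0, 0, 0, 4, 0], [0, 0, 0, 0, 0, 0, 0, 0, 0, 0, 0, 0, 0, 4, 0, 0, 0, 0, 0, 0, 0, 0, 4, 0], [0, 0, 0, 0, 0, 0, 0, 0, 0, 0, 0, 0, 0, 0, 4, 0, 0, 0, 0, 0, 0, 0, 4, 0], [0, 0, 0, 0, 0, 0, 0, 0, 0, 0, 0, 0, 0, 0, 0, 4, 0, 0, 0, 0, 0, 0, 4, 0], [0, 0, 0, 0, 0, 0, 0, 0, 0, 0, 0, 0, 0, 0, 0, 0, 4, 0, 0, 0, 0, 0, 4, 0], [0, 0, 0, 0, 0, 0, 0, 0, 0, 0, 0, 0, 0, 0, 0, 0, 0, 4, 0, 0, 0, 0, 4, 0], [0, 0, 0, 0, 0, 0, 0, 0, 0, 0, 0, 0, 0, 0, 0, 0, 0, 0, 4, 0, 0, 0, 4, 0], [0, 0, 0, 0, 0, 0, 0, 0, 0, 0, 0, 0, 0, 0, 0, 0, 0, 0, 0, 4, 0, 0, 4, 0], [0, 0, 0, 0, 0, 0, 0, 0, 0, 0, 0, 0, 0, 0, 0, 0, 0, 0, 0, 0, 4, 0, 4, 0], [0, 0, 0,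 0, 0, 0, 0, 0, 0, 0, 0, 0, 0, 0, 0, 0, 0, 0, 0, 0, 0, 4, 4, 0], [0, 0, 0, 0, 0, 0, 0, 0, 0, 0, 0, 0, 0, 0, 0, 0, 0, 0, 0, 0, 0, 0, 8, 0]]

def ub : Fin 24 → GolayPt → ℤ := tabZ ubL
def ud : Fin 24 → GolayPt → ℤ := tabZ udL

theorem ub_chk : ∀ j, isLeech (ub j) = true := by decide +kernel
theorem ud_chk : ∀ j, isLeech (ud j) = true := by decide +kernel
theorem ub_mem (j : Fin 24) : ub j ∈ leechLattice := isLeech_sound (ub_chk j)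
theorem ud_mem (j : Fin 24) : ud j ∈ leechLattice := isLeech_sound (ud_chk j)
theorem u_h1 : ∀ k l, ∑ j, ud j k * ub j l = if k = l then 8 else 0 := by decide +kernel
theorem u_h2 : ∀ i j, dotInt (ub j) (ud i) = if i = j then 8 else 0 := by decide +kernel
theorem ub_norm : ∀ j, sqNorm (ub j) ≤ 64 := by decide +kernel
theorem ub_zero : ∀ p, ub 0 p = Spor.vecU p := by decide +kernel

/-- a basis of the lattice whose first vector is the fixed vector. -/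
noncomputable def uB : Module.Basis (Fin 24) ℤ ↥leechLattice :=
  latBasis leechLattice 8 (by norm_num) ub ud ub_mem
    (fun _ hx j => eight_dvd_dot hx (ud_mem j)) u_h1 u_h2

theorem uB_apply (j : Fin 24) : uB j = ⟨ub j, ub_mem j⟩ := by
  unfold uB latBasis
  rw [Module.Basis.mk_apply]

theorem uB_zero : uB 0 = Spor.leechU := by
  rw [uB_apply]
  apply Subtype.ext
  funext p
  exact ub_zero p

/-- the linear map of a group element. -/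
def lin (g : ↥Spor.Co2) : Module.End ℤ ↥leechLattice :=
  (AddMonoidHom.mk' (fun v => g.1 v) g.2.1.1).toIntLinearMap

theorem lin_apply (g : ↥Spor.Co2) (v : ↥leechLattice) : lin g v = g.1 v := rfl

def linHom : ↥Spor.Co2 →* Module.End ℤ ↥leechLattice where
  toFun := lin
  map_one' := by ext; rfl
  map_mul' := by intros; ext; rfl

noncomputable def mat : ↥Spor.Co2 →* Matrix (Fin 24) (Fin 24) ℤ :=
  ((LinearMap.toMatrixAlgEquiv uB : Module.End ℤ ↥leechLattice ≃ₐ[ℤ] _) :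
    Module.End ℤ ↥leechLattice →* Matrix (Fin 24) (Fin 24) ℤ).comp linHom

theorem mat_apply (g : ↥Spor.Co2) (i j : Fin 24) : mat g i j = uB.repr (g.1 (uB j)) i := by
  show LinearMap.toMatrixAlgEquiv uB (lin g) i j = _
  rw [LinearMap.toMatrixAlgEquiv_apply]
  rfl

theorem fixU (g : ↥Spor.Co2) : g.1 Spor.leechU = Spor.leechU := g.2.2

theorem mat_col0 (g : ↥Spor.Co2) (i : Fin 24) : mat g i 0 = if i = 0 then 1 else 0 := by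
  rw [mat_apply, uB_zero, fixU, ← uB_zero, Module.Basis.repr_self, Finsupp.single_apply]
  simp only [eq_comm]

noncomputable def blk : ↥Spor.Co2 →* Matrix (Fin 23) (Fin 23) ℤ where
  toFun g := (mat g).submatrix Fin.succ Fin.succ
  map_one' := by
    rw [map_one]
    exact Matrix.submatrix_one _ (Fin.succ_injective _)
  map_mul' g h := by
    ext i j
    rw [map_mul, Matrix.submatrix_apply, Matrix.mul_apply, Fin.sum_univ_succ, mat_col0,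
      if_neg (Fin.succ_ne_zero i), zero_mul, zero_add, Matrix.mul_apply]
    rfl

noncomputable def rep : ↥Spor.Co2 →* GL (Fin 23) (ZMod 13) :=
  (((Int.castRingHom (ZMod 13)).mapMatrix : Matrix (Fin 23) (Fin 23) ℤ →+* _) :
    Matrix (Fin 23) (Fin 23) ℤ →* Matrix (Fin 23) (Fin 23) (ZMod 13)).comp blk |>.toHomUnits

theorem expand (g : ↥Spor.Co2) (j : Fin 24) : g.1 (uB j) = ∑ i, mat g i j • uB i := by
  conv_lhs => rw [← uB.sum_repr (g.1 (uB j))]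
  exact Finset.sum_congr rfl (fun i _ => by rw [mat_apply])

theorem dotU (g : ↥Spor.Co2) (v : ↥leechLattice) :
    dotInt ((g.1 v : ↥leechLattice) : GolayPt → ℤ) Spor.vecU = dotInt (v : GolayPt → ℤ) Spor.vecU := by
  have h := Co0_dot ⟨g.1, g.2.1⟩ v Spor.leechU
  have h2 : ((⟨g.1, g.2.1⟩ : ↥Co0) • Spor.leechU) = Spor.leechU := fixU g
  rw [h2] at h
  exact h

theorem sq_smul (n : ℤ) (x : GolayPt → ℤ) : sqNorm (n • x) = n ^ 2 * sqNorm x := by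
  unfold sqNorm
  rw [Finset.mul_sum]
  exact Finset.sum_congr rfl (fun i _ => by simp only [Pi.smul_apply, smul_eq_mul]; ring)

theorem dot_smul (n : ℤ) (x y : GolayPt → ℤ) : dotInt (n • x) y = n * dotInt x y := by
  unfold dotInt
  rw [Finset.mul_sum]
  exact Finset.sum_congr rfl (fun i _ => by simp only [Pi.smul_apply, smul_eq_mul]; ring)

theorem dot_neg (x y : GolayPt → ℤ) : dotInt (-x) y = -dotInt x y := by
  unfold dotInt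
  rw [← Finset.sum_neg_distrib]
  exact Finset.sum_congr rfl (fun i _ => by simp)

theorem normU : dotInt Spor.vecU Spor.vecU = 32 := by decide +kernel

/-- a lattice automorphism moving a short vector by a multiple of 13 fixes it. -/
theorem fix_of_dvd (g : ↥Spor.Co2) (v w : ↥leechLattice) (hv : sqNorm (v : GolayPt → ℤ) ≤ 64)
    (h : g.1 v - v = (13 : ℤ) • w) : g.1 v = v := by
  by_contra hne
  have hw : (w : GolayPt → ℤ) ≠ 0 := by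
    intro h0
    apply hne
    have : w = 0 := Subtype.ext h0
    rw [this, smul_zero, sub_eq_zero] at h
    exact h
  have h1 := min_norm w.2 hw
  have h2 : sqNorm (((g.1 v : ↥leechLattice) : GolayPt → ℤ) - (v : GolayPt → ℤ)) =
      13 ^ 2 * sqNorm (w : GolayPt → ℤ) := by
    rw [← sq_smul]
    congr 1
    exact congrArg Subtype.val h
  have h3 := sqNorm_nonneg (((g.1 v : ↥leechLattice) : GolayPt → ℤ) + (v : GolayPt → ℤ))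
  rw [sqNorm_add] at h3
  rw [sqNorm_sub] at h2
  have h4 : sqNorm ((g.1 v : ↥leechLattice) : GolayPt → ℤ) = sqNorm (v : GolayPt → ℤ) := g.2.1.2 v
  omega

/-- The second Conway group (the stabilizer in the Leech lattice automorphism group of the short vector fixed in the definitions) is isomorphic to a subgroup of the general linear group of degree 23 over the field with 13 elements: there is an injective homomorphism into it. -/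
theorem result : ∃ f : ↥Cfsg.Spor.Co2 →* GL (Fin 23) (ZMod 13), Function.Injective f := by
  refine ⟨rep, (injective_iff_map_eq_one rep).2 ?_⟩
  intro g hg
  have h1 : ∀ i j : Fin 23, (13 : ℤ) ∣ mat g i.succ j.succ - (if i = j then 1 else 0) := by
    intro i j
    have e1 : ((rep g : GL (Fin 23) (ZMod 13)) : Matrix (Fin 23) (Fin 23) (ZMod 13)) i j =
        ((mat g i.succ j.succ : ℤ) : ZMod 13) := rfl
    rw [hg, Units.val_one, Matrix.one_apply] at e1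
    apply (ZMod.intCast_zmod_eq_zero_iff_dvd _ 13).1
    push_cast
    rw [← e1]
    split_ifs <;> simp
  have h2 : ∀ j : Fin 24, g.1 (uB j) = uB j := by
    intro j
    refine Fin.cases ?_ (fun j' => ?_) j
    · rw [uB_zero]; exact fixU g
    · choose k hk using fun i => h1 i j'
      set w : ↥leechLattice := ∑ i, k i • uB i.succ with hw
      have e1 : g.1 (uB j'.succ) - uB j'.succ = mat g 0 j'.succ • Spor.leechU + (13 : ℤ) • w := by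
        rw [expand, Fin.sum_univ_succ, uB_zero, add_sub_assoc]
        congr 1
        rw [hw, Finset.smul_sum]
        have e2 : uB j'.succ = ∑ i : Fin 23, (if i = j' then (1 : ℤ) else 0) • uB i.succ := by
          simp
        conv_lhs => rw [e2]
        rw [← Finset.sum_sub_distrib]
        apply Finset.sum_congr rfl
        intro i _
        rw [← sub_smul, hk i, mul_smul]
      have e3 := congrArg (fun x : ↥leechLattice => dotInt (x : GolayPt → ℤ) Spor.vecU) e1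
      simp only [AddSubgroup.coe_sub, AddSubgroup.coe_add] at e3
      have e4 : dotInt (((g.1 (uB j'.succ) : ↥leechLattice) : GolayPt → ℤ) -
          ((uB j'.succ : ↥leechLattice) : GolayPt → ℤ)) Spor.vecU = 0 := by
        rw [sub_eq_add_neg, dotInt_add_left, dot_neg, dotU, add_neg_cancel]
      rw [e4, dotInt_add_left] at e3
      have e5 : (((mat g 0 j'.succ • Spor.leechU : ↥leechLattice)) : GolayPt → ℤ) =
          mat g 0 j'.succ • Spor.vecU := rfl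
      have e6 : ((((13 : ℤ) • w : ↥leechLattice)) : GolayPt → ℤ) = (13 : ℤ) • (w : GolayPt → ℤ) := rfl
      rw [e5, e6, dot_smul, dot_smul, normU] at e3
      obtain ⟨m, hm⟩ : (13 : ℤ) ∣ mat g 0 j'.succ := by omega
      apply fix_of_dvd g _ (m • Spor.leechU + w)
      · rw [uB_apply]; exact ub_norm _
      · rw [e1, hm, smul_add, mul_smul]
  apply Subtype.ext
  apply Equiv.ext
  intro v
  have h3 : lin g = LinearMap.id := uB.ext (fun j => h2 j)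
  exact congrArg (fun f : Module.End ℤ ↥leechLattice => f v) h3

end Cfsg.Agent.S5546
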