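import Cfsg.Statements.S5726
-- import your own Cfsg.Agent.* helpers here

set_option autoImplicit false
open Cfsg

namespace Cfsg.Agent.S5726

/-- Orbits of a Sylow `p`-subgroup of a transitive group have size divisible by the `p`-part of the degree. -/
theorem pow_dvd_orbit {G Ω : Type*} [Group G] [Finite G] [MulAction G Ω] [MulAction.IsPretransitive G Ω]
    (p k : ℕ) [Fact p.Prime] (hk : p ^ k ∣ Nat.card Ω) (P : Sylow p G) (ω : Ω) :
    p ^ k ∣ (MulAction.stabilizer (P : Subgroup G) ω).index := by
  have key : MulAction.stabilizer (P : Subgroup G) ω = (MulAction.stabilizer G ω).subgroupOf (P : Subgroup G) := by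
    ext g
    simp [Subgroup.mem_subgroupOf, MulAction.mem_stabilizer_iff, Subgroup.smul_def]
  rw [key]
  change p ^ k ∣ (MulAction.stabilizer G ω).relIndex (P : Subgroup G)
  rw [← Subgroup.inf_relIndex_right]
  have h1 : (MulAction.stabilizer G ω ⊓ (P : Subgroup G)).relIndex (P : Subgroup G) * (P : Subgroup G).index
      = (MulAction.stabilizer G ω ⊓ (P : Subgroup G)).index := Subgroup.relIndex_mul_index inf_le_right
  have h2 : (MulAction.stabilizer G ω).index ∣ (MulAction.stabilizer G ω ⊓ (P : Subgroup G)).index :=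
    Subgroup.index_dvd_of_le inf_le_left
  rw [MulAction.index_stabilizer_of_transitive, ← h1] at h2
  have hcop : Nat.Coprime (p ^ k) (P : Subgroup G).index :=
    Nat.Coprime.pow_left k ((Nat.Prime.coprime_iff_not_dvd Fact.out).mpr P.not_dvd_index)
  exact hcop.dvd_of_dvd_mul_right (hk.trans h2)


/-- If a finite group acts faithfully and transitively on a set with p^k elements, p a prime and k ≥ 1, then some element of order p fixes no point. -/
theorem result {G Ω : Type*} [Group G] [Finite G] [MulAction G Ω] [FaithfulSMul G Ω] [Fintype Ω] (htr : MulAction.IsPretransitive G Ω)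
    (p k : ℕ) (hp : p.Prime) (hk : 1 ≤ k) (hΩ : Fintype.card Ω = p ^ k) :
    ∃ g : G, orderOf g = p ∧ ∀ ω : Ω, g • ω ≠ ω := by
  classical
  haveI : Fact p.Prime := ⟨hp⟩
  obtain ⟨P⟩ : Nonempty (Sylow p G) := inferInstance
  have hcardΩ : Nat.card Ω = p ^ k := by rw [Nat.card_eq_fintype_card, hΩ]
  have hpk : 1 < p ^ k := Nat.one_lt_pow (by omega) hp.one_lt
  -- P is transitive
  have htrans : ∀ ω ω' : Ω, ∃ g : (P : Subgroup G), g • ω = ω' := by
    intro ω ω'
    have h1 := pow_dvd_orbit p k (hcardΩ ▸ dvd_rfl) P ω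
    rw [MulAction.index_stabilizer] at h1
    have h2 : (MulAction.orbit (P : Subgroup G) ω).ncard ≤ Nat.card Ω := by
      rw [← Set.ncard_univ]
      exact Set.ncard_le_ncard (Set.subset_univ _)
    have h3 : 0 < (MulAction.orbit (P : Subgroup G) ω).ncard :=
      (Set.ncard_pos).mpr (MulAction.nonempty_orbit ω)
    have h4 : (MulAction.orbit (P : Subgroup G) ω).ncard = (Set.univ : Set Ω).ncard := by
      rw [Set.ncard_univ]
      exact le_antisymm h2 (hcardΩ ▸ Nat.le_of_dvd h3 h1)
    have h5 : MulAction.orbit (P : Subgroup G) ω = Set.univ :=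
      Set.eq_of_subset_of_ncard_le (Set.subset_univ _) h4.ge
    have : ω' ∈ MulAction.orbit (P : Subgroup G) ω := h5 ▸ Set.mem_univ _
    exact this
  haveI : Nonempty Ω := by
    rw [← Fintype.card_pos_iff, hΩ]; omega
  obtain ⟨ω₀⟩ : Nonempty Ω := inferInstance
  haveI hPnt : Nontrivial (P : Subgroup G) := by
    by_contra hnt
    rw [not_nontrivial_iff_subsingleton] at hnt
    have : ∀ ω : Ω, ω = ω₀ := by
      intro ω
      obtain ⟨g, hg⟩ := htrans ω₀ ω
      rw [← hg, Subsingleton.elim g 1, one_smul]
    have h1 : Fintype.card Ω ≤ 1 := Fintype.card_le_one_iff.mpr (fun a b => (this a).trans (this b).symm)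
    omega
  have hPp : IsPGroup p (P : Subgroup G) := P.isPGroup'
  haveI := hPp.center_nontrivial
  have hZp : IsPGroup p (Subgroup.center (P : Subgroup G)) := hPp.to_subgroup _
  have hdvd : p ∣ Nat.card (Subgroup.center (P : Subgroup G)) := by
    rcases hZp.card_eq_or_dvd with h | h
    · exact absurd h (Finite.one_lt_card).ne'
    · exact h
  obtain ⟨z, hz⟩ := exists_prime_orderOf_dvd_card' p hdvd
  refine ⟨((z : (P : Subgroup G)) : G), ?_, ?_⟩
  · rw [Subgroup.orderOf_coe, Subgroup.orderOf_coe, hz]
  · intro ω hω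
    have hall : ∀ ω' : Ω, ((z : (P : Subgroup G)) : G) • ω' = ω' := by
      intro ω'
      obtain ⟨g, rfl⟩ := htrans ω ω'
      have hc : (z : (P : Subgroup G)) * g = g * (z : (P : Subgroup G)) :=
        ((Subgroup.mem_center_iff.mp z.2) g).symm
      have hc' : ((z : (P : Subgroup G)) : G) * (g : G) = (g : G) * ((z : (P : Subgroup G)) : G) := by
        exact_mod_cast congrArg (Subtype.val) hc
      rw [Subgroup.smul_def, smul_smul, hc', mul_smul, hω]
    have h1 : ((z : (P : Subgroup G)) : G) = 1 := by
      apply FaithfulSMul.eq_of_smul_eq_smul (α := Ω)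
      intro a
      rw [hall a, one_smul]
    have h2 : z = 1 := by
      apply Subtype.ext; apply Subtype.ext; exact h1
    rw [h2, orderOf_one] at hz
    exact hp.one_lt.ne hz

end Cfsg.Agent.S5726
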