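import Cfsg.Statements.S5727
-- import your own Cfsg.Agent.* helpers here
import Cfsg.Agent.S5726

set_option autoImplicit false
open Cfsg

namespace Cfsg.Agent.S5727

/-- If a finite group acts faithfully and transitively on a set with m·p elements, where p is a prime and 1 ≤ m ≤ p, then some element of order p fixes no point. -/
theorem result {G Ω : Type*} [Group G] [Finite G] [MulAction G Ω] [FaithfulSMul G Ω] [Fintype Ω] (htr : MulAction.IsPretransitive G Ω)
    (p m : ℕ) (hp : p.Prime) (hm : 1 ≤ m) (hmp : m ≤ p) (hΩ : Fintype.card Ω = m * p) :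
    ∃ g : G, orderOf g = p ∧ ∀ ω : Ω, g • ω ≠ ω := by
  classical
  rcases Nat.lt_or_ge m p with hlt | hge
  swap
  · have hmp' : m = p := le_antisymm hmp hge
    exact Cfsg.Agent.S5726.result htr p 2 hp (by norm_num) (by rw [hΩ, hmp', sq])
  have : Fact p.Prime := ⟨hp⟩
  obtain ⟨P⟩ : Nonempty (Sylow p G) := inferInstance
  have hcardΩ : Nat.card Ω = m * p := by rw [Nat.card_eq_fintype_card, hΩ]
  have hPp : IsPGroup p (P : Subgroup G) := P.isPGroup'
  obtain ⟨a, ha⟩ := hPp.exists_card_eq
  letI : Fintype (P : Subgroup G) := Fintype.ofFinite _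
  -- every point stabiliser in P has index p
  have hidx : ∀ ω : Ω, (MulAction.stabilizer (P : Subgroup G) ω).index = p := by
    intro ω
    have h1 := Cfsg.Agent.S5726.pow_dvd_orbit p 1 (by rw [hcardΩ, pow_one]; exact dvd_mul_left _ _) P ω
    rw [pow_one] at h1
    have h2 : (MulAction.stabilizer (P : Subgroup G) ω).index ≤ Nat.card Ω := by
      rw [MulAction.index_stabilizer, ← Set.ncard_univ]
      exact Set.ncard_le_ncard (Set.subset_univ _)
    have h3 : (MulAction.stabilizer (P : Subgroup G) ω).index ∣ p ^ a := by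
      rw [← ha]; exact Subgroup.index_dvd_card _
    obtain ⟨j, _, hj⟩ := (Nat.dvd_prime_pow hp).mp h3
    rw [hj] at h1 h2 ⊢
    have hj1 : j ≠ 0 := by
      rintro rfl
      rw [pow_zero] at h1
      exact hp.one_lt.ne' (Nat.dvd_one.mp h1)
    have hj2 : j < 2 := by
      by_contra hcon
      have : p ^ 2 ≤ p ^ j := Nat.pow_le_pow_right hp.pos (by omega)
      have h4 : m * p < p * p := Nat.mul_lt_mul_of_pos_right hlt hp.pos
      rw [hcardΩ] at h2
      nlinarith
    have : j = 1 := by omega
    rw [this, pow_one]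
  have ha0 : a ≠ 0 := by
    rintro rfl
    have hne : Nonempty Ω := by
      rw [← Fintype.card_pos_iff, hΩ]; exact Nat.mul_pos (by omega) hp.pos
    obtain ⟨ω⟩ := hne
    have := Subgroup.index_dvd_card (MulAction.stabilizer (P : Subgroup G) ω)
    rw [hidx, ha, pow_zero] at this
    exact hp.one_lt.ne' (Nat.dvd_one.mp this)
  have hnormal : ∀ ω : Ω, (MulAction.stabilizer (P : Subgroup G) ω).Normal := by
    intro ω
    apply Subgroup.normal_of_index_eq_minFac_card
    rw [hidx, ha, hp.pow_minFac ha0]
  -- a fixed point of g gives a whole orbit of fixed points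
  have hfixorb : ∀ (g : (P : Subgroup G)) (ω : Ω), g • ω = ω → ∀ h : (P : Subgroup G), g • (h • ω) = h • ω := by
    intro g ω hg h
    have h1 : h⁻¹ * g * h⁻¹⁻¹ ∈ MulAction.stabilizer (P : Subgroup G) ω :=
      (hnormal ω).conj_mem g hg h⁻¹
    rw [inv_inv, MulAction.mem_stabilizer_iff, mul_smul, mul_smul, inv_smul_eq_iff] at h1
    exact h1
  -- counting
  have hex : ∃ g : (P : Subgroup G), ∀ ω : Ω, g • ω ≠ ω := by
    by_contra hcon
    push Not at hcon
    have hdc : ∑ g : (P : Subgroup G), (Finset.univ.filter (fun ω : Ω => g • ω = ω)).card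
        = ∑ ω : Ω, (Finset.univ.filter (fun g : (P : Subgroup G) => g • ω = ω)).card := by
      simp only [Finset.card_filter]
      exact Finset.sum_comm
    have hl : ∀ g : (P : Subgroup G), p ≤ (Finset.univ.filter (fun ω : Ω => g • ω = ω)).card := by
      intro g
      obtain ⟨ω, hω⟩ := hcon g
      have h1 : (MulAction.orbit (P : Subgroup G) ω).ncard = p := by
        rw [← MulAction.index_stabilizer, hidx]
      refine h1.symm.le.trans ?_
      rw [← Set.ncard_coe_finset]
      apply Set.ncard_le_ncard _ (Set.toFinite _)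
      rintro _ ⟨h, rfl⟩
      simpa using hfixorb g ω hω h
    have hr : ∀ ω : Ω, (Finset.univ.filter (fun g : (P : Subgroup G) => g • ω = ω)).card * p = p ^ a := by
      intro ω
      letI : Fintype (MulAction.stabilizer (P : Subgroup G) ω) := Fintype.ofFinite _
      have h1 := Subgroup.card_mul_index (MulAction.stabilizer (P : Subgroup G) ω)
      rw [hidx, ha, Nat.card_eq_fintype_card] at h1
      rw [← h1]
      congr 1
      symm
      apply Fintype.card_of_subtype
      intro x
      simp [MulAction.mem_stabilizer_iff]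
    have h1 : p * p ^ a ≤ ∑ g : (P : Subgroup G), (Finset.univ.filter (fun ω : Ω => g • ω = ω)).card := by
      calc p * p ^ a = ∑ _g : (P : Subgroup G), p := by
            rw [Finset.sum_const, Finset.card_univ, ← Nat.card_eq_fintype_card, ha, smul_eq_mul, mul_comm]
        _ ≤ _ := Finset.sum_le_sum (fun g _ => hl g)
    have h2 : (∑ ω : Ω, (Finset.univ.filter (fun g : (P : Subgroup G) => g • ω = ω)).card) * p = (m * p) * p ^ a := by
      rw [Finset.sum_mul, Finset.sum_congr rfl (fun ω _ => hr ω), Finset.sum_const, Finset.card_univ, hΩ, smul_eq_mul]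
    rw [hdc] at h1
    have h3 : p * p ^ a * p ≤ m * p * p ^ a := by
      rw [← h2]; exact Nat.mul_le_mul_right p h1
    have h4 : 0 < p * p ^ a := Nat.mul_pos hp.pos (pow_pos hp.pos a)
    have h5 : p * (p * p ^ a) ≤ m * (p * p ^ a) := by nlinarith
    exact absurd (Nat.le_of_mul_le_mul_right h5 h4) (by omega)
  obtain ⟨g, hg⟩ := hex
  refine ⟨(g : G), ?_, fun ω => hg ω⟩
  have hne : Nonempty Ω := by
    rw [← Fintype.card_pos_iff, hΩ]; exact Nat.mul_pos (by omega) hp.pos
  obtain ⟨ω₀⟩ := hne
  have hg1 : (g : G) ≠ 1 := by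
    intro h
    apply hg ω₀
    rw [Subgroup.smul_def, h, one_smul]
  have hgp : (g : G) ^ p = 1 := by
    apply FaithfulSMul.eq_of_smul_eq_smul (α := Ω)
    intro ω
    have := hnormal ω
    have h1 := Subgroup.pow_index_mem (MulAction.stabilizer (P : Subgroup G) ω) g
    rw [hidx, MulAction.mem_stabilizer_iff, Subgroup.smul_def] at h1
    rw [one_smul]
    exact_mod_cast h1
  exact orderOf_eq_prime hgp hg1

end Cfsg.Agent.S5727
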