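import Cfsg.Statements.S5728
import Mathlib

set_option autoImplicit false
open Cfsg

namespace Cfsg.Agent.S5728

/-- An elusive transitive action. Let p = 2^s − 1 be a prime and let F be the field with p² elements. Inside the group of affine maps x ↦ a·x + b of F (a ≠ 0), consider the subgroup of maps with both coefficients in the prime field. Then every element of prime order of the affine group is conjugate, within the affine group, to an element of that subgroup; equivalently, in the transitive action of the affine group on the cosets of that subgroup (of degree p(p + 1)) every element of prime order fixes a point. -/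
theorem result (p s : ℕ) [Fact p.Prime] (hs : p = 2 ^ s - 1)
    (g : Equiv.Perm (GaloisField p 2)) (hg : g ∈ Cfsg.affineGroup (GaloisField p 2)) (hord : (orderOf g).Prime) :
    ∃ x ∈ Cfsg.affineGroup (GaloisField p 2), ∃ a b : ZMod p, a ≠ 0 ∧
      ∀ y : GaloisField p 2, (x * g * x⁻¹) y = algebraMap (ZMod p) (GaloisField p 2) a * y + algebraMap (ZMod p) (GaloisField p 2) b := by
  classical
  have hp := Fact.out (p := p.Prime)
  obtain ⟨α, β, hgf⟩ := hg
  have hconj : ∀ (x : Equiv.Perm (GaloisField p 2)) (a b : GaloisField p 2),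
      (∀ z, x (g z) = a * x z + b) → ∀ y, (x * g * x⁻¹) y = a * y + b := by
    intro x a b h y
    have := h (x⁻¹ y)
    simpa using this
  by_cases hα : (α : GaloisField p 2) = 1
  · have hβ : β ≠ 0 := by
      intro h0
      have : g = 1 := by
        ext y
        rw [hgf, hα, h0]; simp
      rw [this, orderOf_one] at hord
      exact Nat.not_prime_one hord
    refine ⟨Equiv.mulLeft₀ β⁻¹ (inv_ne_zero hβ), ⟨Units.mk0 β⁻¹ (inv_ne_zero hβ), 0, fun y => by simp⟩,
      1, 1, one_ne_zero, ?_⟩
    rw [map_one]
    apply hconj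
    intro z
    rw [hgf, hα]
    rw [one_mul, one_mul]
    show β⁻¹ * (z + β) = β⁻¹ * z + 1
    rw [mul_add, inv_mul_cancel₀ hβ]
  · have h1α : (1 : GaloisField p 2) - α ≠ 0 := sub_ne_zero.2 (Ne.symm hα)
    set y0 := β / (1 - (α : GaloisField p 2)) with hy0
    have hh : ∀ y, (Equiv.addRight (-y0) * g * (Equiv.addRight (-y0))⁻¹) y =
        (α : GaloisField p 2) * y + 0 := by
      apply hconj
      intro z
      rw [hgf]
      simp only [Equiv.coe_addRight]
      have : β = (1 - (α : GaloisField p 2)) * y0 := by
        rw [hy0]; field_simp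
      rw [this]; ring
    have hpow : ∀ k : ℕ, ∀ y, ((Equiv.addRight (-y0) * g * (Equiv.addRight (-y0))⁻¹) ^ k) y =
        (α : GaloisField p 2) ^ k * y := by
      intro k
      induction k with
      | zero => intro y; simp
      | succ k ih =>
        intro y
        rw [pow_succ, Equiv.Perm.mul_apply, hh, ih, add_zero, pow_succ, mul_assoc]
    have hαl : (α : GaloisField p 2) ^ (orderOf g) = 1 := by
      have h1 := hpow (orderOf g) 1
      rw [conj_pow, pow_orderOf_eq_one] at h1
      simpa using h1.symm
    have hoα : orderOf (α : GaloisField p 2) = orderOf g := by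
      rcases (Nat.dvd_prime hord).1 (orderOf_dvd_of_pow_eq_one hαl) with h | h
      · exact absurd (orderOf_eq_one_iff.1 h) hα
      · exact h
    haveI : Fintype (GaloisField p 2) := Fintype.ofFinite _
    have hcard : Fintype.card (GaloisField p 2) = p ^ 2 := by
      rw [← Nat.card_eq_fintype_card, GaloisField.card p 2 (by norm_num)]
    have h2 : orderOf g ∣ p ^ 2 - 1 := by
      rw [← hoα, ← hcard]
      exact orderOf_dvd_of_pow_eq_one (FiniteField.pow_card_sub_one_eq_one _ α.ne_zero)
    have hs2 : 2 ≤ s := by
      by_contra h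
      have : s = 0 ∨ s = 1 := by omega
      rcases this with rfl | rfl
      · simp at hs; exact hp.ne_zero hs
      · simp at hs; exact hp.ne_one hs
    have h2s : 4 ∣ 2 ^ s := by
      obtain ⟨s', rfl⟩ : ∃ s', s = s' + 2 := ⟨s - 2, by omega⟩
      exact ⟨2 ^ s', by ring⟩
    have hp1 : p + 1 = 2 ^ s := by
      have : 0 < 2 ^ s := by positivity
      omega
    have hfac : p ^ 2 - 1 = (p - 1) * 2 ^ s := by
      rw [← hp1]
      obtain ⟨p', rfl⟩ : ∃ p', p = p' + 1 := ⟨p - 1, by have := hp.pos; omega⟩
      simp only [Nat.add_sub_cancel]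
      have : (p' + 1) ^ 2 = p' * (p' + 1 + 1) + 1 := by ring
      omega
    have h3 : orderOf g ∣ p - 1 := by
      rw [hfac] at h2
      rcases (Nat.Prime.dvd_mul hord).1 h2 with h | h
      · exact h
      · have h4 := (Nat.prime_dvd_prime_iff_eq hord Nat.prime_two).1 (hord.dvd_of_dvd_pow h)
        rw [h4]
        obtain ⟨c, hc⟩ := h2s
        exact ⟨2 * c - 1, by omega⟩
    have h4 : (α : GaloisField p 2) ^ p = α := by
      obtain ⟨c, hc⟩ := h3
      have h5 : (α : GaloisField p 2) ^ (p - 1) = 1 := by
        rw [hc, pow_mul, hαl, one_pow]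
      have h6 : (α : GaloisField p 2) ^ (p - 1 + 1) = (α : GaloisField p 2) ^ (p - 1) * α :=
        pow_succ _ _
      rw [Nat.sub_add_cancel hp.one_le, h5, one_mul] at h6
      exact h6
    have h5 : (α : GaloisField p 2) ∈ (⊥ : Subfield (GaloisField p 2)) :=
      (Subfield.mem_bot_iff_pow_eq_self (GaloisField p 2) p).2 h4
    rw [Subfield.bot_eq_of_zMod_algebra p] at h5
    obtain ⟨a, ha⟩ := h5
    refine ⟨Equiv.addRight (-y0), ⟨1, -y0, fun y => by simp⟩, a, 0, ?_, ?_⟩
    · rintro rfl
      rw [map_zero] at ha
      exact α.ne_zero ha.symm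
    · intro y
      rw [hh, ha, map_zero]

end Cfsg.Agent.S5728
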