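import Cfsg.Statements.S5904
-- import your own Cfsg.Agent.* helpers here

set_option autoImplicit false
open scoped Pointwise
open Cfsg

namespace Cfsg.Agent.S5904

open Pointwise in
/-- The stabiliser of the pair `{O, Oᶜ}`. -/
def pairStab {Ω : Type*} (O : Set Ω) : Subgroup (Equiv.Perm Ω) where
  carrier := {g | g • O = O ∨ g • O = Oᶜ}
  mul_mem' := by
    rintro g h (hg | hg) (hh | hh)
    · left; rw [mul_smul, hh, hg]
    · right; rw [mul_smul, hh, Set.smul_set_compl, hg]
    · right; rw [mul_smul, hh, hg]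
    · left; rw [mul_smul, hh, Set.smul_set_compl, hg, compl_compl]
  one_mem' := Or.inl (one_smul _ _)
  inv_mem' := by
    rintro g (hg | hg)
    · left; rw [inv_smul_eq_iff, hg]
    · right; rw [inv_smul_eq_iff, Set.smul_set_compl, hg, compl_compl]

open Pointwise in
theorem not_coatom {Ω : Type*} [Fintype Ω] [DecidableEq Ω] (hΩ : 2 < Fintype.card Ω)
    (O : Set Ω) (hO : Nat.card O = Nat.card ↥Oᶜ) :
    MulAction.stabilizer (Equiv.Perm Ω) O < pairStab O ∧ pairStab O < ⊤ := by
  classical
  have hsum : Nat.card O + Nat.card ↥Oᶜ = Fintype.card Ω := by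
    rw [Nat.card_coe_set_eq, Nat.card_coe_set_eq, Set.ncard_add_ncard_compl, Nat.card_eq_fintype_card]
  have h2 : 1 < Nat.card O := by omega
  have h2' : 1 < Nat.card ↥Oᶜ := by omega
  have hnt : Nontrivial O := Finite.one_lt_card_iff_nontrivial.mp h2
  have hnt' : Nontrivial ↥Oᶜ := Finite.one_lt_card_iff_nontrivial.mp h2'
  obtain ⟨⟨a, ha⟩, ⟨a', ha'⟩, haa⟩ := hnt.exists_pair_ne
  obtain ⟨⟨b, hb⟩, ⟨b', hb'⟩, hbb⟩ := hnt'.exists_pair_ne
  have haa' : a ≠ a' := fun h => haa (Subtype.ext h)
  constructor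
  · refine lt_of_le_of_ne (fun g hg => Or.inl hg) (fun heq => ?_)
    obtain ⟨e⟩ : Nonempty ({x // x ∈ O} ≃ {x // x ∈ Oᶜ}) := Finite.card_eq.mp hO
    have hg : e.extendSubtype • O = Oᶜ := by
      ext y
      constructor
      · rintro ⟨x, hx, rfl⟩
        exact e.extendSubtype_mem x hx
      · intro hy
        refine ⟨e.extendSubtype⁻¹ y, ?_, by simp⟩
        by_contra hx
        have := e.extendSubtype_not_mem _ hx
        apply this
        simpa using hy
    have hmem : e.extendSubtype ∈ pairStab O := Or.inr hg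
    rw [← heq, MulAction.mem_stabilizer_iff, hg] at hmem
    have : a ∈ Oᶜ := by rw [hmem]; exact ha
    exact this ha
  · refine lt_of_le_of_ne le_top (fun heq => ?_)
    have hmem : Equiv.swap a b ∈ pairStab O := heq ▸ Subgroup.mem_top _
    have hab : a' ≠ b := fun h => hb (h ▸ ha')
    have h1 : b ∈ Equiv.swap a b • O := ⟨a, ha, by simp⟩
    have h3 : a' ∈ Equiv.swap a b • O := ⟨a', ha', by
      change Equiv.swap a b a' = a'
      exact Equiv.swap_apply_of_ne_of_ne haa'.symm hab⟩
    rcases hmem with h | h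
    · rw [h] at h1; exact hb h1
    · rw [h] at h3; exact h3 ha'


/-- Let Ω be a finite set with more than two elements and O ⊆ Ω a subset with exactly as many elements as its complement. Then the setwise stabilizer of O in the symmetric group on Ω is not a maximal subgroup (it is properly contained in the stabilizer of the partition {O, Ω ∖ O}, which is proper). -/
theorem result {Ω : Type*} [Fintype Ω] [DecidableEq Ω] (hΩ : 2 < Fintype.card Ω)
    (O : Set Ω) (hO : Nat.card O = Nat.card ↥Oᶜ) :
    ¬ IsCoatom (MulAction.stabilizer (Equiv.Perm Ω) O) := by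
  intro hco
  obtain ⟨h1, h2⟩ := not_coatom hΩ O hO
  exact h2.ne (hco.2 _ h1)

end Cfsg.Agent.S5904
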