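import Cfsg.Statements.S5894
-- import your own Cfsg.Agent.* helpers here
import Cfsg.Agent.S5904
import Cfsg.Agent.Lib.Helper29.Coatom

set_option autoImplicit false
open Cfsg

namespace Cfsg.Agent.S5894

open Cfsg.Agent.Lib.Helper29

theorem coatom_map_range {G₁ G₂ : Type*} [Group G₁] [Group G₂] (φ : G₁ →* G₂) (hφ : Function.Injective φ)
    (A : Subgroup G₁) (hA : IsCoatom A) : IsCoatom ((A.map φ).subgroupOf φ.range) := by
  apply isCoatom_subgroupOf
  · exact Subgroup.map_le_range φ A
  · intro h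
    rw [MonoidHom.range_eq_map] at h
    exact hA.1 (Subgroup.map_injective hφ h)
  · intro X h1 h2
    have hX : (X.comap φ).map φ = X := Subgroup.map_comap_eq_self h2
    rcases hA.le_iff.mp (Subgroup.map_le_iff_le_comap.mp h1) with h | h
    · right; rw [← hX, h, MonoidHom.range_eq_map]
    · left; rw [← hX, h]

open Pointwise in
theorem general {Ω : Type*} [Fintype Ω] [DecidableEq Ω] (hΩ : 2 < Fintype.card Ω)
    (O : Set Ω) (hO : Nat.card O = Nat.card ↥Oᶜ) (a : Ω) (ha : a ∈ O) :
    ∃ M H K : Subgroup (Equiv.Perm Ω), IsCoatom M ∧ M.index = Fintype.card Ω ∧ H ≤ M ∧ IsCoatom (H.subgroupOf M) ∧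
      IsCoatom K ∧ H ≤ K ∧ ¬ IsCoatom (H.subgroupOf K) := by
  classical
  have hsum : Nat.card O + Nat.card ↥Oᶜ = Fintype.card Ω := by
    rw [Nat.card_coe_set_eq, Nat.card_coe_set_eq, Set.ncard_add_ncard_compl, Nat.card_eq_fintype_card]
  have h2 : 1 < Nat.card O := by omega
  have h2' : 0 < Nat.card ↥Oᶜ := by omega
  have hnt : Nontrivial O := Finite.one_lt_card_iff_nontrivial.mp h2
  obtain ⟨⟨a', ha'⟩, haa⟩ := exists_ne (⟨a, ha⟩ : O)
  have haa' : a' ≠ a := fun h => haa (Subtype.ext h)
  obtain ⟨⟨b, hb⟩⟩ : Nonempty ↥Oᶜ := Finite.card_pos_iff.mp h2'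
  have hba : b ≠ a := fun h => hb (h ▸ ha)
  set M := MulAction.stabilizer (Equiv.Perm Ω) a with hM
  have hMco : IsCoatom M := by
    rw [hM, ← MulAction.stabilizer_singleton]
    apply Equiv.Perm.isCoatom_stabilizer (Set.singleton_nonempty a) ⟨b, by simpa using hba⟩
    rw [Set.ncard_singleton, Nat.card_eq_fintype_card]
    omega
  have hMidx : M.index = Fintype.card Ω := by
    rw [hM, MulAction.index_stabilizer_of_transitive, Nat.card_eq_fintype_card]
  let φ : Equiv.Perm {x : Ω // x ≠ a} →* Equiv.Perm Ω := Equiv.Perm.ofSubtype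
  have hφinj : Function.Injective φ := Equiv.Perm.ofSubtype_injective
  have hrange : φ.range = M := by
    ext g
    rw [Equiv.Perm.mem_range_ofSubtype_iff, hM, MulAction.mem_stabilizer_iff]
    constructor
    · intro h
      by_contra hg
      have : a ∈ (g.support : Set Ω) := by simpa using hg
      exact (h this) rfl
    · intro h x hx hxa
      have hxa' : x = a := hxa
      rw [hxa'] at hx
      simp at hx
      exact hx h
  let s : Set {x : Ω // x ≠ a} := {x | x.1 ∈ O}
  set A := MulAction.stabilizer (Equiv.Perm {x : Ω // x ≠ a}) s with hA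
  have hAco : IsCoatom A := by
    apply Equiv.Perm.isCoatom_stabilizer ⟨⟨a', haa'⟩, ha'⟩ ⟨⟨b, hba⟩, hb⟩
    have h1 : Nat.card {x : Ω // x ≠ a} = Fintype.card Ω - 1 := by
      rw [Nat.card_eq_fintype_card, Fintype.card_subtype_compl, Fintype.card_subtype_eq]
    rw [h1]
    omega
  obtain ⟨hY1, hY2⟩ := Cfsg.Agent.S5904.not_coatom hΩ O hO
  obtain ⟨K, hK, hYK⟩ := (eq_top_or_exists_le_coatom (Cfsg.Agent.S5904.pairStab O)).resolve_left hY2.ne
  have hHY : A.map φ ≤ MulAction.stabilizer (Equiv.Perm Ω) O := by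
    rintro _ ⟨f, hf, rfl⟩
    rw [SetLike.mem_coe, hA, MulAction.mem_stabilizer_set] at hf
    rw [MulAction.mem_stabilizer_set]
    intro x
    by_cases hx : x = a
    · subst hx
      have : φ f x = x := Equiv.Perm.ofSubtype_apply_of_not_mem f (by simp)
      rw [Equiv.Perm.smul_def, this]
    · have : φ f x = f ⟨x, hx⟩ := Equiv.Perm.ofSubtype_apply_of_mem f hx
      rw [Equiv.Perm.smul_def, this]
      exact hf ⟨x, hx⟩
  have hHM : A.map φ ≤ M := hrange ▸ Subgroup.map_le_range φ A
  have hHYlt : A.map φ < MulAction.stabilizer (Equiv.Perm Ω) O := by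
    refine lt_of_le_of_ne hHY (fun h => ?_)
    have h1 : Equiv.swap a a' ∈ MulAction.stabilizer (Equiv.Perm Ω) O := Equiv.Perm.swap_mem_stabilizer ha ha'
    rw [← h] at h1
    have h3 := hHM h1
    rw [hM, MulAction.mem_stabilizer_iff, Equiv.Perm.smul_def, Equiv.swap_apply_left] at h3
    exact haa' h3
  refine ⟨M, A.map φ, K, hMco, hMidx, hHM, ?_, hK, hHY.trans (hY1.le.trans hYK), ?_⟩
  · rw [← hrange]
    exact coatom_map_range φ hφinj A hAco
  · exact not_isCoatom_subgroupOf hHYlt (lt_of_lt_of_le hY1 hYK)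


/-- For every m ≥ 2 the symmetric group on 2m letters has a maximal subgroup M of index 2m together with a maximal subgroup H of M that is not second maximal: some maximal subgroup K of the symmetric group contains H without H being maximal in K. (One may take M the stabiliser of a letter, H ≅ S_m × S_{m−1} inside it, and K ≅ S_m ≀ S₂ the stabiliser of a partition into two m-sets, with H < S_m × S_m < K.) So the prime-index hypothesis in the second-maximality criterion cannot be relaxed to any even index ≥ 4. -/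
theorem result (m : ℕ) (hm : 2 ≤ m) :
    ∃ M H K : Subgroup (Equiv.Perm (Fin (2 * m))), IsCoatom M ∧ M.index = 2 * m ∧ H ≤ M ∧ IsCoatom (H.subgroupOf M) ∧
      IsCoatom K ∧ H ≤ K ∧ ¬ IsCoatom (H.subgroupOf K) := by
  classical
  have hcard : Fintype.card (Fin (2 * m)) = 2 * m := Fintype.card_fin _
  let O : Set (Fin (2 * m)) := {x | x.val < m}
  have hOc : Nat.card O = m := by
    have e : O ≃ Fin m :=
      ⟨fun x => ⟨x.1.val, x.2⟩, fun y => ⟨⟨y.val, by omega⟩, y.2⟩, fun x => rfl, fun y => rfl⟩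
    rw [Nat.card_congr e, Nat.card_eq_fintype_card, Fintype.card_fin]
  have hsum : Nat.card O + Nat.card ↥Oᶜ = 2 * m := by
    rw [Nat.card_coe_set_eq, Nat.card_coe_set_eq, Set.ncard_add_ncard_compl, Nat.card_eq_fintype_card, hcard]
  have := general (Ω := Fin (2 * m)) (by rw [hcard]; omega) O (by omega) ⟨0, by omega⟩ (by
    change 0 < m
    omega)
  rw [hcard] at this
  exact this

end Cfsg.Agent.S5894
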